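import Cfsg.Agent.OD.Pre
import Cfsg.Agent.H7.PMS4

/-! Elements of the Sylow subgroup fixing `[W, A]` for a root group `A`. -/

set_option autoImplicit false
set_option linter.unusedSectionVars false

open Cfsg Subgroup CfH9 Matrix
open scoped commutatorElement MatrixGroups

namespace CfH7

variable {P : Type*} [Group P] {W : Type*} [AddCommGroup W] [DistribMulAction P W] {p : ℕ}
  [Finite P] [Finite W] [FaithfulSMul P W] [Fact p.Prime] {T M A B : Subgroup P} {z : W}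

theorem cz_of_fix (hp : ∀ w : W, p • w = 0) (rA : Rt W A) (rB : Rt W B) (o : Opp W A B)
    (o' : Opp W B A) {b : P} (hb : IsPGroup p (zpowers b)) (h1 : b ∈ Nm(A)) (h2 : b ∈ Nm(B))
    (h3 : ∀ w ∈ cm W A, b • w = w) :
    b ∈ Cz(A ⊔ B) ∧ ∀ w : W, b • w - w ∈ fx W (A ⊔ B) := by
  have c1 := o.card_le rA rB
  have c2 := o'.card_le rB rA
  have hL : b ∈ Nm(A ⊔ B) := mem_Nm_sup h1 h2
  obtain ⟨w, w1, w2, w3⟩ := exists_fixed_mod hp hb (zpowers_le.2 (Nm_le_st_fx B h2))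
    (zpowers_le.2 (Nm_le_st_fx (W := W) _ hL)) (fun e => rA.fx_ne_top (by
      rw [← o.sup_eq rA rB c2]
      exact (sup_eq_left.2 (e.trans (fx_anti le_sup_left))).symm))
  have w4 : w ∉ fx W A := fun e => w2 (mem_fx_sup e w1)
  have k1 : ∀ a ∈ A, b * a * b⁻¹ = a := fun a ha => by
    refine (o.eq_of_sub rA w4 ha (conj_mem_of_mem_normalizer h1 ha) ?_).symm
    have e1 := fx_anti le_sup_left (w3 _ (inv_mem (mem_zpowers b))) a ha
    have e2 := h3 _ (sub_mem_cm ha w)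
    have e3 : a • b⁻¹ • w = a • w - w + b⁻¹ • w := by
      rw [smul_sub] at e1
      rw [sub_eq_iff_eq_add.1 e1]
      abel
    rw [mul_smul, mul_smul, e3, smul_add, e2, smul_inv_smul]
    simp
  have k2 : ∀ v : W, b • v - v ∈ fx W (A ⊔ B) := fun v => by
    obtain ⟨v₁, hv₁, v₂, hv₂, rfl⟩ := AddSubgroup.mem_sup.1
      (show v ∈ fx W B ⊔ cm W A from o.cm_sup rA rB c2 ▸ trivial)
    rw [smul_add, h3 _ hv₂, add_sub_add_right_eq_sub]
    refine mem_fx_sup (fun a ha => ?_) (smul_sub_mem_fx h2 hv₁)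
    have e2 := h3 _ (sub_mem_cm ha v₁)
    rw [smul_sub, ← mul_smul, mul_inv_eq_iff_eq_mul.1 (k1 a ha), mul_smul] at e2
    rw [smul_sub, sub_eq_iff_eq_add.1 e2]
    abel
  refine ⟨?_, k2⟩
  rw [Cz_sup]
  refine mi (mem_centralizer_of_conj_eq k1) (mem_centralizer_of_conj_eq fun d hd => ?_)
  obtain ⟨v, hv⟩ := rB.exists_notMem
  refine (o'.eq_of_sub rB hv hd (conj_mem_of_mem_normalizer h2 hd) (fx_anti (le_sup_left : A ≤ A ⊔ B) ?_)).symm
  have e1 := smul_mem_fx (inv_mem hL) (k2 v)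
  rw [smul_sub, inv_smul_smul] at e1
  have e2 := e1 d (mem_sup_right hd)
  have e3 : (b * d * b⁻¹) • v - v - (d • v - v) =
      (b • d • v - d • v) - b • (v - b⁻¹ • v) := by
    rw [← e2, smul_sub, smul_sub, mul_smul, mul_smul]
    abel
  rw [e3]
  exact sub_mem (k2 _) (smul_mem_fx hL e1)

theorem PL.split (h : PM W p T M z) (l : PL W T M A B) {b : P} (hb : b ∈ T)
    (h3 : ∀ w ∈ cm W A, b • w = w) :
    ∃ a ∈ A, a⁻¹ * b ∈ Cz(A ⊔ B) ∧ ∀ w : W, (a⁻¹ * b) • w - w ∈ fx W (A ⊔ B) := by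
  have h1 : b ∈ Nm(A) := by
    by_contra e
    refine l.o.not_cm_le l.rA (fun w hw => h.rs.cm_le (l.rA.cj b) l.rB
      (l.oth _ (l.rA.cj b) ((cj_mono b l.AT).trans (cj_eq_of_mem hb).le)
        fun e' => e (mem_normalizer_iff_cj.2 e')) ?_)
    rw [← h3 w hw]
    exact smul_mem_cm_cj b hw
  obtain ⟨a, ha, e⟩ := l.x1 h (l.rB.cj b)
    (fun e => l.nM (by rwa [cj_le_iff, cj_eq_of_mem (inv_mem (h.min.le hb))] at e))
    (fun e => l.not_comm h (le_Cz_comm (by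
      rwa [cj_le_iff, cj_centralizer, cj_eq_of_mem_normalizer (inv_mem h1)] at e)))
  refine ⟨a, ha, cz_of_fix h.hp l.rA l.rB l.o l.o'
    (h.syl.pgrp.to_le (zpowers_le.2 (mul_mem (inv_mem (l.AT ha)) hb)))
    (mul_mem (inv_mem (le_normalizer ha)) h1)
    (mem_normalizer_iff_cj.2 (by rw [cj_mul, e, cj_inv_cj])) fun w hw => ?_⟩
  rw [mul_smul, h3 w hw]
  exact l.rA.cm_le hw _ (inv_mem ha)

theorem NatD.extend {F : Type} [Field F] {L X : Subgroup P} {ρ : L →* SL(2, F)}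
    {ψ : W →+ (Fin 2 → F)} (h : NatD W F L A ρ ψ) {D : Subgroup P}
    (hD : ∀ d ∈ D, ∀ w : W, d • w - w ∈ fx W L) (hX : X ≤ L ⊔ D) :
    ∃ σ : X →* SL(2, F), ∀ (x : X) (w : W), ψ ((x : P) • w) = σ x • ψ w := by
  have k : L ⊔ D ≤ CfH7.eqv P SL(2, F) ψ := sup_le (fun e he => ⟨ρ ⟨e, he⟩, h.eqv ⟨e, he⟩⟩)
    fun d hd => ⟨1, fun w => by rw [one_smul]; exact h.sub_mem_iff.1 (hD d hd w)⟩
  exact exists_hom_of_eqv (E := X) ψ (fun g g' e => sl_ext fun v => by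
    obtain ⟨w, rfl⟩ := h.surjψ v
    exact e w) fun x => k (hX x.2)

end CfH7
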