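import Cfsg.Agent.OD.Pre
import Cfsg.Agent.H7.Bridge

/-! Irreducible `SL₂(q)`-modules that are quadratic or small are natural. -/

set_option autoImplicit false
set_option linter.unusedSectionVars false

open Cfsg Subgroup CfH9 Matrix
open CfLp (uu dd uu_coe dd_coe uu_mul uu_zero uu_inv)
open scoped commutatorElement MatrixGroups

namespace CfH7

section

variable {P : Type*} [Group P] {W : Type*} [AddCommGroup W] [DistribMulAction P W] {p : ℕ}

/-- `a b a = b a b` swaps `A` and `B` -/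
structure Sw (A B : Subgroup P) (a b : P) : Prop where
  ha : a ∈ A
  hb : b ∈ B
  br : a * b * a = b * a * b
  c1 : cj (a * b * a) A = B
  c2 : cj (a * b * a) B = A

theorem Sw.symm {A B : Subgroup P} {a b : P} (h : Sw A B a b) : Sw B A b a :=
  ⟨h.hb, h.ha, h.br.symm, h.br ▸ h.c2, h.br ▸ h.c1⟩

theorem Sw.key {A B : Subgroup P} {a b : P} (h : Sw A B a b) (hXY : fx W A ⊓ fx W B = ⊥) {y : W}
    (hy : y ∈ fx W B) (hq : ∀ a' ∈ A, a' • y - y ∈ fx W A) :
    (∀ b' ∈ B, b' • (a • y - y) - (a • y - y) ∈ fx W B) ∧ b • (a • y - y) - (a • y - y) = -y := by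
  have h1 : (a * b * a) • y ∈ fx W A := h.c2 ▸ smul_mem_fx_cj _ hy
  have h2 : ∀ b' ∈ B, b' • ((a * b * a) • y) - (a * b * a) • y ∈ fx W B := by
    intro b' hb'
    rw [← h.c1] at hb' ⊢
    obtain ⟨a', ha', rfl⟩ := mem_cj'.1 hb'
    have := smul_mem_fx_cj (a * b * a) (hq a' ha')
    rwa [smul_sub, smul_smul, ← inv_mul_cancel_right (a * b * a * a') (a * b * a), mul_smul] at this
  have h3 : (a * b * a) • y = b • a • y := by rw [h.br, mul_smul, mul_smul, hy b h.hb]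
  have h4 : a • y - y = (a * b * a) • y := by
    rw [← sub_eq_zero, ← AddSubgroup.mem_bot, ← hXY]
    refine ⟨AddSubgroup.sub_mem _ (hq a h.ha) h1, ?_⟩
    have := AddSubgroup.sub_mem _ (h2 _ (inv_mem h.hb)) hy
    rw [h3, inv_smul_smul] at this
    rw [h3, sub_right_comm]
    exact this
  refine ⟨h4 ▸ h2, ?_⟩
  rw [smul_sub, ← h3, ← h4, hy b h.hb]
  abel

theorem inv_smul_sub_of_quad {b : P} {x : W} (h : b • (b • x - x) = b • x - x) :
    b⁻¹ • x - x = -(b • x - x) := by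
  have : b⁻¹ • (b • x - x) = b • x - x := by rw [← h, inv_smul_smul, h]
  rw [← this, smul_sub, inv_smul_smul, neg_sub]

theorem Sw.inv {A B : Subgroup P} {a b : P} (h : Sw A B a b) (hXY : fx W A ⊓ fx W B = ⊥)
    (qA : ∀ a ∈ A, ∀ w : W, a • w - w ∈ fx W A) (qB : ∀ a ∈ B, ∀ w : W, a • w - w ∈ fx W B) :
    (∀ y ∈ fx W B, b⁻¹ • (a • y - y) - (a • y - y) = y) ∧
      ∀ x ∈ fx W A, a • (b⁻¹ • x - x) - (b⁻¹ • x - x) = x := by
  refine ⟨fun y hy => ?_, fun x hx => ?_⟩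
  · rw [inv_smul_sub_of_quad (qB b h.hb _ b h.hb), (h.key hXY hy fun a' ha' => qA a' ha' y).2, neg_neg]
  · have := (h.symm.key ((inf_comm _ _).trans hXY) hx fun a' ha' => qB a' ha' x).2
    rw [inv_smul_sub_of_quad (qB b h.hb _ b h.hb), smul_neg, neg_sub_neg, ← neg_sub, this, neg_neg]

end

section

variable {F : Type} [Field F]

variable (F) in
/-- upper unitriangular matrices -/
def uH : Multiplicative F →* SL(2, F) where
  toFun t := uu t.toAdd
  map_one' := uu_zero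
  map_mul' _ _ := (uu_mul _ _).symm

theorem ll_mul (s t : F) : ll s * ll t = ll (s + t) := by
  ext i j; fin_cases i <;> fin_cases j <;> simp [ll_coe, mul_apply, Fin.sum_univ_two, add_comm]

theorem ll_zero : ll (0 : F) = 1 := by
  ext i j; fin_cases i <;> fin_cases j <;> simp [ll_coe]

theorem ll_inv (t : F) : (ll t)⁻¹ = ll (-t) :=
  inv_eq_of_mul_eq_one_right (by rw [ll_mul, add_neg_cancel, ll_zero])

variable (F) in
/-- lower unitriangular matrices -/
def lH : Multiplicative F →* SL(2, F) where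
  toFun t := ll t.toAdd
  map_one' := ll_zero
  map_mul' _ _ := (ll_mul _ _).symm

theorem mem_uH {a : SL(2, F)} : a ∈ (uH F).range ↔ ∃ t, uu t = a := Iff.rfl

theorem mem_lH {a : SL(2, F)} : a ∈ (lH F).range ↔ ∃ t, ll t = a := Iff.rfl

theorem sw_uu_ll [Finite F] {t : F} (ht : t ≠ 0) : Sw (uH F).range (lH F).range (uu t) (ll (-t⁻¹)) := by
  have e1 : ∀ r : F, uu t * ll (-t⁻¹) * uu t * uu r = ll (-r * t⁻¹ ^ 2) * (uu t * ll (-t⁻¹) * uu t) := by
    intro r
    ext i j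
    fin_cases i <;> fin_cases j <;> simp [ll_coe, uu_coe, mul_apply, Fin.sum_univ_two] <;> field_simp <;> simp
  have e2 : ∀ r : F, uu t * ll (-t⁻¹) * uu t * ll r = uu (-r * t ^ 2) * (uu t * ll (-t⁻¹) * uu t) := by
    intro r
    ext i j
    fin_cases i <;> fin_cases j <;> simp [ll_coe, uu_coe, mul_apply, Fin.sum_univ_two] <;> field_simp <;> simp
  have a1 : cj (uu t * ll (-t⁻¹) * uu t) (uH F).range ≤ (lH F).range := cj_le_iff_forall.2 fun x hx => by
    obtain ⟨r, rfl⟩ := mem_uH.1 hx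
    rw [e1, mul_inv_cancel_right]; exact mem_lH.2 ⟨_, rfl⟩
  have a2 : cj (uu t * ll (-t⁻¹) * uu t) (lH F).range ≤ (uH F).range := cj_le_iff_forall.2 fun x hx => by
    obtain ⟨r, rfl⟩ := mem_lH.1 hx
    rw [e2, mul_inv_cancel_right]; exact mem_uH.2 ⟨_, rfl⟩
  have b1 := card_le_of_le a1
  have b2 := card_le_of_le a2
  rw [card_cj] at b1 b2
  refine ⟨mem_uH.2 ⟨_, rfl⟩, mem_lH.2 ⟨_, rfl⟩, ?_, eq_of_le_of_card_ge a1 (by rwa [card_cj]),
    eq_of_le_of_card_ge a2 (by rwa [card_cj])⟩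
  ext i j
  fin_cases i <;> fin_cases j <;> simp [ll_coe, uu_coe, mul_apply, Fin.sum_univ_two] <;> field_simp <;> simp

theorem card_uH [Fintype F] : Nat.card (uH F).range = Fintype.card F := by
  rw [← Nat.card_congr (MonoidHom.ofInjective (f := uH F) fun s t e => uu_inj (F := F) e).toEquiv,
    Nat.card_eq_fintype_card, Fintype.card_multiplicative]

theorem sylIn_uH [Fintype F] {p n : ℕ} [hp : Fact p.Prime] (hF : Fintype.card F = p ^ n) :
    SylIn p (uH F).range ⊤ := by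
  refine sylIn_of_not_dvd le_top (IsPGroup.of_card (card_uH.trans hF)) fun hd => ?_
  have h1 := card_mul_relIndex (le_top (a := (uH F).range))
  rw [card_top, CfH3.card_SL2 rfl, card_uH] at h1
  have h2 : 1 < Fintype.card F := Fintype.one_lt_card
  rw [Nat.eq_of_mul_eq_mul_left (by omega) h1] at hd
  have h3 : p ∣ Fintype.card F := by
    rw [hF] at h2 ⊢
    exact dvd_pow_self _ (by rintro rfl; simp at h2)
  have h4 : p ∣ Fintype.card F ^ 2 := dvd_pow h3 two_ne_zero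
  have h5 := (Nat.dvd_sub_iff_right (Nat.one_le_pow _ _ (by omega)) h4).1 hd
  exact hp.out.one_lt.ne' (Nat.dvd_one.1 h5)

variable {W : Type*} [AddCommGroup W] [Finite W] [DistribMulAction SL(2, F) W]

theorem sl2_natural [Fintype F] {p n : ℕ} [Fact p.Prime] (hF : Fintype.card F = p ^ n)
    (hp : ∀ w : W, p • w = 0)
    (irr : ∀ Z : AddSubgroup W, (∀ (h : SL(2, F)), ∀ w ∈ Z, h • w ∈ Z) → Z ≠ ⊥ → Z = ⊤)
    (hnt : fx W (⊤ : Subgroup SL(2, F)) ≠ ⊤)
    (hyp : (∀ a ∈ (uH F).range, ∀ w : W, a • w - w ∈ fx W (uH F).range) ∨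
      Nat.card W ≤ Nat.card (fx W (uH F).range) ^ 2) :
    ∃ (ρ : SL(2, F) →* SL(2, F)) (ψ : W ≃+ (Fin 2 → F)), Function.Surjective ρ ∧
      ∀ e w, ψ (e • w) = ρ e • ψ w := by
  set A := (uH F).range with hA
  set B := (lH F).range with hB
  have sup : A ⊔ B = ⊤ := sl_eq_top (fun t => mem_sup_left (mem_uH.2 ⟨t, rfl⟩))
    fun t => mem_sup_right (mem_lH.2 ⟨t, rfl⟩)
  have inf : fx W A ⊓ fx W B = ⊥ := by
    rw [← fx_sup, sup]
    by_contra e
    exact hnt (irr _ (fun h w hw => by rwa [hw h trivial]) e)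
  have s1 : Sw A B _ _ := sw_uu_ll (F := F) one_ne_zero
  have swA : ∀ a ∈ A, a ≠ 1 → ∃ b, Sw A B a b := fun a ha h1 => by
    obtain ⟨t, rfl⟩ := mem_uH.1 ha
    exact ⟨_, sw_uu_ll (by rintro rfl; exact h1 uu_zero)⟩
  have swB : ∀ b ∈ B, b ≠ 1 → ∃ a, Sw A B a b := fun a ha h1 => by
    obtain ⟨t, rfl⟩ := mem_lH.1 ha
    have ht : t ≠ 0 := by rintro rfl; exact h1 ll_zero
    have := sw_uu_ll (neg_ne_zero.2 (inv_ne_zero ht))
    rw [inv_neg, inv_inv, neg_neg] at this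
    exact ⟨_, this⟩
  have pA : IsPGroup p A := (sylIn_uH hF).pgrp
  have pB : IsPGroup p B := s1.c1 ▸ isPGroup_cj pA _
  have hne : (⊤ : AddSubgroup W) ≠ ⊥ := fun e => hnt (top_le_iff.1 (e ▸ bot_le))
  obtain ⟨y₀, -, hy₀, hy₀'⟩ := exists_fixed hp pB (U := ⊤) (le_st.2 fun _ _ _ _ => trivial) hne
  have hyA : y₀ ∉ fx W A := fun e => hy₀ (AddSubgroup.mem_bot.1 (inf ▸ ⟨e, hy₀'⟩))
  have qA : ∀ a ∈ A, ∀ w : W, a • w - w ∈ fx W A := by
    refine hyp.elim id fun hc => ?_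
    have hs : fx W A ⊔ fx W B = ⊤ := by
      have := add_card_sup_mul_card_inf (fx W A) (fx W B)
      have e : Nat.card (fx W B) = Nat.card (fx W A) := by rw [← s1.c1, card_fx_cj]
      rw [inf, AddSubgroup.card_bot, mul_one, e, ← sq] at this
      exact AddSubgroup.eq_top_of_le_card _ (this ▸ hc)
    let Y₁ : AddSubgroup W := fx W B ⊓ ⨅ a ∈ A, (fx W A).comap (dl W a)
    let X₁ : AddSubgroup W := fx W A ⊓ ⨅ a ∈ B, (fx W B).comap (dl W a)
    have mY : ∀ w, w ∈ Y₁ ↔ w ∈ fx W B ∧ ∀ a ∈ A, a • w - w ∈ fx W A := fun w => by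
      simp only [Y₁, AddSubgroup.mem_inf, AddSubgroup.mem_iInf, AddSubgroup.mem_comap]; rfl
    have mX : ∀ w, w ∈ X₁ ↔ w ∈ fx W A ∧ ∀ a ∈ B, a • w - w ∈ fx W B := fun w => by
      simp only [X₁, AddSubgroup.mem_inf, AddSubgroup.mem_iInf, AddSubgroup.mem_comap]; rfl
    have hZ : X₁ ⊔ Y₁ = ⊤ := by
      refine irr _ (fun g => ?_) fun e => ?_
      · have : A ⊔ B ≤ st SL(2, F) (X₁ ⊔ Y₁) := by
          refine sup_le (le_st.2 fun a ha w hw => ?_) (le_st.2 fun a ha w hw => ?_) <;>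
            obtain ⟨x, hx, y, hy, rfl⟩ := AddSubgroup.mem_sup.1 hw
          · by_cases h1 : a = 1
            · rwa [h1, one_smul]
            obtain ⟨b, hb⟩ := swA a ha h1
            have h2 : a • y - y ∈ X₁ := (mX _).2 ⟨((mY y).1 hy).2 a ha,
              (hb.key inf ((mY y).1 hy).1 ((mY y).1 hy).2).1⟩
            rw [smul_add, ((mX x).1 hx).1 a ha, ← sub_add_cancel (a • y) y, ← add_assoc]
            exact AddSubgroup.add_mem_sup (add_mem hx h2) hy
          · by_cases h1 : a = 1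
            · rwa [h1, one_smul]
            obtain ⟨b, hb⟩ := swB a ha h1
            have h2 : a • x - x ∈ Y₁ := (mY _).2 ⟨((mX x).1 hx).2 a ha,
              (hb.symm.key ((inf_comm _ _).trans inf) ((mX x).1 hx).1 ((mX x).1 hx).2).1⟩
            rw [smul_add, ((mY y).1 hy).1 a ha, ← add_sub_cancel x (a • x), add_assoc]
            exact AddSubgroup.add_mem_sup hx (add_mem h2 hy)
        exact fun w hw => st_apply (this (sup ▸ trivial)) hw
      · obtain ⟨w, -, h1, h2⟩ := exists_fixed_mod hp pA (U := ⊤) (C := fx W A)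
          (le_st.2 fun _ _ _ _ => trivial) (le_normalizer.trans (Nm_le_st_fx A)) fun e => hyA (e trivial)
        obtain ⟨x, hx, y, hy, rfl⟩ := AddSubgroup.mem_sup.1 (hs ▸ trivial : w ∈ fx W A ⊔ fx W B)
        have h3 : y ∈ Y₁ := (mY y).2 ⟨hy, fun a ha => by
          have := h2 a ha
          rwa [smul_add, hx a ha, add_sub_add_left_eq_sub] at this⟩
        have h4 : y = 0 := AddSubgroup.mem_bot.1 (e ▸ AddSubgroup.mem_sup_right h3)
        exact h1 (by rwa [h4, add_zero])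
    intro a ha w
    obtain ⟨x, hx, y, hy, rfl⟩ := AddSubgroup.mem_sup.1 (hZ ▸ trivial : w ∈ X₁ ⊔ Y₁)
    rw [smul_add, ((mX x).1 hx).1 a ha, add_sub_add_left_eq_sub]
    exact ((mY y).1 hy).2 a ha
  have qB : ∀ a ∈ B, ∀ w : W, a • w - w ∈ fx W B := s1.c1 ▸ quad_cj qA _
  have hq : QP A B (fx W A) (fx W B) :=
    { sup := sup, inf := inf, aX := qA, Xa := le_rfl, bY := qB, Yb := le_rfl, irr := irr
      invA := by
        rintro a ha ⟨y, -, h1⟩
        obtain ⟨b, hb⟩ := swA a ha (by rintro rfl; exact h1 (one_smul _ _))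
        exact ⟨b⁻¹, inv_mem hb.hb, hb.inv inf qA qB⟩
      invB := by
        rintro b hb ⟨y, -, h1⟩
        obtain ⟨a, ha⟩ := swB b⁻¹ (inv_mem hb) (by
          rw [ne_eq, inv_eq_one]; rintro rfl; exact h1 (one_smul _ _))
        have := ha.inv inf qA qB
        rw [inv_inv] at this
        exact ⟨a, ha.ha, this⟩
      ne := by
        by_contra e
        push Not at e
        exact hyA fun a ha => e a ha y₀ hy₀' }
  obtain ⟨m1, m2⟩ := hq.main hp
  have hc : Fintype.card F = Nat.card (fx W A) := by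
    rw [← card_uH]
    refine Nat.card_congr (Equiv.ofBijective (fun a : A => ⟨_, qA a a.2 y₀⟩) ⟨fun a b e => ?_, fun x => ?_⟩)
    · have e' : (a : SL(2, F)) • y₀ = (b : SL(2, F)) • y₀ := sub_left_injective (congrArg Subtype.val e)
      by_contra h1
      obtain ⟨c, hc⟩ := swA _ (b⁻¹ * a).2 fun e => h1 (inv_mul_eq_one.1 (Subtype.ext e)).symm
      have := (hc.inv inf qA qB).1 y₀ hy₀'
      rw [coe_mul, mul_smul, e', coe_inv, inv_smul_smul, sub_self, smul_zero, sub_self] at this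
      exact hy₀ this.symm
    · obtain ⟨a, ha, e⟩ := m1 y₀ hy₀' hy₀ x x.2
      exact ⟨⟨a, ha⟩, Subtype.ext e⟩
  obtain ⟨ρ, ψ, h1, h2, -⟩ := m2 F hc
  exact ⟨ρ, ψ, h1, h2⟩

end

end CfH7
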