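import Cfsg.Agent.OD.Pre
import Cfsg.Agent.H7.SL2Mod
import Cfsg.Agent.H7.Tv
import Cfsg.Agent.H8.Thompson

/-! Coordinates for the sections in the definition of a Baumann block; irreducibility. -/

set_option autoImplicit false
set_option linter.unusedSectionVars false

open Cfsg Subgroup CfH9 Matrix
open scoped commutatorElement MatrixGroups

namespace CfH7

/-- the permutation module over the field with two elements -/
abbrev PV (n : ℕ) : Type := Fin n → ZMod 2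

instance pvAct (n : ℕ) : DistribMulAction (Equiv.Perm (Fin n)) (PV n) where
  smul σ v := fun i => v (σ⁻¹ i)
  one_smul _ := rfl
  mul_smul _ _ _ := rfl
  smul_zero _ := rfl
  smul_add _ _ _ := rfl

theorem pv_smul {n : ℕ} (σ : Equiv.Perm (Fin n)) (v : PV n) (i : Fin n) :
    (σ • v) i = v (σ⁻¹ i) := rfl

theorem pv_add {n : ℕ} (v w : PV n) (i : Fin n) : (v + w) i = v i + w i := rfl

theorem pv_zero {n : ℕ} (i : Fin n) : (0 : PV n) i = 0 := rfl

/-- even weight vectors -/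
def evn (n : ℕ) : AddSubgroup (PV n) where
  carrier := {v | ∑ i, v i = 0}
  zero_mem' := Finset.sum_const_zero
  add_mem' {a b} ha hb := by
    change ∑ i, (a i + b i) = 0
    rw [Finset.sum_add_distrib, show ∑ i, a i = 0 from ha, show ∑ i, b i = 0 from hb, add_zero]
  neg_mem' {a} ha := by
    change ∑ i, - a i = 0
    rw [Finset.sum_neg_distrib, show ∑ i, a i = 0 from ha, neg_zero]

theorem mem_evn {n : ℕ} {v : PV n} : v ∈ evn n ↔ ∑ i, v i = 0 := Iff.rfl

/-- `e_a + e_b` -/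
def pe {n : ℕ} (a b : Fin n) : PV n := fun i => (if i = a then 1 else 0) + (if i = b then 1 else 0)

theorem pe_apply {n : ℕ} (a b i : Fin n) :
    pe a b i = (if i = a then 1 else 0) + (if i = b then 1 else 0) := rfl

theorem pe_mem {n : ℕ} (a b : Fin n) : pe a b ∈ evn n := by
  rw [mem_evn]
  simp only [pe_apply, Finset.sum_add_distrib, Finset.sum_ite_eq', Finset.mem_univ, if_true]
  decide

theorem smul_pe {n : ℕ} (σ : Equiv.Perm (Fin n)) (a b : Fin n) : σ • pe a b = pe (σ a) (σ b) := by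
  funext i
  simp only [pv_smul, pe_apply, Equiv.Perm.inv_eq_iff_eq]

theorem pe_comm {n : ℕ} (a b : Fin n) : pe a b = pe b a := funext fun _ => add_comm _ _

theorem pe_self {n : ℕ} (a : Fin n) : pe a a = 0 := funext fun i => by
  rw [pe_apply, pv_zero]; split_ifs <;> decide

theorem exists_alt_pair {n : ℕ} {a b c d : Fin n} (h : a ≠ b) (h' : c ≠ d) :
    ∃ σ ∈ alternatingGroup (Fin n), σ • pe a b = pe c d := by
  let τ : Equiv.Perm (Fin n) := Equiv.swap (Equiv.swap a c b) d * Equiv.swap a c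
  have e1 : τ a = c := by
    simp only [τ, Equiv.Perm.mul_apply, Equiv.swap_apply_left]
    refine Equiv.swap_apply_of_ne_of_ne (fun e => h ?_) h'
    apply (Equiv.swap a c).injective
    rw [Equiv.swap_apply_left]; exact e
  have e2 : τ b = d := by simp only [τ, Equiv.Perm.mul_apply, Equiv.swap_apply_left]
  rcases Int.units_eq_one_or (Equiv.Perm.sign τ) with e | e
  · exact ⟨τ, e, by rw [smul_pe, e1, e2]⟩
  · refine ⟨Equiv.swap c d * τ, ?_, ?_⟩
    · rw [Equiv.Perm.mem_alternatingGroup, map_mul, e, Equiv.Perm.sign_swap h']; rfl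
    · rw [mul_smul, smul_pe, e1, e2, smul_pe, Equiv.swap_apply_left, Equiv.swap_apply_right,
        pe_comm]

theorem evn_le {n : ℕ} {X : AddSubgroup (PV n)} (h : ∀ a b, pe a b ∈ X) : evn n ≤ X := by
  intro v hv
  rcases n.eq_zero_or_pos with rfl | hn
  · have : v = 0 := funext fun i => i.elim0
    exact this ▸ X.zero_mem
  let o : Fin n := ⟨0, hn⟩
  have e : v = ∑ i, (if v i = 0 then 0 else pe o i) := by
    funext j
    have e1 : (∑ i, (if v i = 0 then (0 : PV n) else pe o i)) j =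
        ∑ i, (v i * (if j = o then 1 else 0) + v i * (if j = i then 1 else 0)) := by
      refine (Finset.sum_apply j _ _).trans (Finset.sum_congr rfl fun i _ => ?_)
      rcases zmod2_cases (v i) with e | e
      · simp [e, pv_zero]
      · rw [if_neg (by rw [e]; decide), e, one_mul, one_mul, pe_apply]
    rw [e1, Finset.sum_add_distrib, ← Finset.sum_mul, mem_evn.1 hv]
    simp
  rw [e]
  exact sum_mem fun i _ => by split_ifs; exacts [X.zero_mem, h _ _]

theorem alt_irr {m : ℕ} (X : AddSubgroup (PV (2 * m + 1))) (hX : X ≤ evn _)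
    (h : ∀ σ ∈ alternatingGroup (Fin (2 * m + 1)), ∀ x ∈ X, σ • x ∈ X) : X = ⊥ ∨ X = evn _ := by
  refine or_iff_not_imp_left.2 fun hne => le_antisymm hX (evn_le ?_)
  obtain ⟨v, hv, h0⟩ := (AddSubgroup.bot_or_exists_ne_zero X).resolve_left hne
  obtain ⟨i, hi⟩ : ∃ i, v i = 1 := by
    by_contra e
    exact h0 (funext fun i => (zmod2_cases (v i)).resolve_right fun e' => e ⟨i, e'⟩)
  obtain ⟨j, hj⟩ : ∃ j, v j = 0 := by
    by_contra e
    have : ∀ j, v j = 1 := fun j => (zmod2_cases (v j)).resolve_left fun e' => e ⟨j, e'⟩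
    have e2 := mem_evn.1 (hX hv)
    simp only [this, Finset.sum_const, Finset.card_univ, Fintype.card_fin, nsmul_eq_mul,
      mul_one] at e2
    push_cast at e2
    rw [show (2 : ZMod 2) = 0 from rfl] at e2
    simp at e2
  have hij : i ≠ j := fun e => by rw [e, hj] at hi; exact absurd hi (by decide)
  obtain ⟨k, hki, hkj⟩ : ∃ k, k ≠ i ∧ k ≠ j := by
    by_contra e
    have : (Finset.univ : Finset (Fin (2 * m + 1))) = {i, j} := by
      ext k
      simp only [Finset.mem_univ, Finset.mem_insert, Finset.mem_singleton, true_iff]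
      by_contra e'
      exact e ⟨k, fun e1 => e' (Or.inl e1), fun e1 => e' (Or.inr e1)⟩
    have e2 := congrArg Finset.card this
    rw [Finset.card_univ, Fintype.card_fin, Finset.card_pair hij] at e2
    omega
  have key : ∀ {a b c : Fin (2 * m + 1)}, a ≠ b → a ≠ c → b ≠ c → v a = v b → v a + v c = 1 →
      pe b c ∈ X := by
    intro a b c ab ac bc e1 e2
    have hm := X.add_mem hv (h (Equiv.swap b c * Equiv.swap a b) (by
      rw [Equiv.Perm.mem_alternatingGroup, map_mul, Equiv.Perm.sign_swap ab,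
        Equiv.Perm.sign_swap bc]; rfl) v hv)
    have e3 : Equiv.swap a b • v = v := funext fun l => by
      rw [pv_smul, Equiv.swap_inv]
      by_cases la : l = a
      · rw [la, Equiv.swap_apply_left, e1]
      by_cases lb : l = b
      · rw [lb, Equiv.swap_apply_right, e1]
      rw [Equiv.swap_apply_of_ne_of_ne la lb]
    rw [mul_smul, e3] at hm
    convert hm using 1
    funext l
    rw [pv_add, pv_smul, Equiv.swap_inv, pe_apply]
    by_cases lb : l = b
    · rw [lb, Equiv.swap_apply_left, if_pos rfl, if_neg bc, ← e1, e2, add_zero]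
    by_cases lc : l = c
    · rw [lc, Equiv.swap_apply_right, if_pos rfl, if_neg bc.symm, ← e1, add_comm (v c), e2,
        zero_add]
    rw [Equiv.swap_apply_of_ne_of_ne lb lc, if_neg lb, if_neg lc, CharTwo.add_self_eq_zero,
      CharTwo.add_self_eq_zero]
  obtain ⟨c, d, cd, hcd⟩ : ∃ c d, c ≠ d ∧ pe c d ∈ X := by
    rcases zmod2_cases (v k) with e | e
    · exact ⟨j, i, hij.symm, key hkj hki hij.symm (by rw [e, hj]) (by rw [e, hi, zero_add])⟩
    · exact ⟨i, j, hij, key hki hkj hij (by rw [e, hi]) (by rw [e, hj, add_zero])⟩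
  intro a b
  by_cases ab : a = b
  · rw [ab, pe_self]; exact X.zero_mem
  obtain ⟨σ, h1, h2⟩ := exists_alt_pair cd ab
  exact h2 ▸ h σ h1 _ hcd

theorem perm_faith {m : ℕ} (σ : Equiv.Perm (Fin (2 * m + 1))) (h : ∀ v ∈ evn (2 * m + 1), σ • v = v) :
    σ = 1 := by
  ext1 i
  by_contra hi
  change σ i ≠ i at hi
  obtain ⟨k, hki, hkj⟩ : ∃ k, k ≠ i ∧ k ≠ σ i := by
    by_contra e
    have : (Finset.univ : Finset (Fin (2 * m + 1))) = {i, σ i} := by
      ext k
      simp only [Finset.mem_univ, Finset.mem_insert, Finset.mem_singleton, true_iff]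
      by_contra e'
      exact e ⟨k, fun e1 => e' (Or.inl e1), fun e1 => e' (Or.inr e1)⟩
    have e2 := congrArg Finset.card this
    rw [Finset.card_univ, Fintype.card_fin, Finset.card_pair hi.symm] at e2
    omega
  have e := congrFun (h _ (pe_mem i k)) (σ i)
  rw [smul_pe, pe_apply, pe_apply, if_pos rfl, if_neg hi, if_neg hkj.symm,
    if_neg fun e' => hki (σ.injective e').symm] at e
  exact absurd e (by decide)

section SL

variable {F : Type*} [Field F]

theorem sl_exists_smul {v : Fin 2 → F} (hv : v ≠ 0) : ∃ g : SL(2, F), g • ![1, 0] = v := by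
  by_cases h : v 0 = 0
  · have h1 : v 1 ≠ 0 := fun e => hv (by funext i; fin_cases i; exacts [h, e])
    refine ⟨⟨!![0, -(v 1)⁻¹; v 1, 0], by simp [det_fin_two, h1]⟩, (sl_smul _ _).trans ?_⟩
    funext i; fin_cases i <;> simp [h]
  · refine ⟨⟨!![v 0, 0; v 1, (v 0)⁻¹], by simp [det_fin_two, h]⟩, (sl_smul _ _).trans ?_⟩
    funext i; fin_cases i <;> simp

/-- the Weyl element -/
def ww (F : Type*) [Field F] : SL(2, F) := ⟨!![0, -1; 1, 0], by simp [det_fin_two]⟩

theorem ww_smul (v : Fin 2 → F) : ww F • v = ![- v 1, v 0] := by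
  refine (sl_smul _ _).trans ?_
  funext i; fin_cases i <;> simp [ww]

theorem ll_eq_conj (t : F) : ∃ w : SL(2, F), w * CfLp.uu (-t) * w⁻¹ = ll t := by
  refine ⟨ww F, mul_inv_eq_iff_eq_mul.2 (sl_ext fun v => ?_)⟩
  rw [mul_smul, mul_smul, uu_smul, ww_smul, ww_smul, ll_smul]
  funext i; fin_cases i <;> simp
  ring

theorem sl_trans {v w : Fin 2 → F} (hv : v ≠ 0) (hw : w ≠ 0) :
    ∃ d ∈ commutator SL(2, F), d • v = w := by
  obtain ⟨g, rfl⟩ := sl_exists_smul hv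
  obtain ⟨g', rfl⟩ := sl_exists_smul hw
  let K : Subgroup SL(2, F) := commutator SL(2, F) ⊔ MulAction.stabilizer SL(2, F) (g • ![(1 : F), 0])
  haveI : K.Normal := Subgroup.Normal.of_commutator_le _ le_sup_left
  have h1 : ∀ t, CfLp.uu t ∈ K := fun t => by
    have : g * CfLp.uu t * g⁻¹ ∈ K := mem_sup_right (by
      rw [MulAction.mem_stabilizer_iff, mul_smul, inv_smul_smul, mul_smul, uu_smul]; simp)
    simpa [mul_assoc] using Subgroup.Normal.conj_mem ‹_› _ this g⁻¹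
  have hK : K = ⊤ := sl_eq_top h1 fun t => by
    obtain ⟨w, e⟩ := ll_eq_conj t
    exact e ▸ Subgroup.Normal.conj_mem ‹_› _ (h1 _) w
  obtain ⟨d, hd, s, hs, e⟩ := (mem_sup_of_le_Nm' (A := commutator SL(2, F))
    (le_normalizer_of_normal)).1 (show g' * g⁻¹ ∈ K from hK ▸ mem_top _)
  refine ⟨d, hd, ?_⟩
  rw [← MulAction.mem_stabilizer_iff.1 hs, smul_smul, e, mul_smul, inv_smul_smul]

theorem sl_irr (X : AddSubgroup (Fin 2 → F))
    (h : ∀ σ ∈ commutator SL(2, F), ∀ x ∈ X, σ • x ∈ X) : X = ⊥ ∨ X = ⊤ := by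
  refine or_iff_not_imp_left.2 fun hne => top_unique fun w _ => ?_
  obtain ⟨v, hv, h0⟩ := (AddSubgroup.bot_or_exists_ne_zero X).resolve_left hne
  by_cases hw : w = 0
  · exact hw ▸ X.zero_mem
  obtain ⟨d, hd, e⟩ := sl_trans h0 hw
  exact e ▸ h d hd v hv

end SL

section MD

variable {G : Type*} [Group G]

/-- coordinates for a section -/
structure MD {H Z : Type*} [Group H] [AddCommGroup Z] [DistribMulAction H Z] (R : Subgroup H)
    (Y : AddSubgroup Z) (E U U₀ : Subgroup G) where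
  ρ : E →* H
  c : G → Z
  n : E ≤ Nm(U)
  le : U₀ ≤ U
  range : ρ.range = R
  c_mul : ∀ u ∈ U, ∀ v ∈ U, c (u * v) = c u + c v
  c_mem : ∀ u ∈ U, c u ∈ Y
  c_surj : ∀ y ∈ Y, ∃ u ∈ U, c u = y
  c_zero : ∀ u ∈ U, c u = 0 ↔ u ∈ U₀
  act : ∀ g : E, ∀ u ∈ U, c (g * u * (g : G)⁻¹) = ρ g • c u

theorem exists_md_sl {F : Type*} [Field F] {R : Subgroup SL(2, F)} {E U U₀ : Subgroup G}
    (h : ActsAsSL2OnSection F R E U U₀) :
    Nonempty (MD R (⊤ : AddSubgroup (Fin 2 → F)) E U U₀) := by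
  classical
  obtain ⟨n, l, ρ, ψ, h1, h2, h3, h4⟩ := h
  refine ⟨⟨ρ, fun u => if h : u ∈ U then (ψ ⟨u, h⟩).toAdd else 0, n, l, h1, fun u hu v hv => ?_,
    fun _ _ => trivial, fun x _ => ?_, fun u hu => ?_, fun g u hu => ?_⟩⟩
  · simp only [dif_pos hu, dif_pos hv, dif_pos (mul_mem hu hv)]
    rw [← toAdd_mul, ← map_mul]; rfl
  · obtain ⟨u, e⟩ := h2 (Multiplicative.ofAdd x)
    exact ⟨u, u.2, by simp [e]⟩
  · simp only [dif_pos hu, toAdd_eq_zero]
    exact h3 ⟨u, hu⟩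
  · obtain ⟨w, e1, e2⟩ := h4 g ⟨u, hu⟩
    simp only [dif_pos hu, dif_pos (conj_mem_of_mem_normalizer (n g.2) hu)]
    rw [sl_smul_eq, ← e2]
    congr 2
    exact Subtype.ext e1.symm

theorem exists_md_perm {n : ℕ} {R : Subgroup (Equiv.Perm (Fin n))} {E U U₀ : Subgroup G}
    (h : ActsAsOddPermModuleOnSection n R E U U₀) : Nonempty (MD R (evn n) E U U₀) := by
  classical
  obtain ⟨hn, l, ρ, ψ, h1, h2, h2', h3, h4⟩ := h
  refine ⟨⟨ρ, fun u => if h : u ∈ U then (ψ ⟨u, h⟩).toAdd else 0, hn, l, h1, fun u hu v hv => ?_,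
    fun u hu => ?_, fun x hx => ?_, fun u hu => ?_, fun g u hu => ?_⟩⟩
  · simp only [dif_pos hu, dif_pos hv, dif_pos (mul_mem hu hv)]
    exact congrArg Multiplicative.toAdd (map_mul ψ ⟨u, hu⟩ ⟨v, hv⟩)
  · simp only [dif_pos hu]
    exact h2 _
  · obtain ⟨u, e⟩ := h2' x hx
    exact ⟨u, u.2, by simp only [dif_pos u.2]; exact e⟩
  · simp only [dif_pos hu]
    exact h3 ⟨u, hu⟩
  · obtain ⟨w, e1, e2⟩ := h4 g ⟨u, hu⟩
    simp only [dif_pos hu, dif_pos (conj_mem_of_mem_normalizer (hn g.2) hu)]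
    funext i
    rw [pv_smul, ← e2]
    exact congrArg (fun x => (ψ x).toAdd i) (Subtype.ext e1.symm)

variable {H Z : Type*} [Group H] [AddCommGroup Z] [DistribMulAction H Z] {R : Subgroup H}
  {Y : AddSubgroup Z} {E U U₀ : Subgroup G}

theorem MD.sl {F : Type*} [Field F] {R : Subgroup SL(2, F)}
    (D : MD R (⊤ : AddSubgroup (Fin 2 → F)) E U U₀) : ActsAsSL2OnSection F R E U U₀ := by
  refine ⟨D.n, D.le, D.ρ, MonoidHom.mk' (fun u => Multiplicative.ofAdd (D.c u))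
    fun a b => congrArg Multiplicative.ofAdd (D.c_mul _ a.2 _ b.2), D.range, fun x => ?_,
    fun u => D.c_zero _ u.2,
    fun e u => ⟨⟨_, conj_mem_of_mem_normalizer (D.n e.2) u.2⟩, rfl, D.act e _ u.2⟩⟩
  obtain ⟨u, hu, e⟩ := D.c_surj x.toAdd trivial
  exact ⟨⟨u, hu⟩, congrArg Multiplicative.ofAdd e⟩

theorem MD.perm {n : ℕ} {R : Subgroup (Equiv.Perm (Fin n))} (D : MD R (evn n) E U U₀) :
    ActsAsOddPermModuleOnSection n R E U U₀ := by
  refine ⟨D.n, D.le, D.ρ, MonoidHom.mk' (fun u => Multiplicative.ofAdd (D.c u))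
    fun a b => congrArg Multiplicative.ofAdd (D.c_mul _ a.2 _ b.2), D.range,
    fun u => D.c_mem _ u.2, fun x hx => ?_, fun u => D.c_zero _ u.2,
    fun e u => ⟨⟨_, conj_mem_of_mem_normalizer (D.n e.2) u.2⟩, rfl,
      fun i => congrFun (D.act e _ u.2) i⟩⟩
  obtain ⟨u, hu, e⟩ := D.c_surj x hx
  exact ⟨⟨u, hu⟩, e⟩

/-- an irreducible abelian section -/
structure IS (E U U₀ : Subgroup G) : Prop where
  n : E ≤ Nm(U)
  n0 : E ≤ Nm(U₀)
  le : U₀ ≤ U
  comm : ⁅U, U⁆ ≤ U₀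
  irr : ∀ X, X ≤ U → E ≤ Nm(X) → X ≤ U₀ ∨ U ≤ X ⊔ U₀

namespace MD

variable (D : MD R Y E U U₀)

theorem c_one : D.c 1 = 0 := (D.c_zero 1 (one_mem _)).2 (one_mem _)

theorem c_inv {u : G} (hu : u ∈ U) : D.c u⁻¹ = - D.c u := by
  rw [eq_neg_iff_add_eq_zero, ← D.c_mul _ (inv_mem hu) _ hu, inv_mul_cancel, D.c_one]

theorem c_eq_iff {u v : G} (hu : u ∈ U) (hv : v ∈ U) : D.c u = D.c v ↔ u⁻¹ * v ∈ U₀ := by
  rw [← D.c_zero _ (mul_mem (inv_mem hu) hv), D.c_mul _ (inv_mem hu) _ hv, D.c_inv hu,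
    neg_add_eq_zero]

theorem c_comm (g : E) {u : G} (hu : u ∈ U) : D.c ⁅(g : G), u⁆ = D.ρ g • D.c u - D.c u := by
  rw [commutatorElement_def, D.c_mul _ (conj_mem_of_mem_normalizer (D.n g.2) hu) _ (inv_mem hu),
    D.act g u hu, D.c_inv hu, sub_eq_add_neg]

theorem c_comm' (g : E) {u : G} (hu : u ∈ U) : D.c ⁅u, (g : G)⁆ = D.c u - D.ρ g • D.c u := by
  rw [← commutatorElement_inv, D.c_inv (commutator_mem_right hu (D.n g.2)), D.c_comm g hu, neg_sub]

theorem mem_R (g : E) : D.ρ g ∈ R := D.range.le ⟨g, rfl⟩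

theorem ex {r : H} (hr : r ∈ R) : ∃ g : E, D.ρ g = r := by rwa [← D.range] at hr

include D in
theorem n0 : E ≤ Nm(U₀) := by
  have k : ∀ g ∈ E, ∀ u ∈ U₀, g * u * g⁻¹ ∈ U₀ := fun g hg u hu => by
    rw [← D.c_zero _ (conj_mem_of_mem_normalizer (D.n hg) (D.le hu)), D.act ⟨g, hg⟩ u (D.le hu),
      (D.c_zero u (D.le hu)).2 hu, smul_zero]
  exact fun g hg => mem_normalizer_iff.2 fun u =>
    ⟨k g hg u, fun e => by simpa [mul_assoc] using k _ (inv_mem hg) _ e⟩

include D in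
theorem comm : ⁅U, U⁆ ≤ U₀ := commutator_le.2 fun u hu v hv => by
  rw [← D.c_zero _ (commutator_mem_left hu (le_normalizer hv)), commutatorElement_def,
    D.c_mul _ (mul_mem (mul_mem hu hv) (inv_mem hu)) _ (inv_mem hv),
    D.c_mul _ (mul_mem hu hv) _ (inv_mem hu), D.c_mul _ hu _ hv, D.c_inv hu, D.c_inv hv]
  abel

/-- image of a subgroup -/
def im (X : Subgroup G) (hX : X ≤ U) : AddSubgroup Z where
  carrier := {z | ∃ x ∈ X, D.c x = z}
  zero_mem' := ⟨1, one_mem _, D.c_one⟩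
  add_mem' := by
    rintro _ _ ⟨a, ha, rfl⟩ ⟨b, hb, rfl⟩
    exact ⟨a * b, mul_mem ha hb, D.c_mul _ (hX ha) _ (hX hb)⟩
  neg_mem' := by
    rintro _ ⟨a, ha, rfl⟩
    exact ⟨a⁻¹, inv_mem ha, D.c_inv (hX ha)⟩

include D in
theorem is (irr : ∀ X : AddSubgroup Z, X ≤ Y → (∀ r ∈ R, ∀ x ∈ X, r • x ∈ X) → X = ⊥ ∨ X = Y) :
    IS E U U₀ := by
  refine ⟨D.n, D.n0, D.le, D.comm, fun X hX hn => ?_⟩
  rcases irr (D.im X hX) (by rintro _ ⟨x, hx, rfl⟩; exact D.c_mem _ (hX hx)) (by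
    rintro r hr _ ⟨x, hx, rfl⟩
    obtain ⟨g, rfl⟩ := D.ex hr
    exact ⟨_, conj_mem_of_mem_normalizer (hn g.2) hx, D.act g x (hX hx)⟩) with e | e
  · exact Or.inl fun x hx => (D.c_zero x (hX hx)).1
      (AddSubgroup.mem_bot.1 (e ▸ show D.c x ∈ D.im X hX from ⟨x, hx, rfl⟩))
  · refine Or.inr fun u hu => ?_
    obtain ⟨x, hx, e'⟩ : D.c u ∈ D.im X hX := e.ge (D.c_mem u hu)
    rw [← mul_inv_cancel_left x u]
    exact mul_mem (mem_sup_left hx) (mem_sup_right ((D.c_eq_iff (hX hx) hu).1 e'))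

theorem mem_sec_iff (g : E) : (g : G) ∈ secCz U U₀ ↔ ∀ y ∈ Y, D.ρ g • y = y := by
  refine ⟨fun h y hy => ?_, fun h => ⟨D.n0 g.2, fun u hu => ?_⟩⟩
  · obtain ⟨u, hu, rfl⟩ := D.c_surj y hy
    have := (D.c_zero _ (commutator_mem_left hu (D.n g.2))).2 (h.2 u hu)
    rw [D.c_comm' g hu, sub_eq_zero] at this
    exact this.symm
  · rw [← D.c_zero _ (commutator_mem_left hu (D.n g.2)), D.c_comm' g hu, h _ (D.c_mem u hu),
      sub_self]

theorem ρ_eq_one (f : ∀ r ∈ R, (∀ y ∈ Y, r • y = y) → r = 1) (g : E) :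
    D.ρ g = 1 ↔ (g : G) ∈ secCz U U₀ := by
  rw [D.mem_sec_iff]
  exact ⟨fun e y _ => by rw [e, one_smul], f _ (D.mem_R g)⟩

include D in
theorem ker_eq [Finite G] {p : ℕ} (f : ∀ r ∈ R, (∀ y ∈ Y, r • y = y) → r = 1)
    (e : Nonempty (E ⧸ pCore p E ≃* R)) (h : pCoreOf p E ≤ secCz U U₀) :
    E ⊓ secCz U U₀ = pCoreOf p E := by
  have h1 : pCore p E ≤ D.ρ.ker := fun g hg => (D.ρ_eq_one f g).2 (h ⟨g, hg, rfl⟩)
  have h2 : pCore p E = D.ρ.ker := by
    refine eq_of_le_of_card_ge h1 (Nat.le_of_eq ?_)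
    have a1 := card_eq_card_quotient_mul_card_subgroup (pCore p E)
    have a2 := card_eq_card_quotient_mul_card_subgroup D.ρ.ker
    rw [Nat.card_congr e.some.toEquiv] at a1
    rw [Nat.card_congr (QuotientGroup.quotientKerEquivRange D.ρ).toEquiv, D.range, a1] at a2
    have : 0 < Nat.card R := by
      rw [← Nat.card_congr e.some.toEquiv]; exact Nat.card_pos
    exact (Nat.eq_of_mul_eq_mul_left this a2).symm
  refine le_antisymm (fun g hg => ?_) (le_inf (pCoreOf_le E) h)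
  exact ⟨⟨g, hg.1⟩, h2 ▸ (D.ρ_eq_one f ⟨g, hg.1⟩).2 hg.2, rfl⟩

end MD

theorem sl_faith {F : Type*} [Field F] (R : Subgroup SL(2, F)) :
    ∀ r ∈ R, (∀ y ∈ (⊤ : AddSubgroup (Fin 2 → F)), r • y = y) → r = 1 :=
  fun _ _ h => sl_ext fun v => by rw [h v trivial, one_smul]

theorem MD.is_sl {F : Type*} [Field F]
    (D : MD (commutator SL(2, F)) (⊤ : AddSubgroup (Fin 2 → F)) E U U₀) : IS E U U₀ :=
  D.is fun X _ h => sl_irr X h

theorem MD.is_alt {m : ℕ} (D : MD (alternatingGroup (Fin (2 * m + 1))) (evn (2 * m + 1)) E U U₀) :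
    IS E U U₀ := D.is alt_irr

end MD

end CfH7
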