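import Cfsg.Agent.OD.Pre
import Cfsg.Agent.H7.Bridge2
import Cfsg.Agent.H8.Offender

/-! The local `C**(G,T)`-theorem for minimal parabolic groups. -/

set_option autoImplicit false
set_option linter.unusedSectionVars false

open Cfsg Subgroup CfH9 Matrix
open scoped commutatorElement MatrixGroups

namespace CfH7

universe u

variable {G : Type u} [Group G] [Finite G] {p : ℕ} [Fact p.Prime] {T M V : Subgroup G}

theorem MinOver.inf_le_pCore (hT : SylIn p T ⊤) (h : MinOver T ⊤ M) {C : Subgroup G} [C.Normal]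
    (hC : C ≤ M) : T ⊓ C ≤ pCore p G :=
  (h.pCl_of_normal hT.pgrp hC (top_le_Nm C) _ inf_le_right (hT.pgrp.to_le inf_le_left)).trans
    (pCoreOf_le_pCore_of_subnormal (Subgroup.Normal.isSubnormal inferInstance))

theorem MinOver.pCore_quot (hT : SylIn p T ⊤) (h : MinOver T ⊤ M) (C : Subgroup G) [C.Normal]
    (hC : C ≤ M) (hO : pCore p G ≤ C) : pCore p (G ⧸ C) = ⊥ := by
  let D := (pCore p (G ⧸ C)).comap (QuotientGroup.mk' C)
  have e : D.map (QuotientGroup.mk' C) = pCore p (G ⧸ C) :=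
    map_comap_eq_self_of_surjective (QuotientGroup.mk'_surjective C) _
  have h1 := (hT.inf_normal' (top_le_Nm D) le_top).map (QuotientGroup.mk' C)
  rw [e] at h1
  have h2 := h1.eq_of_le (isPGroup_pCore p _) le_rfl h1.le
  have h3 : D ≤ M := by
    refine (le_sup_inf_ker_of_map_le le_rfl inf_le_right (e.trans h2).le).trans
      (sup_le (inf_le_left.trans h.le) (inf_le_right.trans ?_))
    rwa [QuotientGroup.ker_mk']
  rw [h2, Subgroup.map_eq_bot_iff, QuotientGroup.ker_mk']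
  exact (h.inf_le_pCore hT h3).trans hO

/-- the projection of `⊤` onto a quotient -/
abbrev mkT (C : Subgroup G) [C.Normal] : (⊤ : Subgroup G) →* G ⧸ C :=
  (QuotientGroup.mk' C).comp (Subgroup.subtype ⊤)

theorem rl_mk (C : Subgroup G) [C.Normal] (B : Subgroup G) :
    Rl (mkT C) B (B.map (QuotientGroup.mk' C)) :=
  ⟨le_top, fun x hx => ⟨x, hx, rfl⟩, by rintro _ ⟨x, hx, rfl⟩; exact ⟨⟨x, trivial⟩, hx, rfl⟩⟩

theorem rl_comap_mk (C : Subgroup G) [C.Normal] (A : Subgroup (G ⧸ C)) :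
    Rl (mkT C) (A.comap (QuotientGroup.mk' C)) A := by
  have := rl_mk C (A.comap (QuotientGroup.mk' C))
  rwa [map_comap_eq_self_of_surjective (QuotientGroup.mk'_surjective C)] at this

theorem exists_br_quot [V.Normal] (hV : IsElementaryAbelian p V) :
    ∃ (W : Type u) (_ : AddCommGroup W) (_ : DistribMulAction (G ⧸ Cz(V)) W) (_ : Finite W)
      (_ : FaithfulSMul (G ⧸ Cz(V)) W) (ι : Multiplicative W →* G),
      Br V ⊤ (mkT Cz(V)) ι ∧ ∀ w : W, p • w = 0 := by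
  have hs : Function.Surjective (mkT Cz(V)) :=
    (QuotientGroup.mk'_surjective _).comp fun x => ⟨⟨x, trivial⟩, rfl⟩
  obtain ⟨W, _, _, ι, h⟩ := exists_br hV.1 (top_le_Nm V) (mkT Cz(V)) hs
    fun x hx => (QuotientGroup.eq_one_iff _).1 hx
  exact ⟨W, _, _, h.finite, h.faithful hs fun x hx => (QuotientGroup.eq_one_iff _).2 hx, ι, h,
    h.nsmul hV⟩

theorem exists_pm_quot [V.Normal] (hV : IsElementaryAbelian p V) (hT : SylIn p T ⊤)
    (h : MinOver T ⊤ M) (hO : pCore p G ≤ Cz(V)) (hz : Cz(V ⊓ Cz(T)) ≤ M) :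
    ∃ (W : Type u) (_ : AddCommGroup W) (_ : DistribMulAction (G ⧸ Cz(V)) W) (_ : Finite W)
      (_ : FaithfulSMul (G ⧸ Cz(V)) W) (ι : Multiplicative W →* G) (z : W),
      Br V ⊤ (mkT Cz(V)) ι ∧
      PM W p (T.map (QuotientGroup.mk' Cz(V))) (M.map (QuotientGroup.mk' Cz(V))) z := by
  obtain ⟨W, _, _, _, _, ι, b, hp⟩ := exists_br_quot hV
  have hC : Cz(V) ≤ M := (Cz_anti inf_le_left).trans hz
  have h1 : ¬ fx W (T.map (QuotientGroup.mk' Cz(V))) ≤ fx W ((⊤ : Subgroup G).map (QuotientGroup.mk' Cz(V))) :=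
    fun e => by
      rw [← b.le_Cz_iff (rl_mk _ ⊤), b.am_fx (rl_mk _ T)] at e
      exact h.lt.not_ge (e.trans hz)
  have e := map_top_of_surjective _ (QuotientGroup.mk'_surjective Cz(V))
  obtain ⟨z, z1, z2⟩ := SetLike.not_le_iff_exists.1 (e ▸ h1)
  exact ⟨W, _, _, inferInstance, inferInstance, ι, z, b, hp,
    hT.map_surj (QuotientGroup.mk'_surjective _),
    e ▸ h.map _ (by rw [QuotientGroup.ker_mk']; exact inf_le_right.trans hC),
    h.pCore_quot hT _ hC hO, z1, z2⟩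

theorem maxEl_top_of_sylIn (hT : SylIn p T ⊤) {A : Subgroup G} (hA : CfH8.MaxEl p A T) :
    CfH8.MaxEl p A ⊤ := by
  obtain ⟨B, hB⟩ := CfH8.exists_maxEl p (⊤ : Subgroup G)
  obtain ⟨g, -, hg⟩ := hT.exists_cj_le (elemAb_isPGroup hB.el) le_top
  have h1 := hB.cj g
  rw [cj_top] at h1
  exact h1.of_card_le le_top hA.el (h1.mono hg le_top |>.card_eq hA).le

theorem maxEl_ineq {A X : Subgroup G} (hA : CfH8.MaxEl p A X) (hVX : V ≤ X)
    (hV : IsElementaryAbelian p V) : Nat.card V * Nat.card (A ⊓ Cz(V) : Subgroup G) ≤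
      Nat.card A * Nat.card (V ⊓ Cz(A) : Subgroup G) := by
  have := hA.best hVX hV (A ⊓ Cz(V)) inf_le_left
  rwa [CfH8.ms_of_le_Cz inf_le_right, mul_comm] at this

theorem Br.off_maxEl {P W : Type*} [Group P] [AddCommGroup W] [DistribMulAction P W] [Finite P]
    [Finite W] [FaithfulSMul P W] {X Y A : Subgroup G} {π : X →* P} {ι : Multiplicative W →* G}
    (b : Br V X π ι) (rs : RS P W p) (hV : IsElementaryAbelian p V) (hA : CfH8.MaxEl p A Y)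
    (hVY : V ≤ Y) {A' : Subgroup P} (r : Rl π A A') : Off W p A' := by
  have e := b.elemAb r (p := p) (by rw [comm_eq_bot_left.2 (elemAb_le_Cz hA.el)]; exact bot_le)
    fun a ha => by rw [hA.el.2 a ha]; exact one_mem _
  exact ⟨e, le_antisymm (rs.noo _ e) (b.le_lm r (maxEl_ineq hA hVY hV))⟩

/-- the image of the Thompson subgroup is generated by the root subgroups -/
theorem map_J_eq_jj [V.Normal] (hV : IsElementaryAbelian p V) {W : Type*} [AddCommGroup W]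
    [DistribMulAction (G ⧸ Cz(V)) W] [Finite W] [FaithfulSMul (G ⧸ Cz(V)) W]
    {ι : Multiplicative W →* G} {z : W} (b : Br V ⊤ (mkT Cz(V)) ι) {T' M' A B : Subgroup (G ⧸ Cz(V))}
    (pm : PM W p T' M' z) (l : PL W T' M' A B) (hJ : ¬ thompsonSubgroup p G ≤ Cz(V)) :
    (thompsonSubgroup p G).map (QuotientGroup.mk' Cz(V)) = jj W ⊤ := by
  rw [← CfH8.J_top] at hJ ⊢
  refine le_antisymm (map_le_iff_le_comap.2 (CfH8.J_le_iff.2 fun A hA => map_le_iff_le_comap.1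
    (l.off_le_top pm (b.off_maxEl pm.rs hV hA le_top (rl_mk _ A))))) (jj_le_iff.2 fun C hC _ => ?_)
  rw [CfH8.J_le_iff] at hJ
  push Not at hJ
  obtain ⟨A₀, h1, h2⟩ := hJ
  obtain ⟨D, hD, rD⟩ := pm.exists_rt (b.off_maxEl pm.rs hV h1 le_top (rl_mk _ A₀))
    (b.ne_bot (rl_mk _ A₀) h2)
  obtain ⟨g, rfl⟩ := l.exists_cj pm hC
  obtain ⟨k, rfl⟩ := l.exists_cj pm rD
  obtain ⟨x, hx⟩ := QuotientGroup.mk'_surjective _ (g * k⁻¹)
  have := cj_mono (g * k⁻¹) (hD.trans (map_mono h1.le_J))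
  rwa [cj_mul, cj_inv_cj, ← hx, ← map_cj, CfH8.cj_J, cj_top] at this

theorem css (hT : SylIn p T ⊤) (h : MinOver T ⊤ M) [V.Normal] (hV : IsElementaryAbelian p V)
    (hO : pCore p G ≤ Cz(V)) (hz : Cz(V ⊓ Cz(T)) ≤ M) (hJ : ¬ thompsonSubgroup p G ≤ Cz(V)) :
    ∃ (r : ℕ) (E : Fin r → Subgroup G), (∀ i, Cz(V) ≤ E i) ∧
      thompsonSubgroup p G ⊔ T ⊔ Cz(V) = ⊤ ∧ (⨆ i, E i) = thompsonSubgroup p G ⊔ Cz(V) ∧
      (∀ i j, i ≠ j → ⁅E i, E j⁆ ≤ Cz(V)) ∧ (∀ i, E i ⊓ (⨆ j ∈ {j | j ≠ i}, E j) ≤ Cz(V)) ∧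
      (∀ i j, ∃ t ∈ T, (E i).map (MulAut.conj t).toMonoidHom = E j) ∧
      (V ⊓ Cz(⨆ i, E i)) ⊔ (⨆ i, ⁅V, E i⁆) = V ∧ (∀ i j, i ≠ j → ⁅⁅V, E i⁆, E j⁆ = ⊥) ∧
      ∀ i, ∃ n : ℕ, 1 ≤ n ∧ ((∃ (F : Type) (_ : Field F) (_ : Fintype F), Fintype.card F = p ^ n ∧
        (∃ _ : ((Cz(V)).subgroupOf (E i)).Normal,
          Nonempty (↥(E i) ⧸ (Cz(V)).subgroupOf (E i) ≃* SL(2, F))) ∧
        ActsAsSL2OnSection F ⊤ (E i) ⁅V, E i⁆ (⁅V, E i⁆ ⊓ Cz(E i))) ∨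
      (p = 2 ∧ (∃ _ : ((Cz(V)).subgroupOf (E i)).Normal,
          Nonempty (↥(E i) ⧸ (Cz(V)).subgroupOf (E i) ≃* Equiv.Perm (Fin (2 ^ n + 1)))) ∧
        ActsAsOddPermModuleOnSection (2 ^ n + 1) ⊤ (E i) ⁅V, E i⁆ (⁅V, E i⁆ ⊓ Cz(E i)))) := by
  obtain ⟨W, _, _, _, _, ι, z, b, pm⟩ := exists_pm_quot hV hT h hO hz
  obtain ⟨A₀, h1, h2⟩ : ∃ A, CfH8.MaxEl p A ⊤ ∧ ¬ A ≤ Cz(V) := by
    rw [← CfH8.J_top, CfH8.J_le_iff] at hJ
    push Not at hJ
    exact hJ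
  have o := b.off_maxEl pm.rs hV h1 le_top (rl_mk _ A₀)
  obtain ⟨A, B, E, l, d, e⟩ := pm.exists_dec o.el (b.ne_bot (rl_mk _ A₀) h2) o.eq.ge
  obtain ⟨n, E', a1, a2, a3, a4, a5, a6, a7⟩ := d.family
  set f := QuotientGroup.mk' Cz(V)
  have hf : Function.Surjective f := QuotientGroup.mk'_surjective _
  have kf : f.ker = Cz(V) := QuotientGroup.ker_mk' _
  have eJ := map_J_eq_jj hV b pm l hJ
  have mc : ∀ i, ((E' i).comap f).map f = E' i := fun i => map_comap_eq_self_of_surjective hf _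
  refine ⟨n, fun i => (E' i).comap f, fun i => kf.ge.trans (ker_le_comap _ _), ?_, ?_, fun i j hne => ?_,
    fun i => ?_, fun i j => ?_, b.sup_family (fun i => rl_comap_mk _ _) a6,
    fun i j hne => b.comm_comm (rl_comap_mk _ _) (rl_comap_mk _ _) (a2 i j hne), fun i => ?_⟩
  · refine (congrArg _ kf.symm).trans ?_
    rw [← comap_map_eq, Subgroup.map_sup, eJ, ← e, top_unique (d.gen.ge.trans
      (sup_le le_sup_right ((le_nclo _ _).trans le_sup_left))), comap_top]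
  · refine Eq.trans ?_ (congrArg _ kf)
    rw [← comap_map_eq, eJ, ← e, ← a4, ← iSup_congr mc, ← Subgroup.map_iSup, comap_map_eq]
    exact (sup_eq_left.2 ((ker_le_comap _ _).trans (le_iSup (fun i => (E' i).comap f) ⟨0, a1⟩))).symm
  · refine le_trans ?_ kf.le
    rw [← Subgroup.map_eq_bot_iff, map_commutator, mc, mc]
    exact comm_eq_bot_left.2 (le_Cz_of_cm (a2 i j hne) (a2 j i hne.symm))
  · refine le_trans ?_ kf.le
    rw [← MonoidHom.comap_bot, ← a3 i, comap_inf]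
    exact inf_le_inf_left _ (iSup₂_le fun j hj => comap_mono (le_iSup₂_of_le j hj le_rfl))
  · obtain ⟨_, ⟨t, ht, rfl⟩, e⟩ := a5 i j
    exact ⟨t, ht, by beta_reduce; rw [← e, comap_cj]; rfl⟩
  · have key : ∀ {H : Type} [Group H] (σ : (E' i).comap f →* H), Function.Surjective σ →
        σ.ker = (Cz(V)).subgroupOf _ → ∃ _ : ((Cz(V)).subgroupOf ((E' i).comap f)).Normal,
          Nonempty (↥((E' i).comap f) ⧸ (Cz(V)).subgroupOf ((E' i).comap f) ≃* H) := fun σ h1 h2 =>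
      ⟨inferInstance, ⟨(QuotientGroup.quotientMulEquivOfEq h2.symm).trans
        (QuotientGroup.quotientKerEquivOfSurjective σ h1)⟩⟩
    obtain ⟨n, hn, ⟨F, _, _, hF, ⟨σ, b1, b2⟩, b3⟩ | ⟨h0, ⟨σ, b1, b2⟩, b3⟩⟩ :=
      b.ct (rl_comap_mk _ _) (a7 i).1 (a7 i).2
    · exact ⟨n, hn, Or.inl ⟨F, _, _, hF, key σ b1 b2, b3⟩⟩
    · exact ⟨n, hn, Or.inr ⟨h0, key σ b1 b2, b3⟩⟩

theorem OZ_le_OZ_pCore (hT : SylIn p T ⊤) (hG : Cz(pCore p G) ≤ pCore p G) :
    OZ p T ≤ OZ p (pCore p G) := by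
  have h : pCore p G ≤ T := hT.le_of_le_Nm (isPGroup_pCore p G) le_top (le_Nm_normal _ _)
  exact OZ_le_OZ h ((OZ_le_Cz T).trans ((Cz_anti h).trans hG))

end CfH7
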