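import Cfsg.Agent.OD.Pre
import Cfsg.Agent.H7.Blk1
import Cfsg.Agent.H7.CSS
import Cfsg.Agent.L.PU3

/-! Basic properties of Baumann blocks. -/

set_option autoImplicit false
set_option linter.unusedSectionVars false

open Cfsg Subgroup CfH9 Matrix
open scoped commutatorElement MatrixGroups

namespace CfH7

open CfH8 (BB JJ)

variable {G : Type*} [Group G] {p : ℕ}

/-- `Ω₁Z(O_p(E))` -/
abbrev bW (p : ℕ) (E : Subgroup G) : Subgroup G := OZ p (pCoreOf p E)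

/-- `C_W(E)` -/
abbrev bZ (p : ℕ) (E : Subgroup G) : Subgroup G := bW p E ⊓ Cz(E)

/-- `[W, E]` -/
abbrev bV (p : ℕ) (E : Subgroup G) : Subgroup G := ⁅bW p E, E⁆

/-- exceptional blocks -/
structure EX (p : ℕ) (T E : Subgroup G) : Prop where
  three : p = 3
  is : IS E (pCoreOf p E) (bW p E)
  ker : E ⊓ secCz (pCoreOf p E) (bW p E) = pCoreOf p E
  QQ : ⁅pCoreOf p E, pCoreOf p E⁆ = bZ p E
  ne : bZ p E ≠ ⊥
  nq : ∀ b ∈ BB p T, b ∉ Cz(bW p E) → ¬ ⁅⁅pCoreOf p E, zpowers b⁆, zpowers b⁆ ≤ bZ p E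

/-- abstract properties of a block -/
structure BK (p : ℕ) (T E : Subgroup G) : Prop where
  res : pResidualOf p E = E
  com : ⁅E, BB p T⁆ = E
  Qc : ⁅pCoreOf p E, E⁆ = pCoreOf p E
  ne : ⁅E, OZ p T⁆ ≠ ⊥
  is : IS E (bW p E) (bZ p E)
  ker : E ⊓ secCz (bW p E) (bZ p E) = pCoreOf p E
  exc : pCoreOf p E = bW p E ∨ EX p T E

theorem bW_le (E : Subgroup G) : bW p E ≤ pCoreOf p E := OZ_le _

theorem bW_le' (E : Subgroup G) : bW p E ≤ E := (bW_le E).trans (pCoreOf_le E)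

theorem Nm_le_Nm_bW (E : Subgroup G) : Nm(E) ≤ Nm(bW p E) :=
  (normalizer_le_normalizer_pCoreOf E).trans (Nm_le_Nm_OZ _)

theorem Nm_le_Nm_bZ (E : Subgroup G) : Nm(E) ≤ Nm(bZ p E) :=
  le_normalizer_inf (Nm_le_Nm_bW E) (Nm_le_Nm_Cz E)

theorem Nm_le_Nm_bV (E : Subgroup G) : Nm(E) ≤ Nm(bV p E) :=
  le_normalizer_commutator (Nm_le_Nm_bW E) le_rfl

theorem bV_le (E : Subgroup G) : bV p E ≤ bW p E :=
  comm_le_left (le_normalizer.trans (Nm_le_Nm_bW E))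

theorem bV_le' (E : Subgroup G) : bV p E ≤ E := (bV_le E).trans (bW_le' E)

theorem Q_le_Cz_bW (E : Subgroup G) : pCoreOf p E ≤ Cz(bW p E) := le_Cz_OZ _

theorem Q_le_Cz_bV (E : Subgroup G) : pCoreOf p E ≤ Cz(bV p E) :=
  (Q_le_Cz_bW E).trans (Cz_anti (bV_le E))

theorem isPGroup_bW (E : Subgroup G) : IsPGroup p (bW p E) := (isPGroup_pCoreOf E).to_le (bW_le E)

theorem isPGroup_bV (E : Subgroup G) : IsPGroup p (bV p E) := (isPGroup_bW E).to_le (bV_le E)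

theorem Q_le_sec (E : Subgroup G) : pCoreOf p E ≤ secCz (bW p E) (bZ p E) :=
  le_secCz ((pCoreOf_le E).trans (le_normalizer.trans (Nm_le_Nm_bZ E)))
    ((comm_eq_bot_right.2 (Q_le_Cz_bW E)).le.trans bot_le)

variable [Finite G] [hp : Fact p.Prime] {T E : Subgroup G}

theorem card_field_ne {F : Type} [Field F] [Fintype F] {n : ℕ} (h : Fintype.card F = 3 ^ n) :
    3 ^ n ≠ 1 := h ▸ Fintype.one_lt_card.ne'

theorem bk_of (h : IsBaumannBlock p T E) : BK p T E := by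
  obtain ⟨h1, h2, h3, h4, ⟨F, _, _, n, hF, e, a, h5⟩ | ⟨-, m, e, a, h5⟩⟩ := h
  · obtain ⟨D⟩ := exists_md_sl a
    refine ⟨h1, h2, h3, h4, D.is_sl, D.ker_eq (sl_faith _) e (Q_le_sec E), h5.imp_right ?_⟩
    rintro ⟨rfl, a', k1, -, k2, k3, k4⟩
    obtain ⟨D'⟩ := exists_md_sl a'
    refine ⟨rfl, D'.is_sl, D'.ker_eq (sl_faith _) e (le_secCz
      ((pCoreOf_le E).trans D'.n0) D'.comm), k1, fun e' => ?_, fun b hb hb' e' => k4 b hb hb' (e'.trans k2.ge)⟩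
    rw [k2, show omegaOneCenter 3 (pCoreOf 3 E) ⊓ Cz(E) = ⊥ from e', card_bot] at k3
    exact card_field_ne hF k3.symm
  · obtain ⟨D⟩ := exists_md_perm a
    exact ⟨h1, h2, h3, h4, D.is_alt, D.ker_eq (fun r _ => perm_faith r) e (Q_le_sec E), Or.inl h5⟩

theorem B_eq_of_le_cj {g : G} (h : BB p T ≤ cj g T) : BB p (cj g T) = BB p T := by
  have e := CfH8.J_eq_of_le_cj ((CfH8.J_le_B T).trans h)
  refine (eq_of_le_of_card_ge ?_ (by rw [← CfH8.cj_B, card_cj])).symm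
  rw [CfH8.BB_def (cj g T), e]
  exact le_inf h (CfH8.B_le_Cz T)

theorem B_eq_of_B_le (hT : SylIn p T ⊤) {X : Subgroup G} (hX : IsPGroup p X) (h : BB p T ≤ X) :
    BB p X = BB p T := by
  obtain ⟨g, -, hg⟩ := hT.exists_le_cj hX le_top
  have e := B_eq_of_le_cj (h.trans hg)
  rw [← e] at h ⊢
  exact CfH8.B_eq_of_B_le h hg

theorem J_eq_of_J_le' (hT : SylIn p T ⊤) {X : Subgroup G} (hX : IsPGroup p X) (h : JJ p T ≤ X) :
    JJ p X = JJ p T := by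
  obtain ⟨g, -, hg⟩ := hT.exists_le_cj hX le_top
  have e := CfH8.J_eq_of_le_cj (h.trans hg)
  rw [← e] at h ⊢
  exact CfH8.J_eq_of_J_le h hg

theorem le_of_comm_eq {E B N : Subgroup G} (h : ⁅E, B⁆ = E) (hn : E ≤ Nm(N)) (hB : B ≤ N) :
    E ≤ N := h ▸ (commutator_mono le_rfl hB).trans (comm_le_right hn)

theorem isPGroup_B (hT : IsPGroup p T) : IsPGroup p (BB p T) := hT.to_le (CfH8.B_le T)

theorem le_Nm_of_block (hT : SylIn p T ⊤) (h1 : pResidualOf p E = E) (h2 : ⁅E, BB p T⁆ = E)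
    {Q : Subgroup G} (hQ : IsPGroup p Q) (hB : BB p T ≤ Nm(Q)) (hE : E ≤ Nm(Q)) : Q ≤ Nm(E) := by
  have hBE : BB p T ≤ Nm(E) := h2 ▸ right_le_Nm_comm E (BB p T)
  have k1 : Q ≤ Nm(BB p T) := by
    rw [← B_eq_of_B_le hT (isPGroup_sup (isPGroup_B hT.pgrp) hQ hB) le_sup_left]
    exact le_sup_right.trans (le_normalizer.trans (CfH8.Nm_le_Nm_B _))
  have k2 : nclo ⁅Q, BB p T⁆ E ≤ Nm(E) :=
    nclo_le (le_normalizer.trans le_normalizer) ((comm_le_right k1).trans hBE)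
  have k3 : E ≤ secCz Q (nclo ⁅Q, BB p T⁆ E) :=
    le_of_comm_eq h2 (le_Nm_secCz hE (right_le_Nm_nclo _ _))
      (le_secCz (le_Nm_nclo (right_le_Nm_comm _ _) hBE) (le_nclo _ _))
  have k4 := commutator_pResidualOf_idem hQ hE
  rw [h1] at k4
  refine le_Nm_of_comm_le_right (k4 ▸ ?_)
  exact (commutator_mono ((commutator_le_of_le_secCz k3).trans k2) le_rfl).trans
    (comm_le_right le_rfl)

namespace BK

theorem B_le_Nm (h : BK p T E) : BB p T ≤ Nm(E) := h.com ▸ right_le_Nm_comm E (BB p T)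

theorem nm (h : BK p T E) (hT : SylIn p T ⊤) {Q : Subgroup G} (hQ : IsPGroup p Q)
    (hB : BB p T ≤ Nm(Q)) (hE : E ≤ Nm(Q)) : Q ≤ Nm(E) := le_Nm_of_block hT h.res h.com hQ hB hE

theorem R_le (h : BK p T E) (hT : SylIn p T ⊤) : pCore p G ≤ Nm(E) :=
  h.nm hT (isPGroup_pCore p G) le_normalizer_of_normal le_normalizer_of_normal

theorem idem (h : BK p T E) {P : Subgroup G} (hP : IsPGroup p P) (hn : E ≤ Nm(P)) :
    ⁅⁅P, E⁆, E⁆ = ⁅P, E⁆ := by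
  have := commutator_pResidualOf_idem hP hn
  rwa [h.res] at this

theorem le_Cz_of (h : BK p T E) {P M : Subgroup G} (hP : IsPGroup p P) (hn : E ≤ Nm(P))
    (h1 : ⁅P, E⁆ ≤ M) (h2 : M ≤ Cz(E)) : P ≤ Cz(E) :=
  comm_eq_bot_left.1 (h.idem hP hn ▸ comm_eq_bot_left.2 (h1.trans h2))

theorem ne_bot (h : BK p T E) : E ≠ ⊥ := fun e => h.ne (by rw [e, commutator_bot_left])

theorem le_of_le_sup (h : BK p T E) {N A : Subgroup G} (hA : IsPGroup p A) (hn : A ≤ Nm(N))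
    (e : E ≤ N ⊔ A) : E ≤ N := h.res ▸ pResidualOf_le_of_le_sup hA hn e

theorem not_isPGroup (h : BK p T E) : ¬ IsPGroup p E := fun e =>
  h.ne_bot (h.res ▸ pResidualOf_eq_bot_of_isPGroup e)

theorem not_le_Q (h : BK p T E) : ¬ E ≤ pCoreOf p E := fun e =>
  h.not_isPGroup ((isPGroup_pCoreOf E).to_le e)

theorem W_not_le (h : BK p T E) : ¬ bW p E ≤ Cz(E) := fun e => h.not_le_Q (h.ker ▸ le_inf le_rfl
  (le_secCz h.is.n0 ((comm_eq_bot_left.2 e).le.trans bot_le)))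

theorem V_not_le (h : BK p T E) : ¬ bV p E ≤ Cz(E) := fun e =>
  h.W_not_le (h.le_Cz_of (isPGroup_bW E) h.is.n le_rfl e)

theorem V_idem (h : BK p T E) : ⁅bV p E, E⁆ = bV p E := h.idem (isPGroup_bW E) h.is.n

/-- an invariant subgroup of `W` is centralized by `E` or contains `[W, E]` -/
theorem irr (h : BK p T E) {X : Subgroup G} (h1 : X ≤ bW p E) (h2 : E ≤ Nm(X)) :
    X ≤ Cz(E) ∨ (bW p E ≤ X ⊔ bZ p E ∧ bV p E ≤ ⁅X, E⁆) := by
  refine (h.is.irr X h1 h2).imp (fun e => e.trans inf_le_right) fun e => ⟨e, ?_⟩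
  refine (commutator_mono e le_rfl).trans (commutator_sup_left_le (left_le_Nm_comm _ _)
    ?_ le_rfl ((comm_eq_bot_left.2 inf_le_right).le.trans bot_le))
  exact CfLp.le_Nm_of_le_Cz (le_Cz_comm (inf_le_right.trans
    (Cz_anti ((commutator_mono (h1.trans (bW_le' E)) le_rfl).trans (comm_le_left le_normalizer)))))

theorem irr' (h : BK p T E) {X : Subgroup G} (h1 : X ≤ bW p E) (h2 : E ≤ Nm(X))
    (h3 : ¬ X ≤ Cz(E)) : bV p E ≤ X :=
  ((h.irr h1 h2).resolve_left h3).2.trans (comm_le_left h2)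

theorem W_le (h : BK p T E) : bW p E ≤ bV p E ⊔ bZ p E :=
  ((h.irr (bV_le E) (right_le_Nm_comm _ _)).resolve_left h.V_not_le).1

theorem le_sec_of_le_Cz (h : BK p T E) {X : Subgroup G} (h1 : X ≤ Nm(E)) (h2 : X ≤ Cz(bV p E)) :
    X ≤ secCz (bW p E) (bZ p E) :=
  le_secCz (h1.trans (Nm_le_Nm_bZ E)) ((commutator_mono h.W_le le_rfl).trans
    (commutator_sup_left_le ((bV_le' E).trans h.is.n0) le_normalizer
      ((comm_eq_bot_right.2 h2).le.trans bot_le) (comm_le_left (h1.trans (Nm_le_Nm_bZ E)))))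

theorem inf_Cz (h : BK p T E) : E ⊓ Cz(bV p E) = pCoreOf p E :=
  le_antisymm (h.ker ▸ le_inf inf_le_left (h.le_sec_of_le_Cz (inf_le_left.trans le_normalizer)
    inf_le_right)) (le_inf (pCoreOf_le E) (Q_le_Cz_bV E))

theorem mem_Q (h : BK p T E) {e : G} (he : e ∈ E) (hc : e ∈ Cz(bV p E)) : e ∈ pCoreOf p E :=
  h.inf_Cz.le (mi he hc)

theorem comm_le_Q_of_sec (h : BK p T E) {X : Subgroup G} (h1 : X ≤ Nm(E))
    (h2 : X ≤ secCz (bW p E) (bZ p E)) : ⁅X, E⁆ ≤ pCoreOf p E :=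
  h.ker ▸ le_inf (comm_le_right h1) ((commutator_mono h2 le_rfl).trans
    (comm_le_left (le_Nm_secCz h.is.n h.is.n0)))

theorem comm_le_Q (h : BK p T E) {X : Subgroup G} (h1 : X ≤ Nm(E)) (h2 : X ≤ Cz(bV p E)) :
    ⁅X, E⁆ ≤ pCoreOf p E := h.comm_le_Q_of_sec h1 (h.le_sec_of_le_Cz h1 h2)

theorem le_Cz_of_sec (h : BK p T E) {X : Subgroup G} (h1 : X ≤ Nm(E))
    (h2 : X ≤ secCz (bW p E) (bZ p E)) : X ≤ Cz(bV p E) := by
  rw [← comm_eq_bot_right, bV, commutator_comm (bW p E), ← le_bot_iff]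
  refine three_subgroups_normal ?_ ?_
  · exact (comm_eq_bot_left.2 ((commutator_le_of_le_secCz h2).trans inf_le_right)).le
  · exact (comm_eq_bot_left.2 ((h.comm_le_Q_of_sec h1 h2).trans (Q_le_Cz_bW E))).le

theorem RE_le (h : BK p T E) (hT : SylIn p T ⊤) : ⁅pCore p G, E⁆ ≤ pCoreOf p E :=
  (le_inf (comm_le_right (h.R_le hT)) (comm_le_left le_normalizer_of_normal)).trans
    (inf_pCore_le_pCoreOf E)

theorem res_sup (h : BK p T E) (hT : SylIn p T ⊤) : pResidualOf p (E ⊔ pCore p G) = E := by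
  rw [pResidualOf_sup_of_isPGroup (isPGroup_pCore p G) (h.R_le hT), h.res]

/-- an abelian invariant subgroup of `Q` lies in `W` -/
theorem le_W_of_comm (h : BK p T E) {X : Subgroup G} (h1 : X ≤ pCoreOf p E) (h2 : E ≤ Nm(X))
    (h3 : ⁅X, X⁆ = ⊥) : X ≤ bW p E := by
  rcases h.exc with e | e
  · exact e ▸ h1
  refine (e.is.irr X h1 h2).resolve_right fun k => e.ne ?_
  have k1 : X ⊔ bW p E ≤ Cz(X ⊔ bW p E) := by
    rw [Cz_sup]
    exact sup_le (le_inf (comm_eq_bot_left.1 h3) (h1.trans (Q_le_Cz_bW E)))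
      (le_inf (le_Cz_comm (h1.trans (Q_le_Cz_bW E))) ((bW_le E).trans (Q_le_Cz_bW E)))
  rw [← e.QQ, comm_eq_bot_left]
  exact k.trans (k1.trans (Cz_anti k))

theorem comm_V (h : BK p T E) (hT : SylIn p T ⊤) (hG : Cz(pCore p G) ≤ pCore p G) :
    ⁅OZ p (pCore p G), E⁆ = bV p E := by
  have n : E ≤ Nm(OZ p (pCore p G)) := le_normalizer_of_normal.trans (Nm_le_Nm_OZ _)
  have pV := elemAb_isPGroup (elemAb_OZ (p := p) (pCore p G))
  have k1 : ⁅OZ p (pCore p G), E⁆ ≤ bW p E :=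
    h.le_W_of_comm ((commutator_mono (OZ_le _) le_rfl).trans (h.RE_le hT)) (right_le_Nm_comm _ _)
      (comm_eq_bot_left.2 ((comm_le_left n).trans
        ((elemAb_le_Cz (elemAb_OZ _)).trans (Cz_anti (comm_le_left n)))))
  refine le_antisymm (h.idem pV n ▸ commutator_mono k1 le_rfl)
    (h.irr' k1 (right_le_Nm_comm _ _) fun e => h.ne ?_)
  exact comm_eq_bot_right.2 ((OZ_le_OZ_pCore hT hG).trans (h.le_Cz_of pV n le_rfl e))

theorem V_le (h : BK p T E) (hT : SylIn p T ⊤) (hG : Cz(pCore p G) ≤ pCore p G) :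
    bV p E ≤ OZ p (pCore p G) :=
  h.comm_V hT hG ▸ comm_le_left (le_normalizer_of_normal.trans (Nm_le_Nm_OZ _))

theorem not_J_le (h : BK p T E) (hT : SylIn p T ⊤) : ¬ JJ p T ≤ Cz(bV p E) := fun e => by
  have n : JJ p T ≤ Nm(E) := (CfH8.J_le_B T).trans h.B_le_Nm
  have k1 := h.comm_le_Q n e
  have k2 : E ≤ Nm(JJ p T ⊔ pCoreOf p E) :=
    le_Nm_sup_of_comm_le (le_normalizer_pCoreOf E) (k1.trans le_sup_right)
  have k3 := J_eq_of_J_le' hT (isPGroup_sup (CfH8.isPGroup_J hT.pgrp) (isPGroup_pCoreOf E)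
    (n.trans (normalizer_le_normalizer_pCoreOf E))) le_sup_left
  have k4 : E ≤ Nm(JJ p T) := k3 ▸ k2.trans (CfH8.Nm_le_Nm_J _)
  exact h.ne (comm_eq_bot_left.2 ((le_of_comm_eq h.com
    (k4.trans ((Nm_le_Nm_OZ _).trans (Nm_le_Nm_Cz _))) (CfH8.B_le_Cz T)).trans
      (Cz_anti (CfH8.OZ_le_OZ_J T))))

end BK

end CfH7
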