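import Cfsg.Agent.OD.Pre
import Cfsg.Agent.H7.Bau1
import Cfsg.Agent.H7.Blk2
import Cfsg.Agent.L.PU14

/-! The Baumann argument for minimal parabolic groups. -/

set_option autoImplicit false
set_option linter.unusedSectionVars false

open Cfsg Subgroup CfH9 Matrix
open scoped commutatorElement MatrixGroups

namespace CfH7

open CfH8 (BB JJ MaxEl)

universe u

variable {G : Type u} [Group G] {p : ℕ}

/-- `Ω₁Z(O_p(G))` -/
abbrev VG (p : ℕ) (G : Type u) [Group G] : Subgroup G := OZ p (pCore p G)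

instance VG_normal : (VG p G).Normal :=
  normal_of_top_le_normalizer ((top_le_Nm (pCore p G)).trans (Nm_le_Nm_OZ _))

/-- the quotient map to `G / C_G(V)` -/
abbrev πG (p : ℕ) (G : Type u) [Group G] : G →* G ⧸ Cz(VG p G) := QuotientGroup.mk' Cz(VG p G)

theorem πG_surj : Function.Surjective (πG p G) := QuotientGroup.mk'_surjective _

theorem πG_eq_one {x : G} : πG p G x = 1 ↔ x ∈ Cz(VG p G) := QuotientGroup.eq_one_iff _

theorem πG_eq {x y : G} : πG p G x = πG p G y ↔ x⁻¹ * y ∈ Cz(VG p G) := QuotientGroup.eq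

theorem πG_ker : (πG p G).ker = Cz(VG p G) := QuotientGroup.ker_mk' _

theorem VG_le : VG p G ≤ pCore p G := OZ_le _

theorem R_le_C : pCore p G ≤ Cz(VG p G) := le_Cz_OZ _

theorem V_le_C : VG p G ≤ Cz(VG p G) := VG_le.trans R_le_C

theorem elemAb_VG : IsElementaryAbelian p (VG p G) := elemAb_OZ _

/-- the hypotheses for the Baumann argument -/
structure BS (p : ℕ) (T M : Subgroup G) : Prop where
  syl : SylIn p T ⊤
  min : MinOver T ⊤ M
  chp : Cz(pCore p G) ≤ pCore p G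
  nz : ¬ (OZ p T).Normal
  nJ : ¬ (JJ p T).Normal

variable [Finite G] [hp : Fact p.Prime] {T M : Subgroup G}

theorem R_le_syl (hT : SylIn p T ⊤) : pCore p G ≤ T :=
  hT.le_of_le_Nm (isPGroup_pCore p G) le_top (le_Nm_normal _ _)

namespace BS

theorem le_M (h : BS p T M) {X : Subgroup G} (h1 : T ≤ X) (h2 : X ≠ ⊤) : X ≤ M :=
  (h.min.eq_or_le h1 le_top).resolve_left h2

theorem eq_top (h : BS p T M) {X : Subgroup G} (h1 : T ≤ X) (h2 : ¬ X ≤ M) : X = ⊤ :=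
  h.min.eq_of_not_le h1 le_top h2

theorem normal (h : BS p T M) {X : Subgroup G} (h1 : T ≤ Nm(X)) (h2 : ¬ Nm(X) ≤ M) : X.Normal :=
  normal_of_top_le_normalizer (h.eq_top h1 h2).ge

theorem CZ_le (h : BS p T M) : Cz(OZ p T) ≤ M :=
  h.le_M (le_Cz_OZ T) fun e => h.nz (normal_of_top_le_normalizer (e.ge.trans (Cz_le_Nm _)))

theorem Z_le (h : BS p T M) : OZ p T ≤ VG p G := OZ_le_OZ_pCore h.syl h.chp

theorem C_le (h : BS p T M) : Cz(VG p G) ≤ M := (Cz_anti h.Z_le).trans h.CZ_le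

theorem le_R (h : BS p T M) {X : Subgroup G} (h1 : IsPGroup p X) (h2 : X ≤ Cz(VG p G)) :
    X ≤ pCore p G :=
  (h.min.pCl_of_normal h.syl.pgrp h.C_le (top_le_Nm _) _ h2 h1).trans
    (pCoreOf_le_pCore_of_subnormal (Subgroup.Normal.isSubnormal inferInstance))

theorem mem_R (h : BS p T M) {X : Subgroup G} (h1 : IsPGroup p X) {x : G} (hx : x ∈ X)
    (h2 : x ∈ Cz(VG p G)) : x ∈ pCore p G :=
  h.le_R (h1.to_le (inf_le_left : X ⊓ Cz(VG p G) ≤ X)) inf_le_right (mi hx h2)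

theorem not_J_le (h : BS p T M) : ¬ JJ p T ≤ Cz(VG p G) := fun e => h.nJ (by
  rw [← CfH8.J_eq_of_J_le (h.le_R (CfH8.isPGroup_J h.syl.pgrp) e) (R_le_syl h.syl)]
  exact normal_of_top_le_normalizer ((top_le_Nm _).trans (CfH8.Nm_le_Nm_J _)))

theorem exists_maxEl (h : BS p T M) : ∃ A, MaxEl p A ⊤ ∧ ¬ A ≤ Cz(VG p G) := by
  have := h.not_J_le
  rw [CfH8.J_le_iff] at this
  push Not at this
  obtain ⟨A, h1, h2⟩ := this
  exact ⟨A, maxEl_top_of_sylIn h.syl h1, h2⟩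

theorem mem_M (h : BS p T M) {x : G} : πG p G x ∈ M.map (πG p G) ↔ x ∈ M := by
  rw [← mem_comap, comap_map_eq, πG_ker, sup_eq_left.2 h.C_le]

theorem le_M_iff (h : BS p T M) {X : Subgroup G} : X.map (πG p G) ≤ M.map (πG p G) ↔ X ≤ M := by
  rw [map_le_iff_le_comap, comap_map_eq, πG_ker, sup_eq_left.2 h.C_le]

end BS

/-- the hypotheses for the Baumann argument together with the linear data -/
structure BL (p : ℕ) (T M : Subgroup G) (W : Type u) [AddCommGroup W]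
    [DistribMulAction (G ⧸ Cz(VG p G)) W] (ι : Multiplicative W →* G) (z : W)
    (A B : Subgroup (G ⧸ Cz(VG p G))) : Prop extends BS p T M where
  br : Br (VG p G) ⊤ (mkT Cz(VG p G)) ι
  pm : PM W p (T.map (πG p G)) (M.map (πG p G)) z
  pl : PL W (T.map (πG p G)) (M.map (πG p G)) A B

theorem BS.exists_bl (h : BS p T M) : ∃ (W : Type u) (_ : AddCommGroup W)
    (_ : DistribMulAction (G ⧸ Cz(VG p G)) W) (_ : Finite W) (_ : FaithfulSMul (G ⧸ Cz(VG p G)) W)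
    (ι : Multiplicative W →* G) (z : W) (A B : Subgroup (G ⧸ Cz(VG p G))), BL p T M W ι z A B := by
  obtain ⟨W, _, _, _, _, ι, z, b, pm⟩ := exists_pm_quot elemAb_VG h.syl h.min R_le_C
    ((Cz_anti (le_inf h.Z_le (OZ_le_Cz T))).trans h.CZ_le)
  obtain ⟨A₀, h1, h2⟩ := h.exists_maxEl
  obtain ⟨D, -, rD⟩ := pm.exists_rt (b.off_maxEl pm.rs elemAb_VG h1 le_top (rl_mk _ A₀))
    (b.ne_bot (rl_mk _ A₀) h2)
  obtain ⟨A, B, l⟩ := pm.exists_pl rD
  exact ⟨W, _, _, inferInstance, inferInstance, ι, z, A, B, h, b, pm, l⟩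

namespace BL

variable {W : Type u} [AddCommGroup W] [DistribMulAction (G ⧸ Cz(VG p G)) W] [Finite W]
  [FaithfulSMul (G ⧸ Cz(VG p G)) W] {ι : Multiplicative W →* G} {z : W}
  {A B : Subgroup (G ⧸ Cz(VG p G))}

theorem ms_eq (h : BL p T M W ι z A B) (X : Subgroup G) : CfH8.ms (VG p G) X =
    lm W (X.map (πG p G)) * Nat.card (X ⊓ Cz(VG p G) : Subgroup G) := by
  rw [CfH8.ms, lm, ← h.br.card_mul (rl_mk _ X), h.br.card_fx (rl_mk _ X)]
  ring

theorem off (h : BL p T M W ι z A B) {X : Subgroup G} (hX : MaxEl p X ⊤) :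
    Off W p (X.map (πG p G)) := h.br.off_maxEl h.pm.rs elemAb_VG hX le_top (rl_mk _ X)

theorem maxEl_sub (h : BL p T M W ι z A B) {X : Subgroup G} (hX : MaxEl p X ⊤)
    {D : Subgroup (G ⧸ Cz(VG p G))} (hD : Off W p D) (h1 : D ≤ X.map (πG p G)) :
    MaxEl p ((X ⊓ D.comap (πG p G)) ⊔ (VG p G ⊓ Cz(X ⊓ D.comap (πG p G)))) ⊤ := by
  refine hX.of_ms_le le_top elemAb_VG inf_le_left (Nat.le_of_eq ?_)
  rw [h.ms_eq, h.ms_eq, map_inf_comap', inf_eq_right.2 h1, (h.off hX).eq, hD.eq, inf_assoc,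
    inf_eq_right.2 (πG_ker.ge.trans (ker_le_comap _ _))]

theorem maxEl_R (h : BL p T M W ι z A B) {X : Subgroup G} (hX : MaxEl p X ⊤) :
    MaxEl p ((X ⊓ Cz(VG p G)) ⊔ VG p G) ⊤ := by
  have := h.maxEl_sub hX off_bot bot_le
  rwa [MonoidHom.comap_bot, πG_ker, inf_eq_left.2 (le_Cz_comm inf_le_right)] at this

theorem exists_rt (h : BL p T M W ι z A B) {D : Subgroup (G ⧸ Cz(VG p G))} (hD : Rt W D) :
    ∃ X, MaxEl p X ⊤ ∧ X.map (πG p G) = D := by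
  obtain ⟨A₀, h1, h2⟩ := h.exists_maxEl
  obtain ⟨D₀, k1, k2⟩ := h.pm.exists_rt (h.off h1) (h.br.ne_bot (rl_mk _ A₀) h2)
  have k3 := h.maxEl_sub h1 (h.pm.rs.off k2) k1
  obtain ⟨g, rfl⟩ := h.pl.exists_cj h.pm hD
  obtain ⟨k, rfl⟩ := h.pl.exists_cj h.pm k2
  obtain ⟨x, hx⟩ := πG_surj (g * k⁻¹)
  refine ⟨_, cj_top x ▸ k3.cj x, ?_⟩
  rw [map_cj, hx, Subgroup.map_sup, map_inf_comap', inf_eq_right.2 k1,
    (Subgroup.map_eq_bot_iff _).2 (inf_le_left.trans (V_le_C.trans πG_ker.ge)), sup_bot_eq,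
    cj_mul, cj_inv_cj]

theorem exists_rt_T (h : BL p T M W ι z A B) {D : Subgroup (G ⧸ Cz(VG p G))} (hD : Rt W D)
    (hT : D ≤ T.map (πG p G)) : ∃ X, MaxEl p X T ∧ X.map (πG p G) = D := by
  obtain ⟨X, h1, rfl⟩ := h.exists_rt hD
  rw [map_le_iff_le_comap, comap_map_eq, πG_ker] at hT
  obtain ⟨g, hg, e⟩ := (h.syl.mono le_sup_left le_top).exists_cj_le (elemAb_isPGroup h1.el) hT
  obtain ⟨t, ht, c, hc, rfl⟩ := (mem_sup_of_le_Nm (le_Nm_normal _ _)).1 hg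
  rw [cj_mul, cj_le_iff, cj_eq_of_mem (inv_mem ht)] at e
  refine ⟨cj c X, (cj_top c ▸ h1.cj c).mono e le_top, ?_⟩
  rw [map_cj, πG_eq_one.2 hc, cj_one]

theorem rt_le_J (h : BL p T M W ι z A B) {D : Subgroup (G ⧸ Cz(VG p G))} (hD : Rt W D)
    (hT : D ≤ T.map (πG p G)) : D ≤ (JJ p T).map (πG p G) := by
  obtain ⟨X, h1, rfl⟩ := h.exists_rt_T hD hT
  exact map_mono h1.le_J

theorem A_le (h : BL p T M W ι z A B) : A ≤ (BB p T).map (πG p G) :=
  (h.rt_le_J h.pl.rA h.pl.AT).trans (map_mono (CfH8.J_le_B T))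

theorem J_map (h : BL p T M W ι z A B) : (JJ p T).map (πG p G) = jj W (T.map (πG p G)) :=
  le_antisymm (map_le_iff_le_comap.2 (CfH8.J_le_iff.2 fun _ hX => map_le_iff_le_comap.1
    (h.pl.off_le h.pm (h.off (maxEl_top_of_sylIn h.syl hX)) (map_mono hX.le))))
    (jj_le_iff.2 fun _ h1 h2 => h.rt_le_J h1 h2)

theorem Y_le (h : BL p T M W ι z A B) {X : Subgroup G} (hX : MaxEl p X ⊤) :
    OZ p (JJ p T) ≤ (X ⊓ Cz(VG p G)) ⊔ VG p G :=
  ((h.maxEl_R hX).mono ((h.le_R (elemAb_isPGroup (h.maxEl_R hX).el)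
    (sup_le inf_le_right V_le_C)).trans (R_le_syl h.syl)) le_top).OZ_J_le

theorem Y_le_R (h : BL p T M W ι z A B) : OZ p (JJ p T) ≤ pCore p G := by
  obtain ⟨X, hX, -⟩ := h.exists_maxEl
  exact h.le_R (elemAb_isPGroup (elemAb_OZ _)) ((h.Y_le hX).trans (sup_le inf_le_right V_le_C))

theorem maxEl_le_Nm (h : BL p T M W ι z A B) {X : Subgroup G} (hX : MaxEl p X ⊤) :
    X ≤ Nm(OZ p (JJ p T) ⊔ VG p G) :=
  le_Nm_sup_of_comm_le (le_Nm_normal _ _) (((commutator_mono (h.Y_le hX) le_rfl).trans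
    (commutator_sup_left_le (le_Nm_normal _ _) (le_Nm_normal _ _)
      ((comm_eq_bot_left.2 (inf_le_left.trans (elemAb_le_Cz hX.el))).le.trans bot_le)
      (comm_le_left (le_Nm_normal _ _)))).trans le_sup_right)

theorem not_le_M (h : BL p T M W ι z A B) {X : Subgroup G} (e : X.map (πG p G) = B) : ¬ X ≤ M :=
  fun e' => h.pl.nM (e ▸ map_mono e')

theorem nU (h : BL p T M W ι z A B) : (OZ p (JJ p T) ⊔ VG p G).Normal := by
  obtain ⟨X, h1, h2⟩ := h.exists_rt h.pl.rB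
  exact h.normal (le_normalizer_sup ((CfH8.le_Nm_J T).trans (Nm_le_Nm_OZ _)) (le_Nm_normal _ _))
    fun e => h.not_le_M h2 ((h.maxEl_le_Nm h1).trans e)

theorem B1_eq (h : BL p T M W ι z A B) :
    BB p T ⊓ pCore p G = pCore p G ⊓ Cz(OZ p (JJ p T) ⊔ VG p G) := by
  rw [Cz_sup]
  exact le_antisymm (le_inf inf_le_right (le_inf (inf_le_left.trans (CfH8.B_le_Cz T))
    (inf_le_right.trans R_le_C))) (le_inf (le_inf (inf_le_left.trans (R_le_syl h.syl))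
      (inf_le_right.trans inf_le_left)) inf_le_left)

theorem nB1 (h : BL p T M W ι z A B) : (BB p T ⊓ pCore p G).Normal := by
  haveI := h.nU
  rw [h.B1_eq]
  infer_instance

theorem U_le (h : BL p T M W ι z A B) : OZ p (JJ p T) ⊔ VG p G ≤ BB p T ⊓ pCore p G := by
  rw [h.B1_eq, Cz_sup]
  exact sup_le (le_inf h.Y_le_R (le_inf (elemAb_le_Cz (elemAb_OZ _)) (h.Y_le_R.trans R_le_C)))
    (le_inf VG_le (le_inf (le_Cz_comm (h.Y_le_R.trans R_le_C)) V_le_C))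

theorem cz_B1 (h : BL p T M W ι z A B) :
    pCore p G ⊓ Cz(BB p T ⊓ pCore p G) ≤ BB p T ⊓ pCore p G := by
  conv_rhs => rw [h.B1_eq]
  exact inf_le_inf_left _ (Cz_anti h.U_le)

theorem iota_mem_Y (h : BL p T M W ι z A B) {w : W} (hw : w ∈ fx W (jj W (T.map (πG p G)))) :
    ι (.ofAdd w) ∈ OZ p (JJ p T) := by
  rw [← h.J_map, h.br.mem_fx_iff (rl_mk _ _)] at hw
  exact CfH8.le_OZ_J (X := VG p G ⊓ Cz(JJ p T)) (inf_le_left.trans (VG_le.trans (R_le_syl h.syl)))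
    (elemAb_of_le inf_le_left elemAb_VG) inf_le_right (mi (h.br.mem w) hw)

theorem cm_le_fx (h : BL p T M W ι z A B) : cm W A ≤ fx W (jj W (T.map (πG p G))) :=
  (cm_mono (le_jj h.pl.rA h.pl.AT)).trans (h.pm.rs.cm_jj h.pm.syl.pgrp)

theorem B_fix (h : BL p T M W ι z A B) {b : G ⧸ Cz(VG p G)} (hb : b ∈ (BB p T).map (πG p G))
    {w : W} (hw : w ∈ fx W (jj W (T.map (πG p G)))) : b • w = w :=
  (h.br.mem_fx_iff (rl_mk _ (BB p T))).2 (le_Cz_comm (CfH8.B_le_Cz T) (h.iota_mem_Y hw)) b hb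

theorem H_inf (h : BL p T M W ι z A B) {X : Subgroup G} (hX : MaxEl p X ⊤)
    (e : X.map (πG p G) = B) : (BB p T ⊔ X) ⊓ pCore p G ≤ BB p T := by
  have k : OZ p (JJ p T) ≤ (OZ p (JJ p T) ⊓ Cz(X)) ⊔ VG p G := fun y hy => by
    obtain ⟨u, hu, v, hv, rfl⟩ := (mem_sup_of_le_Nm (le_Nm_normal _ _)).1 (h.Y_le hX hy)
    obtain ⟨w, rfl⟩ := h.br.ex hv
    obtain ⟨w₁, h1, w₂, h2, rfl⟩ := AddSubgroup.mem_sup.1 (show w ∈ fx W B ⊔ cm W A from
      h.pl.o.cm_sup h.pl.rA h.pl.rB h.pl.card.le ▸ trivial)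
    rw [ofAdd_add, map_mul, ← mul_assoc] at hy ⊢
    refine mul_mem (mem_sup_left (mi ?_ (mul_mem (elemAb_le_Cz hX.el hu.1) ?_)))
      (mem_sup_right (h.br.mem _))
    · exact (mul_mem_cancel_right (h.iota_mem_Y (h.cm_le_fx h2))).1 hy
    · rwa [← e, h.br.mem_fx_iff (rl_mk _ X)] at h1
  refine le_trans ?_ (h.B1_eq.ge.trans inf_le_left)
  rw [Cz_sup]
  refine le_inf inf_le_right (le_inf (le_trans ?_ (Cz_anti k)) (inf_le_right.trans R_le_C))
  rw [Cz_sup]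
  exact le_inf (inf_le_left.trans (sup_le ((CfH8.B_le_Cz T).trans (Cz_anti inf_le_left))
    (le_Cz_comm inf_le_right))) (inf_le_right.trans R_le_C)

end BL

end CfH7
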