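import Cfsg.Agent.OD.Pre
import Cfsg.Agent.H7.Bau2

/-! The Baumann argument: the Baumann subgroup is Sylow in a subgroup of `SL₂`-type. -/

set_option autoImplicit false
set_option linter.unusedSectionVars false

open Cfsg Subgroup CfH9 Matrix
open scoped commutatorElement MatrixGroups

namespace CfH7

open CfH8 (BB JJ MaxEl)
open CfLp (PU NoChar)

universe u

variable {G : Type u} [Group G] {p : ℕ} [Finite G] [hp : Fact p.Prime] {T M : Subgroup G}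

theorem pu_of_sl {F : Type} [Field F] [Fintype F] {n : ℕ} (hF : Fintype.card F = p ^ n)
    {S L M : Subgroup G} (hS : SylIn p S L) (hc : L ⊓ Cz(pCoreOf p L) ≤ pCoreOf p L)
    (hu : UMax S L M) (τ : L →* SL(2, F)) (hτ : Function.Surjective τ) :
    PU p (p ^ n) L S (pCoreOf p L) M := by
  have hu' : UMax (S.subgroupOf L) ⊤ (M.subgroupOf L) := (UMax.map_iff L.subtype_injective).1 (by
    rwa [map_subtype_top, map_subgroupOf_eq_of_le hS.le, map_subgroupOf_eq_of_le hu.lt.le])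
  have hπ : Function.Surjective ((QuotientGroup.mk' (center SL(2, F))).comp τ) :=
    (QuotientGroup.mk'_surjective _).comp hτ
  obtain ⟨M₀, k⟩ := CfLp.exists_pu hF hS.subgroupOf_top (fun x hx => by
    obtain ⟨y, hy, e⟩ := hc (mi x.2 (show (x : G) ∈ Cz(pCoreOf p L) from by
      rintro _ ⟨z, hz, rfl⟩
      exact congrArg Subtype.val (hx z hz)))
    rwa [← Subtype.ext e]) (existsUnique_coatom_iff.2 ⟨_, hu'⟩) _
    ⟨QuotientGroup.quotientKerEquivOfSurjective _ hπ⟩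
  have e : M₀ = M.subgroupOf L := by
    obtain ⟨g, -, hg⟩ := k.ex
    exact le_antisymm (hu'.max _ k.SM (lt_top_iff_ne_top.2 fun e => hg (e.ge trivial)))
      ((k.max _ hu'.le le_top).resolve_right hu'.lt.ne)
  have k' := k.map L.subtype_injective
  rwa [e, map_subtype_top, map_subgroupOf_eq_of_le hS.le, map_subgroupOf_eq_of_le hu.lt.le] at k'

theorem exists_umax {B H M : Subgroup G} (h1 : B ≤ H) (h2 : B ≤ M) (h3 : ¬ H ≤ M) :
    ∃ L, L ≤ H ∧ ¬ L ≤ M ∧ UMax B L (L ⊓ M) := by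
  obtain ⟨L, ⟨k1, k2⟩, k3, k4⟩ : ∃ L, (B ≤ L ∧ ¬ L ≤ M) ∧ L ≤ H ∧
      ∀ X, B ≤ X ∧ ¬ X ≤ M → X ≤ L → L ≤ X := by
    obtain ⟨L, k1, k2⟩ := exists_minimal_le_of_wellFoundedLT
      (fun X : Subgroup G => B ≤ X ∧ ¬ X ≤ M) H ⟨h1, h3⟩
    exact ⟨L, k2.prop, k1, fun X hX e => k2.le_of_le hX e⟩
  refine ⟨L, k3, k2, le_inf k1 h2, lt_of_le_of_ne inf_le_left fun e => k2 (inf_eq_left.1 e),
    fun X hX e => le_inf e.le ?_⟩
  by_contra e'
  exact e.not_ge (k4 X ⟨hX, e'⟩ e.le)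

theorem BS.noChar (h : BS p T M) {L : Subgroup G} (hL : ¬ L ≤ M)
    (hn : ∀ X : Subgroup (BB p T), X ≠ ⊥ → X.Characteristic → ¬ (X.map (BB p T).subtype).Normal) :
    NoChar L (BB p T) := fun X h1 h2 e =>
  hn X h1 h2 (h.normal (le_normalizer.trans ((CfH8.Nm_le_Nm_B T).trans (Nm_le_Nm_char X))) fun e' => hL (e.trans e'))

/-- the part of the image of the Baumann subgroup centralizing `A ⊔ B` -/
abbrev DD (p : ℕ) (T : Subgroup G) (L : Subgroup (G ⧸ Cz(VG p G))) : Subgroup (G ⧸ Cz(VG p G)) :=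
  (BB p T).map (πG p G) ⊓ Cz(L)

namespace BL

variable {W : Type u} [AddCommGroup W] [DistribMulAction (G ⧸ Cz(VG p G)) W] [Finite W]
  [FaithfulSMul (G ⧸ Cz(VG p G)) W] {ι : Multiplicative W →* G} {z : W}
  {A B : Subgroup (G ⧸ Cz(VG p G))}

theorem Cz_B1 (h : BL p T M W ι z A B) : Cz(BB p T ⊓ pCore p G) ≤ BB p T ⊓ pCore p G := by
  haveI := h.nB1
  have k := (pResidualOf_le_Cz_of_le' (P := pCore p G) (A := Cz(BB p T ⊓ pCore p G))
    (isPGroup_pCore p G) (le_Nm_normal _ _)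
    (((commutator_mono le_rfl (pResidualOf_le _)).trans (commutator_le_inf _ _)).trans h.cz_B1)
    (pResidualOf_le _)).trans h.chp
  exact (le_inf (le_pCore inferInstance (isPGroup_of_pResidualOf_le
    (isPGroup_pCore p G) k)) le_rfl).trans h.cz_B1

theorem split (h : BL p T M W ι z A B) {b : G ⧸ Cz(VG p G)} (hb : b ∈ (BB p T).map (πG p G)) :
    ∃ a ∈ A, a⁻¹ * b ∈ Cz(A ⊔ B) ∧ ∀ w : W, (a⁻¹ * b) • w - w ∈ fx W (A ⊔ B) :=
  h.pl.split h.pm (map_mono (CfH8.B_le T) hb) fun _ hw => h.B_fix hb (h.cm_le_fx hw)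

theorem D_triv (h : BL p T M W ι z A B) {d : G ⧸ Cz(VG p G)} (hd : d ∈ DD p T (A ⊔ B)) (w : W) :
    d • w - w ∈ fx W (A ⊔ B) := by
  obtain ⟨a, ha, h1, h2⟩ := h.split hd.1
  have := (h.pl.rd h.pm).del A B h.pl.rA h.pl.rB (h.pl.not_comm h.pm) a ha
    (Cz_le_Nm _ (Cz_anti le_sup_right (inv_mem_iff.1 ((Subgroup.mul_mem_cancel_right _ hd.2).1 h1))))
  rw [this, inv_one, one_mul] at h2
  exact h2 w

theorem B_eq (h : BL p T M W ι z A B) : (BB p T).map (πG p G) = A ⊔ DD p T (A ⊔ B) :=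
  le_antisymm (fun b hb => by
    obtain ⟨a, ha, h1, -⟩ := h.split hb
    rw [← mul_inv_cancel_left a b]
    exact mul_mem (mem_sup_left ha) (mem_sup_right (mi (mul_mem (inv_mem (h.A_le ha)) hb) h1)))
    (sup_le h.A_le inf_le_left)

theorem mem_LD {L : Subgroup (G ⧸ Cz(VG p G))} {x : G ⧸ Cz(VG p G)} (hx : x ∈ L ⊔ DD p T L) :
    ∃ l ∈ L, ∃ d ∈ DD p T L, l * d = x :=
  (mem_sup_of_le_Nm' (inf_le_right.trans (Cz_le_Nm _))).1 hx

theorem H_map (h : BL p T M W ι z A B) {X : Subgroup G} (e : X.map (πG p G) = B) :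
    (BB p T ⊔ X).map (πG p G) = (A ⊔ B) ⊔ DD p T (A ⊔ B) := by
  rw [Subgroup.map_sup, e, h.B_eq, sup_right_comm]

theorem sylB (h : BL p T M W ι z A B) {X : Subgroup G} (hX : MaxEl p X ⊤)
    (e : X.map (πG p G) = B) : SylIn p (BB p T) (BB p T ⊔ X) := by
  refine ⟨le_sup_left, h.syl.pgrp.to_le (CfH8.B_le T), fun Q hQ h1 h2 s hs => ?_⟩
  obtain ⟨l, hl, d, hd, e'⟩ := mem_LD ((h.H_map e).le (mem_map_of_mem _ (h1 hs)))
  have k : l ∈ A := ((h.pl.rd h.pm).sylIn h.pl.rA h.pl.rB (h.pl.not_comm h.pm)).max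
    (Q.map (πG p G) ⊓ (A ⊔ B)) (hQ.map _).to_inf_left inf_le_right
    (le_inf (h.A_le.trans (map_mono h2)) le_sup_left) (mi (by
      rw [← mul_mem_cancel_right (map_mono h2 hd.1), e']
      exact mem_map_of_mem _ hs) hl)
  obtain ⟨b, hb, e''⟩ := mul_mem (h.A_le k) hd.1
  rw [e', πG_eq] at e''
  rw [← mul_inv_cancel_left b s]
  exact mul_mem hb (h.H_inf hX e (mi (h1 (mul_mem (inv_mem (h2 hb)) hs))
    (h.mem_R hQ (mul_mem (inv_mem (h2 hb)) hs) e'')))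

theorem L_le (h : BL p T M W ι z A B) {L : Subgroup G} (h1 : BB p T ≤ L) (h2 : ¬ L ≤ M)
    (h3 : L.map (πG p G) ≤ (A ⊔ B) ⊔ DD p T (A ⊔ B)) : A ⊔ B ≤ L.map (πG p G) := by
  obtain ⟨x, hx, hxM⟩ := SetLike.not_le_iff_exists.1 h2
  obtain ⟨l, hl, d, hd, e⟩ := mem_LD (h3 (mem_map_of_mem _ hx))
  have k1 : l ∈ L.map (πG p G) := by
    rw [← mul_mem_cancel_right (map_mono h1 hd.1), e]
    exact mem_map_of_mem _ hx
  have k2 : cj l A ≠ A := fun e' => hxM (h.mem_M.1 (by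
    rw [← e]
    exact mul_mem (h.pl.borel_le h.pm (mi hl (mem_normalizer_iff_cj.2 e')))
      (map_mono ((CfH8.B_le T).trans h.min.le) hd.1)))
  rw [← (h.pl.rd h.pm).sup_eq_sup h.pl.rA h.pl.rB (h.pl.not_comm h.pm) (h.pl.rA.cj l)
    (cj_le_of_mem le_sup_left hl) k2]
  exact sup_le (h.A_le.trans (map_mono h1)) (cj_le_of_mem (h.A_le.trans (map_mono h1)) k1)

theorem exists_pu (h : BL p T M W ι z A B) :
    ∃ L₀, PU p (Nat.card A) L₀ (BB p T) (pCoreOf p L₀) (L₀ ⊓ M) ∧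
      L₀.map (πG p G) = (A ⊔ B) ⊔ DD p T (A ⊔ B) := by
  obtain ⟨X, hX, e⟩ := h.exists_rt h.pl.rB
  obtain ⟨L, k1, k2, k3⟩ := exists_umax (le_sup_left : BB p T ≤ BB p T ⊔ X)
    ((CfH8.B_le T).trans h.min.le) fun e' => h.not_le_M e (le_sup_right.trans e')
  have k4 := (map_mono (f := πG p G) k1).trans (h.H_map e).le
  have k5 := h.L_le k3.le' k2 k4
  obtain ⟨F, _, _, hF, n, -, hn⟩ := exists_field_card (h.pm.syl.pgrp.to_le h.pl.AT) h.pl.rA.ne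
  obtain ⟨ρ, ψ, d, -⟩ := h.pl.nat F hF
  obtain ⟨σ, hσ⟩ := d.extend (fun _ hd w => h.D_triv hd w) k4
  haveI := h.nB1
  have k6 : BB p T ⊓ pCore p G ≤ pCoreOf p L := le_pCoreOf (inf_le_left.trans k3.le')
    (le_Nm_normal _ _) (isPGroup_pCore p G).to_inf_right
  refine ⟨L, ?_, le_antisymm k4 (sup_le k5 (inf_le_left.trans (map_mono k3.le')))⟩
  rw [← hF, hn]
  refine pu_of_sl hn ((h.sylB hX e).mono k3.le' k1)
    (inf_le_right.trans ((Cz_anti k6).trans (h.Cz_B1.trans k6))) k3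
    (σ.comp ((πG p G).subgroupMap L)) fun g => ?_
  obtain ⟨l, rfl⟩ := d.surj g
  obtain ⟨x, hx, e'⟩ := k5 l.2
  refine ⟨⟨x, hx⟩, sl_ext fun v => ?_⟩
  obtain ⟨w, rfl⟩ := d.surjψ v
  rw [← d.eqv, ← e']
  exact (hσ _ w).symm

end BL

theorem BS.exists_pu (h : BS p T M) :
    ∃ q L₀, PU p q L₀ (BB p T) (pCoreOf p L₀) (L₀ ⊓ M) ∧ (BB p T ⊓ pCore p G).Normal ∧
      Cz(BB p T ⊓ pCore p G) ≤ BB p T ⊓ pCore p G := by
  obtain ⟨W, _, _, _, _, ι, z, A, B, l⟩ := h.exists_bl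
  obtain ⟨L, k, -⟩ := l.exists_pu
  exact ⟨_, L, k, l.nB1, l.Cz_B1⟩

end CfH7
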