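import Cfsg.Agent.OD.Pre
import Cfsg.Agent.H7.Bau3

/-! Twins of `Z(O₂(L))` in the pushing-up configuration for `p = 2`. -/

set_option autoImplicit false
set_option linter.unusedSectionVars false

open Cfsg Subgroup CfH9 Matrix
open scoped commutatorElement MatrixGroups

namespace CfH7

open CfH8 (BB JJ MaxEl)
open CfLp

variable {G : Type*} [Group G] {G' : Type*} [Group G'] {p q : ℕ}

theorem map_OZ_inj {f : G →* G'} (hf : Function.Injective f) (P : Subgroup G) :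
    (OZ p P).map f = OZ p (P.map f) := by
  rw [OZ, map_omegaOne_of_injective _ hf, map_inf_Cz hf]

theorem map_B_inj {f : G →* G'} (hf : Function.Injective f) (P : Subgroup G) :
    (BB p P).map f = BB p (P.map f) := by
  rw [CfH8.BB_def, CfH8.BB_def, map_inf_Cz hf, map_OZ_inj hf, CfH8.map_J_of_injective _ hf]

theorem char_inv [Finite G] {B : Subgroup G} (g : B →* G) (hg : Function.Injective g)
    (hr : ∀ x, g x ∈ B) (X : Subgroup B) [hX : X.Characteristic] {x : B} (hx : x ∈ X) :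
    g x ∈ X.map B.subtype := by
  have k : Function.Injective (g.codRestrict B hr) := fun a b e => hg (congrArg Subtype.val e)
  exact ⟨g.codRestrict B hr x, (characteristic_iff_map_eq.1 hX
    (MulEquiv.ofBijective _ (Finite.injective_iff_bijective.1 k))).le ⟨x, hx, rfl⟩, rfl⟩

theorem CS.typeI [Finite G] {L B T M : Subgroup G} (h : CS 2 q L B T M) (hg : Good 2 L B T) :
    Lc 2 L T ≤ Zc(T) := hg.resolve_right fun ⟨_, h2⟩ => by
  obtain ⟨d, rfl, -, rfl⟩ := h.exists_pd h2.hA h2.hT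
  exact d.II_ne_two h2 rfl

/-- the properties of `Z(O₂(L))` inside the Sylow subgroup `B` -/
structure Tw (q : ℕ) (B Z : Subgroup G) : Prop where
  le : Z ≤ B
  zb : Zc(B) ≤ Z
  c1 : Nat.card Z = q * Nat.card (Zc(B) : Subgroup G)
  c2 : Nat.card B = q * Nat.card (B ⊓ Cz(Z) : Subgroup G)
  sq : ∀ z ∈ Z, z ^ 2 = 1
  ti : ∀ X : Subgroup G, X ≤ B → ¬ X ≤ Cz(Z) → Z ⊓ Cz(X) ≤ Zc(B)

theorem le_Cz_map_iff {f : G →* G'} (hf : Function.Injective f) {X Z : Subgroup G} :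
    X.map f ≤ Cz(Z.map f) ↔ X ≤ Cz(Z) := by
  rw [← inf_eq_left, ← map_inf_Cz hf, (Subgroup.map_injective hf).eq_iff, inf_eq_left]

theorem tw_map_iff {f : G →* G'} (hf : Function.Injective f) {B Z : Subgroup G} :
    Tw q (B.map f) (Z.map f) ↔ Tw q B Z := by
  constructor
  · intro h
    have c1 := h.c1
    have c2 := h.c2
    rw [← map_inf_Cz hf, card_map_of_injective hf, card_map_of_injective hf] at c1 c2
    refine ⟨(map_le_map_iff_of_injective hf).1 h.le, (map_le_map_iff_of_injective hf).1 ?_, c1, c2,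
      fun z hz => hf ?_, fun X h1 h2 => (map_le_map_iff_of_injective hf).1 ?_⟩
    · rw [map_inf_Cz hf]; exact h.zb
    · rw [map_pow, map_one]; exact h.sq _ (mem_map_of_mem f hz)
    · rw [map_inf_Cz hf, map_inf_Cz hf]
      exact h.ti _ (map_mono h1) fun e => h2 ((le_Cz_map_iff hf).1 e)
  · intro h
    refine ⟨map_mono h.le, ?_, ?_, ?_, ?_, fun X h1 h2 => ?_⟩
    · rw [← map_inf_Cz hf]; exact map_mono h.zb
    · rw [← map_inf_Cz hf, card_map_of_injective hf, card_map_of_injective hf, h.c1]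
    · rw [← map_inf_Cz hf, card_map_of_injective hf, card_map_of_injective hf, h.c2]
    · rintro _ ⟨z, hz, rfl⟩
      rw [← map_pow, h.sq z hz, map_one]
    · obtain ⟨Y, rfl⟩ : ∃ Y : Subgroup G, Y.map f = X := ⟨_, eq_map_comap h1⟩
      rw [← map_inf_Cz hf, ← map_inf_Cz hf]
      exact map_mono (h.ti _ ((map_le_map_iff_of_injective hf).1 h1)
        fun e => h2 ((le_Cz_map_iff hf).2 e))

variable [Finite G] {L B T M Z Z' : Subgroup G}

theorem CS.tw (h : CS 2 q L B T M) : Tw q B Zc(T) :=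
  ⟨h.Z_le_S, h.ZS_le_Z, h.card_Z, by rw [h.S_inf_CzZ h.nc, h.card], fun _ hz => h.elemZ hz,
    fun _ h1 h2 => (h.Z_inf_Cz h1 fun e => h2 (e.trans (le_Cz_comm inf_le_right))).le⟩

theorem Tw.dec (t : Tw q B Z) (t' : Tw q B Z') (h2 : ⁅B, B⁆ ≤ Zc(B)) (hn : ¬ Z ≤ Cz(Z')) {b : G}
    (hb : b ∈ B) : ∃ v ∈ Z', ∃ c ∈ B ⊓ Cz(Z), v * c = b := by
  have k1 : Z' ≤ Nm(B ⊓ Cz(Z)) := t'.le.trans (le_normalizer_inf le_normalizer
    ((le_Nm_of_comm_le t.le (h2.trans t.zb)).trans (Nm_le_Nm_Cz _)))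
  have k2 := card_sup_mul_card_inf k1
  have k3 : Z' ⊓ (B ⊓ Cz(Z)) = Zc(B) := le_antisymm
    ((inf_le_inf_left _ inf_le_right).trans (t'.ti Z t.le hn))
    (le_inf t'.zb (inf_le_inf_left _ (Cz_anti t.le)))
  rw [k3, t'.c1, mul_right_comm, ← t.c2] at k2
  rw [← eq_of_le_of_card_ge (sup_le t'.le inf_le_left)
    (Nat.eq_of_mul_eq_mul_right Nat.card_pos k2).ge] at hb
  exact (mem_sup_of_le_Nm k1).1 hb

theorem Tw.comm (t : Tw q B Z) (t' : Tw q B Z') (h2 : ⁅B, B⁆ ≤ Zc(B)) (hn : ¬ Z' ≤ Cz(Z)) {v x : G}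
    (hv : v ∈ Z') (hx : x ∈ B) : ∃ z ∈ Z, ⁅v, x⁆ = ⁅v, z⁆ := by
  obtain ⟨z, hz, c, hc, rfl⟩ := t'.dec t h2 hn hx
  exact ⟨z, hz, by rw [comm_mul_right, comm_eq_one' hc.2 hv, mul_one, mul_inv_cancel, mul_one]⟩

theorem CS.twin_le (h : CS 2 q L B T M) (hI : Lc 2 L T ≤ Zc(T)) (h2 : ⁅B, B⁆ ≤ Zc(B))
    (t : Tw q B Z) (t' : Tw q B Z') (n : ¬ Z ≤ Cz(Zc(T))) (n' : ¬ Z' ≤ Cz(Zc(T))) : Z' ≤ Z := by
  intro y' hy'
  have t0 := CS.tw h
  obtain ⟨v, hv, y, hy, rfl⟩ := t0.dec t h2 (fun e => n (le_Cz_comm e)) (t'.le hy')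
  rw [h.S_inf_CzZ h.nc] at hy
  by_cases hvT : v ∈ T
  · exact t.zb (t'.ti _ t0.le (fun e => n' (le_Cz_comm e))
      (mi hy' (le_Cz_comm inf_le_right (mul_mem hvT hy))))
  have k : y ∈ Zc(T) := mi hy (mem_Cz_of_comm fun x hx => by
    obtain ⟨z, hz, e⟩ := t0.comm t h2 n hv (h.TS hx)
    obtain ⟨z', hz', e'⟩ := t0.comm t' h2 n' hy' (h.TS hx)
    have c := h2 (commutator_mem_commutator (h.TS hy) (h.TS hx))
    rw [comm_mul_left, comm_mul_left, comm_eq_one' hz'.2 hy, conj_eq_self (cz_comm c.2 (t.le hv)).symm,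
      mul_one, mul_inv_cancel, one_mul, e, ← mul_inv_cancel_right z' z⁻¹, inv_inv,
      h.comm_mulZ (h.SG (t.le hv)) (mul_mem hz'.1 (inv_mem hz.1)) hz, mul_left_inj] at e'
    have k1 := h.mem_ZS_of_comm (mul_mem hz' (inv_mem hz)) (t.le hv) hvT (e' ▸ h.mem_Zg
      (h.ZS_le_Z c) (h.TT_le (h.I_LT hI) (commutator_mem_commutator hy hx)))
    rw [e', comm_eq_one' k1.2 (t.le hv)])
  refine mul_mem hv (t.zb (h.mem_ZS_of_commute k (t.le hv) hvT ?_))
  have e1 := t.sq v hv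
  have e2 := t0.sq y k
  have e3 := t'.sq _ hy'
  rw [sq, mul_eq_one_iff_eq_inv] at e1 e2
  rw [commutatorElement_def, ← e1, ← e2, mul_assoc, ← sq, e3]

end CfH7
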