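import Cfsg.Agent.OD.Pre
import Cfsg.Agent.H7.Blk2

/-! Abstract model of the module of a block; the symmetric model. -/

set_option autoImplicit false
set_option linter.unusedSectionVars false

open Cfsg Subgroup CfH9 Matrix
open scoped commutatorElement MatrixGroups

namespace CfH7

/-- abstract properties of the natural module of `S = SL₂(q)` or `S = Sym(2m+1)` -/
structure Mdl {P Z : Type*} [Group P] [AddCommGroup Z] [DistribMulAction P Z] (p : ℕ)
    (Y : AddSubgroup Z) (S' S : Subgroup P) : Prop where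
  rs : RS P Z p
  sup : fx Z (⊤ : Subgroup P) ⊔ Y = ⊤
  nS' : S'.Normal
  nS : S.Normal
  le : S' ≤ S
  gen : ∀ A : Subgroup P, Off Z p A → A ≤ jj Z A
  rt : ∀ A : Subgroup P, Rt Z A → A ≤ S ∧ S ≤ S' ⊔ A
  res : pResidualOf p S ≤ S'
  fix : ∀ A : Subgroup P, Off Z p A → ∀ g : P, IsPGroup p (zpowers g) →
    (∀ w ∈ fx Z A, g • w = w) → g ∈ A

section Perm

variable {n : ℕ}

/-- unit vector -/
def ev (a : Fin n) : PV n := fun i => if i = a then 1 else 0

theorem ev_apply (a i : Fin n) : ev a i = if i = a then 1 else 0 := rfl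

theorem ev_self (a : Fin n) : ev a a = 1 := if_pos rfl

theorem ev_ne {a i : Fin n} (h : i ≠ a) : ev a i = 0 := if_neg h

theorem smul_ev (σ : Equiv.Perm (Fin n)) (a : Fin n) : σ • ev a = ev (σ a) := by
  funext i
  simp only [pv_smul, ev_apply, Equiv.Perm.inv_eq_iff_eq]

theorem pv_sub (v w : PV n) (i : Fin n) : (v - w) i = v i - w i := rfl

theorem ev_inj {a b : Fin n} (h : ev a = ev b) : a = b := by
  by_contra e
  have := congrFun h a
  rw [ev_self, ev_ne e] at this
  exact absurd this (by decide)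

theorem fx_apply {A : Subgroup (Equiv.Perm (Fin n))} {v : PV n} (hv : v ∈ fx (PV n) A)
    {a : Equiv.Perm (Fin n)} (ha : a ∈ A) (i : Fin n) : v (a i) = v i := by
  conv_lhs => rw [← hv a ha]
  rw [pv_smul, ← Equiv.Perm.mul_apply, inv_mul_cancel, Equiv.Perm.one_apply]

instance : FaithfulSMul (Equiv.Perm (Fin n)) (PV n) :=
  ⟨fun {σ τ} h => Equiv.ext fun i => ev_inj (by rw [← smul_ev, ← smul_ev, h])⟩

theorem pv_two (w : PV n) : 2 • w = 0 := funext fun i => by
  change 2 • w i = 0
  rw [two_smul, CharTwo.add_self_eq_zero]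

theorem mem_of_swaps {K : Subgroup (Equiv.Perm (Fin n))} {g : Equiv.Perm (Fin n)}
    (h : ∀ i, g i ≠ i → Equiv.swap i (g i) ∈ K) : g ∈ K := by
  refine (closure_le (k := {f : Equiv.Perm (Fin n) | f.IsSwap ∧ f ∈ K}) K).2 (fun f hf => hf.2)
    ((mem_closure_isSwap fun f hf => hf.1).2 ⟨Set.toFinite _, fun i => ?_⟩)
  by_cases e : g i = i
  · rw [e]; exact MulAction.mem_orbit_self _
  · exact ⟨⟨Equiv.swap i (g i), subset_closure ⟨⟨_, _, Ne.symm e, rfl⟩, h i e⟩⟩,
      Equiv.swap_apply_left _ _⟩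

theorem perm_step {A : Subgroup (Equiv.Perm (Fin n))} (hA : IsMulCommutative A) {x : Fin n}
    {b : Equiv.Perm (Fin n)} (hb : b ∈ A) (hx : b x ≠ x) :
    lm (PV n) A ≤ lm (PV n) (A ⊓ MulAction.stabilizer _ x) ∧
    (lm (PV n) (A ⊓ MulAction.stabilizer _ x) ≤ lm (PV n) A →
      (∀ a ∈ A, a x = x ∨ a x = b x) ∧
      ∀ v ∈ fx (PV n) (A ⊓ MulAction.stabilizer _ x), v ∈ fx (PV n) A ∨ v - ev x ∈ fx (PV n) A) := by
  set B := A ⊓ MulAction.stabilizer (Equiv.Perm (Fin n)) x with hB
  set r := (fx (PV n) A).relIndex (fx (PV n) B) with hr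
  set O := MulAction.orbit A x with hO
  have c1 : Nat.card A = Nat.card O * Nat.card B := by
    rw [← relIndex_mul_card (show B ≤ A from inf_le_left), hB, inf_relIndex_left]
    congr 1
    exact MulAction.index_stabilizer A x
  have c2 : Nat.card (fx (PV n) A) * r = Nat.card (fx (PV n) B) :=
    add_card_mul_relIndex (fx_anti inf_le_left)
  have m1 : ∀ y ∈ O, ev y ∈ fx (PV n) B := by
    rintro _ ⟨a, rfl⟩ c hc
    rw [smul_ev]
    congr 1
    change c (a.1 x) = a.1 x
    rw [← Equiv.Perm.mul_apply, comm_iff.1 hA c hc.1 a a.2, Equiv.Perm.mul_apply]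
    exact congrArg a.1 hc.2
  have xO : x ∈ O := MulAction.mem_orbit_self x
  have tr : ∀ y ∈ O, ∀ z ∈ O, ∀ v ∈ fx (PV n) A, v y = v z := by
    rintro _ ⟨a, rfl⟩ _ ⟨a', rfl⟩ v hv
    exact (fx_apply hv a.2 x).trans (fx_apply hv a'.2 x).symm
  have bO : b x ∈ O := ⟨⟨b, hb⟩, rfl⟩
  have m2 : ∀ y ∈ O, ev y ∉ fx (PV n) A := fun y hy e => by
    have e1 := tr y hy x xO _ e
    have e2 := tr y hy _ bO _ e
    rw [ev_self] at e1 e2
    by_cases h : x = y
    · rw [ev_ne (h ▸ hx)] at e2; exact absurd e2 (by decide)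
    · rw [ev_ne h] at e1; exact absurd e1 (by decide)
  have pA : 0 < Nat.card (fx (PV n) A) := Nat.card_pos
  have pB : 0 < Nat.card B := Nat.card_pos
  have key : Nat.card O < r ∨ (Nat.card O ≤ 2 ∧ ∀ a ∈ A, a x = x ∨ a x = b x) := by
    by_cases h3 : ∀ a ∈ A, a x = x ∨ a x = b x
    · refine Or.inr ⟨?_, h3⟩
      rw [Nat.card_coe_set_eq, ← Set.ncard_pair hx.symm]
      exact Set.ncard_le_ncard (by rintro _ ⟨a, rfl⟩; exact h3 a a.2) (Set.toFinite _)
    push Not at h3
    obtain ⟨a, ha, a1, a2⟩ := h3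
    have aO : a x ∈ O := ⟨⟨a, ha⟩, rfl⟩
    left
    have := card_le_relIndex (X := fx (PV n) A) (Y := fx (PV n) B)
      (fun o : Option O => o.elim 0 fun y => ev y.1)
      (by rintro (_ | y); exacts [zero_mem _, m1 _ y.2]) (by
        rintro (_ | y) (_ | y') e
        · rfl
        · exact absurd (by simpa using neg_mem e) (m2 _ y'.2)
        · exact absurd (by simpa using e) (m2 _ y.2)
        · by_contra e'
          have ne : y.1 ≠ y'.1 := fun e'' => e' (congrArg some (Subtype.ext e''))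
          obtain ⟨z, hz, z1, z2⟩ : ∃ z ∈ O, z ≠ y.1 ∧ z ≠ y'.1 := by
            by_contra e''
            push Not at e''
            have k : ∀ z ∈ O, z = y.1 ∨ z = y'.1 := fun z hz =>
              or_iff_not_imp_left.2 (e'' z hz)
            rcases k _ xO with k1 | k1 <;> rcases k _ bO with k2 | k2 <;>
              rcases k _ aO with k3 | k3 <;> simp_all
          have := tr _ y.2 z hz _ e
          change ev y.1 y.1 - ev y'.1 y.1 = ev y.1 z - ev y'.1 z at this
          rw [ev_self, ev_ne ne, ev_ne z1, ev_ne z2] at this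
          exact absurd this (by decide))
    rw [Finite.card_option] at this
    exact this
  have r2 : 2 ≤ r := by
    have h0 := add_relIndex_pos (fx (PV n) A) (fx (PV n) B)
    have h1 : r ≠ 1 := fun e => m2 x xO (AddSubgroup.relIndex_eq_one.1 e (m1 x xO))
    omega
  have kr : Nat.card O ≤ r := by rcases key with h | h; exacts [h.le, h.1.trans r2]
  have e1 : lm (PV n) A = Nat.card O * (Nat.card B * Nat.card (fx (PV n) A)) := by
    rw [lm, c1, mul_assoc]
  have e2 : lm (PV n) B = r * (Nat.card B * Nat.card (fx (PV n) A)) := by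
    rw [lm, ← c2]; ring
  refine ⟨by rw [e1, e2]; exact Nat.mul_le_mul_right _ kr, fun h => ?_⟩
  rw [e1, e2] at h
  have h' := Nat.le_of_mul_le_mul_right h (Nat.mul_pos pB pA)
  obtain ⟨k1, k2⟩ := key.resolve_left (not_lt.2 h')
  refine ⟨k2, fun v hv => ?_⟩
  obtain ⟨o, ho⟩ := exists_sub_mem_of_card (X := fx (PV n) A) (Y := fx (PV n) B)
    (fun o : Bool => if o then ev x else 0) (by rintro (_ | _); exacts [zero_mem _, m1 x xO]) (by
      rintro (_ | _) (_ | _) e
      · rfl
      · exact absurd (by simpa using neg_mem e) (m2 x xO)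
      · exact absurd (by simpa using e) (m2 x xO)
      · rfl) (by rw [Nat.card_eq_fintype_card, Fintype.card_bool]; exact h'.trans k1) hv
  cases o
  · exact Or.inl (by simpa using neg_mem ho)
  · exact Or.inr (by simpa using neg_mem ho)

theorem perm_key (A : Subgroup (Equiv.Perm (Fin n))) (hA : IsMulCommutative A) :
    lm (PV n) A ≤ Nat.card (PV n) ∧ (Nat.card (PV n) ≤ lm (PV n) A →
      ∀ a ∈ A, ∀ i, a i ≠ i → Equiv.swap i (a i) ∈ A ∧ ∀ b ∈ A, b i = i ∨ b i = a i) := by
  induction hk : Nat.card A using Nat.strong_induction_on generalizing A with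
  | _ k ih =>
  have st : ∀ {x : Fin n} {b}, b ∈ A → b x ≠ x → _ := fun {x b} hb hx =>
    ih _ (hk ▸ card_lt_of_lt (lt_of_le_of_ne inf_le_left fun e => hx (e.ge hb).2))
      (A ⊓ MulAction.stabilizer _ x) (isMulCommutative_of_le' inf_le_left hA) rfl
  refine ⟨?_, fun h a ha i hi => ?_⟩
  · by_cases h : ∀ b ∈ A, ∀ x, b x = x
    · have : A = ⊥ := (eq_bot_iff_forall _).2 fun b hb => Equiv.ext (h b hb)
      rw [this, lm_bot]
    · push Not at h
      obtain ⟨b, hb, x, hx⟩ := h
      exact (perm_step hA hb hx).1.trans (st hb hx).1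
  have o2 := ((perm_step hA ha hi).2 ((st ha hi).1.trans h)).1
  refine ⟨?_, o2⟩
  by_cases h3 : ∀ x, x ≠ i → x ≠ a i → ∀ b ∈ A, b x = x
  · convert ha using 1
    ext x
    congr 1
    by_cases x1 : x = i
    · rw [x1, Equiv.swap_apply_left]
    by_cases x2 : x = a i
    · rw [x2, Equiv.swap_apply_right]
      exact ((o2 (a * a) (mul_mem ha ha)).resolve_right fun e => hi (a.injective e)).symm
    rw [Equiv.swap_apply_of_ne_of_ne x1 x2, h3 x x1 x2 a ha]
  push Not at h3
  obtain ⟨x, x1, x2, b, hb, hx⟩ := h3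
  obtain ⟨s1, s2⟩ := perm_step hA hb hx
  obtain ⟨t1, t2⟩ := st hb hx
  by_cases h4 : ∃ a' ∈ A ⊓ MulAction.stabilizer _ x, a' i ≠ i
  · obtain ⟨a', ha', e⟩ := h4
    have := (t2 (h.trans s1) a' ha' i e).1.1
    rwa [(o2 a' ha'.1).resolve_left e] at this
  push Not at h4
  exfalso
  rcases (s2 (t1.trans h)).2 (ev i) (fun c hc => by rw [smul_ev, h4 c hc]) with e | e
  · have := fx_apply e ha i
    rw [ev_self, ev_ne hi] at this
    exact absurd this (by decide)
  · have := fx_apply e ha i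
    rw [pv_sub, pv_sub, ev_self, ev_ne hi, ev_ne x1.symm, ev_ne x2.symm] at this
    exact absurd this (by decide)

theorem rs_perm : RS (Equiv.Perm (Fin n)) (PV n) 2 := ⟨pv_two, fun A hA => (perm_key A hA.1).1⟩

theorem Off.swap_mem {A : Subgroup (Equiv.Perm (Fin n))} (h : Off (PV n) 2 A)
    {a : Equiv.Perm (Fin n)} (ha : a ∈ A) {i : Fin n} (hi : a i ≠ i) : Equiv.swap i (a i) ∈ A :=
  ((perm_key A h.el.1).2 h.eq.ge a ha i hi).1

theorem Off.orb {A : Subgroup (Equiv.Perm (Fin n))} (h : Off (PV n) 2 A)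
    {a : Equiv.Perm (Fin n)} (ha : a ∈ A) {i : Fin n} (hi : a i ≠ i) {b : Equiv.Perm (Fin n)}
    (hb : b ∈ A) : b i = i ∨ b i = a i := ((perm_key A h.el.1).2 h.eq.ge a ha i hi).2 b hb

theorem swap_smul_eq_iff {a b : Fin n} {v : PV n} : Equiv.swap a b • v = v ↔ v a = v b := by
  refine ⟨fun h => ?_, fun h => funext fun l => ?_⟩
  · have := congrFun h a
    rw [pv_smul, Equiv.swap_inv, Equiv.swap_apply_left] at this
    exact this.symm
  · rw [pv_smul, Equiv.swap_inv]
    by_cases la : l = a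
    · rw [la, Equiv.swap_apply_left, h]
    by_cases lb : l = b
    · rw [lb, Equiv.swap_apply_right, h]
    rw [Equiv.swap_apply_of_ne_of_ne la lb]

theorem mem_zpowers_swap {a b : Fin n} {g : Equiv.Perm (Fin n)}
    (h : g ∈ zpowers (Equiv.swap a b)) : g = 1 ∨ g = Equiv.swap a b := by
  obtain ⟨k, rfl⟩ := h
  rcases Int.even_or_odd' k with ⟨j, e | e⟩ <;>
    simp only [e, _root_.zpow_add, _root_.zpow_mul, zpow_two, Equiv.swap_mul_self, _root_.one_zpow, one_mul, zpow_one,
      true_or, or_true]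

theorem card_zpowers_swap {a b : Fin n} (h : a ≠ b) : Nat.card (zpowers (Equiv.swap a b)) = 2 := by
  rw [Nat.card_zpowers, Equiv.Perm.IsSwap.orderOf ⟨a, b, h, rfl⟩]

theorem swap_smul_sub (a b : Fin n) (w : PV n) :
    Equiv.swap a b • w - w = (w a + w b) • pe a b := by
  funext l
  change w ((Equiv.swap a b)⁻¹ l) - w l = (w a + w b) * pe a b l
  rw [Equiv.swap_inv, pe_apply]
  by_cases ab : a = b
  · subst ab
    rw [Equiv.swap_self, Equiv.refl_apply, sub_self, CharTwo.add_self_eq_zero, zero_mul]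
  by_cases la : l = a
  · rw [la, Equiv.swap_apply_left, if_pos rfl, if_neg ab, CharTwo.sub_eq_add]; ring
  by_cases lb : l = b
  · rw [lb, Equiv.swap_apply_right, if_pos rfl, if_neg (Ne.symm ab), CharTwo.sub_eq_add]; ring
  rw [Equiv.swap_apply_of_ne_of_ne la lb, if_neg la, if_neg lb]; ring

theorem rt_swap {a b : Fin n} (h : a ≠ b) : Rt (PV n) (zpowers (Equiv.swap a b)) := by
  refine ⟨by simpa [zpowers_eq_bot] using h, fun g hg w => ?_, ?_, fun g hg h1 w hw => ?_⟩
  · rcases mem_zpowers_swap hg with rfl | rfl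
    · simp
    · rw [mem_fx_zpowers, swap_smul_sub, swap_smul_eq_iff]
      change _ * pe a b a = _ * pe a b b
      simp [pe_apply, h, h.symm]
  · rw [card_zpowers_swap h]
    let f : PV n →+ ZMod 2 := AddMonoidHom.mk' (fun v => v a + v b) fun v w => by
      rw [pv_add, pv_add]; ring
    have e : fx (PV n) (zpowers (Equiv.swap a b)) = f.ker := by
      ext v
      rw [mem_fx_zpowers, swap_smul_eq_iff, AddMonoidHom.mem_ker]
      exact CharTwo.add_eq_zero.symm
    rw [e, AddSubgroup.index_ker, AddMonoidHom.range_eq_top.2, AddSubgroup.card_top, Nat.card_zmod]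
    intro c
    rcases zmod2_cases c with rfl | rfl
    · exact ⟨0, map_zero _⟩
    · exact ⟨ev a, by change ev a a + ev a b = 1; rw [ev_self, ev_ne h.symm, add_zero]⟩
  · rw [mem_fx_zpowers, ← (mem_zpowers_swap hg).resolve_left h1, hw]

theorem alt_sup_swap {a b : Fin n} (h : a ≠ b) {A : Subgroup (Equiv.Perm (Fin n))}
    (hA : Equiv.swap a b ∈ A) : alternatingGroup (Fin n) ⊔ A = ⊤ := top_unique fun σ _ => by
  rcases Int.units_eq_one_or (Equiv.Perm.sign σ) with e | e
  · exact mem_sup_left e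
  · rw [← Equiv.mul_swap_mul_self a b σ]
    refine mul_mem (mem_sup_left ?_) (mem_sup_right hA)
    rw [Equiv.Perm.mem_alternatingGroup, map_mul, e, Equiv.Perm.sign_swap h]; rfl

theorem Off.exists_swap {A : Subgroup (Equiv.Perm (Fin n))} (h : Off (PV n) 2 A) (hne : A ≠ ⊥) :
    ∃ a b, a ≠ b ∧ Equiv.swap a b ∈ A := by
  obtain ⟨a, ha, h1⟩ := (bot_or_exists_ne_one A).resolve_left hne
  obtain ⟨i, hi⟩ : ∃ i, a i ≠ i := by
    by_contra e
    push Not at e
    exact h1 (Equiv.ext e)
  exact ⟨_, _, hi.symm, h.swap_mem ha hi⟩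

/-- the all-one vector -/
def pone (n : ℕ) : PV n := fun _ => 1

theorem sum_pone (m : ℕ) : ∑ i, pone (2 * m + 1) i = 1 := by
  simp only [pone, Finset.sum_const, Finset.card_univ, Fintype.card_fin, nsmul_eq_mul, mul_one]
  push_cast
  rw [show (2 : ZMod 2) = 0 from rfl]; simp

theorem mdl_perm (m : ℕ) : Mdl 2 (evn (2 * m + 1)) (alternatingGroup (Fin (2 * m + 1))) ⊤ where
  rs := rs_perm
  sup := top_unique fun v _ => by
    rcases zmod2_cases (∑ i, v i) with e | e
    · exact AddSubgroup.mem_sup_right e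
    · rw [← add_sub_cancel (pone _) v]
      refine add_mem (AddSubgroup.mem_sup_left fun _ _ => rfl) (AddSubgroup.mem_sup_right ?_)
      rw [mem_evn]
      simp only [pv_sub, Finset.sum_sub_distrib, e, sum_pone, sub_self]
  nS' := inferInstance
  nS := inferInstance
  le := le_top
  gen A h a ha := mem_of_swaps fun i hi =>
    le_jj (rt_swap hi.symm) (zpowers_le.2 (h.swap_mem ha hi)) (mem_zpowers _)
  rt A h := ⟨le_top, by
    obtain ⟨a, b, ab, e⟩ := (rs_perm.off h).exists_swap h.ne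
    exact (alt_sup_swap ab e).ge⟩
  res := pResidualOf_le_iff.2 fun g _ hg => by
    refine (Int.units_eq_one_or (Equiv.Perm.sign g)).resolve_right fun e => ?_
    have := congrArg Equiv.Perm.sign (pow_orderOf_eq_one g)
    rw [map_pow, e, (Nat.coprime_two_right.1 hg).neg_one_pow, map_one] at this
    exact absurd this (by decide)
  fix A h g _ hg := mem_of_swaps fun i hi => by
    by_cases e : ∀ a ∈ A, a i = i
    · exact absurd (ev_inj ((smul_ev g i).symm.trans
        (hg _ fun a ha => by rw [smul_ev, e a ha]))) hi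
    push Not at e
    obtain ⟨a, ha, e⟩ := e
    have e1 := hg (pe i (a i)) fun b hb => by
      rw [smul_pe, ← Equiv.Perm.mul_apply, comm_iff.1 h.el.1 b hb a ha, Equiv.Perm.mul_apply]
      rcases h.orb ha e hb with e' | e'
      · rw [e']
      · rw [e', ← Equiv.Perm.mul_apply, ← pow_two, h.el.2 a ha, pe_comm]; rfl
    have e2 := congrFun e1 (g i)
    rw [smul_pe, pe_apply, pe_apply, if_pos rfl, if_neg fun e' => e (g.injective e').symm,
      if_neg hi] at e2
    have e3 : g i = a i := by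
      by_contra e'
      rw [if_neg e'] at e2
      exact absurd e2 (by decide)
    rw [e3]
    exact h.swap_mem ha e

/-- vectors of weight `n - 1` -/
def pw (i : Fin n) : PV n := pone n + ev i

theorem pw_apply (i j : Fin n) : pw i j = 1 + ev i j := rfl

theorem smul_pw (σ : Equiv.Perm (Fin n)) (i : Fin n) : σ • pw i = pw (σ i) := by
  rw [pw, smul_add, smul_ev]; rfl

theorem pw_inj {i j : Fin n} (h : pw i = pw j) : i = j := ev_inj (add_left_cancel h)

theorem sum_ev (a : Fin n) : ∑ i, ev a i = 1 := by simp [ev_apply]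

theorem pw_mem {m : ℕ} (i : Fin (2 * m + 1)) : pw i ∈ evn (2 * m + 1) := by
  rw [mem_evn, pw]
  simp only [pv_add, Finset.sum_add_distrib, sum_pone, sum_ev]
  decide

theorem pw_add (a b : Fin n) : pw a + pw b = pe a b := funext fun i => by
  change (1 + ev a i) + (1 + ev b i) = ev a i + ev b i
  rw [add_add_add_comm, CharTwo.add_self_eq_zero, zero_add]

theorem eq_pw {m : ℕ} {v : PV (2 * m + 1)} (hv : v ∈ evn _) (h0 : v ≠ 0)
    (h : ∀ a a' b b', v a = 1 → v a' = 1 → v b = 0 → v b' = 0 → a = a' ∨ b = b') :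
    ∃ i, v = pw i := by
  obtain ⟨a, ha⟩ : ∃ i, v i = 1 := by
    by_contra e
    exact h0 (funext fun i => (zmod2_cases (v i)).resolve_right fun e' => e ⟨i, e'⟩)
  obtain ⟨b, hb⟩ : ∃ j, v j = 0 := by
    by_contra e
    have : v = pone _ := funext fun j => (zmod2_cases (v j)).resolve_left fun e' => e ⟨j, e'⟩
    rw [this, mem_evn, sum_pone] at hv
    exact absurd hv (by decide)
  obtain ⟨a', ha', aa⟩ : ∃ i, v i = 1 ∧ a ≠ i := by
    by_contra e
    push Not at e
    have : v = ev a := funext fun j => by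
      by_cases ja : j = a
      · rw [ja, ha, ev_self]
      · rw [ev_ne ja]; exact (zmod2_cases (v j)).resolve_right fun e' => ja (e j e').symm
    rw [this, mem_evn, sum_ev] at hv
    exact absurd hv (by decide)
  refine ⟨b, funext fun j => ?_⟩
  rw [pw_apply]
  by_cases jb : j = b
  · rw [jb, hb, ev_self]; decide
  · rw [ev_ne jb, add_zero]
    exact (zmod2_cases (v j)).resolve_left fun e => jb ((h a a' j b ha ha' e hb).resolve_left aa)

theorem big_orbit {v : PV n} {a a' b b' : Fin n} (ha : v a = 1) (ha' : v a' = 1) (hb : v b = 0)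
    (hb' : v b' = 0) (aa : a ≠ a') (bb : b ≠ b') :
    n < Nat.card (MulAction.orbit (alternatingGroup (Fin n)) v) := by
  classical
  let s := Finset.univ.filter fun i => v i = 1
  let t := Finset.univ.filter fun i => ¬ v i = 1
  have t0 : ∀ {i}, i ∈ t → v i = 0 := fun {i} h =>
    (zmod2_cases (v i)).resolve_right (Finset.mem_filter.1 h).2
  have s1 : ∀ {i}, i ∈ s → v i = 1 := fun {i} h => (Finset.mem_filter.1 h).2
  have c1 : s.card + t.card = n := by
    rw [Finset.card_filter_add_card_filter_not, Finset.card_univ, Fintype.card_fin]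
  have c2 : 1 < s.card := Finset.one_lt_card.2 ⟨a, by simp [s, ha], a', by simp [s, ha'], aa⟩
  have c3 : 1 < t.card := Finset.one_lt_card.2 ⟨b, by simp [t, hb], b', by simp [t, hb'], bb⟩
  have ne : ∀ {x y}, x ∈ s → y ∈ t → x ≠ y := fun {x y} hx hy e => by
    have := s1 hx
    rw [e, t0 hy] at this
    exact absurd this (by decide)
  have m : ∀ x ∈ s, ∀ y ∈ t, v + pe x y ∈ MulAction.orbit (alternatingGroup (Fin n)) v := by
    intro x hx y hy
    refine ⟨⟨Equiv.swap x y * Equiv.swap a a', ?_⟩, ?_⟩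
    · rw [Equiv.Perm.mem_alternatingGroup, map_mul, Equiv.Perm.sign_swap (ne hx hy),
        Equiv.Perm.sign_swap aa]; rfl
    · change (Equiv.swap x y * Equiv.swap a a') • v = _
      rw [mul_smul, swap_smul_eq_iff.2 (ha.trans ha'.symm), ← sub_eq_iff_eq_add', swap_smul_sub,
        s1 hx, t0 hy, add_zero, one_smul]
  have pv : ∀ {x y}, x ∈ s → y ∈ t → pe x y x = 1 ∧ pe x y y = 1 := fun {x y} hx hy => by
    simp [pe_apply, ne hx hy, (ne hx hy).symm]
  have := Nat.card_le_card_of_injective (β := MulAction.orbit (alternatingGroup (Fin n)) v)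
    (fun o : Option (s × t) => o.elim ⟨v, MulAction.mem_orbit_self v⟩
      fun z => ⟨_, m _ z.1.2 _ z.2.2⟩) (by
      rintro (_ | ⟨x, y⟩) (_ | ⟨x', y'⟩) e
      · rfl
      · have := congrFun (left_eq_add.1 (congrArg Subtype.val e)) x'
        rw [(pv x'.2 y'.2).1] at this
        exact absurd this one_ne_zero
      · have := congrFun (add_eq_left.1 (congrArg Subtype.val e)) x
        rw [(pv x.2 y.2).1] at this
        exact absurd this one_ne_zero
      · have e' : pe x.1 y.1 = pe x'.1 y'.1 := add_left_cancel (congrArg Subtype.val e)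
        have e1 := congrFun e' x
        have e2 := congrFun e' y
        rw [(pv x.2 y.2).1, pe_apply, if_neg (ne x.2 y'.2)] at e1
        rw [(pv x.2 y.2).2, pe_apply, if_neg (ne x'.2 y.2).symm] at e2
        have f1 : x = x' := by
          by_contra f
          rw [if_neg fun f' => f (Subtype.ext f')] at e1
          exact absurd e1 (by decide)
        have f2 : y = y' := by
          by_contra f
          rw [if_neg fun f' => f (Subtype.ext f')] at e2
          exact absurd e2 (by decide)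
        rw [f1, f2])
  rw [Finite.card_option, Nat.card_prod, Nat.card_eq_fintype_card, Nat.card_eq_fintype_card,
    Fintype.card_coe, Fintype.card_coe] at this
  nlinarith

theorem perm_of_pw {m : ℕ} {φ : PV (2 * m + 1) → PV (2 * m + 1)}
    (h1 : ∀ v ∈ evn _, ∀ w ∈ evn _, φ (v + w) = φ v + φ w)
    (h2 : ∀ v ∈ evn _, ∀ w ∈ evn _, φ v = φ w → v = w) (h3 : ∀ i, ∃ j, φ (pw i) = pw j) :
    ∃ τ : Equiv.Perm (Fin (2 * m + 1)), ∀ v ∈ evn _, φ v = τ • v := by
  choose τ hτ using h3
  have hi : Function.Injective τ := fun i j e =>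
    pw_inj (h2 _ (pw_mem i) _ (pw_mem j) (by rw [hτ, hτ, e]))
  refine ⟨Equiv.ofBijective τ hi.bijective_of_finite, fun v hv => ?_⟩
  have h0 : φ 0 = 0 := by simpa using h1 0 (zero_mem _) 0 (zero_mem _)
  let X : AddSubgroup (PV (2 * m + 1)) :=
    { carrier := {v | v ∈ evn _ ∧ φ v = Equiv.ofBijective τ hi.bijective_of_finite • v}
      zero_mem' := ⟨zero_mem _, by rw [h0, smul_zero]⟩
      add_mem' := fun {a b} ha hb => ⟨add_mem ha.1 hb.1, by
        rw [h1 _ ha.1 _ hb.1, ha.2, hb.2, smul_add]⟩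
      neg_mem' := fun {a} ha => by
        rwa [neg_eq_of_add_eq_zero_left (by rw [← two_smul ℕ, pv_two] : a + a = 0)] }
  refine (evn_le (X := X) (fun a b => ⟨pe_mem a b, ?_⟩) hv).2
  rw [← pw_add, h1 _ (pw_mem a) _ (pw_mem b), hτ, hτ, smul_add, smul_pw, smul_pw]; rfl

theorem pw_ne_zero {m : ℕ} (hm : m ≠ 0) (i : Fin (2 * m + 1)) : pw i ≠ 0 := fun e => by
  obtain ⟨j, hj⟩ := Fintype.exists_ne_of_one_lt_card (by rw [Fintype.card_fin]; omega) i
  have := congrFun e j
  rw [pw_apply, ev_ne hj, add_zero] at this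
  exact absurd this one_ne_zero

theorem perm_of_norm {m : ℕ} (hm : m ≠ 0) {φ : PV (2 * m + 1) → PV (2 * m + 1)}
    (h0 : ∀ v ∈ evn _, φ v ∈ evn _) (h1 : ∀ v ∈ evn _, ∀ w ∈ evn _, φ (v + w) = φ v + φ w)
    (h2 : ∀ v ∈ evn _, ∀ w ∈ evn _, φ v = φ w → v = w)
    (h3 : m = 1 ∨ ∀ σ ∈ alternatingGroup (Fin (2 * m + 1)), ∃ σ' : Equiv.Perm (Fin (2 * m + 1)),
      ∀ v ∈ evn _, σ • φ v = φ (σ' • v)) :
    ∃ τ : Equiv.Perm (Fin (2 * m + 1)), ∀ v ∈ evn _, φ v = τ • v := by
  have z : φ 0 = 0 := by simpa using h1 0 (zero_mem _) 0 (zero_mem _)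
  refine perm_of_pw h1 h2 fun i => eq_pw (h0 _ (pw_mem i))
    (fun e => pw_ne_zero hm i (h2 _ (pw_mem i) _ (zero_mem _) (e.trans z.symm)))
    fun a a' b b' ha ha' hb hb' => ?_
  by_contra e
  push Not at e
  rcases h3 with rfl | h3
  · have n1 : ∀ {x y}, φ (pw i) x = 1 → φ (pw i) y = 0 → x ≠ y := fun {x y} hx hy e => by
      rw [e, hy] at hx; exact absurd hx (by decide)
    have := n1 ha hb; have := n1 ha hb'; have := n1 ha' hb; have := n1 ha' hb'
    omega
  · have := big_orbit ha ha' hb hb' e.1 e.2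
    refine absurd (Nat.card_le_card_of_surjective (β := MulAction.orbit _ (φ (pw i)))
      (fun j : {j // φ (pw j) ∈ MulAction.orbit (alternatingGroup (Fin (2 * m + 1))) (φ (pw i))} =>
        ⟨_, j.2⟩) ?_) (not_le.2 (lt_of_le_of_lt ?_ this))
    · rintro ⟨_, σ, rfl⟩
      obtain ⟨σ', e⟩ := h3 σ σ.2
      have := e _ (pw_mem i)
      rw [smul_pw] at this
      exact ⟨⟨σ' i, σ, this⟩, Subtype.ext this.symm⟩
    · exact (Finite.card_subtype_le _).trans (by simp)

end Perm

end CfH7
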