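import Cfsg.Agent.OD.Pre
import Cfsg.Agent.H7.Blk3

/-! The linear model of the module of a block. -/

set_option autoImplicit false
set_option linter.unusedSectionVars false

open Cfsg Subgroup CfH9 Matrix
open CfLp (uu dd uu_coe dd_coe)
open scoped commutatorElement MatrixGroups

namespace CfH7

section

variable {F : Type} [Field F]

theorem vec_ext {v w : Fin 2 → F} (h0 : v 0 = w 0) (h1 : v 1 = w 1) : v = w := by
  funext i; fin_cases i; exacts [h0, h1]

theorem vec_dec (v : Fin 2 → F) : v = v 0 • ![(1 : F), 0] + v 1 • ![(0 : F), 1] :=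
  vec_ext (by simp) (by simp)

theorem sl_smul_smul (g : SL(2, F)) (t : F) (v : Fin 2 → F) : g • t • v = t • g • v := by
  rw [sl_smul_eq, sl_smul_eq, Matrix.mulVec_smul]

theorem scalar_of_comm (φ : (Fin 2 → F) → Fin 2 → F) (h0 : ∀ v w, φ (v + w) = φ v + φ w)
    (h : ∀ (s : SL(2, F)) v, φ (s • v) = s • φ v) (v : Fin 2 → F) : φ v = φ ![1, 0] 0 • v := by
  have e1 : ∀ t : F, φ ![t, 0] = ![t * φ ![0, 1] 1, 0] := fun t => by
    have := h (uu t) ![0, 1]
    rw [uu_smul, uu_smul, show (![![0, 1] 0 + t * ![0, 1] 1, ![0, 1] 1] : Fin 2 → F) =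
      ![t, 0] + ![0, 1] from vec_ext (by simp) (by simp), h0, ← eq_sub_iff_add_eq] at this
    rw [this]
    exact vec_ext (by simp) (by simp)
  have e2 : ∀ t : F, φ ![0, t] = ![0, t * φ ![1, 0] 0] := fun t => by
    have := h (ll t) ![1, 0]
    rw [ll_smul, ll_smul, show (![![1, 0] 0, t * ![1, 0] 0 + ![1, 0] 1] : Fin 2 → F) =
      ![0, t] + ![1, 0] from vec_ext (by simp) (by simp), h0, ← eq_sub_iff_add_eq] at this
    rw [this]
    exact vec_ext (by simp) (by simp)
  have e3 : φ ![0, 1] 1 = φ ![1, 0] 0 := by rw [e1 1]; simp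
  have : v = ![v 0, 0] + ![0, v 1] := vec_ext (by simp) (by simp)
  conv_lhs => rw [this, h0, e1, e3, e2 (v 1)]
  exact vec_ext (by simp [mul_comm]) (by simp [mul_comm])

theorem e0_ne : (![1, 0] : Fin 2 → F) ≠ 0 := fun e => by simpa using congrFun e 0

variable {P : Type*} [Group P] [DistribMulAction P (Fin 2 → F)]

/-- `P` normalizes the natural copy of `SL₂(F)` -/
structure LM (σ : SL(2, F) →* P) : Prop where
  eq : ∀ g (v : Fin 2 → F), σ g • v = g • v
  nrm : σ.range.Normal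

variable {σ : SL(2, F) →* P}

/-- the field automorphism of a semilinear map -/
def th0 (g : P) (t : F) : F := (g • t • g⁻¹ • ![(1 : F), 0]) 0

namespace LM

theorem semi (h : LM σ) (g : P) (t : F) (v : Fin 2 → F) : g • t • v = th0 g t • g • v := by
  have := scalar_of_comm (fun w => g • t • g⁻¹ • w) (fun v w => by simp only [smul_add])
    (fun s w => by
      obtain ⟨s', e⟩ := h.nrm.conj_mem _ ⟨s, rfl⟩ g⁻¹
      have e1 : g⁻¹ • s • w = s' • g⁻¹ • w := by
        rw [← h.eq, ← h.eq, e, smul_smul, smul_smul, inv_inv, mul_inv_cancel_right]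
      simp only [e1]
      rw [← sl_smul_smul, ← h.eq, ← h.eq, e, smul_smul, smul_smul, inv_inv, ← mul_assoc,
        ← mul_assoc, mul_inv_cancel, one_mul]) (g • v)
  rwa [inv_smul_smul] at this

theorem th_ext (h : LM σ) (g : P) {t s : F} (e : g • t • ![(1 : F), 0] = s • g • ![(1 : F), 0]) :
    th0 g t = s := by
  rw [h.semi] at e
  exact smul_left_injective F ((smul_ne_zero_iff_ne g).2 e0_ne) e

/-- the action on the field -/
@[reducible] def act (h : LM σ) : MulSemiringAction P F where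
  smul := th0
  one_smul t := h.th_ext 1 (by rw [one_smul, one_smul])
  mul_smul a b t := h.th_ext _ (by rw [mul_smul, h.semi b, h.semi a, mul_smul]; rfl)
  smul_zero a := h.th_ext _ (by rw [zero_smul, zero_smul, smul_zero])
  smul_add a s t := h.th_ext _ (by rw [add_smul, smul_add, h.semi, h.semi, ← add_smul]; rfl)
  smul_one a := h.th_ext _ (by rw [one_smul, one_smul])
  smul_mul a s t := h.th_ext _ (by rw [mul_smul, h.semi, h.semi, ← mul_smul]; rfl)

/-- the homomorphism to the automorphism group of the field -/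
def θ (h : LM σ) : P →* RingAut F := letI := h.act; MulSemiringAction.toRingAut P F

theorem semi' (h : LM σ) (g : P) (t : F) (v : Fin 2 → F) : g • t • v = h.θ g t • g • v :=
  h.semi g t v

theorem θ_σ (h : LM σ) (s : SL(2, F)) : h.θ (σ s) = 1 := RingEquiv.ext fun t =>
  h.th_ext _ (by rw [h.eq, h.eq, sl_smul_smul]; rfl)

theorem snd (h : LM σ) {g : P} (h0 : g • ![(1 : F), 0] = ![1, 0]) (v : Fin 2 → F) :
    (g • v) 1 = h.θ g (v 1) * (g • ![(0 : F), 1]) 1 := by
  conv_lhs => rw [vec_dec v, smul_add, h.semi', h.semi', h0]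
  simp

variable [FaithfulSMul P (Fin 2 → F)] [Fintype F] {p n : ℕ} [hp : Fact p.Prime]

theorem inj (h : LM σ) : Function.Injective σ := fun a b e =>
  sl_ext fun v => by rw [← h.eq, e, h.eq]

theorem lin_uu (h : LM σ) (hF : Fintype.card F = p ^ n) {g : P} (h1 : h.θ g = 1)
    (h0 : g • ![(1 : F), 0] = ![1, 0]) {j : ℕ} (hj : g ^ p ^ j = 1) : ∃ t, g = σ (uu t) := by
  haveI : CharP F p := charP_of_card_eq_prime_pow hF
  set c := (g • ![(0 : F), 1]) 1 with hc
  have e1 : ∀ m : ℕ, (g ^ m • ![(0 : F), 1]) 1 = c ^ m := fun m => by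
    induction m with
    | zero => simp
    | succ m ih => rw [pow_succ', mul_smul, h.snd h0, h1, ih, pow_succ]; rfl
  have e2 := e1 (p ^ j)
  rw [hj, one_smul] at e2
  have e3 : c = 1 := by
    have : (c - 1) ^ p ^ j = 0 := by rw [sub_pow_char_pow, ← e2]; simp
    exact sub_eq_zero.1 (pow_eq_zero_iff (pow_pos hp.out.pos j).ne' |>.1 this)
  refine ⟨(g • ![(0 : F), 1]) 0, eq_of_smul_eq_smul (α := Fin 2 → F) fun v => ?_⟩
  rw [h.eq, uu_smul]
  refine vec_ext ?_ (by rw [h.snd h0, h1, ← hc, e3]; simp)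
  conv_lhs => rw [vec_dec v, smul_add, h.semi', h.semi', h0, h1]
  simp [mul_comm]

theorem card_fix (Γ : Subgroup (RingAut F)) :
    Nat.card F = Nat.card (FixedPoints.subfield Γ F) ^ Nat.card Γ := by
  classical
  haveI : Finite (RingAut F) := Finite.of_injective _ (DFunLike.coe_injective (F := F ≃+* F))
  haveI := Fintype.ofFinite Γ
  haveI := Fintype.ofFinite (FixedPoints.subfield Γ F)
  rw [Nat.card_eq_fintype_card, Nat.card_eq_fintype_card, Nat.card_eq_fintype_card,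
    ← FixedPoints.finrank_eq_card Γ F]
  exact Module.card_eq_pow_finrank

theorem card_le_of_ratio (Γ : Subgroup (RingAut F)) {α : Type*} (f : α → F)
    (hf : Function.Injective f) (h : ∀ a ∈ Γ, ∀ x y, a (f x) * f y = f x * a (f y)) :
    Nat.card α ≤ Nat.card (FixedPoints.subfield Γ F) := by
  by_cases e : ∃ y, f y ≠ 0
  · obtain ⟨y, hy⟩ := e
    refine Nat.card_le_card_of_injective (fun x => ⟨f x / f y, fun a => ?_⟩) fun x x' e =>
      hf ((div_left_inj' hy).1 (congrArg Subtype.val e))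
    change a.1 (f x / f y) = _
    rw [map_div₀, div_eq_div_iff ((map_ne_zero _).2 hy) hy, h a a.2]
  · push Not at e
    exact Nat.card_le_card_of_injective (fun _ => 0) fun x x' _ => hf ((e x).trans (e x').symm)

/-- the standard root subgroup -/
abbrev U (σ : SL(2, F) →* P) : Subgroup P := (uH F).range.map σ

theorem mem_U {g : P} : g ∈ U σ ↔ ∃ t, σ (uu t) = g :=
  ⟨by rintro ⟨_, ⟨t, rfl⟩, rfl⟩; exact ⟨_, rfl⟩, by rintro ⟨t, rfl⟩; exact ⟨_, ⟨t, rfl⟩, rfl⟩⟩

theorem uu_fix (h : LM σ) {t : F} (ht : t ≠ 0) {v : Fin 2 → F} : σ (uu t) • v = v ↔ v 1 = 0 := by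
  rw [h.eq, uu_smul]
  exact ⟨fun e => by simpa [ht] using congrFun e 0, fun e => vec_ext (by simp [e]) rfl⟩

theorem mem_fx_U (h : LM σ) {v : Fin 2 → F} : v ∈ fx (Fin 2 → F) (U σ) ↔ v 1 = 0 :=
  ⟨fun e => (h.uu_fix one_ne_zero).1 (e _ (mem_U.2 ⟨1, rfl⟩)), fun e a ha => by
    obtain ⟨t, rfl⟩ := mem_U.1 ha
    rw [h.eq, uu_smul]; exact vec_ext (by simp [e]) rfl⟩

theorem card_U (h : LM σ) : Nat.card (U σ) = Nat.card F := by
  rw [card_map_of_injective h.inj, card_uH, Nat.card_eq_fintype_card]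

theorem card_fx_U (h : LM σ) : Nat.card (fx (Fin 2 → F) (U σ)) = Nat.card F :=
  Nat.card_congr ⟨fun v => v.1 0, fun t => ⟨![t, 0], h.mem_fx_U.2 rfl⟩,
    fun v => Subtype.ext (vec_ext rfl (h.mem_fx_U.1 v.2).symm), fun _ => rfl⟩

theorem card_sq : Nat.card (Fin 2 → F) = Nat.card F * Nat.card F := by
  rw [Nat.card_fun, Nat.card_eq_fintype_card (α := Fin 2), Fintype.card_fin, pow_two]

theorem rt_U (h : LM σ) : Rt (Fin 2 → F) (U σ) := by
  refine ⟨fun e => ?_, fun a ha w => ?_, ?_, fun a ha h1 w hw => ?_⟩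
  · have := h.card_U
    rw [e, card_bot] at this
    exact Finite.one_lt_card.ne this
  · obtain ⟨t, rfl⟩ := mem_U.1 ha
    rw [h.mem_fx_U, h.eq, uu_smul]; simp
  · have := (fx (Fin 2 → F) (U σ)).card_mul_index
    rw [h.card_fx_U, card_sq] at this
    rw [h.card_U]
    exact Nat.eq_of_mul_eq_mul_left Nat.card_pos this
  · obtain ⟨t, rfl⟩ := mem_U.1 ha
    exact h.mem_fx_U.2 ((h.uu_fix fun e => h1 (by rw [e, CfLp.uu_zero, map_one])).1 hw)

variable [Finite P]

theorem off_aux (h : LM σ) (hF : Fintype.card F = p ^ n) {A : Subgroup P}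
    (hA : IsElementaryAbelian p A) (h0 : ![(1 : F), 0] ∈ fx (Fin 2 → F) A)
    (hc : Nat.card (Fin 2 → F) ≤ lm (Fin 2 → F) A) : A = ⊥ ∨ A = U σ := by
  set Γ := A.map h.θ
  set m := Nat.card (FixedPoints.subfield Γ F)
  have u : ∀ a ∈ A ⊓ h.θ.ker, ∃ t, a = σ (uu t) := fun a ha =>
    h.lin_uu hF ha.2 (h0 a ha.1) (j := 1) (by rw [pow_one, hA.2 a ha.1])
  have l : ∀ {B : Subgroup P}, B ≤ A ⊓ h.θ.ker → B ≠ ⊥ → ∀ C : Subgroup P, B ≤ C →
      fx (Fin 2 → F) C ≤ fx (Fin 2 → F) (U σ) := fun {B} hB hne C hC v hv => by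
    obtain ⟨a, ha, h1⟩ := (bot_or_exists_ne_one B).resolve_left hne
    obtain ⟨t, rfl⟩ := u a (hB ha)
    exact h.mem_fx_U.2 ((h.uu_fix fun e => h1 (by rw [e, CfLp.uu_zero, map_one])).1 (hv _ (hC ha)))
  have c1 : Nat.card A = Nat.card Γ * Nat.card (A ⊓ h.θ.ker : Subgroup P) := by
    rw [← relIndex_mul_card (show A ⊓ h.θ.ker ≤ A from inf_le_left), inf_relIndex_left,
      relIndex_ker]
  have c2 : Nat.card (fx (Fin 2 → F) (U σ) ⊓ fx (Fin 2 → F) A : AddSubgroup _) ≤ m := by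
    refine Nat.card_le_card_of_injective (fun v => ⟨v.1 0, ?_⟩) fun v w e => Subtype.ext (vec_ext
      (congrArg Subtype.val e) ((h.mem_fx_U.1 v.2.1).trans (h.mem_fx_U.1 w.2.1).symm))
    rintro ⟨_, a, ha, rfl⟩
    have := v.2.2 a ha
    rw [vec_dec v.1, h.mem_fx_U.1 v.2.1, zero_smul, add_zero, h.semi', h0 a ha] at this
    exact smul_left_injective F e0_ne this
  let π₁ : (Fin 2 → F) →+ F := Pi.evalAddMonoidHom (fun _ => F) 1
  have k1 : fx (Fin 2 → F) (U σ) = π₁.ker := AddSubgroup.ext fun v => h.mem_fx_U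
  have c3 : (fx (Fin 2 → F) (U σ)).relIndex (fx (Fin 2 → F) A) ≤ m := by
    rw [k1, AddSubgroup.relIndex_ker]
    refine card_le_of_ratio Γ _ Subtype.val_injective ?_
    rintro _ ⟨a, ha, rfl⟩ ⟨_, v, hv, rfl⟩ ⟨_, w, hw, rfl⟩
    have e1 := h.snd (h0 a ha) v
    have e2 := h.snd (h0 a ha) w
    rw [hv a ha] at e1
    rw [hw a ha] at e2
    change h.θ a (v 1) * w 1 = v 1 * h.θ a (w 1)
    conv_lhs => rw [e2]
    conv_rhs => enter [1]; rw [e1]
    ring
  have c4 : Nat.card (A ⊓ h.θ.ker : Subgroup P) ≤ m := by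
    choose t ht using u
    refine card_le_of_ratio Γ (fun a : (A ⊓ h.θ.ker : Subgroup P) => t a a.2)
      (fun a b e => Subtype.ext (by rw [ht a a.2, ht b b.2]; exact congrArg (σ <| uu ·) e)) ?_
    have k : ∀ a ∈ A, ∀ b, ∀ hb : b ∈ A ⊓ h.θ.ker,
        h.θ a (t b hb) = t b hb * (a • ![(0 : F), 1]) 1 := fun a ha b hb => by
      have e := congrArg (· • ![(0 : F), 1]) (comm_iff.1 hA.1 a ha b hb.1)
      simp only [mul_smul] at e
      generalize ht' : t b hb = s
      rw [ht b hb, ht', h.eq, h.eq, uu_smul, uu_smul, vec_dec ![_, _], smul_add, h.semi', h.semi',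
        h0 a ha] at e
      have e' := congrFun e 0
      simp at e'
      linear_combination e'
    rintro _ ⟨a, ha, rfl⟩ x y
    simp only [k a ha]
    ring
  have c5 := add_card_inf_mul_relIndex (fx (Fin 2 → F) (U σ)) (fx (Fin 2 → F) A)
  have c6 : lm (Fin 2 → F) A ≤ Nat.card Γ * (m * m) := by
    rw [lm, c1, ← c5, mul_assoc]
    refine Nat.mul_le_mul_left _ ?_
    by_cases e : A ⊓ h.θ.ker = ⊥
    · rw [e, card_bot, one_mul]; exact Nat.mul_le_mul c2 c3
    · rw [AddSubgroup.relIndex_eq_one.2 (l le_rfl e A inf_le_left), mul_one]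
      exact Nat.mul_le_mul c4 c2
  have c7 : Nat.card Γ = 1 := by
    have e := hc.trans c6
    rw [card_sq, card_fix Γ] at e
    have m2 : 2 ≤ m := Finite.one_lt_card
    haveI : Finite (RingAut F) := Finite.of_injective _ (DFunLike.coe_injective (F := F ≃+* F))
    have : 0 < Nat.card Γ := Nat.card_pos
    by_contra e'
    obtain ⟨k, hk⟩ : ∃ k, Nat.card Γ = k + 2 := ⟨Nat.card Γ - 2, by omega⟩
    change m ^ _ * m ^ _ ≤ _ at e
    rw [hk, show m ^ (k + 2) * m ^ (k + 2) = m ^ (k + 2) * m ^ k * (m * m) by ring] at e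
    have e1 := Nat.le_of_mul_le_mul_right e (by positivity)
    have e2 : k + 2 < m ^ (k + 2) := Nat.lt_pow_self m2
    have e3 : 0 < m ^ k := by positivity
    nlinarith
  have c8 : A ≤ h.θ.ker := (Subgroup.map_eq_bot_iff _).1 (card_eq_one.1 c7)
  refine or_iff_not_imp_left.2 fun hne => eq_of_le_of_card_ge
    (fun a ha => mem_U.2 ((u a (mi ha (c8 ha))).imp fun _ e => e.symm)) ?_
  have c9 := AddSubgroup.card_le_of_le (l (le_inf le_rfl c8) hne A le_rfl)
  rw [card_sq, lm] at hc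
  rw [h.card_fx_U] at c9
  rw [h.card_U]
  exact Nat.le_of_mul_le_mul_right (hc.trans (Nat.mul_le_mul_left _ c9)) Nat.card_pos

theorem hp_vec (hF : Fintype.card F = p ^ n) (w : Fin 2 → F) : p • w = 0 := by
  haveI : CharP F p := charP_of_card_eq_prime_pow hF
  funext i
  change p • w i = 0
  rw [nsmul_eq_mul, CharP.cast_eq_zero, zero_mul]

theorem off (h : LM σ) (hF : Fintype.card F = p ^ n) {A : Subgroup P}
    (hA : IsElementaryAbelian p A) (hc : Nat.card (Fin 2 → F) ≤ lm (Fin 2 → F) A) :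
    A = ⊥ ∨ ∃ s, A = cj (σ s) (U σ) := by
  obtain ⟨v, -, h0, hv⟩ := exists_fixed (hp_vec hF) (elemAb_isPGroup hA) (U := ⊤)
    (fun g _ => mem_st_top g) fun e => e0_ne (F := F) (AddSubgroup.mem_bot.1 (e ▸ trivial))
  obtain ⟨s, rfl⟩ := sl_exists_smul h0
  refine (h.off_aux hF (A := cj (σ s)⁻¹ A) (elemAb_map hA _)
    (mem_fx_cj.2 (by rwa [inv_inv, h.eq])) (by rwa [lm_cj])).imp (fun e => ?_) fun e => ⟨s, ?_⟩
  · rw [← cj_cj_inv (σ s) A, e, cj_bot]
  · rw [← e, cj_cj_inv]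

theorem rs (h : LM σ) (hF : Fintype.card F = p ^ n) : RS P (Fin 2 → F) p :=
  ⟨hp_vec hF, fun A hA => not_lt.1 fun e => by
    rcases h.off hF hA e.le with rfl | ⟨s, rfl⟩
    · exact e.ne lm_bot.symm
    · exact e.ne (h.rt_U.cj _).lm_eq.symm⟩

end LM

theorem comm_sup_cj [Finite F] (s : SL(2, F)) :
    commutator SL(2, F) ⊔ cj s (uH F).range = ⊤ := by
  let K : Subgroup SL(2, F) := commutator SL(2, F) ⊔ cj s (uH F).range
  haveI : K.Normal := Subgroup.Normal.of_commutator_le _ le_sup_left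
  have h1 : ∀ t, CfLp.uu t ∈ K := fun t => by
    have : s * CfLp.uu t * s⁻¹ ∈ K := mem_sup_right ⟨_, ⟨t, rfl⟩, rfl⟩
    simpa [mul_assoc] using Subgroup.Normal.conj_mem ‹_› _ this s⁻¹
  exact sl_eq_top h1 fun t => by
    obtain ⟨w, e⟩ := ll_eq_conj t
    exact e ▸ Subgroup.Normal.conj_mem ‹_› _ (h1 _) w

variable [FaithfulSMul P (Fin 2 → F)] [Fintype F] {p n : ℕ} [hp : Fact p.Prime] [Finite P]

theorem LM.sup_cj (s : SL(2, F)) :
    (commutator SL(2, F)).map σ ⊔ cj (σ s) (LM.U σ) = σ.range := by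
  rw [← map_cj, ← Subgroup.map_sup, comm_sup_cj, MonoidHom.range_eq_map]

theorem LM.mdl (h : LM σ) (hF : Fintype.card F = p ^ n) :
    Mdl p (⊤ : AddSubgroup (Fin 2 → F)) ((commutator SL(2, F)).map σ) σ.range where
  rs := h.rs hF
  sup := sup_top_eq _
  nS' := by
    haveI := h.nrm
    rw [commutator_def, map_commutator, ← MonoidHom.range_eq_map]
    infer_instance
  nS := h.nrm
  le := map_le_range _ _
  gen A hA := by
    rcases h.off hF hA.el hA.eq.ge with rfl | ⟨s, rfl⟩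
    exacts [bot_le, le_jj (h.rt_U.cj _) le_rfl]
  rt A hA := by
    obtain ⟨s, rfl⟩ := (h.off hF ((h.rs hF).el hA) hA.lm_eq.ge).resolve_left hA.ne
    exact ⟨le_sup_right.trans (LM.sup_cj s).le, (LM.sup_cj s).ge⟩
  res := pResidualOf_le_of_le_sup ((h.rs hF).pg (h.rt_U.cj (σ 1)))
    ((le_sup_right.trans (LM.sup_cj 1).le).trans (by
      rw [MonoidHom.range_eq_map]; exact map_le_Nm_map (top_le_Nm _) σ)) (LM.sup_cj 1).ge
  fix A hA g hg e := by
    rcases h.off hF hA.el hA.eq.ge with rfl | ⟨s, rfl⟩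
    · exact eq_one_of_smul (W := Fin 2 → F) fun w => e w ((fx_bot (P := P) (W := Fin 2 → F)).ge trivial)
    obtain ⟨j, hj⟩ := hg ⟨g, mem_zpowers g⟩
    have k : ∀ t : F, ((σ s)⁻¹ * g * σ s) • t • ![(1 : F), 0] = t • ![1, 0] := fun t => by
      rw [mul_smul, mul_smul, e _ (smul_mem_fx_cj _ (h.mem_fx_U.2 (by simp))), inv_smul_smul]
    have k1 : ((σ s)⁻¹ * g * σ s) • ![(1 : F), 0] = ![1, 0] := by simpa only [one_smul] using k 1
    obtain ⟨t, ht⟩ := h.lin_uu hF (g := (σ s)⁻¹ * g * σ s) (j := j)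
      (RingEquiv.ext fun t => h.th_ext _ (by rw [k, k1]; rfl)) k1 (by
        have := conj_pow (a := (σ s)⁻¹) (b := g) (i := p ^ j)
        rw [inv_inv] at this
        rw [this, show g ^ p ^ j = 1 from congrArg Subtype.val hj, mul_one, inv_mul_cancel])
    exact mem_cj.2 (LM.mem_U.2 ⟨t, ht.symm⟩)

theorem exists_det (hσ : ∀ g (v : Fin 2 → F), σ g • v = g • v)
    (hl : ∀ (g : P) (t : F) (v : Fin 2 → F), g • t • v = t • g • v) :
    ∃ d : P →* Fˣ, d.ker = σ.range := by
  haveI : SMulCommClass P F (Fin 2 → F) := ⟨hl⟩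
  refine ⟨(LinearMap.det.comp (DistribMulAction.toModuleEnd F (Fin 2 → F))).toHomUnits,
    le_antisymm (fun g hg => ?_) ?_⟩
  · refine ⟨⟨LinearMap.toMatrix' (DistribMulAction.toModuleEnd F (Fin 2 → F) g), ?_⟩,
      eq_of_smul_eq_smul (α := Fin 2 → F) fun v => ?_⟩
    · rw [LinearMap.det_toMatrix']; exact congrArg Units.val hg
    · exact (hσ _ v).trans (LinearMap.toMatrix'_mulVec _ v)
  · rintro _ ⟨s, rfl⟩
    refine Units.ext ?_
    change LinearMap.det (DistribMulAction.toModuleEnd F (Fin 2 → F) (σ s)) = 1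
    rw [show DistribMulAction.toModuleEnd F (Fin 2 → F) (σ s) = Matrix.toLin' s.1 from
      LinearMap.ext fun v => hσ s v, LinearMap.det_toLin', s.2]

/-- fields with at most three elements -/
def SF (F : Type*) [Field F] : Prop := ∀ t : F, t = 0 ∨ t = 1 ∨ t = -1

theorem SF.lin (h : SF F) (g : P) (t : F) (v : Fin 2 → F) : g • t • v = t • g • v := by
  rcases h t with rfl | rfl | rfl
  · rw [zero_smul, zero_smul, smul_zero]
  · rw [one_smul, one_smul]
  · rw [neg_smul, neg_smul, one_smul, one_smul, smul_neg]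

theorem SF.card_le (h : SF F) : Fintype.card F ≤ 3 := by
  classical
  exact (Finset.card_le_card (show Finset.univ ⊆ ({0, 1, -1} : Finset F) from fun t _ => by
    simpa using h t)).trans Finset.card_le_three

theorem sf_of_card (h : Fintype.card F ≤ 3) : SF F := fun t => by
  classical
  by_contra e
  push Not at e
  have : ({0, 1, t} : Finset F) = Finset.univ := Finset.eq_univ_of_card _ (le_antisymm
    (Finset.card_le_univ _) (by
      rw [Finset.card_eq_three.2 ⟨0, 1, t, zero_ne_one, e.1.symm, e.2.1.symm, rfl⟩]; exact h))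
  have : t + 1 ∈ ({0, 1, t} : Finset F) := this ▸ Finset.mem_univ _
  simp [e.1, add_eq_zero_iff_eq_neg, e.2.2] at this

theorem comm_top_of_not_sf (h : ¬ SF F) : commutator SL(2, F) = ⊤ := by
  obtain ⟨t, ht⟩ := not_forall.1 h
  push Not at ht
  exact Matrix.SL2.commutator_eq_top ht.1 fun e => (sq_eq_one_iff.1 e).elim ht.2.1 ht.2.2

end

/-- additive automorphisms -/
abbrev AutZ (Z : Type) [AddCommGroup Z] : Type := Z ≃ₗ[ℤ] Z

instance {Z : Type} [AddCommGroup Z] [Finite Z] : Finite (AutZ Z) :=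
  Finite.of_injective _ (DFunLike.coe_injective (F := Z ≃ₗ[ℤ] Z))

/-- the natural representation -/
def slAut (F : Type) [Field F] : SL(2, F) →* AutZ (Fin 2 → F) :=
  DistribMulAction.toModuleAut ℤ (Fin 2 → F)

theorem slAut_smul {F : Type} [Field F] (g : SL(2, F)) (v : Fin 2 → F) : slAut F g • v = g • v := rfl

theorem SF.comm_le {F : Type} [Field F] [Fintype F] (h : SF F) :
    commutator (AutZ (Fin 2 → F)) ≤ (slAut F).range := by
  obtain ⟨d, hd⟩ := exists_det (slAut_smul (F := F)) h.lin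
  exact hd ▸ Abelianization.commutator_subset_ker d

theorem Nm_le_Nm_slAut {F : Type} [Field F] [Fintype F] :
    Nm((commutator SL(2, F)).map (slAut F)) ≤ Nm((slAut F).range) := by
  by_cases h : SF F
  · haveI := Subgroup.Normal.of_commutator_le _ h.comm_le
    exact le_Nm_normal _ _
  · rw [comm_top_of_not_sf h, ← MonoidHom.range_eq_map]

/-- the normalizer of the derived group of `SL₂(F)` -/
abbrev NS (F : Type) [Field F] : Subgroup (AutZ (Fin 2 → F)) :=
  Nm((commutator SL(2, F)).map (slAut F))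

/-- the natural representation in the normalizer -/
def slN (F : Type) [Field F] : SL(2, F) →* NS F :=
  (slAut F).codRestrict _ fun g => map_le_Nm_map (top_le_Nm _) _ ⟨g, trivial, rfl⟩

theorem lm_slN {F : Type} [Field F] [Fintype F] : LM (slN F) := by
  refine ⟨fun _ _ => rfl, ⟨?_⟩⟩
  rintro _ ⟨s, rfl⟩ g
  obtain ⟨s', e⟩ := conj_mem_of_mem_normalizer (Nm_le_Nm_slAut g.2) ⟨s, rfl⟩
  exact ⟨s', Subtype.ext e⟩

end CfH7
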