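import Cfsg.Agent.OD.Pre
import Cfsg.Agent.H7.Blk4
import Cfsg.Agent.H8.Gaschuetz

/-! The action of the normalizer of a block on its module. -/

set_option autoImplicit false
set_option linter.unusedSectionVars false

open Cfsg Subgroup CfH9 Matrix
open CfLp (uu dd uu_coe dd_coe)
open scoped commutatorElement MatrixGroups

namespace CfH7

open CfH8 (BB JJ MaxEl)

variable {G : Type*} [Group G] {p : ℕ}

theorem exists_pel {H : Type*} [Group H] [Finite G] [hp : Fact p.Prime] (f : G →* H) (x : G) {k : ℕ}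
    (h : f x ^ p ^ k = 1) : ∃ a ∈ zpowers x, IsPGroup p (zpowers a) ∧ f a = f x := by
  obtain ⟨a, ha, b, hb, ⟨j, hj⟩, h1, e⟩ := exists_pPart_mul_pPrimePart (p := p) x
  refine ⟨a, ha, isPGroup_zpowers hj, ?_⟩
  have : f b = 1 := eq_one_of_mem_of_coprime (isPGroup_zpowers h) (by
    obtain ⟨i, rfl⟩ := hb; exact ⟨i, (map_zpow f x i).symm⟩)
    (h1.coprime_dvd_left (orderOf_map_dvd f b))
  conv_rhs => rw [e, map_mul, this, mul_one]

theorem exists_p'el {H : Type*} [Group H] [Finite G] [hp : Fact p.Prime] (f : G →* H) (x : G)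
    (h : (orderOf (f x)).Coprime p) : ∃ a ∈ zpowers x, (orderOf a).Coprime p ∧ f a = f x := by
  obtain ⟨a, ha, b, hb, ⟨j, hj⟩, h1, e⟩ := exists_pPart_mul_pPrimePart (p := p) x
  refine ⟨b, hb, h1, ?_⟩
  have : f a = 1 := eq_one_of_mem_of_coprime (isPGroup_zpowers (x := f a) (k := j)
    (by rw [← map_pow, hj, map_one])) (mem_zpowers _) (h.coprime_dvd_left (by
      obtain ⟨i, rfl⟩ := ha
      exact orderOf_dvd_of_mem_zpowers ⟨i, (map_zpow f x i).symm⟩))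
  conv_rhs => rw [e, map_mul, this, one_mul]

namespace MD

variable {H Z : Type*} [Group H] [AddCommGroup Z] [DistribMulAction H Z] {R : Subgroup H}
  {Y : AddSubgroup Z} {E U U₀ : Subgroup G} (D : MD R Y E U U₀)

include D in
theorem U_le_Nm : U ≤ Nm(U₀) := le_Nm_of_comm_le D.le D.comm

theorem c_mul0 {u v : G} (hu : u ∈ U) (hv : v ∈ U₀) : D.c (u * v) = D.c u := by
  rw [D.c_mul _ hu _ (D.le hv), (D.c_zero _ (D.le hv)).2 hv, add_zero]

/-- restriction to a supplement -/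
def restrict {U' : Subgroup G} (h1 : U' ≤ U) (h2 : U ≤ U' ⊔ U₀) (h3 : E ≤ Nm(U')) :
    MD R Y E U' (U' ⊓ U₀) where
  ρ := D.ρ
  c := D.c
  n := h3
  le := inf_le_left
  range := D.range
  c_mul u hu v hv := D.c_mul u (h1 hu) v (h1 hv)
  c_mem u hu := D.c_mem u (h1 hu)
  c_surj y hy := by
    obtain ⟨u, hu, rfl⟩ := D.c_surj y hy
    obtain ⟨a, ha, b, hb, rfl⟩ := (mem_sup_of_le_Nm (h1.trans D.U_le_Nm)).1 (h2 hu)
    exact ⟨a, ha, (D.c_mul0 (h1 ha) hb).symm⟩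
  c_zero u hu := (D.c_zero u (h1 hu)).trans ⟨fun h => ⟨hu, h⟩, fun h => h.2⟩
  act g u hu := D.act g u (h1 hu)

theorem exists_phi {x : G} (hx : x ∈ Nm(U)) (hx0 : x ∈ Nm(U₀)) :
    ∃ φ : Z → Z, (∀ u ∈ U, φ (D.c u) = D.c (x * u * x⁻¹)) ∧ (∀ v ∈ Y, φ v ∈ Y) ∧
      (∀ v ∈ Y, ∀ w ∈ Y, φ (v + w) = φ v + φ w) ∧ ∀ v ∈ Y, ∀ w ∈ Y, φ v = φ w → v = w := by
  classical
  have n := fun u => conj_mem_of_mem_normalizer (x := u) hx
  have k : ∀ u ∈ U, ∀ v ∈ U, D.c (x * u * x⁻¹) = D.c (x * v * x⁻¹) ↔ D.c u = D.c v := by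
    intro u hu v hv
    rw [D.c_eq_iff (n u hu) (n v hv), D.c_eq_iff hu hv, mem_normalizer_iff.1 hx0 (u⁻¹ * v)]
    simp [mul_assoc]
  have h : ∃ φ : Z → Z, ∀ u ∈ U, φ (D.c u) = D.c (x * u * x⁻¹) :=
    ⟨fun z => if h : z ∈ Y then D.c (x * (D.c_surj z h).choose * x⁻¹) else 0, fun u hu => by
      simp only [dif_pos (D.c_mem u hu)]
      have := (D.c_surj _ (D.c_mem u hu)).choose_spec
      exact (k _ this.1 _ hu).2 this.2⟩
  obtain ⟨φ, h⟩ := h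
  refine ⟨φ, h, fun v hv => ?_, fun v hv w hw => ?_, fun v hv w hw e => ?_⟩
  · obtain ⟨u, hu, rfl⟩ := D.c_surj v hv
    exact h u hu ▸ D.c_mem _ (n u hu)
  · obtain ⟨u, hu, rfl⟩ := D.c_surj v hv
    obtain ⟨u', hu', rfl⟩ := D.c_surj w hw
    rw [← D.c_mul _ hu _ hu', h _ hu, h _ hu', h _ (mul_mem hu hu'), ← D.c_mul _ (n _ hu) _ (n _ hu'),
      conj_mul]
  · obtain ⟨u, hu, rfl⟩ := D.c_surj v hv
    obtain ⟨u', hu', rfl⟩ := D.c_surj w hw
    rwa [h _ hu, h _ hu', k _ hu _ hu'] at e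

theorem extend {X : Subgroup G} (hX : X ≤ Nm(U)) {H' : Type*} [Group H'] [DistribMulAction H' Z]
    (f : ∀ h : H', (∀ y ∈ Y, h • y = y) → h = 1)
    (h : ∀ x ∈ X, ∃ g : H', ∀ u ∈ U, D.c (x * u * x⁻¹) = g • D.c u) :
    ∃ (R' : Subgroup H') (D' : MD R' Y X U U₀), D'.c = D.c := by
  choose π hπ using h
  let π' : X →* H' := MonoidHom.mk' (fun x => π x x.2) fun a b => by
    rw [← inv_mul_eq_one]
    refine f _ fun y hy => ?_
    obtain ⟨u, hu, rfl⟩ := D.c_surj y hy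
    rw [mul_smul, mul_smul, ← hπ _ _ _ hu, ← hπ _ _ _ (conj_mem_of_mem_normalizer (hX b.2) hu),
      inv_smul_eq_iff, ← hπ _ _ _ hu]
    simp [mul_assoc]
  exact ⟨_, ⟨π', D.c, hX, D.le, rfl, D.c_mul, D.c_mem, D.c_surj, D.c_zero,
    fun g u hu => hπ g g.2 u hu⟩, rfl⟩

theorem smul_eq {X : Subgroup G} {H' : Type*} [Group H'] [DistribMulAction H' Z] {R' : Subgroup H'}
    (D' : MD R' Y X U U₀) (e : D'.c = D.c) {x : G} (h1 : x ∈ E) (h2 : x ∈ X) {y : Z} (hy : y ∈ Y) :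
    D'.ρ ⟨x, h2⟩ • y = D.ρ ⟨x, h1⟩ • y := by
  obtain ⟨u, hu, rfl⟩ := D.c_surj y hy
  rw [← D.act _ _ hu, ← e, ← D'.act _ _ hu]

theorem rl {X : Subgroup G} {H' : Type*} [Group H'] [DistribMulAction H' Z] {R' : Subgroup H'}
    (D' : MD R' Y X U U₀) (e : D'.c = D.c) (hE : E ≤ X) (σ : H →* H')
    (hσ : ∀ g (z : Z), σ g • z = g • z) (f : ∀ h : H', (∀ y ∈ Y, h • y = y) → h = 1) :
    (∀ x : E, D'.ρ ⟨x, hE x.2⟩ = σ (D.ρ x)) ∧ Rl D'.ρ E (R.map σ) := by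
  have k : ∀ x : E, D'.ρ ⟨x, hE x.2⟩ = σ (D.ρ x) := fun x => by
    rw [← inv_mul_eq_one]
    exact f _ fun y hy => by rw [mul_smul, hσ, inv_smul_eq_iff, D.smul_eq D' e x.2 _ hy]
  refine ⟨k, hE, fun x hx => ⟨_, D.mem_R ⟨x, hx⟩, (k ⟨x, hx⟩).symm⟩, ?_⟩
  rintro _ ⟨r, hr, rfl⟩
  obtain ⟨g, rfl⟩ := D.ex hr
  exact ⟨_, g.2, k g⟩

theorem conj_smul {x : G} (hx : x ∈ Nm(U)) (hE : x ∈ Nm(E)) {φ : Z → Z}
    (h : ∀ u ∈ U, φ (D.c u) = D.c (x * u * x⁻¹)) {r : H} (hr : r ∈ R) :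
    ∃ r' ∈ R, ∀ v ∈ Y, r • φ v = φ (r' • v) := by
  obtain ⟨g, rfl⟩ := D.ex hr
  refine ⟨_, D.mem_R ⟨_, conj_mem_of_mem_normalizer' hE g.2⟩, fun v hv => ?_⟩
  obtain ⟨u, hu, rfl⟩ := D.c_surj v hv
  rw [h u hu, ← D.act _ _ (conj_mem_of_mem_normalizer hx hu), ← D.act _ _ hu,
    h _ (conj_mem_of_mem_normalizer (D.n (conj_mem_of_mem_normalizer' hE g.2)) hu)]
  simp [mul_assoc]

/-- preimage of a subgroup -/
def pre (X : AddSubgroup Z) : Subgroup G where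
  carrier := {u | u ∈ U ∧ D.c u ∈ X}
  one_mem' := ⟨one_mem _, D.c_one ▸ zero_mem _⟩
  mul_mem' {a b} ha hb := ⟨mul_mem ha.1 hb.1, D.c_mul _ ha.1 _ hb.1 ▸ add_mem ha.2 hb.2⟩
  inv_mem' {a} ha := ⟨inv_mem ha.1, D.c_inv ha.1 ▸ neg_mem ha.2⟩

theorem mem_pre {X : AddSubgroup Z} {u : G} : u ∈ D.pre X ↔ u ∈ U ∧ D.c u ∈ X := Iff.rfl

theorem pre_le (X : AddSubgroup Z) : D.pre X ≤ U := fun _ h => h.1

theorem le_pre (X : AddSubgroup Z) : U₀ ≤ D.pre X := fun u h =>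
  ⟨D.le h, (D.c_zero u (D.le h)).2 h ▸ zero_mem _⟩

theorem card_pre (X : AddSubgroup Z) :
    Nat.card (D.pre X) = Nat.card (X ⊓ Y : AddSubgroup Z) * Nat.card U₀ := by
  let χ : D.pre X →* Multiplicative Z := MonoidHom.mk' (fun u => .ofAdd (D.c u))
    fun a b => congrArg Multiplicative.ofAdd (D.c_mul _ a.2.1 _ b.2.1)
  have e1 : χ.ker = U₀.subgroupOf (D.pre X) := Subgroup.ext fun u => D.c_zero _ u.2.1
  have e2 : χ.range = (X ⊓ Y).toSubgroup := Subgroup.ext fun z => ⟨by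
    rintro ⟨u, rfl⟩; exact ⟨u.2.2, D.c_mem _ u.2.1⟩, fun h => by
      obtain ⟨u, hu, e⟩ := D.c_surj _ h.2
      exact ⟨⟨u, hu, e ▸ h.1⟩, congrArg Multiplicative.ofAdd e⟩⟩
  rw [← χ.ker.index_mul_card, index_ker, e1, e2, card_subgroupOf (D.le_pre X)]
  rfl

include D in
theorem card_U : Nat.card U = Nat.card Y * Nat.card U₀ := by
  have := D.card_pre ⊤
  rwa [top_inf_eq, show D.pre ⊤ = U from le_antisymm (D.pre_le _) fun u hu => ⟨hu, trivial⟩] at this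

theorem pre_fx {A : Subgroup G} {A' : Subgroup H} (r : Rl D.ρ A A') :
    D.pre (fx Z A') = U ⊓ secCz A U₀ := by
  ext u
  refine and_congr_right fun hu => ⟨fun h => ⟨D.U_le_Nm hu, fun a ha => ?_⟩, fun h a ha => ?_⟩
  · rw [← D.c_zero _ (commutator_mem_right hu (D.n (r.le ha))), D.c_comm ⟨a, r.le ha⟩ hu,
      h _ (r.mem _ ha), sub_self]
  · obtain ⟨x, hx, rfl⟩ := r.ex a ha
    rw [← sub_eq_zero, ← D.c_comm x hu, D.c_zero _ (commutator_mem_right hu (D.n x.2))]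
    exact h.2 x hx

end MD

theorem Mdl.faith {P Z : Type*} [Group P] [AddCommGroup Z] [DistribMulAction P Z] [FaithfulSMul P Z]
    {Y : AddSubgroup Z} {S' S : Subgroup P} (m : Mdl p Y S' S) (g : P) (h : ∀ y ∈ Y, g • y = y) :
    g = 1 := eq_one_of_smul (W := Z) fun w => by
  obtain ⟨a, ha, b, hb, rfl⟩ := AddSubgroup.mem_sup.1 (m.sup.ge (AddSubgroup.mem_top w))
  rw [smul_add, ha g trivial, h b hb]

variable {E U U₀ X : Subgroup G}

theorem MD.ext_lin {F : Type} [Field F] [Fintype F]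
    (D : MD (commutator SL(2, F)) (⊤ : AddSubgroup (Fin 2 → F)) E U U₀) (h1 : X ≤ Nm(U))
    (h2 : X ≤ Nm(U₀)) (h3 : X ≤ Nm(E) ∨ SF F) :
    ∃ (R' : Subgroup (NS F)) (D' : MD R' (⊤ : AddSubgroup (Fin 2 → F)) X U U₀), D'.c = D.c := by
  refine D.extend h1 (fun g h => eq_one_of_smul (W := Fin 2 → F) fun w => h w trivial)
    fun x hx => ?_
  obtain ⟨φ, k1, -, k2, k3⟩ := D.exists_phi (h1 hx) (h2 hx)
  let g : AutZ (Fin 2 → F) := LinearEquiv.ofBijective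
    (AddMonoidHom.mk' φ fun v w => k2 v trivial w trivial).toIntLinearMap
    (Finite.injective_iff_bijective.1 fun v w => k3 v trivial w trivial)
  refine ⟨⟨g, ?_⟩, fun u hu => (k1 u hu).symm⟩
  rcases h3 with h3 | h3
  · refine inv_mem_iff.1 (mem_normalizer_of_conj_mem ?_)
    rintro _ ⟨r, hr, rfl⟩
    obtain ⟨r', hr', e⟩ := D.conj_smul (h1 hx) (h3 hx) k1 hr
    refine ⟨r', hr', eq_of_smul_eq_smul (α := Fin 2 → F) fun v => ?_⟩
    rw [inv_inv, mul_smul, mul_smul, eq_inv_smul_iff]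
    exact (e v trivial).symm
  · haveI := Subgroup.Normal.of_commutator_le _ h3.comm_le
    haveI : ((commutator SL(2, F)).map (slAut F)).Normal := by
      rw [_root_.commutator_def SL(2, F), map_commutator, ← MonoidHom.range_eq_map]
      infer_instance
    exact mem_Nm_of_normal _ _

theorem MD.ext_perm {m : ℕ} (hm : m ≠ 0)
    (D : MD (alternatingGroup (Fin (2 * m + 1))) (evn (2 * m + 1)) E U U₀) (h1 : X ≤ Nm(U))
    (h2 : X ≤ Nm(U₀)) (h3 : X ≤ Nm(E) ∨ m = 1) :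
    ∃ (R' : Subgroup (Equiv.Perm (Fin (2 * m + 1)))) (D' : MD R' (evn (2 * m + 1)) X U U₀),
      D'.c = D.c := by
  refine D.extend h1 perm_faith fun x hx => ?_
  obtain ⟨φ, k1, k0, k2, k3⟩ := D.exists_phi (h1 hx) (h2 hx)
  obtain ⟨τ, h⟩ := perm_of_norm hm k0 k2 k3 (h3.symm.imp_right fun h3 σ hσ =>
    (D.conj_smul (h1 hx) (h3 hx) k1 hσ).imp fun _ e => e.2)
  exact ⟨τ, fun u hu => by rw [← k1 u hu, h _ (D.c_mem u hu)]⟩

/-! ### small groups -/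

theorem comm_pow_zmod3 {g : SL(2, ZMod 3)} (h : g ∈ commutator SL(2, ZMod 3)) : g ^ 4 = 1 := by
  let K : Subgroup SL(2, ZMod 3) :=
    { carrier := {g | g ^ 4 = 1}
      one_mem' := one_pow _
      mul_mem' := fun {a b} => (by decide +kernel :
        ∀ a b : SL(2, ZMod 3), a ^ 4 = 1 → b ^ 4 = 1 → (a * b) ^ 4 = 1) a b
      inv_mem' := fun {a} (h : a ^ 4 = 1) => show a⁻¹ ^ 4 = 1 by rw [inv_pow, h, inv_one] }
  exact commutator_le (H₃ := K).2 (fun a _ b _ =>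
    (by decide +kernel : ∀ a b : SL(2, ZMod 3), ⁅a, b⁆ ^ 4 = 1) a b) h

theorem comm_pow_zmod2 {g : SL(2, ZMod 2)} (h : g ∈ commutator SL(2, ZMod 2)) : g ^ 3 = 1 := by
  let K : Subgroup SL(2, ZMod 2) :=
    { carrier := {g | g ^ 3 = 1}
      one_mem' := one_pow _
      mul_mem' := fun {a b} => (by decide +kernel :
        ∀ a b : SL(2, ZMod 2), a ^ 3 = 1 → b ^ 3 = 1 → (a * b) ^ 3 = 1) a b
      inv_mem' := fun {a} (h : a ^ 3 = 1) => show a⁻¹ ^ 3 = 1 by rw [inv_pow, h, inv_one] }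
  exact commutator_le (H₃ := K).2 (fun a _ b _ =>
    (by decide +kernel : ∀ a b : SL(2, ZMod 2), ⁅a, b⁆ ^ 3 = 1) a b) h

/-- `SL₂` of isomorphic rings -/
def slEquiv {A B : Type*} [CommRing A] [CommRing B] (e : A ≃+* B) : SL(2, A) ≃* SL(2, B) :=
  MonoidHom.toMulEquiv (SpecialLinearGroup.map e.toRingHom) (SpecialLinearGroup.map e.symm.toRingHom)
    (by ext g i j; simp) (by ext g i j; simp)

theorem map_comm_equiv {A B : Type*} [Group A] [Group B] (e : A ≃* B) :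
    (commutator A).map (e : A →* B) = commutator B := by
  rw [commutator_def, map_commutator, map_top_of_surjective _ e.surjective, commutator_def]

variable [hp : Fact p.Prime]

theorem SF.card_eq {F : Type} [Field F] [Fintype F] {n : ℕ} (h : SF F)
    (hF : Fintype.card F = p ^ n) : Fintype.card F = p ∧ (p = 2 ∨ p = 3) := by
  have h1 := h.card_le
  have h2 : 1 < Fintype.card F := Fintype.one_lt_card
  have h3 := hp.out.two_le
  rw [hF] at h1 h2 ⊢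
  obtain _ | _ | n := n
  · simp at h2
  · rw [zero_add, pow_one] at h1 ⊢; omega
  · have : 0 < p ^ n := by positivity
    rw [pow_succ, pow_succ, mul_assoc] at h1
    nlinarith [Nat.mul_le_mul h3 h3]

theorem SF.pow_eq {F : Type} [Field F] [Fintype F] {n : ℕ} (h : SF F)
    (hF : Fintype.card F = p ^ n) {g : SL(2, F)} (hg : g ∈ commutator SL(2, F)) :
    g ^ (p + 1) = 1 := by
  obtain ⟨h1, h2⟩ := h.card_eq hF
  let e := slEquiv (ZMod.ringEquivOfPrime F hp.out h1)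
  obtain ⟨g, hg', rfl⟩ := (map_comm_equiv e).ge hg
  rw [← map_pow]
  rcases h2 with rfl | rfl
  · rw [comm_pow_zmod2 hg', map_one]
  · rw [comm_pow_zmod3 hg', map_one]

theorem alt3_pow {g : Equiv.Perm (Fin (2 * 1 + 1))} (h : g ∈ alternatingGroup (Fin (2 * 1 + 1))) :
    g ^ (2 + 1) = 1 :=
  (by decide : ∀ g : Equiv.Perm (Fin (2 * 1 + 1)), Equiv.Perm.sign g = 1 → g ^ (2 + 1) = 1) g h

theorem qs_sl {F : Type} [Field F] [Fintype F] (h : ¬ SF F) : IsQuasisimple SL(2, F) :=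
  ⟨⟨comm_top_of_not_sf h⟩, ProjectiveSpecialLinearGroup.rank_two_simple (by
    rw [Nat.card_eq_fintype_card]; exact not_le.1 fun e => h (sf_of_card e))⟩

theorem exists_alt_inv {m : ℕ} (hm : 2 ≤ m) : ∃ a ∈ alternatingGroup (Fin (2 * m + 1)),
    ∃ b ∈ alternatingGroup (Fin (2 * m + 1)), a ^ 2 = 1 ∧ a * b ≠ b * a := by
  let i : Fin 4 → Fin (2 * m + 1) := fun j => ⟨j, by omega⟩
  have n : ∀ {j k : Fin 4}, j ≠ k → i j ≠ i k := fun h e => h (Fin.ext (congrArg Fin.val e :))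
  refine ⟨Equiv.swap (i 0) (i 1) * Equiv.swap (i 2) (i 3), ?_,
    Equiv.swap (i 0) (i 1) * Equiv.swap (i 1) (i 2), ?_, ?_, fun e => ?_⟩
  · rw [Equiv.Perm.mem_alternatingGroup, map_mul, Equiv.Perm.sign_swap (n (by decide)),
      Equiv.Perm.sign_swap (n (by decide))]; rfl
  · rw [Equiv.Perm.mem_alternatingGroup, map_mul, Equiv.Perm.sign_swap (n (by decide)),
      Equiv.Perm.sign_swap (n (by decide))]; rfl
  · rw [Commute.mul_pow, pow_two, pow_two, Equiv.swap_mul_self, Equiv.swap_mul_self, one_mul]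
    exact (Equiv.Perm.disjoint_swap_swap (by
      simp only [List.nodup_cons, List.mem_cons, List.not_mem_nil, or_false, not_or,
        List.nodup_nil, not_false_eq_true, and_true]
      refine ⟨⟨?_, ?_, ?_⟩, ⟨?_, ?_⟩, ?_⟩ <;> exact n (by decide))).commute
  · have := congrArg (· (i 3)) e
    simp only [Equiv.Perm.mul_apply, Equiv.swap_apply_right, Equiv.swap_apply_left,
      Equiv.swap_apply_of_ne_of_ne (n (by decide : (3 : Fin 4) ≠ 1)) (n (by decide : (3 : Fin 4) ≠ 2)),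
      Equiv.swap_apply_of_ne_of_ne (n (by decide : (3 : Fin 4) ≠ 0)) (n (by decide : (3 : Fin 4) ≠ 1)),
      Equiv.swap_apply_of_ne_of_ne (n (by decide : (2 : Fin 4) ≠ 0)) (n (by decide : (2 : Fin 4) ≠ 1))]
      at this
    exact n (by decide) this

theorem qs_alt {m : ℕ} (hm : 2 ≤ m) : IsQuasisimple (alternatingGroup (Fin (2 * m + 1))) := by
  haveI := alternatingGroup.isSimpleGroup (α := Fin (2 * m + 1)) (by simp; omega)
  obtain ⟨a, ha, b, hb, -, e⟩ := exists_alt_inv hm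
  exact isQuasisimple_of_isSimpleGroup fun h =>
    e (congrArg Subtype.val (h.1.1 ⟨a, ha⟩ ⟨b, hb⟩))

end CfH7
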