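import Cfsg.Agent.OD.Pre
import Cfsg.Agent.H7.Blk5
import Cfsg.Agent.H7.QSMod

/-! Offenders on the module of a block. -/

set_option autoImplicit false
set_option linter.unusedSectionVars false

open Cfsg Subgroup CfH9 Matrix
open CfLp (uu dd uu_coe dd_coe)
open scoped commutatorElement MatrixGroups

namespace CfH7

open CfH8 (BB JJ MaxEl)

variable {G : Type*} [Group G] {p : ℕ}

section Rl

variable {P : Type*} [Group P] {X C : Subgroup G} {π : X →* P}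

/-- image of an ambient subgroup -/
abbrev im (π : X →* P) (B : Subgroup G) : Subgroup P := (B.subgroupOf X).map π

theorem im_mono {A B : Subgroup G} (h : A ≤ B) : im π A ≤ im π B := map_mono (comap_mono h)

theorem mem_im {B : Subgroup G} {x : X} (h : (x : G) ∈ B) : π x ∈ im π B := ⟨x, h, rfl⟩

theorem im_sup {A B : Subgroup G} (hA : A ≤ X) (hB : B ≤ X) : im π (A ⊔ B) = im π A ⊔ im π B := by
  rw [im, subgroupOf_sup hA hB, Subgroup.map_sup]

theorem im_comm {A B : Subgroup G} (hA : A ≤ X) (hB : B ≤ X) : im π ⁅A, B⁆ = ⁅im π A, im π B⁆ := by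
  rw [im, subgroupOf_commutator hA hB, map_commutator]

theorem im_cj (g : X) (A : Subgroup G) : im π (cj (g : G) A) = cj (π g) (im π A) := by
  rw [im, cj_subgroupOf, map_cj]

theorem im_res [Finite G] [Fact p.Prime] {A : Subgroup G} (hA : A ≤ X) :
    im π (pResidualOf p A) = pResidualOf p (im π A) := by
  rw [im, ← pResidualOf_subgroupOf hA, map_pResidualOf]

theorem isPGroup_im {A : Subgroup G} (h : IsPGroup p A) : IsPGroup p (im π A) :=
  (isPGroup_subgroupOf h X).map π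

theorem elemAb_im {A : Subgroup G} (h : IsElementaryAbelian p A) : IsElementaryAbelian p (im π A) :=
  elemAb_map (elemAb_subgroupOf h X) π

theorem im_le_iff {A : Subgroup G} (hA : A ≤ X) {S : Subgroup P} :
    im π A ≤ S ↔ ∀ a, ∀ h : a ∈ A, π ⟨a, hA h⟩ ∈ S :=
  ⟨fun h _ ha => h (mem_im ha), fun h => by rintro _ ⟨x, hx, rfl⟩; exact h x hx⟩

theorem mem_sup_of_mem_im (ker : ∀ x : X, π x = 1 ↔ (x : G) ∈ C) {A : Subgroup G} {x : X}
    (h : π x ∈ im π A) : (x : G) ∈ A ⊔ (X ⊓ C) := by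
  obtain ⟨a, ha, e⟩ := h
  rw [← mul_inv_cancel_left (a : G) x]
  exact mul_mem (mem_sup_left ha) (mem_sup_right (mi (a⁻¹ * x).2
    ((ker (a⁻¹ * x)).1 (by rw [map_mul, map_inv, e, inv_mul_cancel]))))

theorem im_ker (ker : ∀ x : X, π x = 1 ↔ (x : G) ∈ C) : im π (X ⊓ C) = ⊥ :=
  le_bot_iff.1 ((im_le_iff inf_le_left).2 fun _ h => (ker _).2 h.2)

theorem im_eq_bot_iff (ker : ∀ x : X, π x = 1 ↔ (x : G) ∈ C) {A : Subgroup G} (hA : A ≤ X) :
    im π A = ⊥ ↔ A ≤ C := by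
  rw [← le_bot_iff, im_le_iff hA]
  exact ⟨fun h a ha => (ker ⟨a, hA ha⟩).1 (h a ha), fun h a ha => (ker ⟨a, hA ha⟩).2 (h ha)⟩

theorem im_le_im_iff (ker : ∀ x : X, π x = 1 ↔ (x : G) ∈ C) {A B : Subgroup G} (hA : A ≤ X)
    (hB : B ≤ X) : im π A ≤ im π B ↔ A ≤ B ⊔ (X ⊓ C) :=
  ⟨fun h a ha => mem_sup_of_mem_im ker (h (mem_im (x := ⟨a, hA ha⟩) ha)), fun h =>
    (im_mono h).trans (by rw [im_sup hB inf_le_left, im_ker ker, sup_bot_eq])⟩

theorem card_im (ker : ∀ x : X, π x = 1 ↔ (x : G) ∈ C) {B : Subgroup G} (hB : B ≤ X) :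
    Nat.card (im π B) * Nat.card (B ⊓ C : Subgroup G) = Nat.card B := by
  have r := rl_map π hB
  have e : r.hom.ker = (B ⊓ C).subgroupOf B := by
    ext b
    rw [MonoidHom.mem_ker, mem_subgroupOf, Subtype.ext_iff, r.coe_hom, coe_one, ker]
    exact ⟨fun e => mi b.2 e, fun e => e.2⟩
  rw [← card_subgroupOf (inf_le_left (a := B)), ← e, ← r.hom.ker.index_mul_card, index_ker,
    MonoidHom.range_eq_top.2 r.hom_surj, card_top]

theorem le_Nm_of_im (ker : ∀ x : X, π x = 1 ↔ (x : G) ∈ C) [Finite G] {A B : Subgroup G} (hA : A ≤ X)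
    (hB : B ≤ X) (h : im π A ≤ Nm(im π B)) : A ≤ Nm(B ⊔ (X ⊓ C)) := fun a ha =>
  mem_normalizer_of_conj_mem fun b hb => by
    have hb' := sup_le hB inf_le_left hb
    refine mem_sup_of_mem_im ker (x := ⟨a, hA ha⟩ * ⟨b, hb'⟩ * ⟨a, hA ha⟩⁻¹) ?_
    rw [map_mul, map_mul, map_inv]
    exact conj_mem_of_mem_normalizer (h (mem_im ha))
      ((im_le_im_iff ker (sup_le hB inf_le_left) hB).2 le_rfl (mem_im hb))

end Rl

variable {P Z : Type*} [Group P] [AddCommGroup Z] [DistribMulAction P Z] {R' S' S : Subgroup P}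
  {Y : AddSubgroup Z} {N V V₀ E : Subgroup G}

/-- the module of a block with the action of `N` -/
structure BD (p : ℕ) (D : MD R' Y N V V₀) (E : Subgroup G) (S' S : Subgroup P) : Prop where
  mdl : Mdl p Y S' S
  le : E ≤ N
  im : im D.ρ E = S'
  ker : ∀ x : N, D.ρ x = 1 ↔ (x : G) ∈ Cz(V)
  el : IsElementaryAbelian p V

variable [Finite G] [Finite P] [Finite Z] [FaithfulSMul P Z] [hp : Fact p.Prime] {D : MD R' Y N V V₀}

namespace BD

theorem sup (h : BD p D E S' S) (A : Subgroup P) : fx Z A ⊔ Y = ⊤ :=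
  top_unique (h.mdl.sup.ge.trans (sup_le_sup_right (fx_anti le_top) _))

theorem card_pre (h : BD p D E S' S) (A : Subgroup P) :
    Nat.card (D.pre (fx Z A)) * Nat.card Z = Nat.card V * Nat.card (fx Z A) := by
  have := add_card_sup_mul_card_inf (fx Z A) Y
  rw [h.sup, AddSubgroup.card_top] at this
  rw [D.card_pre, D.card_U, mul_right_comm, mul_comm _ (Nat.card Z), this]; ring

theorem noo (h : BD p D E S' S) {A : Subgroup G} (hA : A ≤ N)
    (he : IsElementaryAbelian p (CfH7.im D.ρ A)) :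
    Nat.card A * Nat.card (V ⊓ secCz A V₀ : Subgroup G) ≤
      Nat.card (A ⊓ Cz(V) : Subgroup G) * Nat.card V := by
  have h1 := h.mdl.rs.noo _ he
  have h2 := h.card_pre (CfH7.im D.ρ A)
  rw [D.pre_fx (rl_map D.ρ hA)] at h2
  rw [← card_im h.ker hA]
  refine Nat.le_of_mul_le_mul_right ?_ (Nat.card_pos (α := Z))
  rw [mul_assoc, h2]
  calc _ = lm Z (CfH7.im D.ρ A) * (Nat.card (A ⊓ Cz(V) : Subgroup G) * Nat.card V) := by
        rw [lm]; ring
    _ ≤ _ := by rw [mul_comm _ (Nat.card Z)]; exact Nat.mul_le_mul_right _ h1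

theorem inf_Cz_le (D : MD R' Y N V V₀) (A : Subgroup G) : V ⊓ Cz(A) ≤ V ⊓ secCz A V₀ :=
  le_inf inf_le_left (le_secCz (inf_le_left.trans D.U_le_Nm)
    ((comm_eq_bot_right.2 inf_le_right).le.trans bot_le))

theorem off_of (h : BD p D E S' S) {A : Subgroup G} (hA : A ≤ N)
    (he : IsElementaryAbelian p (CfH7.im D.ρ A))
    (e : Nat.card V * Nat.card (A ⊓ Cz(V) : Subgroup G) ≤
      Nat.card A * Nat.card (V ⊓ Cz(A) : Subgroup G)) :
    Off Z p (CfH7.im D.ρ A) ∧ V ⊓ secCz A V₀ = V ⊓ Cz(A) := by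
  have h1 := h.noo hA he
  have h3 := inf_Cz_le D A
  have h4 : V ⊓ Cz(A) = V ⊓ secCz A V₀ := eq_of_le_of_card_ge h3
    (Nat.le_of_mul_le_mul_left (h1.trans (mul_comm (Nat.card V) _ ▸ e)) Nat.card_pos)
  refine ⟨⟨he, le_antisymm (h.mdl.rs.noo _ he) ?_⟩, h4.symm⟩
  have h2 := h.card_pre (CfH7.im D.ρ A)
  rw [D.pre_fx (rl_map D.ρ hA), ← h4] at h2
  rw [← card_im h.ker hA, mul_right_comm] at e
  have e1 := Nat.mul_le_mul_right (Nat.card Z) (Nat.le_of_mul_le_mul_right e Nat.card_pos)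
  rw [mul_assoc, h2, mul_left_comm] at e1
  exact Nat.le_of_mul_le_mul_left e1 Nat.card_pos

theorem off_maxEl (h : BD p D E S' S) {A X : Subgroup G} (hA : MaxEl p A X) (hV : V ≤ X)
    (hN : A ≤ N) : Off Z p (CfH7.im D.ρ A) ∧ V ⊓ secCz A V₀ = V ⊓ Cz(A) :=
  h.off_of hN (elemAb_im hA.el) (maxEl_ineq hA hV h.el)

variable {X : Subgroup G}

theorem im_J (h : BD p D E S' S) (hV : V ≤ X) (hN : JJ p X ≤ N) :
    CfH7.im D.ρ (JJ p X) = jj Z (CfH7.im D.ρ (JJ p X)) := by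
  refine le_antisymm ?_ (jj_le _)
  rw [map_le_iff_le_comap, ← map_le_map_iff_of_injective N.subtype_injective,
    map_subgroupOf_eq_of_le hN, CfH8.J_le_iff]
  intro A hA a ha
  refine ⟨⟨a, hN (hA.le_J ha)⟩, ?_, rfl⟩
  exact jj_le_iff.2 (fun B hB e => le_jj hB (e.trans (im_mono hA.le_J)))
    (h.mdl.gen _ (h.off_maxEl hA hV (hA.le_J.trans hN)).1 (mem_im ha))

theorem off_J (h : BD p D E S' S) (hX : IsPGroup p X) (hV : V ≤ X) (hN : JJ p X ≤ N) :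
    Off Z p (CfH7.im D.ρ (JJ p X)) :=
  h.im_J hV hN ▸ h.mdl.rs.off_jj (isPGroup_im (CfH8.isPGroup_J hX))

theorem tight (h : BD p D E S' S) (hV : V ≤ X) (hN : JJ p X ≤ N) :
    V ⊓ secCz (JJ p X) V₀ = V ⊓ Cz(JJ p X) := by
  refine le_antisymm (le_inf inf_le_left (le_Cz_comm (CfH8.J_le_iff.2 fun A hA => le_Cz_comm ?_)))
    (inf_Cz_le D _)
  refine le_trans ?_ ((h.off_maxEl hA hV (hA.le_J.trans hN)).2.le.trans inf_le_right)
  exact le_inf inf_le_left fun x hx => ⟨hx.2.1, fun a ha => hx.2.2 a (hA.le_J ha)⟩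

theorem quad (h : BD p D E S' S) (hX : IsPGroup p X) (hV : V ≤ X) (hN : JJ p X ≤ N) :
    ⁅V, JJ p X⁆ ≤ Cz(JJ p X) := by
  refine le_trans (commutator_le.2 fun v hv a ha => ?_) ((h.tight hV hN).le.trans inf_le_right)
  rw [← D.pre_fx (rl_map D.ρ hN)]
  refine ⟨commutator_mem_left hv (D.n (hN ha)), ?_⟩
  rw [D.c_comm' ⟨a, hN ha⟩ hv, ← neg_sub]
  exact neg_mem (fx_anti (h.im_J hV hN).le (h.mdl.rs.cm_jj (isPGroup_im (CfH8.isPGroup_J hX))
    (sub_mem_cm ((h.im_J hV hN).le (mem_im ha)) _)))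

theorem fix' (h : BD p D E S' S) {A : Subgroup G} (hA : A ≤ N) (ho : Off Z p (CfH7.im D.ρ A))
    {b : G} (hb : b ∈ N) (hp : IsPGroup p (zpowers b)) (hc : b ∈ Cz(V ⊓ secCz A V₀)) :
    b ∈ A ⊔ (N ⊓ Cz(V)) := by
  refine mem_sup_of_mem_im h.ker (x := ⟨b, hb⟩) (h.mdl.fix _ ho _ ?_ fun w hw => ?_)
  · obtain ⟨k, hk⟩ := isPGroup_iff_mem.1 hp b (mem_zpowers b)
    exact isPGroup_zpowers (k := k) (by rw [← map_pow, ← D.ρ.map_one]; congr 1; exact Subtype.ext hk)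
  obtain ⟨a, ha, y, hy, rfl⟩ := AddSubgroup.mem_sup.1 (h.mdl.sup.ge (AddSubgroup.mem_top w))
  obtain ⟨u, hu, rfl⟩ := D.c_surj y hy
  have : u ∈ D.pre (fx Z (CfH7.im D.ρ A)) :=
    ⟨hu, (add_mem_cancel_left (fx_anti le_top ha)).1 hw⟩
  rw [D.pre_fx (rl_map D.ρ hA)] at this
  rw [smul_add, ha _ trivial, ← D.act _ _ hu, conj_eq_of_mem_centralizer hc this]

theorem fix (h : BD p D E S' S) (hX : IsPGroup p X) (hV : V ≤ X) (hN : JJ p X ≤ N) {b : G}
    (hb : b ∈ N) (hp : IsPGroup p (zpowers b)) (hc : b ∈ Cz(V ⊓ Cz(JJ p X))) :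
    b ∈ JJ p X ⊔ (N ⊓ Cz(V)) := h.fix' hN (h.off_J hX hV hN) hb hp (h.tight hV hN ▸ hc)

theorem im_sup_J (h : BD p D E S' S) (hV : V ≤ X) (hN : JJ p X ≤ N) (hn : ¬ JJ p X ≤ Cz(V)) :
    CfH7.im D.ρ (E ⊔ JJ p X) = S := by
  rw [im_sup h.le hN, h.im]
  refine le_antisymm (sup_le h.mdl.le ((h.im_J hV hN).le.trans
    (jj_le_iff.2 fun A hA _ => (h.mdl.rt A hA).1))) ?_
  by_contra e
  exact hn ((im_eq_bot_iff h.ker hN).1 (le_bot_iff.1 ((h.im_J hV hN).le.trans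
    (jj_le_iff.2 fun A hA e' => absurd ((h.mdl.rt A hA).2.trans (sup_le_sup_left e' _)) e))))

theorem nrm (h : BD p D E S' S) (hV : V ≤ X) (hN : JJ p X ≤ N) (hn : ¬ JJ p X ≤ Cz(V)) :
    N ≤ Nm((E ⊔ JJ p X) ⊔ (N ⊓ Cz(V))) := by
  haveI := h.mdl.nS
  exact le_Nm_of_im h.ker le_rfl (sup_le h.le hN) (h.im_sup_J hV hN hn ▸ le_Nm_normal _ _)

theorem res_le (h : BD p D E S' S) {A : Subgroup G} (hA : A ≤ N) (e : CfH7.im D.ρ A ≤ S) :
    pResidualOf p A ≤ E ⊔ (N ⊓ Cz(V)) := by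
  rw [← im_le_im_iff h.ker ((pResidualOf_le A).trans hA) h.le, im_res hA, h.im]
  exact (pResidualOf_mono e).trans h.mdl.res

end BD

variable {T : Subgroup G}

/-- `C_V(E)` -/
abbrev bV0 (p : ℕ) (E : Subgroup G) : Subgroup G := bV p E ⊓ Cz(E)

theorem Nm_le_Nm_bV0 (E : Subgroup G) : Nm(E) ≤ Nm(bV0 p E) :=
  le_normalizer_inf (Nm_le_Nm_bV E) (Nm_le_Nm_Cz E)

theorem elemAb_bV (E : Subgroup G) : IsElementaryAbelian p (bV p E) :=
  elemAb_of_le (bV_le E) (elemAb_OZ _)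

theorem BK.md_V (h : BK p T E) {H Z : Type*} [Group H] [AddCommGroup Z] [DistribMulAction H Z]
    {R : Subgroup H} {Y : AddSubgroup Z} (D : MD R Y E (bW p E) (bZ p E)) :
    Nonempty (MD R Y E (bV p E) (bV0 p E)) := by
  have : bV p E ⊓ bZ p E = bV0 p E := by rw [← inf_assoc, inf_eq_left.2 (bV_le E)]
  exact this ▸ ⟨D.restrict (bV_le E) h.W_le (right_le_Nm_comm _ _)⟩

theorem BK.le_Cz_of_sec0 (h : BK p T E) {X : Subgroup G} (h1 : X ≤ Nm(E))
    (h2 : ⁅bV p E, X⁆ ≤ Cz(E)) : X ≤ Cz(bV p E) :=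
  h.le_Cz_of_sec h1 (le_secCz (h1.trans (Nm_le_Nm_bZ E)) ((commutator_mono h.W_le le_rfl).trans
    (commutator_sup_left_le ((bV_le' E).trans h.is.n0) le_normalizer
      (le_inf ((comm_le_left (h1.trans (Nm_le_Nm_bV E))).trans (bV_le E)) h2)
      (comm_le_left (h1.trans (Nm_le_Nm_bZ E))))))

theorem BK.mem_sec0 (h : BK p T E) {x : G} (h1 : x ∈ Nm(E)) :
    x ∈ secCz (bV p E) (bV0 p E) ↔ x ∈ Cz(bV p E) :=
  ⟨fun e => h.le_Cz_of_sec0 (zpowers_le.2 h1)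
    ((commutator_le_of_le_secCz (zpowers_le.2 e)).trans inf_le_right) (mem_zpowers x), fun e =>
    le_secCz (zpowers_le.2 (Nm_le_Nm_bV0 E h1))
      ((comm_eq_bot_right.2 (zpowers_le.2 e)).le.trans bot_le) (mem_zpowers x)⟩

/-- linear blocks -/
structure LinB (p : ℕ) (E : Subgroup G) (F : Type) [Field F] [Fintype F] : Prop where
  card : ∃ n, Fintype.card F = p ^ n
  md : Nonempty (MD (commutator SL(2, F)) (⊤ : AddSubgroup (Fin 2 → F)) E (bV p E) (bV0 p E))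
  exc : pCoreOf p E = bW p E ∨ (Nat.card (bZ p E) = Fintype.card F ∧ Nonempty
    (MD (commutator SL(2, F)) (⊤ : AddSubgroup (Fin 2 → F)) E (pCoreOf p E) (bW p E)))

/-- symmetric blocks -/
structure SymB (E : Subgroup G) (m : ℕ) : Prop where
  ne : m ≠ 0
  md : Nonempty (MD (alternatingGroup (Fin (2 * m + 1))) (evn (2 * m + 1)) E (bV 2 E) (bV0 2 E))
  exc : pCoreOf 2 E = bW 2 E

theorem blk_kind (h : IsBaumannBlock p T E) :
    (∃ (F : Type) (_ : Field F) (_ : Fintype F), LinB p E F) ∨ (p = 2 ∧ ∃ m, SymB E m) := by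
  have k := bk_of h
  obtain ⟨h1, h2, h3, h4, ⟨F, _, _, n, hF, e, a, h5⟩ | ⟨rfl, m, e, a, h5⟩⟩ := h
  · obtain ⟨D⟩ := exists_md_sl a
    refine Or.inl ⟨F, _, _, ⟨n, hF⟩, k.md_V D, h5.imp_right ?_⟩
    rintro ⟨rfl, a', -, -, k2, k3, -⟩
    exact ⟨by rw [hF, ← k3, k2]; rfl, exists_md_sl a'⟩
  · obtain ⟨D⟩ := exists_md_perm a
    refine Or.inr ⟨rfl, m, ?_, k.md_V D, h5⟩
    rintro rfl
    haveI : Subsingleton (Equiv.Perm (Fin (2 * 0 + 1))) :=
      inferInstanceAs (Subsingleton (Equiv.Perm (Fin 1)))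
    exact k.not_le_Q fun x hx => k.ker.le (mi hx ((D.ρ_eq_one (fun r _ => perm_faith r) ⟨x, hx⟩).1
      (Subsingleton.elim _ _)))

section

variable {H Z : Type*} [Group H] [AddCommGroup Z] [DistribMulAction H Z] {R : Subgroup H}
  {Y : AddSubgroup Z}

theorem BK.ρ_eq_one (h : BK p T E) (D : MD R Y E (bV p E) (bV0 p E))
    (f : ∀ r ∈ R, (∀ y ∈ Y, r • y = y) → r = 1) (x : E) : D.ρ x = 1 ↔ (x : G) ∈ pCoreOf p E := by
  rw [D.ρ_eq_one f, h.mem_sec0 (le_normalizer x.2)]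
  exact ⟨h.mem_Q x.2, fun e => Q_le_Cz_bV E e⟩

theorem pcl_of_hom (ρ : E →* H) (k : ∀ x : E, ρ x = 1 ↔ (x : G) ∈ pCoreOf p E)
    (h : ∀ x : E, ρ x ^ (p + 1) = 1) : PCl p E := fun X hX hXp x hx => by
  obtain ⟨j, hj⟩ := isPGroup_iff_mem.1 hXp x hx
  refine (k ⟨x, hX hx⟩).1 (eq_one_of_mem_of_coprime (isPGroup_zpowers (x := ρ ⟨x, hX hx⟩) (k := j)
    (by rw [← map_pow, ← ρ.map_one]; congr 1; exact Subtype.ext hj)) (mem_zpowers _) ?_)
  exact Nat.Coprime.coprime_dvd_left (orderOf_dvd_of_pow_eq_one (h _)) (by simp)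

theorem not_pcl_of_hom (ρ : E →* H) (k : ∀ x : E, ρ x = 1 ↔ (x : G) ∈ pCoreOf p E) {r : H}
    (hr : r ∈ ρ.range) (h1 : r ≠ 1) (h2 : r ^ p = 1) : ¬ PCl p E := fun h => by
  obtain ⟨x, rfl⟩ := hr
  obtain ⟨a, -, ha, e⟩ := exists_pel (p := p) ρ x (k := 1) (by rwa [pow_one])
  refine h1 (e ▸ (k a).2 (h (zpowers (a : G)) (zpowers_le.2 a.2) ?_ (mem_zpowers _)))
  rw [← E.coe_subtype, ← MonoidHom.map_zpowers]
  exact ha.map _

theorem qsmod_of_hom (ρ : E →* H) (k : ∀ x : E, ρ x = 1 ↔ (x : G) ∈ pCoreOf p E)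
    (h : IsQuasisimple ρ.range) : QSmod E (pCoreOf p E) := by
  have e : ρ.ker = pCore p E := Subgroup.ext fun x => (k x).trans
    (by rw [← subgroupOf_pCoreOf, mem_subgroupOf])
  exact qs_quotient_iff'.1 (quasisimple_of_equiv h
    ((QuotientGroup.quotientKerEquivRange ρ).symm.trans (QuotientGroup.quotientMulEquivOfEq e)))

end

theorem uu_pow_char {F : Type} [Field F] [Fintype F] {n : ℕ} (hF : Fintype.card F = p ^ n) (t : F) :
    uu t ^ p = 1 := by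
  haveI : CharP F p := charP_of_card_eq_prime_pow hF
  change uH F (.ofAdd t) ^ p = 1
  rw [← map_pow, ← ofAdd_nsmul, nsmul_eq_mul, CharP.cast_eq_zero, zero_mul, ofAdd_zero, map_one]

theorem uu_one_ne {F : Type} [Field F] : uu (1 : F) ≠ 1 := fun e =>
  one_ne_zero (uu_inj (e.trans CfLp.uu_zero.symm))

theorem LinB.pcl_iff {F : Type} [Field F] [Fintype F] (l : LinB p E F) (h : BK p T E) :
    PCl p E ↔ SF F := by
  obtain ⟨⟨n, hF⟩, ⟨D⟩, -⟩ := l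
  refine ⟨fun e => by_contra fun e' => not_pcl_of_hom D.ρ (h.ρ_eq_one D (sl_faith _))
    (r := uu 1) (by rw [D.range, comm_top_of_not_sf e']; trivial) uu_one_ne (uu_pow_char hF 1) e,
    fun e => pcl_of_hom D.ρ (h.ρ_eq_one D (sl_faith _)) fun x => e.pow_eq hF (D.mem_R x)⟩

theorem SymB.pcl_iff {m : ℕ} (l : SymB E m) (h : BK 2 T E) : PCl 2 E ↔ m = 1 := by
  obtain ⟨hm, ⟨D⟩, -⟩ := l
  have k := h.ρ_eq_one D fun r _ => perm_faith r
  refine ⟨fun e => by_contra fun e' => ?_, ?_⟩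
  · obtain ⟨a, ha, b, -, h1, h2⟩ := exists_alt_inv (m := m) (by omega)
    exact not_pcl_of_hom D.ρ k (D.range.ge ha) (fun e => h2 (by rw [e, one_mul, mul_one])) h1 e
  · rintro rfl
    exact pcl_of_hom D.ρ k fun x => alt3_pow (D.mem_R x)

theorem BK.V0_eq_bot (h : BK p T E) (e : PCl p E) : bV0 p E = ⊥ := by
  obtain ⟨K, hK⟩ := exists_right_complement'_of_coprime (N := pCore p E) (by
    have := e.coprime_relIndex
    rw [relIndex, subgroupOf_pCoreOf] at this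
    exact (CfH8.coprime_card_of_isPGroup' (isPGroup_pCore p E) this).symm)
  have h1 : pCoreOf p E ⊔ K.map E.subtype = E := by
    rw [pCoreOf_def, ← Subgroup.map_sup, hK.sup_eq_top, map_subtype_top]
  have h2 : (Nat.card (K.map E.subtype)).Coprime p := by
    have := e.coprime_relIndex
    rwa [relIndex, subgroupOf_pCoreOf, hK.symm.index_eq_card, ← CfH9.card_map_subtype] at this
  have n : K.map E.subtype ≤ Nm(bV p E) := (map_subtype_le _).trans (right_le_Nm_comm _ _)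
  rw [← le_bot_iff, ← CfH8.commutator_inf_centralizer_eq_bot (elemAb_bV (p := p) E).1 n
    (CfH8.coprime_card_of_isPGroup' (isPGroup_bV E) h2)]
  exact inf_le_inf (h.V_idem.ge.trans (commutator_le_of_le_sup_Cz (Q_le_Cz_bV E) n h1.ge))
    (Cz_anti (map_subtype_le _))

theorem card_evn (m : ℕ) : Nat.card (evn (2 * m + 1)) * 2 = 2 ^ (2 * m + 1) := by
  let f : PV (2 * m + 1) →+ ZMod 2 := AddMonoidHom.mk' (fun v => ∑ i, v i) fun v w => by
    simp only [pv_add, Finset.sum_add_distrib]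
  have e : evn (2 * m + 1) = f.ker := rfl
  have := (evn (2 * m + 1)).card_mul_index
  rw [Nat.card_fun, Nat.card_zmod, Nat.card_eq_fintype_card (α := Fin _), Fintype.card_fin] at this
  rw [← this, e, AddSubgroup.index_ker, AddMonoidHom.range_eq_top.2, AddSubgroup.card_top,
    Nat.card_zmod]
  intro c
  rcases zmod2_cases c with rfl | rfl
  · exact ⟨0, map_zero _⟩
  · exact ⟨pone _, sum_pone m⟩

theorem blk_typ (h : IsBaumannBlock p T E) : (QSmod E (pCoreOf p E) ∧ ¬ PCl p E) ∨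
    (PCl p E ∧ Nat.card (bV p E) = p * p) := by
  have k := bk_of h
  rcases blk_kind h with ⟨F, _, _, l⟩ | ⟨rfl, m, l⟩
  · have e := l.pcl_iff k
    obtain ⟨⟨n, hF⟩, ⟨D⟩, -⟩ := l
    by_cases s : SF F
    · refine Or.inr ⟨e.2 s, ?_⟩
      rw [D.card_U, k.V0_eq_bot (e.2 s), card_bot, mul_one, AddSubgroup.card_top, LM.card_sq,
        Nat.card_eq_fintype_card, (s.card_eq hF).1]
    · refine Or.inl ⟨qsmod_of_hom D.ρ (k.ρ_eq_one D (sl_faith _)) ?_, fun e' => s (e.1 e')⟩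
      rw [D.range, comm_top_of_not_sf s]
      exact quasisimple_of_equiv (qs_sl s) topEquiv.symm
  · have e := l.pcl_iff k
    obtain ⟨hm, ⟨D⟩, -⟩ := l
    by_cases s : m = 1
    · refine Or.inr ⟨e.2 s, ?_⟩
      have := card_evn m
      rw [D.card_U, k.V0_eq_bot (e.2 s), card_bot, mul_one]
      subst s
      omega
    · refine Or.inl ⟨qsmod_of_hom D.ρ (k.ρ_eq_one D fun r _ => perm_faith r) ?_,
        fun e' => s (e.1 e')⟩
      rw [D.range]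
      exact qs_alt (by omega)

theorem BK.ker_of (h : BK p T E) {H Z : Type*} [Group H] [AddCommGroup Z] [DistribMulAction H Z]
    {R : Subgroup H} {Y : AddSubgroup Z} {X : Subgroup G} (D : MD R Y X (bV p E) (bV0 p E))
    (f : ∀ r : H, (∀ y ∈ Y, r • y = y) → r = 1) (h3 : X ≤ Nm(E) ∨ PCl p E) (x : X) :
    D.ρ x = 1 ↔ (x : G) ∈ Cz(bV p E) := by
  rw [D.ρ_eq_one fun r _ => f r]
  rcases h3 with h3 | h3
  · exact h.mem_sec0 (h3 x.2)
  · rw [h.V0_eq_bot h3, secCz_bot]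

theorem LinB.bd {F : Type} [Field F] [Fintype F] (l : LinB p E F) (h : BK p T E) {X : Subgroup G}
    (h0 : E ≤ X) (h1 : X ≤ Nm(bV p E)) (h3 : X ≤ Nm(E) ∨ PCl p E) :
    ∃ (R' : Subgroup (NS F)) (D : MD R' (⊤ : AddSubgroup (Fin 2 → F)) X (bV p E) (bV0 p E)),
      BD p D E ((commutator SL(2, F)).map (slN F)) (slN F).range := by
  have e := l.pcl_iff h
  obtain ⟨⟨n, hF⟩, ⟨D⟩, -⟩ := l
  obtain ⟨R', D', e'⟩ := D.ext_lin h1 (h3.elim (fun h => h.trans (Nm_le_Nm_bV0 E))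
    fun h' => h.V0_eq_bot h' ▸ le_Nm_normal _ _) (h3.imp_right e.1)
  have m := lm_slN.mdl hF
  exact ⟨R', D', m, h0, (D.rl D' e' h0 _ lm_slN.eq m.faith).2.eq_map, h.ker_of D' m.faith h3,
    elemAb_bV E⟩

theorem SymB.bd {m : ℕ} (l : SymB E m) (h : BK 2 T E) {X : Subgroup G}
    (h0 : E ≤ X) (h1 : X ≤ Nm(bV 2 E)) (h3 : X ≤ Nm(E) ∨ PCl 2 E) :
    ∃ (R' : Subgroup (Equiv.Perm (Fin (2 * m + 1))))
      (D : MD R' (evn (2 * m + 1)) X (bV 2 E) (bV0 2 E)),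
      BD 2 D E (alternatingGroup (Fin (2 * m + 1))) ⊤ := by
  have e := l.pcl_iff h
  obtain ⟨hm, ⟨D⟩, -⟩ := l
  obtain ⟨R', D', e'⟩ := D.ext_perm hm h1 (h3.elim (fun h => h.trans (Nm_le_Nm_bV0 E))
    fun h' => h.V0_eq_bot h' ▸ le_Nm_normal _ _) (h3.imp_right e.1)
  exact ⟨R', D', mdl_perm m, h0, (D.rl D' e' h0 (MonoidHom.id _) (fun _ _ => rfl)
    perm_faith).2.eq_map.trans (Subgroup.map_id _), h.ker_of D' perm_faith h3, elemAb_bV E⟩

theorem exists_bd (h : IsBaumannBlock p T E) {X : Subgroup G}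
    (h0 : E ≤ X) (h1 : X ≤ Nm(bV p E)) (h3 : X ≤ Nm(E) ∨ PCl p E) :
    ∃ (P Z : Type) (_ : Group P) (_ : AddCommGroup Z) (_ : DistribMulAction P Z) (_ : Finite P)
      (_ : Finite Z) (_ : FaithfulSMul P Z) (R' S' S : Subgroup P) (Y : AddSubgroup Z)
      (D : MD R' Y X (bV p E) (bV0 p E)), BD p D E S' S ∧ (PCl p E → commutator P ≤ S) := by
  have k := bk_of h
  rcases blk_kind h with ⟨F, _, _, l⟩ | ⟨rfl, m, l⟩
  · obtain ⟨R', D, b⟩ := l.bd k h0 h1 h3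
    refine ⟨_, _, _, _, _, inferInstance, inferInstance, inferInstance, _, _, _, _, D, b,
      fun e x hx => ?_⟩
    obtain ⟨s, hs⟩ := ((l.pcl_iff k).1 e).comm_le
      ((map_commutator ⊤ ⊤ (NS F).subtype).le.trans (commutator_mono le_top le_top) ⟨x, hx, rfl⟩)
    exact ⟨s, Subtype.ext hs⟩
  · obtain ⟨R', D, b⟩ := l.bd k h0 h1 h3
    exact ⟨_, _, _, _, _, inferInstance, inferInstance, inferInstance, _, _, _, _, D, b,
      fun _ => le_top⟩

end CfH7
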