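import Cfsg.Agent.OD.Pre
import Cfsg.Agent.H7.Blk6
import Cfsg.Agent.H7.Sec

/-! The action of `B(T)` on a block; `O^p(N(E) ∩ C(V)) ≤ C(E)`. -/

set_option autoImplicit false
set_option linter.unusedSectionVars false

open Cfsg Subgroup CfH9 Matrix
open CfLp (uu dd uu_coe dd_coe)
open scoped commutatorElement MatrixGroups

namespace CfH7

open CfH8 (BB JJ MaxEl)

section Lin

variable {F : Type} [Field F] {P : Type*} [Group P] [DistribMulAction P (Fin 2 → F)]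
  {σ : SL(2, F) →* P} [FaithfulSMul P (Fin 2 → F)] [Fintype F] {p n : ℕ} [hp : Fact p.Prime]
  [Finite P]

theorem ww_mem_comm (hF : Fintype.card F = 3 ^ n) : ww F ∈ commutator SL(2, F) := by
  haveI : Fact (Nat.Prime 3) := ⟨Nat.prime_three⟩
  haveI : CharP F 3 := charP_of_card_eq_prime_pow hF
  have h3 : (3 : F) = 0 := CharP.cast_eq_zero F 3
  have : ww F = ⁅uu (1 : F), ll (1 : F)⁆ := sl_ext fun v => by
    rw [commutatorElement_def, CfLp.uu_inv, ll_inv, mul_smul, mul_smul, mul_smul, ll_smul, uu_smul,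
      ll_smul, uu_smul, ww_smul]
    refine vec_ext ?_ ?_ <;> simp
    · linear_combination (-v 0) * h3
    · ring
  exact this ▸ commutator_mem_commutator trivial trivial

theorem LM.scalar (h : LM σ) (hF : Fintype.card F = 3 ^ n) {g : P}
    (hg : g ∈ Cz((commutator SL(2, F)).map σ)) : ∃ c : F, ∀ v : Fin 2 → F, g • v = c • v := by
  have k : ∀ s ∈ commutator SL(2, F), ∀ v : Fin 2 → F, g • s • v = s • g • v := fun s hs v => by
    rw [← h.eq, ← h.eq, smul_smul, smul_smul, hg _ ⟨s, hs, rfl⟩]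
  by_cases s : SF F
  swap
  · exact ⟨_, scalar_of_comm (g • ·) (smul_add g) fun t => k t (comm_top_of_not_sf s ▸ trivial)⟩
  haveI : Fact (Nat.Prime 3) := ⟨Nat.prime_three⟩
  haveI : CharP F 3 := charP_of_card_eq_prime_pow hF
  have h3 : (3 : F) = 0 := CharP.cast_eq_zero F 3
  have e1 := k _ (ww_mem_comm hF) ![1, 0]
  have e2 := k _ (Subgroup.Normal.conj_mem inferInstance _ (ww_mem_comm hF) (uu 1)) ![1, 0]
  rw [ww_smul, ww_smul, show (![-![1, 0] 1, ![1, 0] 0] : Fin 2 → F) = ![0, 1] from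
    vec_ext (by simp) (by simp)] at e1
  rw [CfLp.uu_inv, mul_smul, mul_smul, mul_smul, mul_smul, uu_smul, ww_smul, uu_smul, uu_smul,
    ww_smul, uu_smul, vec_dec ![_, _], smul_add, s.lin, s.lin, e1] at e2
  have e3 : (g • ![(1 : F), 0]) 1 = 0 := by
    have := congrFun e2 1
    simp at this
    linear_combination (-1 : F) * this + (g • ![(1 : F), 0]) 1 * h3
  refine ⟨(g • ![(1 : F), 0]) 0, fun v => ?_⟩
  conv_lhs => rw [vec_dec v, smul_add, s.lin, s.lin, e1]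
  exact vec_ext (by simp [e3, mul_comm]) (by simp [e3, mul_comm])

theorem LM.θ_scalar (h : LM σ) {g : P} {c : F} (e : ∀ v : Fin 2 → F, g • v = c • v) : h.θ g = 1 :=
  RingEquiv.ext fun t => h.th_ext _ (by rw [e, e, smul_comm]; rfl)

theorem LM.θ_sf (h : LM σ) (s : SF F) (g : P) : h.θ g = 1 :=
  RingEquiv.ext fun t => h.th_ext _ (s.lin g t _)

theorem LM.comm_scalar (h : LM σ) {g b : P} {c : F} (e : ∀ v : Fin 2 → F, g • v = c • v)
    (hb : h.θ b = 1) : ⁅g, b⁆ = 1 := commutatorElement_eq_one_iff_mul_comm.2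
  (eq_of_smul_eq_smul (α := Fin 2 → F) fun v => by
    rw [mul_smul, mul_smul, e, e, h.semi', hb]; rfl)

theorem LM.le_root (h : LM σ) (hF : Fintype.card F = p ^ n) {A : Subgroup P} (hA : IsPGroup p A)
    (h1 : A ≤ h.θ.ker) : ∃ s, A ≤ cj (σ s) (LM.U σ) := by
  obtain ⟨v, -, h0, hv⟩ := exists_fixed (LM.hp_vec hF) hA (U := ⊤)
    (fun g _ => mem_st_top g) fun e => e0_ne (F := F) (AddSubgroup.mem_bot.1 (e ▸ trivial))
  obtain ⟨s, rfl⟩ := sl_exists_smul h0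
  refine ⟨s, fun a ha => mem_cj.2 (LM.mem_U.2 ?_)⟩
  obtain ⟨j, hj⟩ := isPGroup_iff_mem.1 hA a ha
  refine (h.lin_uu hF (j := j) ?_ ?_ ?_).imp fun _ e => e.symm
  · rw [map_mul, map_mul, map_inv, h1 ha, h.θ_σ]; simp
  · rw [mul_smul, mul_smul, h.eq, hv a ha, ← h.eq, inv_smul_smul]
  · have := conj_pow (a := (σ s)⁻¹) (b := a) (i := p ^ j)
    rw [inv_inv] at this
    rw [this, hj, mul_one, inv_mul_cancel]

end Lin

variable {G : Type*} [Group G] {p : ℕ} [Finite G] [hp : Fact p.Prime] {T E : Subgroup G}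

theorem mem_Cz_of_quad {E Q : Subgroup G} (hQ : IsPGroup p Q) {x : G} (ho : (orderOf x).Coprime p)
    (h1 : ⁅zpowers x, E⁆ ≤ Q) (h2 : x ∈ Cz(Q)) : x ∈ Cz(E) := by
  refine le_Cz_comm (fun e he => ?_) (mem_zpowers x)
  obtain ⟨m, hm, c, hc, rfl⟩ := CfH8.exists_mul_centralizer_of_commutator_mem (A := zpowers x)
    (zpowers_le.2 (Cz_le_Nm Q h2)) (CfH8.coprime_card_of_isPGroup' hQ (CfH8.card_zpowers_coprime ho))
    (Or.inl (CfH8.isSolvable_zpowers x)) (x := e)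
    fun a ha => h1 (commutator_comm E (zpowers x) ▸ commutator_mem_commutator he ha)
  exact mul_mem (le_Cz_comm (zpowers_le.2 h2) hm) hc

/-- a block for the Sylow subgroup `T` of a group of characteristic `p` -/
structure BLK (p : ℕ) (T E : Subgroup G) : Prop where
  syl : SylIn p T ⊤
  chp : Cz(pCore p G) ≤ pCore p G
  blk : IsBaumannBlock p T E

/-- `N(E) ∩ C(V)` -/
abbrev bC (p : ℕ) (E : Subgroup G) : Subgroup G := Nm(E) ⊓ Cz(bV p E)

theorem Nm_le_Nm_bC (E : Subgroup G) : Nm(E) ≤ Nm(bC p E) :=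
  le_normalizer_inf le_normalizer ((Nm_le_Nm_bV E).trans (Nm_le_Nm_Cz _))

section

variable {X : Subgroup G}

theorem blk_noo (h : IsBaumannBlock p T E) {A : Subgroup G} (hA : A ≤ Nm(E))
    (he : IsElementaryAbelian p A) : Nat.card A * Nat.card (bV p E ⊓ secCz A (bV0 p E) : Subgroup G) ≤
      Nat.card (A ⊓ Cz(bV p E) : Subgroup G) * Nat.card (bV p E) := by
  obtain ⟨_, _, _, _, _, _, _, _, _, _, _, _, D, b, -⟩ :=
    exists_bd h le_normalizer (Nm_le_Nm_bV E) (Or.inl le_rfl)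
  exact b.noo hA (elemAb_im he)

theorem blk_tight (h : IsBaumannBlock p T E) (hV : bV p E ≤ X) (hN : JJ p X ≤ Nm(E)) :
    bV p E ⊓ secCz (JJ p X) (bV0 p E) = bV p E ⊓ Cz(JJ p X) := by
  obtain ⟨_, _, _, _, _, _, _, _, _, _, _, _, D, b, -⟩ :=
    exists_bd h le_normalizer (Nm_le_Nm_bV E) (Or.inl le_rfl)
  exact b.tight hV hN

theorem blk_quad (h : IsBaumannBlock p T E) (hX : IsPGroup p X) (hV : bV p E ≤ X)
    (hN : JJ p X ≤ Nm(E)) : ⁅bV p E, JJ p X⁆ ≤ Cz(JJ p X) := by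
  obtain ⟨_, _, _, _, _, _, _, _, _, _, _, _, D, b, -⟩ :=
    exists_bd h le_normalizer (Nm_le_Nm_bV E) (Or.inl le_rfl)
  exact b.quad hX hV hN

theorem inf_Cz_J_le {V : Subgroup G} (hV : IsElementaryAbelian p V) (h : V ≤ X) :
    V ⊓ Cz(JJ p X) ≤ OZ p (JJ p X) :=
  CfH8.le_OZ_J (inf_le_left.trans h) (elemAb_of_le inf_le_left hV) inf_le_right

theorem B_le_Cz_inf {V : Subgroup G} (hV : IsElementaryAbelian p V) (h : V ≤ X) :
    BB p X ≤ Cz(V ⊓ Cz(JJ p X)) := (CfH8.B_le_Cz X).trans (Cz_anti (inf_Cz_J_le hV h))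

theorem blk_B_le (h : IsBaumannBlock p T E) (hX : IsPGroup p X) (hV : bV p E ≤ X)
    (hN : BB p X ≤ Nm(E)) : BB p X ≤ JJ p X ⊔ bC p E := fun x hx => by
  obtain ⟨_, _, _, _, _, _, _, _, _, _, _, _, D, b, -⟩ :=
    exists_bd h le_normalizer (Nm_le_Nm_bV E) (Or.inl le_rfl)
  exact b.fix hX hV ((CfH8.J_le_B X).trans hN) (hN hx)
    (hX.to_le (zpowers_le.2 (CfH8.B_le X hx))) (B_le_Cz_inf (elemAb_bV E) hV hx)

theorem blk_le_of_comm (h : IsBaumannBlock p T E) (hX : IsPGroup p X) (hV : bV p E ≤ X)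
    (hN : BB p X ≤ Nm(E)) {K : Subgroup G} (h1 : K ≤ Nm(E)) (h2 : ⁅K, BB p X⁆ = K)
    (h3 : pResidualOf p K = K) : K ≤ E ⊔ bC p E := by
  have hB := blk_B_le h hX hV hN
  obtain ⟨_, _, _, _, _, _, _, _, _, _, S, _, D, b, -⟩ :=
    exists_bd h le_normalizer (Nm_le_Nm_bV E) (Or.inl le_rfl)
  have hJ := (CfH8.J_le_B X).trans hN
  haveI := b.mdl.nS
  refine h3 ▸ b.res_le h1 ?_
  rw [← h2, im_comm h1 hN]
  refine (commutator_mono le_rfl ?_).trans (commutator_le_right _ S)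
  exact ((im_le_im_iff b.ker hN hJ).2 hB).trans ((b.im_J hV hJ).le.trans
    (jj_le_iff.2 fun A hA _ => (b.mdl.rt A hA).1))

theorem blk_small (h : IsBaumannBlock p T E) (e : PCl p E) {K : Subgroup G}
    (h2 : K ≤ ⁅Nm(bV p E), Nm(bV p E)⁆) (h3 : pResidualOf p K = K) : K ≤ E ⊔ Cz(bV p E) := by
  obtain ⟨_, _, _, _, _, _, _, _, _, _, S, _, D, b, c⟩ :=
    exists_bd h (right_le_Nm_comm _ _) le_rfl (Or.inr e)
  refine (h3.ge.trans (b.res_le (h2.trans (commutator_self_le _)) ?_)).trans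
    (sup_le_sup_left inf_le_right _)
  refine (im_mono h2).trans ?_
  rw [im_comm le_rfl le_rfl]
  exact (commutator_mono le_top le_top).trans (c e)

end

namespace BLK

theorem bk (h : BLK p T E) : BK p T E := bk_of h.blk

theorem V_le_R (h : BLK p T E) : bV p E ≤ pCore p G := (h.bk.V_le h.syl h.chp).trans (OZ_le _)

theorem V_le_T (h : BLK p T E) : bV p E ≤ T :=
  h.V_le_R.trans (h.syl.le_of_le_Nm (isPGroup_pCore p G) le_top (le_Nm_normal _ _))

theorem J_le_Nm (h : BLK p T E) : JJ p T ≤ Nm(E) := (CfH8.J_le_B T).trans h.bk.B_le_Nm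

theorem B_le (h : BLK p T E) : BB p T ≤ JJ p T ⊔ bC p E :=
  blk_B_le h.blk h.syl.pgrp h.V_le_T h.bk.B_le_Nm

theorem comm_B_le (h : BLK p T E) : ⁅bV p E, BB p T⁆ ≤ bV p E ⊓ Cz(JJ p T) :=
  (commutator_le_of_le_sup_Cz inf_le_right (h.J_le_Nm.trans (Nm_le_Nm_bV E))
    (h.B_le.trans (sup_comm _ _).le)).trans (le_inf (comm_le_left (h.J_le_Nm.trans (Nm_le_Nm_bV E)))
      (blk_quad h.blk h.syl.pgrp h.V_le_T h.J_le_Nm))

theorem quad_B (h : BLK p T E) : ⁅bV p E, BB p T⁆ ≤ Cz(BB p T) :=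
  h.comm_B_le.trans (le_Cz_comm (B_le_Cz_inf (elemAb_bV E) h.V_le_T))

theorem exc_aux (h : BLK p T E) (e : pCoreOf p E ≠ bW p E) :
    ⁅⁅pCoreOf p E, BB p T⁆, BB p T⁆ ≤ bW p E ∧
    ⁅bC p E, BB p T⁆ ≤ secCz (pCoreOf p E) (bW p E) ∧
    ∀ x ∈ bC p E, x ∉ secCz (pCoreOf p E) (bW p E) → pCoreOf p E ⊓ Cz(zpowers x) ≤ bW p E := by
  have k := h.bk
  have ex := k.exc.resolve_left e
  obtain rfl := ex.three
  obtain ⟨F, _, _, l⟩ := (blk_kind h.blk).resolve_right fun e => absurd e.1 (by decide)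
  obtain ⟨R₁, D₁, b₁⟩ := l.bd k le_normalizer (Nm_le_Nm_bV E) (Or.inl le_rfl)
  obtain ⟨⟨n, hF⟩, -, e' | ⟨-, ⟨D⟩⟩⟩ := l
  · exact absurd e' e
  obtain ⟨R', D', e'⟩ := D.ext_lin (normalizer_le_normalizer_pCoreOf E) (Nm_le_Nm_bW E)
    (Or.inl le_rfl)
  have m := lm_slN.mdl hF
  obtain ⟨r1, r2⟩ := D.rl D' e' le_normalizer _ lm_slN.eq m.faith
  have ker := D'.ρ_eq_one fun r _ => m.faith r
  have sc : ∀ x, ∀ hx : x ∈ bC 3 E, ∃ c : F, ∀ v : Fin 2 → F, D'.ρ ⟨x, hx.1⟩ • v = c • v :=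
    fun x hx => lm_slN.scalar hF fun s hs => by
      obtain ⟨y, hy, rfl⟩ := r2.ex s hs
      rw [← commutatorElement_eq_one_iff_mul_comm, ← map_commutatorElement, ker]
      refine (ex.ker.ge ?_).2
      exact k.comm_le_Q inf_le_left inf_le_right
        (commutator_comm E (bC 3 E) ▸ commutator_mem_commutator hy hx)
  have nB := k.B_le_Nm
  have th : im D'.ρ (BB 3 T) ≤ lm_slN.θ.ker := by
    by_cases s : SF F
    · exact fun g _ => lm_slN.θ_sf s g
    have : JJ 3 T ≤ E ⊔ bC 3 E := by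
      rw [← im_le_im_iff b₁.ker h.J_le_Nm le_normalizer, b₁.im, comm_top_of_not_sf s,
        ← MonoidHom.range_eq_map]
      exact (b₁.im_J h.V_le_T h.J_le_Nm).le.trans (jj_le_iff.2 fun A hA _ => (b₁.mdl.rt A hA).1)
    refine (im_mono (h.B_le.trans (sup_le this le_sup_right))).trans ?_
    rw [im_sup le_normalizer inf_le_left, show im D'.ρ E = _ from r2.eq_map]
    refine sup_le ?_ ((im_le_iff inf_le_left).2 fun x hx => ?_)
    · rintro _ ⟨s, -, rfl⟩; exact lm_slN.θ_σ s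
    · exact lm_slN.θ_scalar (sc x hx).choose_spec
  refine ⟨?_, commutator_le.2 fun x hx b hb => ?_, fun x hx hx' u hu => ?_⟩
  · obtain ⟨s, hs⟩ := lm_slN.le_root hF (isPGroup_im (isPGroup_B h.syl.pgrp)) th
    have q := (lm_slN.rt_U.cj (slN F s)).quad
    have : ⁅pCoreOf 3 E, BB 3 T⁆ ≤ D'.pre (fx _ (im D'.ρ (BB 3 T))) :=
      commutator_le.2 fun v hv a ha => ⟨commutator_mem_left hv (D'.n (nB ha)), by
        rw [D'.c_comm' ⟨a, nB ha⟩ hv, ← neg_sub]
        exact neg_mem (fx_anti hs (q _ (hs (mem_im ha)) _))⟩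
    rw [D'.pre_fx (rl_map D'.ρ nB)] at this
    rw [commutator_comm]
    exact commutator_le_of_le_secCz (this.trans inf_le_right)
  · exact (ker ⁅(⟨x, hx.1⟩ : Nm(E)), ⟨b, nB hb⟩⁆).1 (by
      rw [map_commutatorElement]
      exact lm_slN.comm_scalar (sc x hx).choose_spec (th (mem_im hb)))
  · obtain ⟨c, hc⟩ := sc x hx
    have e1 := D'.act ⟨x, hx.1⟩ u hu.1
    rw [conj_eq_of_mem_centralizer (le_Cz_comm inf_le_right (mem_zpowers x)) hu, hc] at e1
    refine (D'.c_zero u hu.1).1 (by_contra fun e2 => hx' ((ker ⟨x, hx.1⟩).1 (m.faith _ fun y _ => ?_)))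
    rw [hc, ← smul_left_injective F e2 ((one_smul F _).trans e1), one_smul]

theorem exc_cz (h : BLK p T E) (e : pCoreOf p E ≠ bW p E) {x : G} (hx : x ∈ bC p E)
    (hx' : x ∈ secCz (pCoreOf p E) (bW p E)) : x ∈ Cz(bW p E) := by
  have ex := h.bk.exc.resolve_left e
  have h1 := commutator_le_of_le_secCz (zpowers_le.2 hx')
  have h2 : ⁅⁅pCoreOf p E, zpowers x⁆, pCoreOf p E⁆ ≤ ⊥ :=
    (comm_eq_bot_right.2 ((Q_le_Cz_bW E).trans (Cz_anti h1))).le
  have h3 := three_subgroups_normal (A := pCoreOf p E) (B := pCoreOf p E) (C := zpowers x) h2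
    (by rw [Subgroup.commutator_comm (zpowers x) (pCoreOf p E)]; exact h2)
  rw [ex.QQ, le_bot_iff, comm_eq_bot_right] at h3
  exact Cz_anti h.bk.W_le ((Cz_sup _ _).ge (mi hx.2 (h3 (mem_zpowers x))))

theorem exc_sec (h : BLK p T E) (e : pCoreOf p E ≠ bW p E) :
    pResidualOf p (bC p E) ≤ secCz (pCoreOf p E) (bW p E) := by
  have k := h.bk
  have ex := k.exc.resolve_left e
  obtain ⟨a1, a2, a3⟩ := h.exc_aux e
  set Q := pCoreOf p E
  set W := bW p E
  set Z := bZ p E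
  set B := BB p T
  have nB : B ≤ Nm(E) := k.B_le_Nm
  have nQ : Nm(E) ≤ Nm(Q) := normalizer_le_normalizer_pCoreOf E
  have nS : Nm(E) ≤ Nm(secCz Q W) := le_Nm_secCz nQ (Nm_le_Nm_bW E)
  have nD : Nm(E) ≤ Nm(bC p E ⊓ secCz Q W) := le_normalizer_inf (Nm_le_Nm_bC E) nS
  have pB : IsPGroup p B := isPGroup_B h.syl.pgrp
  obtain ⟨S, hS, hBS⟩ := exists_sylIn_ge pB (le_sup_left : B ≤ B ⊔ (bC p E ⊓ secCz Q W))
  have n1 : bC p E ⊔ B ≤ Nm(B ⊔ (bC p E ⊓ secCz Q W)) :=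
    sup_le (le_Nm_sup_of_comm_le (inf_le_left.trans nD) (commutator_comm (bC p E) B ▸
      (le_inf (comm_le_left (nB.trans (Nm_le_Nm_bC E))) a2).trans le_sup_right))
      (le_sup_left.trans le_normalizer)
  have n2 : Nm(S) ≤ Nm(B) := by
    have := CfH8.Nm_le_Nm_B (p := p) S
    rwa [B_eq_of_B_le h.syl hS.pgrp hBS] at this
  have n3 := hS.frattini_sup n1 (sup_le le_sup_right (inf_le_left.trans le_sup_left))
  have r1 := pResidualOf_sup_of_isPGroup pB (nB.trans (Nm_le_Nm_bC (p := p) E))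
  set L := (bC p E ⊔ B) ⊓ Nm(S)
  have LN : L ≤ Nm(E) := inf_le_left.trans (sup_le inf_le_left nB)
  suffices key : pResidualOf p L ≤ secCz Q W by
    obtain ⟨S', hS'⟩ := exists_sylIn p L
    rw [← r1]
    refine pResidualOf_le_of_le_sup (isPGroup_sup hS'.pgrp pB (hS'.le.trans (inf_le_right.trans n2)))
      ((sup_le (hS'.le.trans LN) nB).trans nS) ?_
    rw [← n3, ← sylIn_pResidualOf_sup hS']
    exact sup_le (sup_le (le_sup_right.trans le_sup_right) (inf_le_right.trans le_sup_left))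
      (sup_le (key.trans le_sup_left) (le_sup_left.trans le_sup_right))
  refine pResidualOf_le_iff.2 fun x hx ho => by_contra fun hx' => ?_
  have xC : x ∈ bC p E := pResidualOf_le _ (r1.le (mem_pResidualOf hx.1 ho))
  have A1 : zpowers x ≤ bC p E := zpowers_le.2 xC
  have A2 := A1.trans inf_le_left
  have co : ∀ {Y : Subgroup G}, IsPGroup p Y → (Nat.card (zpowers x)).Coprime (Nat.card Y) :=
    fun hY => CfH8.coprime_card_of_isPGroup' hY (CfH8.card_zpowers_coprime ho)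
  have so := CfH8.isSolvable_zpowers x
  obtain ⟨b, hb, hb'⟩ : ∃ b ∈ B ⊓ Cz(zpowers x), b ∉ Cz(bV p E) := by
    by_contra e'
    push Not at e'
    refine k.not_J_le h.syl ((CfH8.J_le_B T).trans (?_ : B ≤ _))
    rw [← CfH8.commutator_sup_centralizer_eq (zpowers_le.2 (n2 hx.2)) (co pB) (Or.inl so)]
    exact sup_le ((commutator_mono le_rfl A1).trans
      ((comm_le_right (nB.trans (Nm_le_Nm_bC E))).trans inf_le_right)) e'
  refine ex.nq b hb.1 (fun e' => hb' (Cz_anti (bV_le E) e')) ?_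
  have b1 : zpowers b ≤ B := zpowers_le.2 hb.1
  have b2 := b1.trans nB
  have nZ : Nm(E) ≤ Nm(Z) := Nm_le_Nm_bZ E
  have QE : Q ≤ Nm(E) := (pCoreOf_le E).trans le_normalizer
  have ZQ : Z ≤ Q := inf_le_left.trans (bW_le E)
  have X1 : ⁅Q, zpowers x⁆ ≤ Q := comm_le_left (A2.trans nQ)
  have i1 : Q ≤ ⁅Q, zpowers x⁆ ⊔ (bV p E ⊔ Z) := by
    conv_lhs => rw [← CfH8.commutator_sup_centralizer_eq (A2.trans nQ) (co (isPGroup_pCoreOf E))
      (Or.inl so)]
    exact sup_le_sup_left ((a3 x xC hx').trans k.W_le) _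
  have i2 : ⁅Q, zpowers x⁆ ⊓ W ≤ Z := by
    have WN : W ≤ Nm(Z) := (bW_le E).trans (QE.trans nZ)
    rw [← sec_eq_bot_iff (inf_le_right.trans WN), ← le_bot_iff,
      ← CfH8.commutator_inf_centralizer_eq_bot ((sec_comm_iff (QE.trans nZ)).2 ex.QQ.le)
        (sec_le_Nm (A2.trans nZ) (QE.trans nZ) (A2.trans nQ))
        (((co (isPGroup_pCoreOf E)).coprime_dvd_left (card_sec_dvd _ _)).coprime_dvd_right
          (card_sec_dvd _ _)), ← sec_commutator (QE.trans nZ) (A2.trans nZ)]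
    exact le_inf (sec_mono inf_le_left) ((sec_mono inf_le_right).trans
      ((sec_le_Cz_iff WN (A2.trans nZ)).2 (commutator_le_of_le_secCz
        (k.le_sec_of_le_Cz A2 (A1.trans inf_le_right)))))
  have i3 : zpowers b ≤ Nm(⁅Q, zpowers x⁆) :=
    le_normalizer_commutator (b2.trans nQ) (zpowers_le.2 (Cz_le_Nm _ hb.2))
  have VQ : bV p E ≤ Q := (bV_le E).trans (bW_le E)
  have j1 : ⁅⁅Q, zpowers x⁆, zpowers b⁆ ≤ Q := (comm_le_left i3).trans X1
  have j2 : ⁅bV p E, zpowers b⁆ ≤ Q := (comm_le_left (b2.trans (Nm_le_Nm_bV E))).trans VQ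
  have nN : Q ≤ Nm(⁅⁅Q, zpowers x⁆, zpowers b⁆ ⊔ (⁅bV p E, zpowers b⁆ ⊔ Z)) :=
    le_Nm_of_comm_le (sup_le j1 (sup_le j2 ZQ)) (ex.QQ.le.trans (le_sup_right.trans le_sup_right))
  have i4 : ⁅Q, zpowers b⁆ ≤ ⁅⁅Q, zpowers x⁆, zpowers b⁆ ⊔ (⁅bV p E, zpowers b⁆ ⊔ Z) :=
    (commutator_mono i1 le_rfl).trans (commutator_sup_left_le (X1.trans nN)
      ((sup_le VQ ZQ).trans nN) le_sup_left (commutator_sup_left_le (VQ.trans nN) (ZQ.trans nN)
        (le_sup_left.trans le_sup_right)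
        ((comm_le_left (b2.trans nZ)).trans (le_sup_right.trans le_sup_right))))
  have QZ := QE.trans nZ
  refine (commutator_mono i4 le_rfl).trans (commutator_sup_left_le (j1.trans QZ)
    ((sup_le j2 ZQ).trans QZ) (le_trans (le_inf ?_ ?_) i2)
    (commutator_sup_left_le (j2.trans QZ) le_normalizer ?_ (comm_le_left (b2.trans nZ))))
  · exact (commutator_mono (comm_le_left i3) le_rfl).trans (comm_le_left i3)
  · exact (commutator_mono (commutator_mono X1 b1) b1).trans a1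
  · exact (comm_eq_bot_left.2 ((commutator_mono le_rfl b1).trans
      (h.quad_B.trans (Cz_anti b1)))).le.trans bot_le

theorem Q_eq_V (h : BK p T E) (e : pCoreOf p E = bW p E) : pCoreOf p E = bV p E := by
  rw [← h.Qc, bV, ← e]

/-- `O^p(N(E) ∩ C(V)) ≤ C(E)` -/
theorem res_le (h : BLK p T E) : pResidualOf p (bC p E) ≤ Cz(E) :=
  pResidualOf_le_iff.2 fun x hx ho => mem_Cz_of_quad (isPGroup_pCoreOf E) ho
    (h.bk.comm_le_Q (zpowers_le.2 hx.1) (zpowers_le.2 hx.2)) (by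
      by_cases e : pCoreOf p E = bW p E
      · exact Q_eq_V h.bk e ▸ hx.2
      have := h.exc_sec e (mem_pResidualOf hx ho)
      exact mem_Cz_of_coprime (isPGroup_pCoreOf E) (normalizer_le_normalizer_pCoreOf E hx.1) ho
        (commutator_le_of_le_secCz (zpowers_le.2 this)) (h.exc_cz e hx this))

theorem le_Cz (h : BLK p T E) {K : Subgroup G} (h1 : K ≤ Nm(E)) (h2 : K ≤ Cz(bV p E))
    (h3 : pResidualOf p K = K) : K ≤ Cz(E) :=
  h3 ▸ (pResidualOf_mono (le_inf h1 h2)).trans h.res_le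

end BLK

end CfH7
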