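import Cfsg.Agent.OD.Pre
import Cfsg.Agent.H7.Blk7
import Cfsg.Agent.H7.Bau4
import Cfsg.Agent.H7.Kieler

/-! Transport of blocks; subnormal blocks are equal or commute. -/

set_option autoImplicit false
set_option linter.unusedSectionVars false

open Cfsg Subgroup CfH9 Matrix
open scoped commutatorElement MatrixGroups

namespace CfH7

open CfH8 (BB JJ MaxEl)

section Map

variable {G G' : Type*} [Group G] [Group G'] {f : G →* G'} {p : ℕ}
  {H Z : Type*} [Group H] [AddCommGroup Z] [DistribMulAction H Z] {R : Subgroup H}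
  {Y : AddSubgroup Z} {E U U₀ T : Subgroup G}

/-- transport along an injective homomorphism -/
noncomputable def MD.map (hf : Function.Injective f) (D : MD R Y E U U₀) :
    MD R Y (E.map f) (U.map f) (U₀.map f) where
  ρ := D.ρ.comp (E.equivMapOfInjective f hf).symm.toMonoidHom
  c := D.c ∘ Function.invFun f
  n := map_le_Nm_map D.n f
  le := map_mono D.le
  range := by
    rw [MonoidHom.range_comp, MonoidHom.range_eq_top.2 (E.equivMapOfInjective f hf).symm.surjective,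
      ← MonoidHom.range_eq_map, D.range]
  c_mul := by
    rintro _ ⟨u, hu, rfl⟩ _ ⟨v, hv, rfl⟩
    simp only [← map_mul, Function.comp, Function.leftInverse_invFun hf _]
    exact D.c_mul u hu v hv
  c_mem := by
    rintro _ ⟨u, hu, rfl⟩
    simp only [Function.comp, Function.leftInverse_invFun hf _]
    exact D.c_mem u hu
  c_surj y hy := by
    obtain ⟨u, hu, rfl⟩ := D.c_surj y hy
    exact ⟨_, ⟨u, hu, rfl⟩, by simp only [Function.comp, Function.leftInverse_invFun hf _]⟩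
  c_zero := by
    rintro _ ⟨u, hu, rfl⟩
    simp only [Function.comp, Function.leftInverse_invFun hf _, mem_map_iff_mem hf]
    exact D.c_zero u hu
  act g := by
    obtain ⟨g, rfl⟩ := (E.equivMapOfInjective f hf).surjective g
    rintro _ ⟨u, hu, rfl⟩
    simp only [coe_equivMapOfInjective_apply, ← map_mul, ← map_inv, Function.comp,
      Function.leftInverse_invFun hf _, D.act g u hu]
    simp

/-- pull back along an injective homomorphism -/
noncomputable def MD.comap (hf : Function.Injective f) (D : MD R Y (E.map f) (U.map f) (U₀.map f)) :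
    MD R Y E U U₀ where
  ρ := D.ρ.comp (E.equivMapOfInjective f hf).toMonoidHom
  c := D.c ∘ f
  n := (map_Nm_of_injective hf).1 D.n
  le := (map_le_map_iff_of_injective hf).1 D.le
  range := by
    rw [MonoidHom.range_comp, MonoidHom.range_eq_top.2 (E.equivMapOfInjective f hf).surjective,
      ← MonoidHom.range_eq_map, D.range]
  c_mul u hu v hv := by
    simp only [map_mul, Function.comp]
    exact D.c_mul _ ⟨u, hu, rfl⟩ _ ⟨v, hv, rfl⟩
  c_mem u hu := D.c_mem _ ⟨u, hu, rfl⟩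
  c_surj y hy := by
    obtain ⟨_, ⟨u, hu, rfl⟩, rfl⟩ := D.c_surj y hy
    exact ⟨u, hu, rfl⟩
  c_zero u hu := (D.c_zero _ ⟨u, hu, rfl⟩).trans (mem_map_iff_mem hf)
  act g u hu := by
    simp only [map_mul, map_inv, Function.comp]
    exact D.act (E.equivMapOfInjective f hf g) _ ⟨u, hu, rfl⟩

theorem actsSL_map_iff (hf : Function.Injective f) {F : Type*} [Field F] {R : Subgroup SL(2, F)} :
    ActsAsSL2OnSection F R (E.map f) (U.map f) (U₀.map f) ↔ ActsAsSL2OnSection F R E U U₀ :=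
  ⟨fun h => ((exists_md_sl h).some.comap hf).sl, fun h => ((exists_md_sl h).some.map hf).sl⟩

theorem actsPerm_map_iff (hf : Function.Injective f) {n : ℕ} {R : Subgroup (Equiv.Perm (Fin n))} :
    ActsAsOddPermModuleOnSection n R (E.map f) (U.map f) (U₀.map f) ↔
      ActsAsOddPermModuleOnSection n R E U U₀ :=
  ⟨fun h => ((exists_md_perm h).some.comap hf).perm, fun h => ((exists_md_perm h).some.map hf).perm⟩

/-- the quotient by `O_p` of an isomorphic image -/
noncomputable def quotMap (p : ℕ) (hf : Function.Injective f) (E : Subgroup G) :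
    E ⧸ pCore p E ≃* E.map f ⧸ pCore p (E.map f) :=
  QuotientGroup.congr _ _ (E.equivMapOfInjective f hf) (map_pCore_equiv _)

theorem quot_map_iff (hf : Function.Injective f) {X : Type*} [Group X] :
    Nonempty (E.map f ⧸ pCore p (E.map f) ≃* X) ↔ Nonempty (E ⧸ pCore p E ≃* X) :=
  ⟨fun ⟨e⟩ => ⟨(quotMap p hf E).trans e⟩, fun ⟨e⟩ => ⟨(quotMap p hf E).symm.trans e⟩⟩

theorem blk_map_iff (hf : Function.Injective f) :
    IsBaumannBlock p (T.map f) (E.map f) ↔ IsBaumannBlock p T E := by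
  have e0 : ∀ X : Subgroup G, omegaOneCenter p (X.map f) = (omegaOneCenter p X).map f :=
    fun X => (map_OZ_inj hf X).symm
  have e1 : ∀ b : G, f b ∈ Cz((omegaOneCenter p (pCoreOf p E)).map f) ↔
      b ∈ Cz(omegaOneCenter p (pCoreOf p E)) := fun b => by
    rw [← zpowers_le, ← zpowers_le, ← MonoidHom.map_zpowers, map_Cz_of_injective hf]
  have e2 : (frattini (pCoreOf p (E.map f))).map (pCoreOf p (E.map f)).subtype =
      ((frattini (pCoreOf p E)).map (pCoreOf p E).subtype).map f := by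
    rw [← map_pCoreOf_of_injective E hf]; exact (CfLp.map_Phi hf _).symm
  have e3 : Nat.card (E.map f ⊓ Cz(E.map f) : Subgroup G') = Nat.card (E ⊓ Cz(E) : Subgroup G) := by
    rw [← CfLp.map_inf_Cz hf, card_map_of_injective hf]
  unfold IsBaumannBlock
  rw [e2, e3]
  simp only [← map_pResidualOf_of_injective E hf, ← map_B_inj hf,
    ← map_pCoreOf_of_injective E hf, e0, ← map_commutator, ← CfLp.map_inf_Cz hf,
    actsSL_map_iff hf, actsPerm_map_iff hf, quot_map_iff hf,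
    (Subgroup.map_injective hf).eq_iff, ne_eq, map_eq_bot_iff_of_injective _ hf,
    mem_map, forall_exists_index, and_imp, forall_apply_eq_imp_iff₂, e1,
    ← MonoidHom.map_zpowers, map_le_map_iff_of_injective hf]

theorem map_bV (hf : Function.Injective f) (E : Subgroup G) : (bV p E).map f = bV p (E.map f) := by
  rw [map_commutator, map_OZ_inj hf, map_pCoreOf_of_injective E hf]

end Map

variable {G : Type*} [Group G] {p : ℕ} [Finite G] [hp : Fact p.Prime] {T T' E F : Subgroup G}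

theorem cj_bV (g : G) (E : Subgroup G) : cj g (bV p E) = bV p (cj g E) :=
  map_bV (MulAut.conj g).injective E

theorem blk_cj (h : IsBaumannBlock p T E) (g : G) : IsBaumannBlock p (cj g T) (cj g E) :=
  (blk_map_iff (MulAut.conj g).injective).2 h

theorem BLK.cj (h : BLK p T E) (g : G) : BLK p (cj g T) (cj g E) :=
  ⟨h.syl.cj_top g, h.chp, blk_cj h.blk g⟩

theorem exists_secCz {P V V₀ : Subgroup G} (hP : IsPGroup p P) (hV : IsPGroup p V) (h1 : P ≤ Nm(V))
    (h2 : P ≤ Nm(V₀)) (h3 : V ≤ Nm(V₀)) (h4 : ¬ V ≤ V₀) : ¬ V ⊓ secCz P V₀ ≤ V₀ := fun e => by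
  obtain ⟨x, hx, h5, h6⟩ := exists_mem_center_of_normal (isPGroup_sec hP V₀) (isPGroup_sec hV V₀)
    (sec_le_Nm h2 h3 h1) fun e => h4 ((sec_eq_bot_iff h3).1 e)
  obtain ⟨y, hx', hy, rfl⟩ := mem_sec.1 hx
  refine h5 ((secE_eq_one_iff hx').2 (e (mi hy ⟨hx', fun r hr => ?_⟩)))
  have := h6 _ (secE_mem (h2 hr) hr)
  rw [← secE_mul, ← secE_mul, eq_comm, secE_eq_iff] at this
  simpa [commutatorElement_def, mul_assoc] using conj_mem_of_mem_normalizer (mul_mem hx' (h2 hr)) this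

theorem isPGroup_of_cz (hG : Cz(pCore p G) ≤ pCore p G) {A M : Subgroup G}
    (h1 : ⁅pCore p G, pResidualOf p A⁆ ≤ M) (h2 : pResidualOf p A ≤ Cz(M)) : IsPGroup p A :=
  pResidualOf_eq_bot_iff.1 (by
    rw [← pResidualOf_pResidualOf]
    exact pResidualOf_eq_bot_of_isPGroup ((isPGroup_pCore p G).to_le
      ((pResidualOf_le_Cz_of_le' (isPGroup_pCore p G) (le_Nm_normal _ _) h1 h2).trans hG)))

namespace BLK

theorem R_le (h : BLK p T E) : pCore p G ≤ Nm(E) := h.bk.R_le h.syl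

theorem lemU (hE : BLK p T E) (hF : BLK p T' F) (n : F ≤ Nm(E)) (hV : bV p F ≤ bV p E)
    (h : F ≤ E ⊔ Cz(bV p E)) (n' : (E ⊔ F) ⊓ Cz(bV p E) ≤ Nm(F)) : F ≤ E := by
  have n1 : (E ⊔ F) ⊓ Cz(bV p E) ≤ Nm(E) := inf_le_left.trans (sup_le le_normalizer n)
  refine hF.bk.le_of_le_sup (isPGroup_of_cz hE.chp (M := E ⊔ F) ?_ ?_) n1 ?_
  · exact (commutator_mono le_rfl ((pResidualOf_le _).trans inf_le_left)).trans
      (comm_le_right (le_normalizer_sup hE.R_le hF.R_le))
  · rw [Cz_sup]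
    exact le_inf ((pResidualOf_mono (le_inf n1 inf_le_right)).trans hE.res_le)
      ((pResidualOf_mono (le_inf n' (inf_le_right.trans (Cz_anti hV)))).trans hF.res_le)
  · rw [inf_comm, ← inf_sup_dedekind (Or.inl ((right_le_Nm_comm _ _).trans (Nm_le_Nm_Cz _)))
      le_sup_left]
    exact le_inf h le_sup_right

theorem comm_V_le (hE : BLK p T E) (hF : BLK p T' F) : ⁅bV p E, F⁆ ≤ bV p F :=
  (commutator_mono (hE.bk.V_le hE.syl hE.chp) le_rfl).trans (hF.bk.comm_V hF.syl hF.chp).le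

theorem cz_or_le (hE : BLK p T E) (hF : BLK p T' F) (n : F ≤ Nm(E)) :
    F ≤ Cz(E) ∨ bV p F ≤ bV p E := by
  have n1 := n.trans (Nm_le_Nm_bV (p := p) E)
  by_cases e : ⁅bV p E, F⁆ ≤ Cz(F)
  · exact Or.inl (hE.le_Cz n (le_Cz_comm (hF.bk.le_Cz_of (isPGroup_bV E) n1 le_rfl e)) hF.bk.res)
  · exact Or.inr ((hF.bk.irr' ((hE.comm_V_le hF).trans (bV_le F)) (right_le_Nm_comm _ _) e).trans
      (comm_le_left n1))

theorem le_Nm_of_comm (hE : BLK p T E) {X : Subgroup G} (h : ⁅E, X⁆ ≤ pCore p G) : X ≤ Nm(E) := by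
  have := (le_Nm_sup_of_comm_le (le_Nm_normal X (pCore p G)) (h.trans le_sup_right)).trans
    (normalizer_le_normalizer_pResidualOf (p := p) (E ⊔ pCore p G))
  rwa [hE.bk.res_sup hE.syl] at this

theorem qs_cases (hE : BLK p T E) (hF : BLK p T' F) (sE : E.IsSubnormal) (sF : F.IsSubnormal)
    (h : ¬ PCl p E) : E ≤ F ∨ ⁅F, E⁆ ≤ pCore p G := by
  have q := ((blk_typ hE.blk).resolve_right fun e => h e.1).1
  have e := pCoreOf_eq_inf_of_subnormal (p := p) sE
  have q' : QSmod E (QuotientGroup.mk' (pCore p G)).ker := by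
    rw [QuotientGroup.ker_mk']
    rw [e] at q
    refine ⟨fun e' => q.not_le (le_inf le_rfl e'), by simpa using q.perf, fun N h1 h2 => ?_⟩
    exact (q.simp N h1 h2).imp (fun e' => e'.trans inf_le_right) fun e' => by simpa using e'
  refine (component_le_or_commutator_eq_bot ⟨sE.map (QuotientGroup.mk'_surjective _),
    (qs_map_iff _ _).2 q'⟩ (sF.map (QuotientGroup.mk'_surjective _))).imp (fun e' => ?_) fun e' => ?_
  · rw [Subgroup.map_le_map_iff, QuotientGroup.ker_mk'] at e'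
    exact hE.bk.le_of_le_sup (isPGroup_pCore p G) hF.R_le e'
  · rwa [← map_commutator, Subgroup.map_eq_bot_iff, QuotientGroup.ker_mk'] at e'

theorem small_le (hE : BLK p T E) (hF : BLK p T' F) (n : F ≤ Nm(E)) (n' : E ≤ Nm(F))
    (hV : bV p F = bV p E) (h : PCl p E) : F ≤ E :=
  hE.lemU hF n hV.le (blk_small hE.blk h (hF.bk.com.ge.trans (hV ▸ commutator_mono
    (right_le_Nm_comm _ _) (hF.bk.B_le_Nm.trans (Nm_le_Nm_bV F)))) hF.bk.res)
    (inf_le_left.trans (sup_le n' le_normalizer))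

theorem V0_le (hE : BLK p T E) (hF : BLK p T' F) (n : F ≤ Nm(E)) (hV : bV p F = bV p E) :
    bV0 p E ≤ Cz(F) := by_contra fun e => hE.bk.V_not_le (hV.ge.trans ((hF.bk.irr'
  (inf_le_left.trans (hV.ge.trans (bV_le F))) (n.trans (Nm_le_Nm_bV0 E)) e).trans inf_le_right))

theorem pcl_of_comm (hE : BLK p T E) (hF : BLK p T' F) (hV : bV p F = bV p E)
    (h : ⁅F, E⁆ ≤ pCore p G) : PCl p E := fun X hX hXp => by
  have n := hE.le_Nm_of_comm (commutator_comm F E ▸ h)
  have n' := hF.le_Nm_of_comm h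
  have n1 : X ⊔ pCore p G ≤ Nm(E) := sup_le (hX.trans le_normalizer) hE.R_le
  have n2 : F ≤ Nm(X ⊔ pCore p G) := le_Nm_sup_of_comm_le (le_Nm_normal _ _)
    ((commutator_comm F X ▸ (commutator_mono le_rfl hX).trans h).trans le_sup_right)
  have := hF.bk.irr' (X := bV p E ⊓ secCz (X ⊔ pCore p G) (bV0 p E))
    (inf_le_left.trans (hV.ge.trans (bV_le F))) (le_normalizer_inf (n.trans (Nm_le_Nm_bV E))
      (le_Nm_secCz n2 (n.trans (Nm_le_Nm_bV0 E)))) fun e =>
    exists_secCz (isPGroup_sup hXp (isPGroup_pCore p G) (le_Nm_normal _ _)) (isPGroup_bV E)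
      (n1.trans (Nm_le_Nm_bV E)) (n1.trans (Nm_le_Nm_bV0 E))
      ((bV_le' E).trans (le_normalizer.trans (Nm_le_Nm_bV0 E)))
      (fun e => hE.bk.V_not_le (e.trans inf_le_right))
      (le_inf inf_le_left ((le_inf (inf_le_left.trans hV.ge) e).trans (hF.V0_le hE n' hV.symm)))
  refine (le_inf hX (hE.bk.le_Cz_of_sec0 (hX.trans le_normalizer) ?_)).trans hE.bk.inf_Cz.le
  rw [commutator_comm]
  exact (commutator_mono le_sup_left (hV.ge.trans (this.trans inf_le_right))).trans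
    ((commutator_secCz_le _ _).trans inf_le_right)

theorem mut_nm (hE : BLK p T E) (hF : BLK p T' F) (n : F ≤ Nm(E)) (n' : E ≤ Nm(F))
    (h : PCl p E ∨ ⁅F, E⁆ ≤ pCore p G) : E = F ∨ ⁅E, F⁆ = ⊥ := by
  rcases hE.cz_or_le hF n with e | e
  · exact Or.inr (comm_eq_bot_right.2 e)
  rcases hF.cz_or_le hE n' with e' | e'
  · exact Or.inr (comm_eq_bot_left.2 e')
  have hV := le_antisymm e e'
  have c := h.elim id (hE.pcl_of_comm hF hV)
  have := hE.small_le hF n n' hV c
  exact Or.inl (le_antisymm (hF.small_le hE n' n hV.symm (c.mono this)) this)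

theorem small_Nm (hE : BLK p T E) (hF : BLK p T' F) (c : PCl p E) (c' : PCl p F)
    (ih : ∀ f ∈ F, CfH9.cj f E = E ∨ ⁅E, CfH9.cj f E⁆ = ⊥) : F ≤ Nm(E) := by
  have z := hE.bk.V0_eq_bot c
  have z1 : ∀ {v}, v ∈ bV p E → v ∈ Cz(E) → v = 1 := fun h1 h2 => mem_bot.1 (z.le (mi h1 h2))
  have k : ∀ f ∈ F, f ∉ Nm(E) → ∀ v ∈ bV p E, f * v * f⁻¹ ∈ Cz(E) := fun f hf hf' v hv =>
    comm_eq_bot_right.1 ((ih f hf).resolve_left fun e => hf' (mem_normalizer_iff_cj.2 e))
      (conj_mem_cj f (bV_le' E hv))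
  have ne := hF.bk.V_not_le
  have inv : ∀ f ∈ F, f ∉ Nm(E) → ∀ y ∈ bV p F, f * y * f⁻¹ = y⁻¹ := by
    intro f hf hf'
    have m : ∀ v ∈ bV p E, f * v * f⁻¹ * v⁻¹ ∈ bV p F := fun v hv =>
      hE.comm_V_le hF (commutator_comm F (bV p E) ▸ commutator_mem_commutator hf hv)
    have sj : ∀ y ∈ bV p F, ∃ v ∈ bV p E, f * v * f⁻¹ * v⁻¹ = y := fun y hy => by
      suffices inj : Function.Injective fun v : bV p E => (⟨_, m v v.2⟩ : bV p F) by
        obtain ⟨v, e⟩ := ((Nat.bijective_iff_injective_and_card _).2 ⟨inj, by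
          rw [((blk_typ hE.blk).resolve_left fun e => e.2 c).2,
            ((blk_typ hF.blk).resolve_left fun e => e.2 c').2]⟩).2 ⟨y, hy⟩
        exact ⟨v, v.2, congrArg Subtype.val e⟩
      intro v w e
      have e1 : f * v * f⁻¹ * (v : G)⁻¹ = f * w * f⁻¹ * (w : G)⁻¹ := congrArg Subtype.val e
      have e2 : f * ((w : G)⁻¹ * v) * f⁻¹ = (w : G)⁻¹ * v := by
        calc _ = (f * w * f⁻¹)⁻¹ * (f * v * f⁻¹ * (v : G)⁻¹) * v := by group
          _ = _ := by rw [e1]; group
      have := z1 (mul_mem (inv_mem w.2) v.2) (e2 ▸ k f hf hf' _ (mul_mem (inv_mem w.2) v.2))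
      exact Subtype.ext (inv_mul_eq_one.1 this).symm
    intro y hy
    obtain ⟨w, hw, e⟩ := sj _ (conj_mem_of_mem_normalizer (right_le_Nm_comm _ _ hf) hy)
    obtain ⟨v, hv, rfl⟩ := sj y hy
    have a := k f hf hf' v hv
    have cw := k f hf hf' w hw
    have av : f * v * f⁻¹ * v⁻¹ = v⁻¹ * (f * v * f⁻¹) := (a _ (inv_mem (bV_le' E hv))).symm
    by_cases h2 : f * f ∈ Nm(E)
    · have b := conj_mem_of_mem_normalizer (Nm_le_Nm_bV (p := p) E h2) hv
      have e1 : f * f * v * (f * f)⁻¹ * w = f * w * f⁻¹ * (f * v * f⁻¹) := by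
        calc _ = (f * (f * v * f⁻¹ * v⁻¹) * f⁻¹) * ((f * v * f⁻¹) * w) := by group
          _ = _ := by rw [← e, ← a w (bV_le' E hw)]; group
      have e2 := z1 (mul_mem b hw) (e1 ▸ mul_mem cw a)
      have e3 : w = v⁻¹ := by
        rw [e1, conj_mul, conj_eq_one_iff] at e2
        exact eq_inv_of_mul_eq_one_left e2
      rw [← e, e3, av]; group
    · have b := k _ (mul_mem hf hf) h2 v hv
      have e1 : w = (f * f * v * (f * f)⁻¹ * (f * v * f⁻¹)⁻¹)⁻¹ * (f * w * f⁻¹) := by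
        calc _ = (f * w * f⁻¹ * w⁻¹)⁻¹ * (f * w * f⁻¹) := by group
          _ = _ := by rw [e]; group
      have e2 := z1 hw (e1 ▸ mul_mem (inv_mem (mul_mem b (inv_mem a))) cw)
      rw [e2, mul_one, mul_inv_cancel, one_mul, inv_one, eq_comm, conj_eq_one_iff] at e
      rw [e]; simp
  by_contra e
  obtain ⟨f, hf, hf'⟩ := SetLike.not_le_iff_exists.1 e
  obtain ⟨y, hy, hy'⟩ := SetLike.not_le_iff_exists.1 ne
  have h1 := hF.bk.irr' (X := zpowers y) ((zpowers_le.2 hy).trans (bV_le F)) (fun g hg => ?_)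
    fun e => hy' (e (mem_zpowers y))
  · have h2 := card_le_of_le h1
    rw [((blk_typ hF.blk).resolve_left fun e => e.2 c').2, Nat.card_zpowers] at h2
    have := h2.trans (orderOf_le_of_pow_eq_one hp.out.pos ((elemAb_bV F).2 y hy))
    nlinarith [hp.out.two_le]
  refine mem_normalizer_of_cj_le ?_
  rw [cj_zpowers, zpowers_le]
  by_cases hg' : g ∈ Nm(E)
  · have e1 := inv _ (mul_mem hf hg) (fun e => hf' ((mul_mem_cancel_right hg').1 e)) y hy
    have e2 := inv f hf hf' y hy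
    rw [show g * y * g⁻¹ = f⁻¹ * (f * g * y * (f * g)⁻¹) * f by group, e1, ← e2]
    simp [mul_assoc]
  · rw [inv g hg hg' y hy]; exact inv_mem (mem_zpowers y)

theorem eq_or_comm (hE : BLK p T E) (hF : BLK p T' F) (sE : E.IsSubnormal) (sF : F.IsSubnormal) :
    E = F ∨ ⁅E, F⁆ = ⊥ := by
  induction hk : Nat.card (E ⊔ F : Subgroup G) using Nat.strong_induction_on
    generalizing E F T T' with
  | _ k ih =>
  have q : ∀ {E F T T' : Subgroup G}, BLK p T E → BLK p T' F → E.IsSubnormal → F.IsSubnormal →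
      ¬ PCl p E → E = F ∨ ⁅E, F⁆ = ⊥ := fun {E F T T'} hE hF sE sF c => by
    have m : ⁅F, E⁆ ≤ pCore p G → E = F ∨ ⁅E, F⁆ = ⊥ := fun e =>
      hE.mut_nm hF (hE.le_Nm_of_comm (commutator_comm F E ▸ e)) (hF.le_Nm_of_comm e) (Or.inr e)
    rcases hE.qs_cases hF sE sF c with e | e
    · rcases hF.qs_cases hE sF sE (fun c' => c (c'.mono e)) with e' | e'
      · exact Or.inl (le_antisymm e e')
      · exact m (commutator_comm E F ▸ e')
    · exact m e
  by_cases c : PCl p E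
  swap
  · exact q hE hF sE sF c
  by_cases c' : PCl p F
  swap
  · exact (q hF hE sF sE c').imp Eq.symm fun e => commutator_comm F E ▸ e
  have nm : ∀ {E F T T' : Subgroup G}, BLK p T E → BLK p T' F → E.IsSubnormal → PCl p E → PCl p F →
      Nat.card (E ⊔ F : Subgroup G) = k → F ≤ Nm(E) := fun {E F T T'} hE hF sE c c' hk => by
    by_cases e : E = E ⊔ F
    · exact (le_sup_right.trans e.ge).trans le_normalizer
    obtain ⟨N, h1, h2, h3⟩ :=
      ((subnIn_top_iff.2 sE).mono_right le_sup_left le_top).exists_normal e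
    refine hE.small_Nm hF c c' fun f hf => (ih _ (hk ▸ card_lt_of_lt (lt_of_le_of_lt ?_ h2))
      hE (hE.cj f) sE (sE.map (MulAut.conj f).surjective) rfl).imp_left Eq.symm
    exact sup_le h1 (cj_le_of_mem_Nm h1 (h3 (mem_sup_right hf)))
  exact hE.mut_nm hF (nm hE hF sE c c' hk) (nm hF hE sF c' c (sup_comm E F ▸ hk)) (Or.inl c)

end BLK

end CfH7
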