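import Cfsg.Agent.OD.Pre
import Cfsg.Agent.H7.Blk8
import Cfsg.Agent.H9.Invert
import Cfsg.Agent.OD.Helper7xb7af37dff3

/-! Tools for the normality of a block in `E C(V)`. -/

set_option autoImplicit false
set_option linter.unusedSectionVars false

open Cfsg Subgroup CfH9 Matrix
open CfLp (uu dd uu_coe dd_coe)
open scoped commutatorElement MatrixGroups

namespace CfH7

universe u

/-- an abelian section as a module -/
theorem exists_md {G : Type u} [Group G] {H U U₀ : Subgroup G} (h1 : H ≤ Nm(U)) (h2 : H ≤ Nm(U₀))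
    (h3 : U₀ ≤ U) (h4 : ⁅U, U⁆ ≤ U₀) {P : Type*} [Group P] (π : H →* P)
    (hs : Function.Surjective π) (hk : ∀ x : H, π x = 1 → (x : G) ∈ secCz U U₀) :
    ∃ (W : Type u) (_ : AddCommGroup W) (_ : DistribMulAction P W)
      (D : MD (⊤ : Subgroup P) (⊤ : AddSubgroup W) H U U₀), D.ρ = π := by
  classical
  have n : U ≤ Nm(U₀) := le_Nm_of_comm_le h3 h4
  let φ : H →* sec U₀ H := ((CfH8.nmQuot U₀).comp (inclusion h2)).codRestrict _
    fun x => secE_mem (h2 x.2) x.2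
  obtain ⟨W, _, _, ι, b⟩ := exists_br ((sec_comm_iff n).2 h4) (sec_le_Nm h2 n h1) (MonoidHom.id _)
    Function.surjective_id fun x e => by rw [show x = 1 from e]; exact one_mem _
  let c : G → W := fun g => if hg : g ∈ U then (b.ex (secE_mem (n hg) hg)).choose else 0
  have hc : ∀ g, ∀ hg : g ∈ U, ι (.ofAdd (c g)) = secE (n hg) := fun g hg => by
    simp only [c, dif_pos hg]; exact (b.ex (secE_mem (n hg) hg)).choose_spec
  have sj : ∀ w, ∃ u ∈ U, c u = w := fun w => by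
    obtain ⟨u, _, hu, _⟩ := mem_sec.1 (b.mem w)
    exact ⟨u, hu, b.inj' ((hc u hu).trans ‹_›)⟩
  have act : ∀ g : H, ∀ u ∈ U, c (g * u * (g : G)⁻¹) = φ g • c u := fun g u hu =>
    b.inj' (by rw [hc _ (conj_mem_of_mem_normalizer (h1 g.2) hu)]
               exact ((b.eqv (φ g) _).trans (by rw [hc u hu]; rfl)).symm)
  have mul : ∀ u ∈ U, ∀ v ∈ U, c (u * v) = c u + c v := fun u hu v hv =>
    b.inj' (by rw [ofAdd_add, map_mul, hc _ (mul_mem hu hv), hc u hu, hc v hv]; rfl)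
  have zero : ∀ u ∈ U, c u = 0 ↔ u ∈ U₀ := fun u hu => by
    rw [← secE_eq_one_iff (n hu), ← hc u hu, ← map_one ι]
    exact ⟨fun e => by rw [e]; rfl, fun e => b.inj' e⟩
  let d : P →* (W ≃ₗ[ℤ] W) := π.liftOfSurjective hs
    ⟨(DistribMulAction.toModuleAut ℤ W).comp φ, fun x hx => LinearEquiv.ext fun w => by
      obtain ⟨u, hu, rfl⟩ := sj w
      have m := inv_mem ((hk x hx).2 u hu)
      change φ x • c u = c u
      rw [← act x u hu, show (x : G) * u * (x : G)⁻¹ = ⁅u, (x : G)⁆⁻¹ * u by group, mul _ (h3 m) u hu,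
        (zero _ (h3 m)).2 m, zero_add]⟩
  have hd : ∀ x, d (π x) = DistribMulAction.toModuleAut ℤ W (φ x) :=
    fun x => π.liftOfRightInverse_comp_apply _ _ _ x
  letI := DistribMulAction.compHom W d
  refine ⟨W, inferInstance, inferInstance, ⟨π, c, h1, h3, MonoidHom.range_eq_top.2 hs, mul,
    fun _ _ => trivial, fun w _ => sj w, zero, fun g u hu => ?_⟩, rfl⟩
  change _ = d (π g) • c u
  rw [hd, act g u hu]; rfl

/-- a Frobenius group with complement of order four -/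
theorem frob_four {P W : Type*} [Group P] [Finite P] [AddCommGroup W] [DistribMulAction P W]
    {X : Subgroup P} {w : P} (hc : X ≤ Cz(X)) (hw : w ∈ Nm(X))
    (inv : ∀ x ∈ X, w * w * x * (w * w)⁻¹ = x⁻¹) (odd : ∀ x ∈ X, Odd (orderOf x))
    (cop : ∀ x ∈ X, ∀ m : W, x • m - m ∈ fx W X → x • m = m)
    (h4 : ∀ m : W, (w * w) • (w * w) • m = m) (fix : ∀ m : W, (w * w) • m = m → w • m = m) :
    fx W X = ⊤ := by
  by_contra ne
  obtain ⟨Y, ⟨hY, hn⟩, mx⟩ := Set.Finite.exists_maximal (Set.toFinite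
    {Y : Subgroup P | Y ≤ X ∧ ¬ fx W Y ≤ fx W X}) ⟨⊥, bot_le, fun e => ne (top_unique (fx_bot.ge.trans e))⟩
  have mx' : ∀ a ∈ X, ∀ m ∈ fx W Y, m ∉ fx W X → a • m = m → a ∈ Y := fun a ha m h1 h2 h3 =>
    mx (y := Y ⊔ zpowers a) ⟨sup_le hY (zpowers_le.2 ha), fun e =>
      h2 (e (mem_fx_sup h1 (mem_fx_zpowers.2 h3)))⟩ le_sup_left (mem_sup_right (mem_zpowers a))
  have cm : ∀ a ∈ X, ∀ b ∈ X, a * b = b * a := fun a ha b hb => hc hb a ha
  have xY : X ≤ Nm(Y) := (hc.trans (Cz_anti hY)).trans (Cz_le_Nm Y)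
  have tY : w * w ∈ Nm(Y) := mem_normalizer_of_conj_mem fun y hy => inv y (hY hy) ▸ inv_mem hy
  have tx : ∀ x ∈ X, ∀ m : W, (w * w) • x • m = x⁻¹ • (w * w) • m := fun x hx m => by
    rw [← inv x hx, smul_smul, smul_smul]; congr 1; group
  have fin : (∀ x ∈ X, x * x ∈ Y) → False := fun e =>
    hn (fx_anti fun x hx => mem_of_sq_mem (odd x hx) (e x hx))
  obtain ⟨m, h1, h2, h3⟩ : ∃ m ∈ fx W Y, m ∉ fx W X ∧ (w * w) • m = m := by
    by_contra e
    have k : ∀ m ∈ fx W Y, m + (w * w) • m ∈ fx W X := fun m hm => by_contra fun e' =>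
      e ⟨_, add_mem hm (smul_mem_fx tY hm), e', by rw [smul_add, h4, add_comm]⟩
    obtain ⟨m, h1, h2⟩ := SetLike.not_le_iff_exists.1 hn
    refine fin fun x hx => mx' _ (mul_mem hx hx) m h1 h2 (cop _ (mul_mem hx hx) m ?_)
    have k1 := smul_mem_fx (le_normalizer hx) (k _ (smul_mem_fx (xY hx) h1))
    rw [tx x hx, smul_add, smul_inv_smul, smul_smul] at k1
    simpa using sub_mem k1 (k m h1)
  have h5 := fix m h3
  have wY : ∀ y ∈ Y, w * y * w⁻¹ ∈ Y := fun y hy =>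
    mx' _ (conj_mem_of_mem_normalizer hw (hY hy)) m h1 h2 (by
      rw [mul_smul, mul_smul, inv_smul_eq_iff.2 h5.symm, h1 y hy, h5])
  refine fin fun x hx => ?_
  have hx' := conj_mem_of_mem_normalizer hw hx
  have e2 : w * (w * x * w⁻¹) * w⁻¹ = x⁻¹ := by rw [← inv x hx]; group
  set x' := w * x * w⁻¹ with e
  have k : ∀ y : P, w • y • m = (w * y * w⁻¹) • m := fun y => by
    rw [mul_smul, mul_smul, inv_smul_eq_iff.2 h5.symm]
  have e1 := fix (x • m + x⁻¹ • m) (by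
    rw [smul_add, tx x hx, tx _ (inv_mem hx), h3, inv_inv, add_comm])
  rw [smul_add, k, k, ← e, show w * x⁻¹ * w⁻¹ = x'⁻¹ by rw [e]; group] at e1
  have b := mul_mem hx (inv_mem hx')
  by_cases c : (x * x'⁻¹) • m - m ∈ fx W X
  · have c1 := mx' _ b m h1 h2 (cop _ b m c)
    have c2 := mul_mem c1 (wY _ c1)
    rwa [← conj_mul, ← conj_inv, e2, ← e, inv_inv, mul_assoc, inv_mul_cancel_left] at c2
  have c1 := mx' _ (mul_mem hx hx') _ (sub_mem (smul_mem_fx (xY b) h1) h1) c (by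
    have := congrArg (x • ·) e1
    simp only [smul_add, smul_smul, mul_inv_cancel, one_smul] at this
    rw [smul_sub, smul_smul, show x * x' * (x * x'⁻¹) = x * x by
      rw [cm x hx _ (inv_mem hx'), mul_assoc, mul_inv_cancel_left], sub_eq_sub_iff_add_eq_add,
      ← this, add_comm])
  have c2 := mul_mem c1 (inv_mem (wY _ c1))
  rwa [← conj_mul, e2, ← e, _root_.mul_inv_rev, inv_inv, cm x hx _ (inv_mem hx'), mul_assoc,
    mul_inv_cancel_left] at c2

section Form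

variable {F : Type} [Field F] [Fintype F] {G : Type*} [Group G] [Finite G]

theorem form_det {Z : Subgroup G} (β : (Fin 2 → F) → (Fin 2 → F) → G)
    (a1 : ∀ v v' w, β (v + v') w = β v w * β v' w) (a2 : ∀ v w w', β v (w + w') = β v w * β v w')
    (alt : ∀ v, β v v = 1) (inv : ∀ s ∈ commutator SL(2, F), ∀ v w, β (s • v) (s • w) = β v w)
    (gen : ∀ X : Subgroup G, (∀ v w, β v w ∈ X) → Z ≤ X) (card : Nat.card Z = Nat.card F)
    {v w v' w' : Fin 2 → F} (e : β v w = β v' w') :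
    v 0 * w 1 - v 1 * w 0 = v' 0 * w' 1 - v' 1 * w' 0 := by
  have z1 : ∀ w, β 0 w = 1 := fun w => by simpa using a1 0 0 w
  have z2 : ∀ w, β w 0 = 1 := fun w => by simpa using a2 w 0 0
  have n1 : ∀ v w, β (-v) w = (β v w)⁻¹ := fun v w =>
    eq_inv_of_mul_eq_one_left (by rw [← a1, neg_add_cancel, z1])
  have n2 : ∀ v w, β v (-w) = (β v w)⁻¹ := fun v w =>
    eq_inv_of_mul_eq_one_left (by rw [← a2, neg_add_cancel, z2])
  have sk : ∀ v w, β w v = (β v w)⁻¹ := fun v w => eq_inv_of_mul_eq_one_right (by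
    have := alt (v + w)
    rwa [a1, a2, a2, alt, alt, one_mul, mul_one] at this)
  have key : (∀ a b : F, β ![a, 0] ![b, 0] = 1) ∧ (∀ a b : F, β ![0, a] ![0, b] = 1) ∧
      ∀ a b : F, β ![a, 0] ![0, b] = β ![a * b, 0] ![0, 1] := by
    by_cases s : SF F
    · have sm : ∀ (a : F) v w, β (a • v) w = β v (a • w) := fun a v w => by
        rcases s a with rfl | rfl | rfl <;> simp [z1, z2, n1, n2]
      have k : ∀ (a b : F) v, β (a • v) (b • v) = 1 := fun a b v => by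
        rw [sm, smul_smul]
        rcases s (a * b) with e | e | e <;> simp [e, z2, n2, alt]
      refine ⟨fun a b => by simpa using k a b ![1, 0], fun a b => by simpa using k a b ![0, 1],
        fun a b => ?_⟩
      simpa [mul_comm] using (sm b ![a, 0] ![0, 1]).symm
    have inv' := fun t => inv t (comm_top_of_not_sf s ▸ trivial)
    have k : ∀ a b : F, β ![a, 0] ![b, 0] = 1 := fun a b => by
      have := inv' (uu b) ![a, 0] ![0, 1]
      rw [uu_smul, uu_smul, show (![![0, 1] 0 + b * ![0, 1] 1, ![0, 1] 1] : Fin 2 → F) =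
        ![b, 0] + ![0, 1] from vec_ext (by simp) (by simp), a2] at this
      simpa using this
    refine ⟨k, fun a b => ?_, fun a b => ?_⟩
    · simpa [ww_smul, k] using inv' (ww F) ![a, 0] ![b, 0]
    by_cases hb : b = 0
    · subst hb
      rw [mul_zero, show (![0, 0] : Fin 2 → F) = 0 from vec_ext rfl rfl, z1, z2]
    simpa [dd_smul, hb, mul_comm] using (inv' (dd (Units.mk0 b hb)) ![a, 0] ![0, b]).symm
  let l : Multiplicative F →* G := MonoidHom.mk' (fun a => β ![a.toAdd, 0] ![0, 1]) fun a b => by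
    rw [← a1]; congr 1; exact vec_ext (by simp) (by simp)
  have hl : ∀ v w, β v w = l (.ofAdd (v 0 * w 1 - v 1 * w 0)) := fun v w => by
    have d : ∀ v : Fin 2 → F, v = ![v 0, 0] + ![0, v 1] := fun v => vec_ext (by simp) (by simp)
    conv_lhs => rw [d v, d w, a1, a2, a2, key.1, key.2.1, sk ![w 0, 0], key.2.2 (v 0), key.2.2 (w 0)]
    rw [sub_eq_add_neg, ofAdd_add, ofAdd_neg, map_mul, map_inv, one_mul, mul_one, mul_comm (v 1)]
    rfl
  have i : l.ker = ⊥ := by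
    have h1 := card_le_of_le (gen l.range fun v w => ⟨_, (hl v w).symm⟩)
    have h2 := l.ker.card_mul_index
    rw [index_ker] at h2
    refine card_le_one_iff_eq_bot _ |>.1 (Nat.le_of_mul_le_mul_right ?_ (Nat.card_pos (α := l.range)))
    rw [h2, one_mul]
    exact card.ge.trans h1
  rw [hl, hl] at e
  exact (MonoidHom.ker_eq_bot_iff l).1 i e

theorem MD.exists_sl {E Q W Z : Subgroup G}
    (D : MD (commutator SL(2, F)) (⊤ : AddSubgroup (Fin 2 → F)) E Q W) (h1 : Q ≤ Cz(W))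
    (h2 : ⁅Q, Q⁆ = Z) (h3 : E ≤ Cz(Z)) (card : Nat.card Z = Nat.card F) {x : G} (hx : x ∈ Nm(Q))
    (hw : x ∈ Nm(W)) (hz : x ∈ Cz(Z)) : ∃ s : SL(2, F), ∀ u ∈ Q, D.c (x * u * x⁻¹) = s • D.c u := by
  choose r hr hr' using fun v => D.c_surj v trivial
  have m : ∀ u ∈ Q, ∀ v ∈ Q, ⁅u, v⁆ ∈ Z := fun u hu v hv => h2 ▸ commutator_mem_commutator hu hv
  have ZW : Z ≤ W := h2.ge.trans D.comm
  have l : ∀ u ∈ Q, ∀ u' ∈ Q, ∀ v ∈ Q, D.c u = D.c u' → ⁅u', v⁆ = ⁅u, v⁆ := fun u hu u' hu' v hv e => by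
    have := h1 hv _ ((D.c_eq_iff hu hu').1 e)
    calc _ = u * (u⁻¹ * u' * v) * u'⁻¹ * v⁻¹ := by group
      _ = _ := by rw [this]; group
  have k : ∀ u ∈ Q, ∀ v ∈ Q, ⁅r (D.c u), r (D.c v)⁆ = ⁅u, v⁆ := fun u hu v hv => by
    rw [l u hu _ (hr _) _ (hr _) (hr' _).symm, ← commutatorElement_inv,
      l v hv _ (hr _) _ hu (hr' _).symm, commutatorElement_inv]
  have a1 : ∀ v v' w, ⁅r (v + v'), r w⁆ = ⁅r v, r w⁆ * ⁅r v', r w⁆ := fun v v' w => by
    rw [l _ (mul_mem (hr v) (hr v')) _ (hr _) _ (hr _)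
        (by rw [D.c_mul _ (hr _) _ (hr _), hr', hr', hr']),
      ← h1 (D.le (ZW (m _ (hr v) _ (hr w)))) _ (ZW (m _ (hr v') _ (hr w)))]
    calc _ = r v * ⁅r v', r w⁆ * (r v)⁻¹ * ⁅r v, r w⁆ := by group
      _ = _ := by rw [conj_eq_of_mem_centralizer (h1 (hr v)) (ZW (m _ (hr v') _ (hr w)))]
  have cj : ∀ y ∈ Nm(Q), y ∈ Cz(Z) → ∀ v w,
      ⁅r (D.c (y * r v * y⁻¹)), r (D.c (y * r w * y⁻¹))⁆ = ⁅r v, r w⁆ := fun y hy hy' v w => by
    rw [k _ (conj_mem_of_mem_normalizer hy (hr v)) _ (conj_mem_of_mem_normalizer hy (hr w)),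
      ← conjugate_commutatorElement, conj_eq_of_mem_centralizer hy' (m _ (hr v) _ (hr w))]
  have dt := fun v w => form_det (Z := Z) (fun v w => ⁅r v, r w⁆) a1 (fun v w w' => by
      rw [← commutatorElement_inv, a1, ← h1 (D.le (ZW (m _ (hr _) _ (hr _)))) _
        (ZW (m _ (hr _) _ (hr _))), _root_.mul_inv_rev, commutatorElement_inv, commutatorElement_inv])
    (fun v => commutatorElement_self _) (fun s hs v w => by
      obtain ⟨g, rfl⟩ := D.ex hs
      have := cj g (D.n g.2) (h3 g.2) v w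
      rwa [D.act g _ (hr _), D.act g _ (hr _), hr', hr'] at this)
    (fun X hX => h2.ge.trans (commutator_le.2 fun u hu v hv => k u hu v hv ▸ hX _ _)) card
    (cj x hx hz v w)
  obtain ⟨φ, k1, -⟩ := D.exists_phi hx hw
  simp only [← k1 _ (hr _), hr'] at dt
  have d := dt ![1, 0] ![0, 1]
  refine ⟨⟨!![φ ![1, 0] 0, φ ![0, 1] 0; φ ![1, 0] 1, φ ![0, 1] 1], by
    simpa [det_fin_two, mul_comm] using d⟩, fun u hu => ?_⟩
  have d1 := dt (D.c u) ![0, 1]
  have d2 := dt ![1, 0] (D.c u)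
  refine (k1 u hu).symm.trans (.trans ?_ (sl_smul _ _).symm)
  simp only [cons_val_zero, cons_val_one, mul_one, mul_zero, sub_zero, one_mul, zero_mul] at d d1 d2
  refine vec_ext ?_ ?_ <;> simp
  · linear_combination (-φ (D.c u) 0) * d + φ ![1, 0] 0 * d1 + φ ![0, 1] 0 * d2
  · linear_combination (-φ (D.c u) 1) * d + φ ![1, 0] 1 * d1 + φ ![0, 1] 1 * d2

theorem sq_eq_one_cases (h : (2 : F) ≠ 0) {g : SL(2, F)} (e : g * g = 1) :
    g = 1 ∨ g = ww F * ww F := by
  have e1 : g⁻¹ = g := inv_eq_of_mul_eq_one_right e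
  rw [SpecialLinearGroup.SL2_inv_expl] at e1
  have a : g 1 1 = g 0 0 := congrArg (fun x : SL(2, F) => x 0 0) e1
  have b : -g 0 1 = g 0 1 := congrArg (fun x : SL(2, F) => x 0 1) e1
  have c : -g 1 0 = g 1 0 := congrArg (fun x : SL(2, F) => x 1 0) e1
  have d : g 0 0 * g 1 1 - g 0 1 * g 1 0 = 1 := (det_fin_two _).symm.trans g.det_coe
  have b' : g 0 1 = 0 := (mul_eq_zero.1 (show 2 * g 0 1 = 0 by linear_combination -b)).resolve_left h
  have c' : g 1 0 = 0 := (mul_eq_zero.1 (show 2 * g 1 0 = 0 by linear_combination -c)).resolve_left h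
  have d' : g 0 0 * g 0 0 = 1 := by rwa [a, b', zero_mul, sub_zero] at d
  refine (mul_self_eq_one_iff.1 d').imp (fun e => sl_ext fun v => ?_) fun e => sl_ext fun v => ?_
  · rw [sl_smul, a, b', c', e, one_smul]; exact vec_ext (by simp) (by simp)
  · rw [sl_smul, a, b', c', e, mul_smul, ww_smul, ww_smul]; exact vec_ext (by simp) (by simp)

theorem two_ne_of_card {n : ℕ} (hF : Fintype.card F = 3 ^ n) : (2 : F) ≠ 0 := fun e => by
  haveI : Fact (Nat.Prime 3) := ⟨Nat.prime_three⟩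
  haveI : CharP F 3 := charP_of_card_eq_prime_pow hF
  exact one_ne_zero (α := F) (by linear_combination (CharP.cast_eq_zero F 3 : (3 : F) = 0) - e)

theorem ww_sq_smul (v : Fin 2 → F) : (ww F * ww F) • v = -v := by
  rw [mul_smul, ww_smul, ww_smul]; exact vec_ext (by simp) (by simp)

theorem neg_mem_of_normal {n : ℕ} (hF : Fintype.card F = 3 ^ n) {N : Subgroup SL(2, F)}
    (h1 : N ≤ commutator SL(2, F)) (h2 : commutator SL(2, F) ≤ Nm(N)) (h3 : N ≠ ⊥) :
    ww F * ww F ∈ N := by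
  haveI : Fact (Nat.Prime 3) := ⟨Nat.prime_three⟩
  obtain ⟨⟨g, hg⟩, h⟩ := ne_bot_iff_exists_ne_one.1 h3
  have h' : g ≠ 1 := fun e => h (Subtype.ext e)
  have k : g * g = 1 → ww F * ww F ∈ N := fun e =>
    (sq_eq_one_cases (two_ne_of_card hF) e).resolve_left h' ▸ hg
  by_cases s : SF F
  · refine (sq_eq_one_cases (two_ne_of_card hF) (g := g * g) ?_).elim k fun e => e ▸ mul_mem hg hg
    rw [← s.pow_eq hF (h1 hg)]; simp [pow_succ, mul_assoc]
  rw [comm_top_of_not_sf s] at h2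
  rcases quasisimple_subnormal (qs_sl s) (normal_of_top_le_normalizer h2).isSubnormal with e | e
  · obtain ⟨r, h4, h5⟩ := Matrix.SpecialLinearGroup.mem_center_iff.1 (e hg)
    refine k (Subtype.ext ?_)
    rw [Matrix.SpecialLinearGroup.coe_mul, ← h5, ← map_mul, ← pow_two, show r ^ 2 = 1 from h4, map_one]; rfl
  · rw [e]; trivial

end Form

end CfH7
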