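import Cfsg.Agent.OD.Pre
import Cfsg.Agent.H7.Blk9
import Cfsg.Agent.H4.ZStar
import Cfsg.Agent.FT.Final
import Cfsg.Agent.H8.Glauberman
import Cfsg.Agent.H1.Frattini

/-! A block is normalised by the centraliser of its module. -/

set_option autoImplicit false
set_option linter.unusedSectionVars false

open Cfsg Subgroup CfH9 Matrix
open scoped commutatorElement MatrixGroups

namespace CfH7

open CfH8 (BB JJ MaxEl)

theorem smul_eq_of_coprime {P W : Type*} [Group P] [AddCommGroup W] [DistribMulAction P W] {x : P}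
    {m : W} {k : ℕ} (h1 : x • (x • m - m) = x • m - m) (h2 : k • (x • m - m) = 0)
    (h3 : (orderOf x).Coprime k) : x • m = m := by
  have : ∀ i : ℕ, x ^ i • m = m + i • (x • m - m) := fun i => by
    induction i with
    | zero => simp
    | succ i ih => rw [pow_succ', mul_smul, ih, smul_add, smul_comm x i, h1, succ_nsmul]; abel
  have e := this (orderOf x)
  rw [pow_orderOf_eq_one, one_smul, left_eq_add] at e
  exact sub_eq_zero.1 (AddMonoid.addOrderOf_eq_one_iff.1 (Nat.eq_one_of_dvd_coprimes h3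
    (addOrderOf_dvd_of_nsmul_eq_zero e) (addOrderOf_dvd_of_nsmul_eq_zero h2)))

variable {G : Type*} [Group G] {p : ℕ} [Finite G] [hp : Fact p.Prime] {T E H : Subgroup G}

theorem MD.c_pow {P Z : Type*} [Group P] [AddCommGroup Z] [DistribMulAction P Z] {R : Subgroup P}
    {Y : AddSubgroup Z} {U U₀ : Subgroup G} (D : MD R Y E U U₀) {u : G} (hu : u ∈ U) (i : ℕ) :
    D.c (u ^ i) = i • D.c u := by
  induction i with
  | zero => rw [pow_zero, D.c_one, zero_nsmul]
  | succ i ih => rw [pow_succ, D.c_mul _ (pow_mem hu i) _ hu, ih, succ_nsmul]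

theorem coprime_of_comm {X : Subgroup G} [X.Normal] (h : pCore p G = ⊥) (hc : X ≤ Cz(X)) {x : G}
    (hx : x ∈ X) : (orderOf x).Coprime p := by
  obtain ⟨a, ha, b, -, ⟨k, hk⟩, hb, rfl⟩ := exists_pPart_mul_pPrimePart (p := p) x
  have ha' := zpowers_le.2 (zpowers_le.2 hx ha)
  have := le_pCoreOf ha' ((hc.trans (Cz_anti ha')).trans (Cz_le_Nm _)) (isPGroup_zpowers hk)
  rw [eq_bot_of_normal_of_pCore_eq_bot h inferInstance (isPGroup_pCoreOf X)] at this
  rwa [mem_bot.1 (this (mem_zpowers a)), one_mul]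

theorem commutator_normal_of_top (A : Subgroup G) : ⁅A, (⊤ : Subgroup G)⁆.Normal :=
  normal_of_top_le_normalizer (right_le_Nm_comm _ _)

theorem inverts_of_comm {t x : G} (h : t * t = 1)
    (hc : ⁅zpowers t, (⊤ : Subgroup G)⁆ ≤ Cz(⁅zpowers t, (⊤ : Subgroup G)⁆))
    (hx : x ∈ ⁅zpowers t, (⊤ : Subgroup G)⁆) : t * x * t⁻¹ = x⁻¹ := by
  have ti : t⁻¹ = t := inv_eq_of_mul_eq_one_right h
  let K : Subgroup G :=
    { carrier := {y | y ∈ ⁅zpowers t, (⊤ : Subgroup G)⁆ ∧ t * y * t⁻¹ = y⁻¹}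
      one_mem' := ⟨one_mem _, by simp⟩
      inv_mem' := fun e => ⟨inv_mem e.1, by rw [← conj_inv, e.2]⟩
      mul_mem' := fun e e' => ⟨mul_mem e.1 e'.1, by
        rw [← conj_mul, e.2, e'.2, ← _root_.mul_inv_rev, hc e.1 _ e'.1]⟩ }
  have n : t ∈ Nm(K) := mem_normalizer_of_conj_mem fun y hy => hy.2 ▸ inv_mem hy
  refine (((commutator_comm _ _).le.trans (commutator_le_of_le_secCz (M := K) (zpowers_le.2
    ⟨n, fun g _ => ⟨commutator_comm ⊤ (zpowers t) ▸ commutator_mem_commutator trivial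
      (mem_zpowers t), ?_⟩⟩))) hx).2
  simp [commutatorElement_def, ti, mul_assoc, h]

theorem BK.Q_le_of (h : BK p T E) (e : EX p T E) {X : Subgroup G} (h1 : X ≤ pCoreOf p E)
    (h2 : E ≤ Nm(X)) (h3 : ¬ X ≤ bW p E) : pCoreOf p E ≤ X ⊔ bV p E := by
  have n : E ≤ Nm(X ⊔ bV p E) := le_normalizer_sup h2 (right_le_Nm_comm _ _)
  exact h.Qc.ge.trans ((commutator_mono ((e.is.irr X h1 h2).resolve_left h3) le_rfl).trans
    (commutator_sup_left_le ((h1.trans (pCoreOf_le E)).trans n) ((bW_le' E).trans n)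
      ((comm_le_left h2).trans le_sup_left) le_sup_right))

theorem BLK.exc_md (h : BLK p T E) (e : pCoreOf p E ≠ bW p E) :
    ∃ (F : Type) (_ : Field F) (_ : Fintype F) (n : ℕ), Fintype.card F = 3 ^ n ∧
      Nat.card (bZ p E) = Nat.card F ∧ Nonempty
      (MD (commutator SL(2, F)) (⊤ : AddSubgroup (Fin 2 → F)) E (pCoreOf p E) (bW p E)) := by
  obtain rfl := (h.bk.exc.resolve_left e).three
  obtain ⟨F, _, _, ⟨n, hF⟩, -, e'⟩ := (blk_kind h.blk).resolve_right fun e => absurd e.1 (by decide)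
  obtain ⟨h1, h2⟩ := e'.resolve_left e
  exact ⟨F, _, _, n, hF, h1.trans Nat.card_eq_fintype_card.symm, h2⟩

theorem ww_sq_ne {F : Type} [Field F] [Fintype F] {n : ℕ} (hF : Fintype.card F = 3 ^ n) :
    ww F * ww F ≠ 1 := fun e => two_ne_of_card hF (by
  have := congrFun (ww_sq_smul (F := F) ![1, 0]) 0
  rw [e, one_smul] at this
  simp at this
  linear_combination this)

theorem ww_sq_sq {F : Type} [Field F] [Fintype F] : ww F * ww F * (ww F * ww F) = 1 :=
  sl_ext fun v => by rw [mul_smul, ww_sq_smul, ww_sq_smul, neg_neg, one_smul]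

/-- an element whose square inverts `Q / W` -/
structure WW (p : ℕ) (E : Subgroup G) (w : G) : Prop where
  mem : w ∈ E
  ord : (orderOf w).Coprime p
  inv : ∀ u ∈ pCoreOf p E, w * w * u * (w * w)⁻¹ * u ∈ bW p E
  nm : w * w ∉ pCoreOf p E
  sq : w * w * (w * w) ∈ pCoreOf p E
  cen : w * w ∈ secCz Nm(E) (pCoreOf p E)
  nc : ¬ ⁅pCoreOf p E, zpowers (w * w)⁆ ≤ bW p E

theorem BLK.exists_ww (h : BLK p T E) (e : pCoreOf p E ≠ bW p E) : ∃ w, WW p E w := by
  have ex := h.bk.exc.resolve_left e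
  obtain ⟨F, _, _, n, hF, -, ⟨D⟩⟩ := h.exc_md e
  obtain rfl := ex.three
  obtain ⟨w₀, hw₀⟩ := D.ex (ww_mem_comm hF)
  obtain ⟨w, -, ho, hw⟩ := exists_p'el (p := 3) D.ρ w₀ (Nat.Coprime.coprime_dvd_left
    (orderOf_dvd_of_pow_eq_one (n := 4) (by rw [hw₀, ← ww_sq_sq]; simp [pow_succ, mul_assoc]))
    (by decide))
  have ker : ∀ x : E, D.ρ x = 1 ↔ (x : G) ∈ pCoreOf 3 E := fun x =>
    (D.ρ_eq_one (sl_faith _) x).trans ⟨fun e => ex.ker.le (mi x.2 e), fun e => (ex.ker.ge e).2⟩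
  have e1 : D.ρ (w * w) = ww F * ww F := by rw [map_mul, hw, hw₀]
  have a : ∀ u ∈ pCoreOf 3 E, D.c ((w : G) * w * u * ((w : G) * w)⁻¹) = -D.c u := fun u hu =>
    (D.act (w * w) u hu).trans (by rw [e1, ww_sq_smul])
  have m := fun u hu => conj_mem_of_mem_normalizer (D.n (w * w).2) (x := u) hu
  refine ⟨w, w.2, (orderOf_coe w).symm ▸ ho, fun u hu => ?_, fun e => ?_, ?_,
    ⟨D.n (w * w).2, fun x hx => ?_⟩, fun e' => e (le_antisymm (fun u hu => ?_) (bW_le E))⟩
  · exact (D.c_zero _ (mul_mem (m u hu) hu)).1 (by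
      rw [D.c_mul _ (m u hu) _ hu]; exact (congrArg (· + _) (a u hu)).trans (neg_add_cancel _))
  · exact ww_sq_ne hF (e1 ▸ (ker (w * w)).2 e)
  · exact (ker (w * w * (w * w))).1 (by rw [map_mul, e1, ww_sq_sq])
  · obtain ⟨R', D', e'⟩ := D.ext_lin (normalizer_le_normalizer_pCoreOf E) (Nm_le_Nm_bW E)
      (Or.inl le_rfl)
    have f := (lm_slN.mdl hF).faith
    refine ex.ker.le (mi (comm_le_right (zpowers_le.2 hx)
      (commutator_mem_commutator (mem_zpowers x) (w * w).2)) ?_)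
    refine (D'.ρ_eq_one (fun r _ => f r) ⁅(⟨x, hx⟩ : Nm(E)), ⟨_, le_normalizer (w * w).2⟩⁆).1 ?_
    rw [map_commutatorElement, commutatorElement_eq_one_iff_mul_comm,
      (D.rl D' e' le_normalizer _ lm_slN.eq f).1, e1]
    refine eq_of_smul_eq_smul (α := Fin 2 → F) fun v => ?_
    rw [mul_smul, mul_smul, lm_slN.eq, lm_slN.eq, ww_sq_smul, ww_sq_smul, smul_neg]
  · have m1 := commutator_mem_commutator hu (mem_zpowers ((w : G) * w))
    have := (D.c_zero _ (D.le (e' m1))).2 (e' m1)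
    rw [← coe_mul, D.c_comm' _ hu, e1, ww_sq_smul, sub_neg_eq_add, ← two_smul F] at this
    exact (D.c_zero u hu).1 ((smul_eq_zero.1 this).resolve_left (two_ne_of_card hF))

/-- a minimal counterexample -/
structure CX (p : ℕ) (T E H : Subgroup G) : Prop where
  blk : BLK p T E
  EH : E ≤ H
  BH : BB p T ≤ H
  RH : pCore p G ≤ H
  gen : H ≤ (H ⊓ Cz(bV p E)) ⊔ (E ⊔ BB p T)
  ih : ∀ K, K < H → E ≤ K → BB p T ≤ K → pCore p G ≤ K → K ⊓ Cz(bV p E) ≤ Nm(E)

namespace CX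

theorem nE (h : CX p T E H) : E ⊔ BB p T ≤ Nm(E) := sup_le le_normalizer h.blk.bk.B_le_Nm

theorem nV (h : CX p T E H) : H ≤ Nm(bV p E) :=
  h.gen.trans (sup_le (inf_le_right.trans (Cz_le_Nm _)) (h.nE.trans (Nm_le_Nm_bV E)))

theorem nC (h : CX p T E H) : H ≤ Nm(H ⊓ Cz(bV p E)) :=
  le_normalizer_inf le_normalizer (h.nV.trans (Nm_le_Nm_Cz _))

theorem RR (h : CX p T E H) : pCore p G ≤ pCoreOf p H := pCore_le_pCoreOf h.RH

theorem chp (h : CX p T E H) : Cz(pCoreOf p H) ≤ pCoreOf p H :=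
  (Cz_anti h.RR).trans (h.blk.chp.trans h.RR)

theorem R_le (h : CX p T E H) : pCoreOf p H ≤ Nm(E) :=
  h.blk.bk.nm h.blk.syl (isPGroup_pCoreOf H) (h.BH.trans (le_normalizer_pCoreOf H))
    (h.EH.trans (le_normalizer_pCoreOf H))

theorem RE (h : CX p T E H) : ⁅pCoreOf p H, E⁆ ≤ pCoreOf p E :=
  (le_inf (comm_le_right h.R_le) (comm_le_left (h.EH.trans (le_normalizer_pCoreOf H)))).trans
    (inf_pCoreOf_le h.EH)

theorem R_Cz (h : CX p T E H) : pCoreOf p H ≤ Cz(bV p E) := by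
  have n := (pCoreOf_le (p := p) H).trans h.nV
  refine h.blk.bk.le_Cz_of_sec0 h.R_le (by_contra fun e => ?_)
  exact (commutator_lt_of_isPGroup (isPGroup_bV E) (isPGroup_pCoreOf H) n fun e' =>
    h.blk.bk.V_not_le (e'.le.trans bot_le)).not_ge (h.blk.bk.irr' ((comm_le_left n).trans (bV_le E))
      (le_normalizer_commutator (right_le_Nm_comm _ _) (h.EH.trans (le_normalizer_pCoreOf H))) e)

theorem le_R (h : CX p T E H) {X : Subgroup G} (h1 : X ≤ H) (h2 : H ≤ Nm(X))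
    (h3 : pResidualOf p X ≤ Cz(pCoreOf p H)) : X ≤ pCoreOf p H :=
  le_pCoreOf h1 h2 (pResidualOf_eq_bot_iff.1 (by
    rw [← pResidualOf_pResidualOf]
    exact pResidualOf_eq_bot_of_isPGroup ((isPGroup_pCoreOf H).to_le (h3.trans h.chp))))

theorem le_R' (h : CX p T E H) {X M : Subgroup G} (h1 : X ≤ H) (h2 : H ≤ Nm(X))
    (h3 : ⁅pCoreOf p H, pResidualOf p X⁆ ≤ M) (h4 : pResidualOf p X ≤ Cz(M)) : X ≤ pCoreOf p H :=
  h.le_R h1 h2 (pResidualOf_le_Cz_of_le' (isPGroup_pCoreOf H)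
    (h1.trans (le_normalizer_pCoreOf H)) h3 h4)

theorem res (h : CX p T E H) : pResidualOf p (E ⊔ pCoreOf p H) = E := by
  rw [pResidualOf_sup_of_isPGroup (isPGroup_pCoreOf H) h.R_le, h.blk.bk.res]

theorem le_Nm (h : CX p T E H) {X : Subgroup G} (h1 : X ≤ H) (h2 : ⁅E, X⁆ ≤ pCoreOf p H) :
    X ≤ Nm(E) := by
  have := (le_Nm_sup_of_comm_le (h1.trans (le_normalizer_pCoreOf H)) (h2.trans le_sup_right)).trans
    (normalizer_le_normalizer_pResidualOf (p := p) (E ⊔ pCoreOf p H))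
  rwa [h.res] at this

theorem dd (h : CX p T E H) {K : Subgroup G} (h1 : K < H) (h2 : E ≤ K) (h3 : BB p T ≤ K)
    (h4 : pCore p G ≤ K) : K ≤ Nm(E) := by
  have := inf_sup_dedekind (Or.inl ((sup_le h.EH h.BH).trans h.nC)) (sup_le h2 h3)
  refine (le_inf ((h1.le.trans h.gen).trans (sup_comm _ _).le) le_rfl).trans (this.le.trans ?_)
  exact sup_le h.nE ((le_inf inf_le_right (inf_le_left.trans inf_le_right)).trans
    (h.ih K h1 h2 h3 h4))

theorem comm_le_sec (h : CX p T E H) {M : Subgroup G} (h1 : H ≤ Nm(M)) {A : Subgroup G}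
    (h2 : ⁅pCoreOf p H, A⁆ ≤ M) (h3 : A ≤ H) {B : Subgroup G} (h4 : B ≤ H) :
    ⁅A, B⁆ ≤ secCz (pCoreOf p H) M :=
  (commutator_mono (le_secCz (h3.trans h1) h2) le_rfl).trans
    (comm_le_left (h4.trans (le_Nm_secCz (le_normalizer_pCoreOf H) h1)))

theorem nN (h : CX p T E H) : H ≤ Nm(⁅E, H ⊓ Cz(bV p E)⁆) :=
  h.gen.trans (sup_le (right_le_Nm_comm _ _)
    (le_normalizer_commutator h.nE ((sup_le h.EH h.BH).trans h.nC)))

theorem N_le (h : CX p T E H) : ⁅E, H ⊓ Cz(bV p E)⁆ ≤ H ⊓ Cz(bV p E) :=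
  comm_le_right (h.EH.trans h.nC)

theorem small (h : CX p T E H) (e : ⁅pCoreOf p H, E⁆ ≤ bV p E) :
    ⁅E, H ⊓ Cz(bV p E)⁆ ≤ pCoreOf p H :=
  h.le_R' (h.N_le.trans inf_le_left) h.nN (commutator_le_of_le_secCz ((pResidualOf_le _).trans
    (h.comm_le_sec h.nV e h.EH inf_le_left))) ((pResidualOf_le _).trans (h.N_le.trans inf_le_right))

theorem endgame (h : CX p T E H) (e : pCoreOf p E ≠ bW p E) (nQ : H ≤ Nm(pCoreOf p E)) :
    ⁅E, H ⊓ Cz(bV p E)⁆ ≤ pCoreOf p H := by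
  have ex := h.blk.bk.exc.resolve_left e
  obtain ⟨F, _, _, n, hF, hZ, ⟨D⟩⟩ := h.blk.exc_md e
  have nW : H ≤ Nm(bW p E) := nQ.trans (Nm_le_Nm_OZ _)
  have nZ : H ≤ Nm(bZ p E) := ex.QQ ▸ le_normalizer_commutator nQ nQ
  have EZ : E ≤ Cz(bZ p E) := le_Cz_comm inf_le_right
  obtain ⟨R', D', e'⟩ := D.extend (X := H ⊓ Cz(bZ p E)) (inf_le_left.trans nQ) (sl_faith ⊤ · trivial)
    fun x hx => D.exists_sl (Q_le_Cz_bW E) ex.QQ EZ hZ (nQ hx.1) (nW hx.1) hx.2
  have EY := le_inf h.EH EZ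
  have iE : im D'.ρ E = commutator SL(2, F) := (D.rl D' e' EY (MonoidHom.id _) (fun _ _ => rfl)
    (sl_faith ⊤ · trivial)).2.eq_map.trans (Subgroup.map_id _)
  have ker := D'.ρ_eq_one (sl_faith _)
  set N := ⁅E, H ⊓ Cz(bV p E)⁆
  have N1 : N ≤ H := h.N_le.trans inf_le_left
  have N2 : N ≤ H ⊓ Cz(bZ p E) := le_inf N1 ((commutator_mono EZ le_rfl).trans
    (comm_le_left (inf_le_left.trans (nZ.trans (Nm_le_Nm_Cz _)))))
  have N3 : ⁅pCoreOf p H, N⁆ ≤ pCoreOf p E :=
    commutator_le_of_le_secCz (h.comm_le_sec nQ h.RE h.EH inf_le_left)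
  have N4 : N ≤ Cz(bW p E) := le_trans (le_inf (h.N_le.trans inf_le_right) (N2.trans inf_le_right))
    ((Cz_sup _ _).ge.trans (Cz_anti h.blk.bk.W_le))
  have k : ∀ X, X ≤ N → ⁅im D'.ρ E, im D'.ρ X⁆ = ⊥ → X ≤ Nm(E) := fun X hX c => by
    rw [← im_comm EY (hX.trans N2), im_eq_bot_iff ker
      ((commutator_mono EY (hX.trans N2)).trans (commutator_self_le _))] at c
    refine h.le_Nm (hX.trans N1) ((le_inf ((commutator_mono le_rfl hX).trans
      (comm_le_right (h.EH.trans h.nN))) c).trans (h.le_R' (inf_le_left.trans N1)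
        (le_normalizer_inf h.nN (le_Nm_secCz nQ nW)) ((commutator_mono le_rfl
          ((pResidualOf_le _).trans inf_le_left)).trans N3) ?_))
    exact pResidualOf_le_Cz_of_le' (isPGroup_pCoreOf E) ((inf_le_left.trans N1).trans nQ)
      (commutator_le_of_le_secCz ((pResidualOf_le _).trans inf_le_right))
      ((pResidualOf_le _).trans (inf_le_left.trans N4))
  have k' : ∀ X, X ≤ N → X ≤ Nm(E) → pResidualOf p X ≤ Cz(pCoreOf p E) := fun X h1 h2 =>
    (pResidualOf_mono (le_inf h2 (h1.trans (h.N_le.trans inf_le_right)))).trans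
      (h.blk.res_le.trans (Cz_anti (pCoreOf_le E)))
  have n1 : commutator SL(2, F) ≤ Nm(im D'.ρ N) := iE ▸ le_Nm_of_comm_le_right
    ((im_comm EY N2).ge.trans (im_mono (comm_le_right (h.EH.trans h.nN))))
  by_cases c : im D'.ρ N ⊓ commutator SL(2, F) = ⊥
  · refine h.le_R' N1 h.nN ((commutator_mono le_rfl (pResidualOf_le _)).trans N3)
      (k' N le_rfl (k N le_rfl (le_bot_iff.1 (c ▸ le_inf ?_ ?_))))
    · exact iE ▸ comm_le_right n1
    · rw [iE]; exact commutator_le_left _ _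
  obtain ⟨x₀, h0, e0⟩ := (neg_mem_of_normal hF inf_le_right (le_normalizer_inf n1 le_normalizer) c).1
  obtain ⟨x, h1, ho, e1⟩ := exists_p'el (p := p) D'.ρ x₀ (Nat.Coprime.coprime_dvd_left
    (orderOf_dvd_of_pow_eq_one (n := 2) (by rw [e0, pow_two, ww_sq_sq])) (by rw [ex.three]; decide))
  have xN : zpowers (x : G) ≤ N := zpowers_le.2 (zpowers_le.2 h0 h1)
  have := k' _ xN (k _ xN (comm_eq_bot_right.2 ((im_le_iff (xN.trans N2)).2 fun a ha => ?_)))
    (mem_pResidualOf (mem_zpowers _) ((orderOf_coe x).symm ▸ ho))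
  · refine absurd (e0.symm.trans (e1.symm.trans ((ker x).2 ?_))) (ww_sq_ne hF)
    exact le_secCz (zpowers_le.2 (nW x.2.1))
      ((comm_eq_bot_right.2 (zpowers_le.2 this)).le.trans bot_le) (mem_zpowers _)
  obtain ⟨i, rfl⟩ := ha
  rw [show (⟨(x : G) ^ i, _⟩ : (H ⊓ Cz(bZ p E) : Subgroup G)) = x ^ i from rfl, map_zpow, e1, e0]
  refine zpow_mem (mem_centralizer_iff.2 fun g _ => sl_ext fun v => ?_) i
  rw [mul_smul g, mul_smul _ g, ww_sq_smul, ww_sq_smul, smul_neg]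

theorem nQ (h : CX p T E H) (ex : EX p T E) (hQ : pCoreOf p E ≤ pCoreOf p H) {w : G}
    (hw : WW p E w) (c : ⁅zpowers (w * w), H⁆ ≤ pCoreOf p H) : H ≤ Nm(pCoreOf p E) := by
  have t := zpowers_le.2 (mul_mem hw.mem hw.mem)
  have n := le_normalizer_commutator (le_normalizer_pCoreOf (p := p) H) ((le_Nm_sup_of_comm_le
    (le_normalizer_pCoreOf H) (c.trans le_sup_right)).trans
      (normalizer_le_normalizer_pResidualOf (p := p) _))
  have l := (commutator_mono le_rfl ((pResidualOf_mono (sup_le_sup_right t _)).trans h.res.le)).trans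
    h.RE
  have := h.blk.bk.Q_le_of ex l (h.EH.trans n) fun e => hw.nc ((commutator_mono hQ (zpowers_le.2
    (mem_pResidualOf (mem_sup_left (mem_zpowers _)) (Nat.Coprime.coprime_dvd_left
      (by rw [← pow_two]; exact orderOf_pow_dvd 2) hw.ord)))).trans e)
  rw [le_antisymm this (sup_le l ((bV_le E).trans (bW_le E)))]
  exact le_normalizer_sup n h.nV

theorem central (h : CX p T E H) (ex : EX p T E) (hQ : pCoreOf p E ≤ pCoreOf p H) {w : G}
    (hw : WW p E w) : ⁅zpowers (w * w), H⁆ ≤ pCoreOf p H := by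
  have tE := mul_mem hw.mem hw.mem
  have nR := le_normalizer_pCoreOf (p := p) H
  have RH := pCoreOf_le (p := p) H
  let π := QuotientGroup.mk' (pCore p H)
  have sj : Function.Surjective π := QuotientGroup.mk'_surjective _
  have ker : ∀ x : H, π x = 1 ↔ (x : G) ∈ pCoreOf p H := fun x => by
    rw [← mem_subgroupOf, subgroupOf_pCoreOf]; exact QuotientGroup.eq_one_iff x
  let ω : H := ⟨w, h.EH hw.mem⟩
  have k : ∀ x : H, π x ∈ Cx(π (ω * ω)) ↔ ⁅(x : G), w * w⁆ ∈ pCoreOf p H := fun x => by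
    rw [mem_Cx, ← commutatorElement_eq_one_iff_mul_comm, ← map_commutatorElement, ker]; rfl
  have tz := zpowers_le.2 (h.EH tE)
  by_contra hn
  have kN : ∀ x : H, π x ∈ Cx(π (ω * ω)) → (x : G) ∈ Nm(E) := fun x hx => by
    have m : ∀ y ∈ H, y ∈ Nm(E) → y ∈ ((Cx(π (ω * ω))).comap π).map H.subtype := fun y h1 h2 =>
      ⟨⟨y, h1⟩, (k _).2 (hQ (hw.cen.2 y h2)), rfl⟩
    refine h.dd (K := ((Cx(π (ω * ω))).comap π).map H.subtype)
      (lt_of_le_of_ne (map_subtype_le _) fun e => hn ?_) (fun y hy => m y (h.EH hy) (le_normalizer hy))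
      (fun y hy => m y (h.BH hy) (h.blk.bk.B_le_Nm hy))
      (fun y hy => m y (h.RH hy) (h.blk.R_le hy)) ⟨x, hx, rfl⟩
    rw [commutator_comm]
    refine commutator_le_of_le_secCz (zpowers_le.2 ⟨nR (h.EH tE), fun y hy => ?_⟩)
    obtain ⟨y, h1, rfl⟩ := e.ge hy
    exact (k y).1 h1
  have tB : ⁅zpowers (w * w), E ⊔ BB p T⁆ ≤ pCoreOf p H := by
    rw [commutator_comm]
    exact ((commutator_mono h.nE le_rfl).trans
      (commutator_le_of_le_secCz (zpowers_le.2 hw.cen))).trans hQ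
  have tY : ∀ Y, Y ≤ H → H ≤ Nm(Y) → pCoreOf p H ≤ Y → H ≤ Y ⊔ (E ⊔ BB p T) →
      ⁅zpowers (w * w), H⁆ ≤ Y := fun Y h1 h2 h3 h4 => (commutator_mono le_rfl h4).trans
    (commutator_sup_right_le (h1.trans h2) ((sup_le h.EH h.BH).trans h2)
      (comm_le_right (tz.trans h2)) (tB.trans h3))
  have tC := tY _ inf_le_left h.nC (le_inf RH h.R_Cz) h.gen
  have t2 : π (ω * ω) * π (ω * ω) = 1 := by rw [← map_mul, ker]; exact hQ hw.sq
  have ti : (π (ω * ω))⁻¹ = π (ω * ω) := inv_eq_of_mul_eq_one_right t2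
  have zs := CfH4.zstar _ (π (ω * ω)) (orderOf_eq_prime (by rw [pow_two, t2]) fun e =>
    hw.nm (inf_pCoreOf_le h.EH (mi tE ((ker _).1 e)))) fun g hg => by
    obtain ⟨g, rfl⟩ := sj g
    have c1 : π (g * (ω * ω) * g⁻¹) ∈ Cx(π (ω * ω)) := by
      rw [mem_Cx, map_mul, map_mul, map_inv]; exact hg.eq.symm
    have c2 : π (g⁻¹ * (ω * ω) * g) ∈ Cx(π (ω * ω)) := by
      have := conj_mem_cj (π g)⁻¹ (mem_Cx.2 hg.eq)
      rw [cj_Cx] at this
      rw [map_mul π _ g, map_mul π g⁻¹, map_inv]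
      simpa only [mul_assoc, inv_inv, inv_mul_cancel, mul_one, inv_mul_cancel_left] using this
    obtain ⟨z, h1, ho, e⟩ := exists_p'el (p := p) π (g * (ω * ω) * g⁻¹ * (ω * ω)⁻¹)
      (Nat.Coprime.coprime_dvd_left (orderOf_dvd_of_pow_eq_one (n := 2) (by
        rw [map_mul, map_inv, ti, (show Commute _ _ from mem_Cx.1 c1).mul_pow, pow_two (π (ω * ω)),
          t2, mul_one, map_mul, map_mul, map_inv, conj_pow, pow_two, t2, mul_one, mul_inv_cancel]))
        (by rw [ex.three]; decide))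
    have z0 : ∀ K : Subgroup G, (g : G) * (w * w) * (g : G)⁻¹ * (w * w)⁻¹ ∈ K → (z : G) ∈ K :=
      fun K hK => (zpowers_le (H := K.subgroupOf H)).2 hK h1
    have ho' : (orderOf (z : G)).Coprime p := (orderOf_coe z).symm ▸ ho
    have zC : (z : G) ∈ Cz(bV p E) := z0 _ (tC (commutator_comm H _ ▸
      commutator_mem_commutator g.2 (mem_zpowers _))).2
    have z1 := h.blk.res_le (mem_pResidualOf (mi (z0 _ (mul_mem (kN _ c1)
      (inv_mem (le_normalizer tE)))) zC) ho')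
    have z2 := (h.blk.cj g).res_le (mem_pResidualOf (mi (z0 _ (mul_mem
      (le_normalizer (conj_mem_cj _ tE)) (inv_mem (cj_normalizer (g : G) E ▸ mem_cj.2 (kN _ c2)))))
      (by rwa [← cj_bV, cj_eq_of_mem_normalizer (h.nV g.2)])) ho')
    have gE : cj (g : G) E ≤ H := cj_le_of_mem_Nm h.EH (le_normalizer g.2)
    have z3 := mem_Cz_of_coprime (isPGroup_pCoreOf H) (nR z.2) ho' (M := E ⊔ cj (g : G) E)
      ((commutator_mono le_rfl (zpowers_le.2 (z0 _ (mul_mem (mem_sup_right (conj_mem_cj _ tE))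
        (inv_mem (mem_sup_left tE)))))).trans (comm_le_right (le_normalizer_sup h.R_le (by
          rw [← cj_normalizer, ← cj_eq_of_mem_normalizer (nR g.2)]; exact cj_mono _ h.R_le))))
      ((Cz_sup _ _).ge (mi z1 z2))
    rw [(ker z).2 (h.chp z3), eq_comm, map_mul, map_inv, mul_inv_eq_one, map_mul, map_mul,
      map_inv] at e
    exact e
  set X := ⁅zpowers (w * w), H⁆
  have nX : H ≤ Nm(X) := right_le_Nm_comm _ _
  have XH := tC.trans inf_le_left
  have iX : im π X = ⁅zpowers (π (ω * ω)), ⊤⁆ := by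
    rw [im_comm tz le_rfl, ← MonoidHom.map_zpowers, im, im, subgroupOf_self,
      map_top_of_surjective _ sj, show zpowers (w * w) = (zpowers (ω * ω)).map H.subtype from
        (MonoidHom.map_zpowers H.subtype (ω * ω)).symm, subgroupOf_map_subtype_self]
  haveI : (im π X).Normal := iX ▸ commutator_normal_of_top _
  have od : Odd (Nat.card (im π X)) := Nat.coprime_two_right.1 (coprime_card_of_le (by
    rw [iX, commutator_comm]
    exact commutator_le_of_le_secCz (zpowers_le.2 ⟨mem_Nm_of_normal _ _, fun g _ => zs g⟩))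
    (coprime_card_pPrimeCore 2 _))
  have XX := (commutator_self_le X).trans XH
  have nY : H ≤ Nm(⁅X, X⁆ ⊔ pCoreOf p H) := le_normalizer_sup (le_normalizer_commutator nX nX) nR
  have YN : (⁅X, X⁆ ⊔ pCoreOf p H) ⊔ (E ⊔ BB p T) ≤ Nm(E) := by
    refine h.dd (lt_of_le_of_ne (sup_le (sup_le XX RH) (sup_le h.EH h.BH)) fun e => ?_)
      (le_sup_left.trans le_sup_right) (le_sup_right.trans le_sup_right)
      (h.RR.trans (le_sup_right.trans le_sup_left))
    refine (CfH8.commutator_lt_of_isSolvable (CfFT.solvable_of_odd od)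
      fun e' => hn ((im_eq_bot_iff ker XH).1 e')).not_ge
      ((im_mono (tY _ (sup_le XX RH) nY le_sup_right e.ge)).trans ?_)
    rw [im_sup XX RH, im_comm XH XH, (im_eq_bot_iff ker RH).2 le_rfl, sup_bot_eq]
  have ab : im π X ≤ Cz(im π X) := by
    rw [← comm_eq_bot_left, ← im_comm XH XH, im_eq_bot_iff ker XX]
    refine le_sup_left.trans (h.le_R' (sup_le XX RH) nY (M := nclo E H) ?_ ?_)
    · refine commutator_le_of_le_secCz ((pResidualOf_le_of_le_sup (isPGroup_pCoreOf H)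
        (RH.trans nX) (sup_le_sup_right (commutator_self_le X) _)).trans
        (h.comm_le_sec (right_le_Nm_nclo _ _) ?_ tz le_rfl))
      exact (commutator_mono le_rfl (zpowers_le.2 tE)).trans
        ((h.RE.trans (pCoreOf_le E)).trans (le_nclo _ _))
    · refine le_Cz_nclo (nY.trans (normalizer_le_normalizer_pResidualOf _))
        ((pResidualOf_mono (le_inf (le_sup_left.trans YN) ?_)).trans h.blk.res_le)
      exact sup_le ((commutator_self_le X).trans (tC.trans inf_le_right)) h.R_Cz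
  have RR := commutator_self_le (pCoreOf p H)
  have VR : bV p E ≤ pCoreOf p H := h.blk.V_le_R.trans h.RR
  have nD : H ≤ Nm(⁅pCoreOf p H, pCoreOf p H⁆ ⊔ bV p E) :=
    le_normalizer_sup (le_normalizer_commutator nR nR) h.nV
  obtain ⟨W, _, _, D, hD⟩ := exists_md nR nD (sup_le RR VR) le_sup_left π sj fun x hx =>
    le_secCz (RH.trans nD) le_sup_left ((ker x).1 hx)
  have pW : ∀ m : W, ∃ j, p ^ j • m = 0 := fun m => by
    obtain ⟨u, hu, rfl⟩ := D.c_surj m trivial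
    obtain ⟨j, hj⟩ := isPGroup_iff_mem.1 (isPGroup_pCoreOf H) u hu
    exact ⟨j, by rw [← D.c_pow hu, hj, D.c_one]⟩
  have fr := frob_four (W := W) (w := π ω) ab (mem_Nm_of_normal _ _) (fun x hx => ?_)
    (fun x hx => (od.of_dvd_nat (orderOf_dvd_natCard _ hx))) (fun x hx m hm => ?_)
    (fun m => by rw [smul_smul, ← map_mul, t2, one_smul]) fun m hm => ?_
  · refine hn (h.le_R XH nX (pResidualOf_le_iff.2 fun x hx ho => ?_))
    have x1 := zpowers_le.2 hx
    have co := CfH8.coprime_card_of_isPGroup' (isPGroup_pCoreOf H) (CfH8.card_zpowers_coprime ho)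
    have so := Or.inl (b := Group.IsSolvable (pCoreOf p H)) (CfH8.isSolvable_zpowers x)
    have n1 := (x1.trans XH).trans nR
    refine comm_eq_bot_right.1 (CfH8.commutator_eq_bot_of_le_frattini n1 co so (le_trans ?_
      (CfH1.commutator_le_frattiniOf (isPGroup_pCoreOf H).isNilpotent))) (mem_zpowers x)
    rw [← CfH8.commutator_commutator_eq n1 co so]
    have n2 := le_normalizer_commutator nR nR
    refine (commutator_mono (commutator_le_of_le_secCz (x1.trans fun y hy => (D.mem_sec_iff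
      ⟨y, XH hy⟩).2 fun m _ => hD ▸ fr.ge trivial _ (mem_im hy))) le_rfl).trans
      (commutator_sup_left_le le_normalizer ((VR.trans RH).trans n2)
        (comm_le_left ((x1.trans XH).trans n2)) ?_)
    exact (comm_eq_bot_right.2 (x1.trans (tC.trans inf_le_right))).le.trans bot_le
  · rw [← map_mul]
    rw [iX] at hx
    refine inverts_of_comm t2 (iX ▸ ab) hx
  · obtain ⟨j, hj⟩ := pW (x • m - m)
    exact smul_eq_of_coprime (hm x hx) hj
      ((coprime_of_comm (pCore_quotient_pCore p H) ab hx).pow_right j)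
  · obtain ⟨u, hu, rfl⟩ := D.c_surj m trivial
    have m1 := h.RE (commutator_mem_commutator hu hw.mem)
    have e1 := D.c_comm' ω hu
    have e2 := D.act (ω * ω) _ (hQ m1)
    have e3 := (D.c_zero _ (hQ (bW_le E (hw.inv _ m1)))).2 (sup_le le_sup_right
      ((ex.QQ.ge.trans (commutator_mono hQ hQ)).trans le_sup_left) (h.blk.bk.W_le (hw.inv _ m1)))
    rw [D.c_mul _ (conj_mem_of_mem_normalizer (nR (h.EH tE)) (hQ m1)) _ (hQ m1)] at e3
    rw [hD] at e1 e2
    have e4 : 2 • D.c ⁅u, w⁆ = 0 := by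
      rw [two_nsmul, ← e3]
      congr 1
      refine (e2.trans ?_).symm
      rw [show D.c ⁅u, w⁆ = _ from e1, smul_sub, map_mul, hm, ← mul_smul, mul_assoc, mul_smul, hm]
    obtain ⟨j, hj⟩ := pW (D.c ⁅u, w⁆)
    exact (sub_eq_zero.1 (e1.symm.trans (AddMonoid.addOrderOf_eq_one_iff.1
      (Nat.eq_one_of_dvd_coprimes (Nat.Coprime.pow_right j (by rw [ex.three]; decide))
        (addOrderOf_dvd_of_nsmul_eq_zero e4) (addOrderOf_dvd_of_nsmul_eq_zero hj))))).symm

theorem main (h : CX p T E H) : H ⊓ Cz(bV p E) ≤ Nm(E) := by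
  refine h.le_Nm inf_le_left (by_contra fun c => ?_)
  have k := h.blk.bk
  have n := h.EH.trans (le_normalizer_pCoreOf (p := p) H)
  have c1 : ¬ ⁅pCoreOf p H, E⁆ ≤ bW p E := fun e => c (h.small
    ((k.idem (isPGroup_pCoreOf H) n).ge.trans (commutator_mono e le_rfl)))
  have e : pCoreOf p E ≠ bW p E := fun e => c1 (h.RE.trans e.le)
  have ex := k.exc.resolve_left e
  have hQ := (k.Q_le_of ex h.RE (right_le_Nm_comm _ _) c1).trans
    (sup_le (comm_le_left n) (h.blk.V_le_R.trans h.RR))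
  obtain ⟨w, hw⟩ := h.blk.exists_ww e
  exact c (h.endgame e (h.nQ ex hQ hw (h.central ex hQ hw)))

end CX

/-- `C(V)` normalises the block -/
theorem BLK.Cz_le (h : BLK p T E) : Cz(bV p E) ≤ Nm(E) := by
  suffices k : ∀ H : Subgroup G, E ≤ H → BB p T ≤ H → pCore p G ≤ H → H ⊓ Cz(bV p E) ≤ Nm(E) from
    (le_inf le_top le_rfl).trans (k ⊤ le_top le_top le_top)
  intro H
  induction H using WellFoundedLT.induction with
  | _ H ih =>
  intro h1 h2 h3
  by_cases e : H ≤ (H ⊓ Cz(bV p E)) ⊔ (E ⊔ BB p T)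
  · exact CX.main ⟨h, h1, h2, h3, e, ih⟩
  have r := le_inf h3 (le_Cz_comm ((h.bk.V_le h.syl h.chp).trans (OZ_le_Cz _)))
  exact (le_inf le_sup_left inf_le_right).trans (ih _ (lt_of_le_not_ge
    (sup_le inf_le_left (sup_le h1 h2)) e) (le_sup_left.trans le_sup_right)
    (le_sup_right.trans le_sup_right) (r.trans le_sup_left))

end CfH7
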