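import Cfsg.Agent.OD.Pre
import Cfsg.Agent.H7.Blk10
import Cfsg.Agent.H7.CSS

/-! Subnormal blocks are normal in `B(G)`. -/

set_option autoImplicit false
set_option linter.unusedSectionVars false

open Cfsg Subgroup CfH9
open scoped commutatorElement

namespace CfH7

open CfH8 (BB JJ MaxEl)

variable {G : Type*} [Group G] {p : ℕ} [Finite G] [hp : Fact p.Prime] {T T' E F : Subgroup G}

theorem card_le_relIndex_mul {α : Type*} {X Y : Subgroup G} (f : α → G) (hf : ∀ a, f a ∈ Y)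
    (h : ∀ a b, (f a)⁻¹ * f b ∈ X → a = b) : Nat.card α ≤ X.relIndex Y :=
  Nat.card_le_card_of_injective
    (fun a => (QuotientGroup.mk ⟨f a, hf a⟩ : Y ⧸ X.subgroupOf Y)) fun a b e =>
      h a b ((QuotientGroup.eq (s := X.subgroupOf Y)).1 e)

theorem blk_of_B_eq (h : IsBaumannBlock p T E) (e : BB p T' = BB p T) (h' : ⁅E, OZ p T'⁆ ≠ ⊥) :
    IsBaumannBlock p T' E := by
  obtain ⟨h1, h2, h3, -, h5⟩ := h
  change baumannSubgroupOf p T' = baumannSubgroupOf p T at e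
  exact ⟨h1, e ▸ h2, h3, h', e ▸ h5⟩

theorem le_bG (hT : SylIn p T ⊤) : BB p T ≤ baumannSubgroup p G :=
  le_iSup (fun S : Sylow p G => baumannSubgroupOf p (S : Subgroup G)) hT.toSylowTop

theorem bG_le_iff {X : Subgroup G} : baumannSubgroup p G ≤ X ↔ ∀ T, SylIn p T ⊤ → BB p T ≤ X :=
  ⟨fun h _ hT => (le_bG hT).trans h, fun h => iSup_le fun S => h _ (sylIn_top S)⟩

instance bG_normal : (baumannSubgroup p G).Normal :=
  normal_of_top_le_normalizer fun g _ => mem_normalizer_of_cj_le (cj_le_iff.2 (bG_le_iff.2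
    fun T hT => cj_le_iff.1 ((CfH8.cj_B g T).le.trans (le_bG (hT.cj_top g)))))

namespace BLK

theorem conj_mem (h : BLK p T E) (sE : E.IsSubnormal) {a v : G} (ha : a ∉ Nm(E)) (hv : v ∈ E) :
    a * v * a⁻¹ ∈ Cz(E) :=
  comm_eq_bot_right.1 ((h.eq_or_comm (h.cj a) sE (sE.map (MulAut.conj a).surjective)).resolve_left
    fun e => ha (mem_normalizer_iff_cj.2 e.symm)) (conj_mem_cj a hv)

theorem maxEl_le_Nm (h : BLK p T' E) (sE : E.IsSubnormal) (hT : SylIn p T ⊤) {A : Subgroup G}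
    (hA : MaxEl p A T) : A ≤ Nm(E) := by
  classical
  by_contra hn
  obtain ⟨a₁, ha₁, ha₁'⟩ := SetLike.not_le_iff_exists.1 hn
  obtain ⟨y, hy, e, he, hye⟩ : ∃ y ∈ bV p E, ∃ e ∈ E, y⁻¹ * (e * y * e⁻¹) ∉ Cz(E) := by
    by_contra c
    push Not at c
    refine h.bk.V_not_le (h.bk.V_idem.ge.trans (commutator_le.2 fun y hy e he => ?_))
    simpa [commutatorElement_def, mul_assoc] using c y⁻¹ (inv_mem hy) e he
  have hy' := conj_mem_of_mem_normalizer (right_le_Nm_comm _ _ he) hy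
  have n1 : y ∉ Cz(E) := fun c => hye (mul_mem (inv_mem c)
    (conj_mem_of_mem_normalizer (Nm_le_Nm_Cz _ (le_normalizer he)) c))
  have n2 : e * y * e⁻¹ ∉ Cz(E) := fun c => n1 (by
    simpa [mul_assoc] using conj_mem_of_mem_normalizer (Nm_le_Nm_Cz _ (le_normalizer (inv_mem he))) c)
  set y' := e * y * e⁻¹
  let Q := A ⧸ Nm(E).subgroupOf A
  let o₁ : Q := QuotientGroup.mk 1
  let q₁ : Q := QuotientGroup.mk ⟨a₁, ha₁⟩
  have q0 : ∀ q q' : Q, ((q.out : G)⁻¹ * q'.out ∈ Nm(E)) ↔ q = q' := fun q q' => by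
    conv_rhs => rw [← q.out_eq', ← q'.out_eq', QuotientGroup.eq]
    rfl
  have q1 : ∀ q : Q, (q.out : G) ∈ Nm(E) ↔ q = o₁ := fun q => by
    conv_rhs => rw [← q.out_eq', eq_comm, QuotientGroup.eq, inv_one, one_mul]
    rfl
  have q2 : q₁ ≠ o₁ := fun e => ha₁' (by simpa [mem_subgroupOf] using QuotientGroup.eq.1 e)
  let β : Option Q → Q := fun o => o.elim q₁ fun q => if q = o₁ then q₁ else q
  let z : Option Q → G := fun o => o.elim 1 fun q => if q = o₁ then y' else y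
  have hβ : ∀ o, β o ≠ o₁ := by
    rintro (_ | q)
    · exact q2
    · simp only [β, Option.elim]; split_ifs with c; exacts [q2, c]
  have hz : ∀ o, z o ∈ bV p E := by
    rintro (_ | q)
    · exact one_mem _
    · simp only [z, Option.elim]; split_ifs; exacts [hy', hy]
  have hz' : ∀ o, z o ∈ Cz(E) → o = none := by
    rintro (_ | q) c
    · rfl
    · simp only [z, Option.elim] at c; split_ifs at c; exacts [absurd c n2, absurd c n1]
  have hz2 : ∀ o o', β o = β o' → (z o)⁻¹ * z o' ∈ Cz(E) → o = o' := by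
    rintro (_ | q) (_ | q') c c'
    · rfl
    · exact (hz' _ (by simpa [z] using c')).symm
    · exact hz' _ (by simpa [z] using c')
    simp only [z, β, Option.elim] at c c'
    split_ifs at c c' with d d' d'
    · rw [d, d']
    · exact absurd (by simpa using inv_mem c') hye
    · exact absurd c' hye
    · rw [c]
  let x : Option Q → G := fun o => (β o).out * z o * ((β o).out : G)⁻¹
  have hx : ∀ o, x o ∈ Cz(E) := fun o =>
    h.conj_mem sE (fun c => hβ o ((q1 _).1 c)) (bV_le' E (hz o))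
  have AA := elemAb_le_Cz hA.el
  have VU : bV p E ≤ OZ p (pCore p G) ⊓ Cz(A ⊓ Cz(bV p E)) :=
    le_inf (h.bk.V_le h.syl h.chp) (le_Cz_comm inf_le_right)
  have nU : A ≤ Nm(OZ p (pCore p G) ⊓ Cz(A ⊓ Cz(bV p E))) := le_normalizer_inf
    ((le_Nm_normal _ _).trans (Nm_le_Nm_OZ _))
    (((AA.trans (Cz_anti inf_le_left)).trans (Cz_le_Nm _)).trans (Nm_le_Nm_Cz _))
  set U := OZ p (pCore p G) ⊓ Cz(A ⊓ Cz(bV p E))
  set C := bV p E ⊓ secCz (A ⊓ Nm(E)) (bV0 p E)
  have i1 := card_le_relIndex_mul (X := U ⊓ Cz(A)) (Y := U)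
    (fun s : (bV p E ⧸ C.subgroupOf (bV p E)) × Option Q => s.1.out * x s.2)
    (fun s => mul_mem (VU s.1.out.2) (conj_mem_of_mem_normalizer (nU (β s.2).out.2) (VU (hz _)))) (by
    rintro ⟨v, o⟩ ⟨v', o'⟩ ⟨-, c⟩
    have w := (v.out⁻¹ * v'.out).2
    have s := mul_mem (inv_mem (hx o)) (hx o')
    have e1 : ((v.out : G) * x o)⁻¹ * (v'.out * x o') = (x o)⁻¹ * x o' * (v.out⁻¹ * v'.out :) := by
      rw [mul_assoc, ← hx o' _ (bV_le' E w)]; simp [mul_assoc]
    replace c : (x o)⁻¹ * x o' * (v.out⁻¹ * v'.out :) ∈ Cz(A) := e1 ▸ c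
    obtain rfl : v = v' := by
      rw [← v.out_eq', ← v'.out_eq', QuotientGroup.eq]
      refine mi w ⟨Nm_le_Nm_bV0 E (le_normalizer (bV_le' E w)), fun r hr => mi
        (commutator_mem_right w (Nm_le_Nm_bV E hr.2)) ?_⟩
      have := mul_mem (conj_mem_of_mem_normalizer (Nm_le_Nm_Cz _ hr.2) (inv_mem s)) s
      convert this using 1
      calc _ = r * ((x o)⁻¹ * x o')⁻¹ * ((x o)⁻¹ * x o' * (v.out⁻¹ * v'.out :) * r⁻¹) *
            ((v.out⁻¹ * v'.out :) : G)⁻¹ := by simp only [commutatorElement_def, coe_subtype]; group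
        _ = _ := by rw [← c _ (inv_mem hr.1)]; group
    rw [inv_mul_cancel, coe_one, mul_one] at c
    have k : ∀ o o', (x o)⁻¹ * x o' ∈ Cz(A) → (z o)⁻¹ * ((((β o).out : G)⁻¹ * (β o').out) * z o' *
        (((β o).out : G)⁻¹ * (β o').out)⁻¹) ∈ Cz(E) := fun o o' c => by
      have := mul_mem (inv_mem (hx o)) (hx o')
      rw [← conj_eq_of_mem_centralizer (le_Cz_comm (zpowers_le.2 c) (inv_mem (β o).out.2))
        (mem_zpowers _)] at this
      convert this using 1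
      simp only [x]; group
    have k' : ∀ o o', β o ≠ β o' → (x o)⁻¹ * x o' ∈ Cz(A) → o = none := fun o o' d c =>
      hz' o (inv_mem_iff.1 ((mul_mem_cancel_right (h.conj_mem sE (fun e => d ((q0 _ _).1 e))
        (bV_le' E (hz o')))).1 (k o o' c)))
    by_cases d : β o = β o'
    · rw [hz2 o o' d (by simpa [d] using k o o' c)]
    · rw [k' o o' d c, k' o' o (Ne.symm d) (by simpa using inv_mem c)])
  have i2 := maxEl_ineq (V := U) hA (inf_le_left.trans ((OZ_le _).trans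
    (hT.le_of_le_Nm (isPGroup_pCore p G) le_top (le_Nm_normal _ _))))
    (elemAb_of_le inf_le_left (elemAb_OZ _))
  have i3 : _ * Nat.card C ≤ _ := blk_noo h.blk (A := A ⊓ Nm(E)) inf_le_right (elemAb_of_le inf_le_left hA.el)
  have i4 : Nat.card (A ⊓ Nm(E) ⊓ Cz(bV p E) : Subgroup G) ≤ Nat.card (A ⊓ Cz(U) : Subgroup G) :=
    card_le_of_le (le_inf (inf_le_left.trans inf_le_left)
      ((inf_le_inf_right _ inf_le_left).trans (le_Cz_comm inf_le_right)))
  rw [Nat.card_prod, Finite.card_option] at i1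
  rw [← relIndex_mul_card (inf_le_left (a := U) (b := Cz(A))), mul_right_comm] at i2
  rw [← relIndex_mul_card (inf_le_left : C ≤ _), ← mul_assoc] at i3
  have i5 := Nat.le_of_mul_le_mul_right i2 Nat.card_pos
  have i6 := Nat.le_of_mul_le_mul_right i3 Nat.card_pos
  rw [← relIndex_mul_card (inf_le_left (a := A) (b := Nm(E))), inf_relIndex_left A] at i5
  change C.relIndex (bV p E) * (Nm(E).relIndex A + 1) ≤ _ at i1
  have i7 : 0 < C.relIndex (bV p E) * Nat.card (A ⊓ Cz(U) : Subgroup G) :=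
    Nat.mul_pos (Nat.pos_of_ne_zero index_ne_zero_of_finite) Nat.card_pos
  have i8 := Nat.mul_le_mul_left (Nm(E).relIndex A) (i6.trans (Nat.mul_le_mul_right _ i4))
  nlinarith [Nat.mul_le_mul_right (Nat.card (A ⊓ Cz(U) : Subgroup G)) i1]

theorem B_le_Nm (h : BLK p T' E) (sE : E.IsSubnormal) (hT : SylIn p T ⊤) : BB p T ≤ Nm(E) := by
  have J : JJ p T ≤ Nm(E) := CfH8.J_le_iff.2 fun _ hA => h.maxEl_le_Nm sE hT hA
  have V := h.V_le_R.trans (hT.le_of_le_Nm (isPGroup_pCore p G) le_top (le_Nm_normal _ _))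
  have := exists_secCz (CfH8.isPGroup_J hT.pgrp) (isPGroup_bV E) (J.trans (Nm_le_Nm_bV E))
    (J.trans (Nm_le_Nm_bV0 (p := p) E)) ((bV_le' E).trans (le_normalizer.trans (Nm_le_Nm_bV0 (p := p) E)))
    fun e => h.bk.V_not_le (e.trans inf_le_right)
  rw [blk_tight h.blk V J] at this
  obtain ⟨v, h1, h2⟩ := SetLike.not_le_iff_exists.1 this
  refine fun b hb => by_contra fun c => h2 (mi h1.1 ?_)
  rw [← conj_eq_of_mem_centralizer (B_le_Cz_inf (elemAb_bV E) V hb) h1]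
  exact h.conj_mem sE c (bV_le' E h1.1)

theorem bG_le (h : BLK p T E) (sE : E.IsSubnormal) : baumannSubgroup p G ≤ Nm(E) :=
  bG_le_iff.2 fun _ hT => h.B_le_Nm sE hT

theorem le_bG (h : BLK p T E) : E ≤ baumannSubgroup p G :=
  le_of_comm_eq h.bk.com (le_Nm_normal _ _) (CfH7.le_bG h.syl)

theorem of_syl (h : BLK p T E) (sE : E.IsSubnormal) (hT : SylIn p T' ⊤) : BLK p T' E := by
  obtain ⟨g, -, rfl⟩ := h.syl.conj hT
  obtain ⟨k, hk, n, hn, rfl⟩ := (h.syl.inf_normal' (le_Nm_normal _ (baumannSubgroup p G))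
    le_top).frattini (mem_Nm_of_normal g _)
  have e1 : BB p (CfH9.cj n T) = BB p T := by
    have := CfH8.Nm_le_Nm_B (p := p) _ hn
    rw [CfH8.B_eq_of_B_le (le_inf (CfH8.B_le T) (CfH7.le_bG h.syl)) inf_le_left] at this
    rw [← CfH8.cj_B, cj_eq_of_mem_normalizer this]
  have s := subnIn_top_iff.2 sE
  have c := chP_top_iff.2 h.chp
  have : BLK p (CfH9.cj n T) E := ⟨h.syl.cj_top n, h.chp, blk_of_B_eq h.blk e1 fun e => h.bk.ne (by
    obtain ⟨x, hx, e2⟩ := (s.sylIn_inf (h.syl.cj_top n)).conj (s.sylIn_inf h.syl)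
    have e3 := (le_inf le_rfl (comm_eq_bot_left.1 e)).trans
      ((kieler c (h.syl.cj_top n) s).le.trans inf_le_right)
    refine comm_eq_bot_left.2 (le_trans (le_inf le_rfl ?_)
      ((kieler c h.syl s).ge.trans inf_le_right))
    rwa [← e2, ← cj_OZ, cj_eq_of_mem_centralizer (e3 hx)])⟩
  have := this.cj k
  rwa [cj_eq_of_mem_normalizer (h.bG_le sE hk), ← cj_mul] at this

theorem le_or_comm (h : BLK p T E) (sE : E.IsSubnormal) (hF : BLK p T' F) :
    F ≤ E ∨ ⁅F, E⁆ = ⊥ := by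
  have n := hF.le_bG.trans (h.bG_le sE)
  have h' := h.of_syl sE hF.syl
  refine (h.cz_or_le hF n).elim (fun e => Or.inr (comm_eq_bot_left.2 e)) fun e => Or.inl ?_
  exact h.lemU hF n e ((blk_le_of_comm h'.blk h'.syl.pgrp h'.V_le_T h'.bk.B_le_Nm n hF.bk.com
    hF.bk.res).trans (sup_le_sup_left inf_le_right _))
    (inf_le_right.trans ((Cz_anti e).trans hF.Cz_le))

end BLK

end CfH7
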