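import Cfsg.Agent.OD.Pre
import Cfsg.Agent.H7.Blk11
import Cfsg.Agent.H7.Bau4
import Cfsg.Agent.H9.Focal
import Cfsg.Agent.OD.Helper7xe395dd1346

/-! The block in the pushing-up situation. -/

set_option autoImplicit false
set_option linter.unusedSectionVars false

open Cfsg Subgroup CfH9 Matrix CfLp
open scoped commutatorElement MatrixGroups

namespace CfH7

open CfH8 (BB JJ MaxEl)

variable {Γ : Type*} [Group Γ] [Finite Γ] {p q : ℕ} [hp : Fact p.Prime] {G S T M : Subgroup Γ}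

theorem inf_comm_le' {H Q : Subgroup Γ} (hS : SylIn p S H) (hQ : Q ≤ S) (hn : H ≤ Nm(Q)) :
    Q ⊓ ⁅H, H⁆ ≤ ⁅S, S⁆ ⊔ ⁅Q, H⁆ := fun x hx => by
  have hQH := hQ.trans hS.le
  haveI := (normal_subgroupOf_iff_le_normalizer hQH).2 hn
  have := mem_map_of_mem H.subtype (inf_comm_le hS.subgroupOf_top (Q := Q.subgroupOf H)
    (comap_mono hQ) (x := ⟨x, hQH hx.1⟩) (mi hx.1 (by
      rw [← subgroupOf_self, ← subgroupOf_commutator le_rfl le_rfl]; exact hx.2)))
  rwa [Subgroup.map_sup, map_commutator, map_commutator, map_subgroupOf_eq_of_le hS.le,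
    map_subgroupOf_eq_of_le hQH, map_subtype_top] at this

theorem res_sl {F : Type} [Field F] [Fintype F] {n : ℕ} (hF : Fintype.card F = p ^ n) :
    pResidualOf p (⊤ : Subgroup SL(2, F)) = commutator SL(2, F) := by
  have s := sylIn_uH hF
  refine le_antisymm (pResidualOf_le_of_le_sup (s.cj 1).pgrp (le_Nm_normal _ _)
    (comm_sup_cj 1).ge) ?_
  have n := fun X : Subgroup SL(2, F) => le_Nm_normal X (pResidualOf p ⊤)
  refine (commutator_mono s.sup_pResidualOf.ge s.sup_pResidualOf.ge).trans ?_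
  refine commutator_sup_left_le (n _) (n _) (comm_le_left (n _))
    (commutator_sup_right_le (n _) (n _) (comm_le_right (n _)) ?_)
  rintro _ h
  rw [comm_eq_bot_left.2, mem_bot] at h
  · exact h ▸ one_mem _
  rintro _ ⟨a, rfl⟩ _ ⟨b, rfl⟩
  rw [← map_mul, ← map_mul, mul_comm]

/-- restriction of a natural section to `O^p(G)` -/
theorem md_of_secD {F : Type} [Field F] [Fintype F] {n : ℕ} (hF : Fintype.card F = p ^ n)
    {U U₀ : Subgroup Γ} (D : SecD F G U U₀) (h : U₀ ≤ U) :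
    ∃ D' : MD (commutator SL(2, F)) (⊤ : AddSubgroup (Fin 2 → F)) Op(p, G) U U₀,
      ∀ x : Op(p, G), D'.ρ x = D.ρ ⟨x, pResidualOf_le G x.2⟩ := by
  refine ⟨⟨D.ρ.comp (inclusion (pResidualOf_le G)), D.c, (pResidualOf_le G).trans D.n, h, ?_,
    D.c_mul, fun _ _ => trivial, fun y _ => D.c_surj y, D.c_zero,
    fun g => D.act ⟨g, pResidualOf_le G g.2⟩⟩, fun _ => rfl⟩
  rw [MonoidHom.range_comp, inclusion_range, ← res_sl hF, ← map_top_of_surjective _ D.surj,
    ← map_pResidualOf, pResidualOf_top, subgroupOf_pResidualOf]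

theorem _root_.CfLp.PD.inf_le_Lc (d : PD p q G T) : Op(p, G) ⊓ T ≤ Lc p G T := fun x hx => by
  have nL := d.cs.nL
  have nH : d.H ≤ Nm(d.H ⊓ (Op(p, G) ⊓ T)) :=
    le_normalizer_inf le_normalizer (d.HG.trans (le_normalizer_inf d.cs.nO d.cs.nT))
  obtain ⟨o, ho, l, hl, rfl⟩ :=
    (mem_sup_of_le_Nm ((d.OH_le.trans d.HG).trans nL)).1 (d.O_le hx.1)
  refine mul_mem ?_ hl
  have oT : o ∈ T := (mul_mem_cancel_right (d.cs.LT hl)).1 hx.2
  have k1 : ⁅Zc(T), d.A⁆ ≤ Lc p G T := by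
    refine (commutator_mono d.cs.comm_O_sup.ge le_rfl).trans (commutator_sup_left_le
      (((comm_le_left (d.cs.OG.trans d.cs.nZ)).trans d.cs.Z_le_G).trans nL)
      (inf_le_left.trans nL) ((comm_le_left (d.AG.trans
        (le_normalizer_commutator d.cs.nZ d.cs.nO))).trans (commutator_mono inf_le_left le_rfl)) ?_)
    exact (comm_eq_bot_left.2 (inf_le_right.trans (Cz_anti d.AG))).le.trans bot_le
  have nA := d.AG.trans nL
  have nZ := d.cs.Z_le_G.trans nL
  have k2 : ⁅d.A ⊔ Zc(T), d.A ⊔ Zc(T)⁆ ≤ Lc p G T :=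
    commutator_sup_left_le nA nZ (commutator_sup_right_le nA nZ
      ((comm_eq_bot_left.2 (le_Cz_of_comm d.hA.comm)).le.trans bot_le)
      ((commutator_comm _ _).le.trans k1)) (commutator_sup_right_le nA nZ k1
        ((comm_eq_bot_left.2 (inf_le_right.trans (Cz_anti inf_le_left))).le.trans bot_le))
  have k3 : d.S ⊓ d.H ≤ (d.A ⊔ Zc(T)) ⊔ Lc p G T := d.SH_le.trans (sup_le
    (le_sup_left.trans le_sup_left) (d.L_sup.ge.trans (sup_le le_sup_right
      ((d.D_sup.ge.trans (sup_le_sup_right d.DA _)).trans le_sup_left))))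
  have nAZ := sup_le nA nZ
  have k4 : ⁅d.S ⊓ d.H, d.S ⊓ d.H⁆ ≤ Lc p G T := (commutator_mono k3 k3).trans
    (commutator_sup_left_le nAZ le_normalizer (commutator_sup_right_le nAZ le_normalizer k2
      (comm_le_right nAZ)) (comm_le_left (sup_le nAZ le_normalizer)))
  have k5 : d.H ⊓ (Op(p, G) ⊓ T) ≤ d.S ⊓ d.H :=
    le_inf ((inf_le_right.trans inf_le_right).trans d.cs.TS) inf_le_left
  have k6 := mi (d.OH_le ho) (mi (d.OH_le_O ho) oT)
  refine sup_le k4 ?_ (inf_comm_le' d.sylH k5 nH (mi k6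
    (d.sylH.inf_pResidualOf_le_commutator' (mi (k5 k6) ho))))
  exact (commutator_mono le_rfl d.sylH.sup_pResidualOf.ge).trans (commutator_sup_right_le
    ((d.OH_le.trans d.HG).trans nL) ((inf_le_right.trans d.HG).trans nL)
    (commutator_mono (inf_le_right.trans inf_le_right) d.OH_le_O)
    ((commutator_mono k5 le_rfl).trans k4))

theorem _root_.CfLp.CS.core_eq (h : CS p q G S T M) : pCoreOf p Op(p, G) = Lc p G T := by
  obtain ⟨A, hA, hT⟩ := h.exA
  obtain ⟨d, -⟩ := h.exists_pd hA hT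
  have n := h.nO.trans (normalizer_le_normalizer_pCoreOf (p := p) _)
  have l := h.syl.le_of_le_Nm (isPGroup_pCoreOf _) ((pCoreOf_le _).trans h.OG) (h.SG.trans n)
  exact le_antisymm ((le_inf (pCoreOf_le _) fun x hx => h.mem_T_of_normal n
    (inf_le_right.trans (l.trans h.SM)) (l hx) hx).trans d.inf_le_Lc)
    (le_pCoreOf h.LO (h.OG.trans h.nL) (h.pT.to_le h.LT))

theorem _root_.CfLp.CS.mem_Lc (h : CS p q G S T M) {x : Γ} (h1 : x ∈ Op(p, G)) (h2 : x ∈ T) :
    x ∈ Lc p G T := h.core_eq.le (le_pCoreOf inf_le_left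
      (le_normalizer_inf le_normalizer (h.OG.trans h.nT)) h.pT.to_inf_right (mi h1 h2))

theorem _root_.CfLp.PU.comm_eq (h : PU p q G S T M) : ⁅Op(p, G), S⁆ = Op(p, G) := by
  have n : S ≤ Nm(⁅Op(p, G), S⁆) := right_le_Nm_comm _ _
  refine le_antisymm (comm_le_left (h.SG.trans h.nO)) (pResidualOf_le_of_le_sup h.pS n
    (h.le_of_normal (h.le_of_O_S ?_ (le_normalizer_sup n le_normalizer)) le_sup_right))
  exact le_Nm_of_comm_le_left (commutator_sup_left_le (le_sup_left.trans le_normalizer)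
    (le_sup_right.trans le_normalizer) ((comm_le_left (left_le_Nm_comm _ _)).trans le_sup_left)
    ((commutator_comm _ _).le.trans le_sup_left))

/-- an image of `[T, O^p(G)]` under an automorphism of `S` outside `T` -/
theorem _root_.CfLp.PU.exists_twin (h : PU p q G S T M) (hd : NoChar G S) (hne : Lc p G T ≠ ⊥) :
    ∃ f : S →* Γ, Function.Injective f ∧ (⊤ : Subgroup S).map f = S ∧
      ¬ ((Lc p G T).subgroupOf S).map f ≤ T := by
  by_contra e
  push Not at e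
  let X : Subgroup S := ⨆ α : S ≃* S, ((Lc p G T).subgroupOf S).map α.toMonoidHom
  have l : (Lc p G T).subgroupOf S ≤ X := by
    have := le_iSup (fun α : S ≃* S => ((Lc p G T).subgroupOf S).map α.toMonoidHom) (.refl S)
    exact fun x hx => this ⟨x, hx, rfl⟩
  have l' := (map_subgroupOf_eq_of_le (h.LT.trans h.TS)).ge.trans (map_mono (f := S.subtype) l)
  haveI c : X.Characteristic := characteristic_iff_map_le.2 fun β => by
    rw [Subgroup.map_iSup]
    exact iSup_le fun α => by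
      rw [Subgroup.map_map]
      exact le_iSup (fun α : S ≃* S => ((Lc p G T).subgroupOf S).map α.toMonoidHom) (α.trans β)
  have t : X.map S.subtype ≤ T := by
    rw [Subgroup.map_iSup]
    exact iSup_le fun α => by
      rw [Subgroup.map_map]
      refine e _ (S.subtype_injective.comp α.injective) ?_
      rw [← Subgroup.map_map, map_top_equiv, map_subtype_top]
  exact hd X (fun e' => hne (le_bot_iff.1 (l'.trans (by rw [e', Subgroup.map_bot])))) c
    (h.le_of_O_S (le_Nm_of_comm_le_left ((commutator_mono t le_rfl).trans l'))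
      (le_normalizer_map_subtype X))

section Form

variable {F : Type} [Field F] [Fintype F]

theorem form_lin (β : (Fin 2 → F) → (Fin 2 → F) → Γ)
    (a1 : ∀ v v' w, β (v + v') w = β v w * β v' w) (a2 : ∀ v w w', β v (w + w') = β v w * β v w')
    (alt : ∀ v, β v v = 1) (inv : ∀ s ∈ commutator SL(2, F), ∀ v w, β (s • v) (s • w) = β v w) :
    ∃ l : Multiplicative F →* Γ, ∀ v w, β v w = l (.ofAdd (v 0 * w 1 - v 1 * w 0)) := by
  have z1 : ∀ w, β 0 w = 1 := fun w => by simpa using a1 0 0 w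
  have z2 : ∀ w, β w 0 = 1 := fun w => by simpa using a2 w 0 0
  have n1 : ∀ v w, β (-v) w = (β v w)⁻¹ := fun v w =>
    eq_inv_of_mul_eq_one_left (by rw [← a1, neg_add_cancel, z1])
  have n2 : ∀ v w, β v (-w) = (β v w)⁻¹ := fun v w =>
    eq_inv_of_mul_eq_one_left (by rw [← a2, neg_add_cancel, z2])
  have sk : ∀ v w, β w v = (β v w)⁻¹ := fun v w => eq_inv_of_mul_eq_one_right (by
    have := alt (v + w)
    rwa [a1, a2, a2, alt, alt, one_mul, mul_one] at this)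
  have key : (∀ a b : F, β ![a, 0] ![b, 0] = 1) ∧ (∀ a b : F, β ![0, a] ![0, b] = 1) ∧
      ∀ a b : F, β ![a, 0] ![0, b] = β ![a * b, 0] ![0, 1] := by
    by_cases s : SF F
    · have sm : ∀ (a : F) v w, β (a • v) w = β v (a • w) := fun a v w => by
        rcases s a with rfl | rfl | rfl <;> simp [z1, z2, n1, n2]
      have k : ∀ (a b : F) v, β (a • v) (b • v) = 1 := fun a b v => by
        rw [sm, smul_smul]
        rcases s (a * b) with e | e | e <;> simp [e, z2, n2, alt]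
      refine ⟨fun a b => by simpa using k a b ![1, 0], fun a b => by simpa using k a b ![0, 1],
        fun a b => ?_⟩
      simpa [mul_comm] using (sm b ![a, 0] ![0, 1]).symm
    have inv' := fun t => inv t (comm_top_of_not_sf s ▸ trivial)
    have k : ∀ a b : F, β ![a, 0] ![b, 0] = 1 := fun a b => by
      have := inv' (uu b) ![a, 0] ![0, 1]
      rw [uu_smul, uu_smul, show (![![0, 1] 0 + b * ![0, 1] 1, ![0, 1] 1] : Fin 2 → F) =
        ![b, 0] + ![0, 1] from vec_ext (by simp) (by simp), a2] at this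
      simpa using this
    refine ⟨k, fun a b => ?_, fun a b => ?_⟩
    · simpa [ww_smul, k] using inv' (ww F) ![a, 0] ![b, 0]
    by_cases hb : b = 0
    · subst hb
      rw [mul_zero, show (![0, 0] : Fin 2 → F) = 0 from vec_ext rfl rfl, z1, z2]
    simpa [dd_smul, hb, mul_comm] using (inv' (dd (Units.mk0 b hb)) ![a, 0] ![0, b]).symm
  refine ⟨MonoidHom.mk' (fun a => β ![a.toAdd, 0] ![0, 1]) fun a b => by
    rw [← a1]; congr 1; exact vec_ext (by simp) (by simp), fun v w => ?_⟩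
  have d : ∀ v : Fin 2 → F, v = ![v 0, 0] + ![0, v 1] := fun v => vec_ext (by simp) (by simp)
  conv_lhs => rw [d v, d w, a1, a2, a2, key.1, key.2.1, sk ![w 0, 0], key.2.2 (v 0), key.2.2 (w 0)]
  rw [sub_eq_add_neg, ofAdd_add, ofAdd_neg, map_mul, map_inv, one_mul, mul_one, mul_comm (v 1)]
  rfl

theorem MD.card_comm_le {E Q W : Subgroup Γ}
    (D : MD (commutator SL(2, F)) (⊤ : AddSubgroup (Fin 2 → F)) E Q W) (h1 : Q ≤ Cz(W))
    (h3 : E ≤ Cz(⁅Q, Q⁆)) : Nat.card (⁅Q, Q⁆ : Subgroup Γ) ≤ Nat.card F := by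
  choose r hr hr' using fun v => D.c_surj v trivial
  have m : ∀ u ∈ Q, ∀ v ∈ Q, ⁅u, v⁆ ∈ ⁅Q, Q⁆ := fun u hu v hv => commutator_mem_commutator hu hv
  have ZW := D.comm
  have l : ∀ u ∈ Q, ∀ u' ∈ Q, ∀ v ∈ Q, D.c u = D.c u' → ⁅u', v⁆ = ⁅u, v⁆ := fun u hu u' hu' v hv e => by
    have := h1 hv _ ((D.c_eq_iff hu hu').1 e)
    calc _ = u * (u⁻¹ * u' * v) * u'⁻¹ * v⁻¹ := by group
      _ = _ := by rw [this]; group
  have k : ∀ u ∈ Q, ∀ v ∈ Q, ⁅r (D.c u), r (D.c v)⁆ = ⁅u, v⁆ := fun u hu v hv => by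
    rw [l u hu _ (hr _) _ (hr _) (hr' _).symm, ← commutatorElement_inv,
      l v hv _ (hr _) _ hu (hr' _).symm, commutatorElement_inv]
  have a1 : ∀ v v' w, ⁅r (v + v'), r w⁆ = ⁅r v, r w⁆ * ⁅r v', r w⁆ := fun v v' w => by
    rw [l _ (mul_mem (hr v) (hr v')) _ (hr _) _ (hr _)
        (by rw [D.c_mul _ (hr _) _ (hr _), hr', hr', hr']),
      ← h1 (D.le (ZW (m _ (hr v) _ (hr w)))) _ (ZW (m _ (hr v') _ (hr w)))]
    calc _ = r v * ⁅r v', r w⁆ * (r v)⁻¹ * ⁅r v, r w⁆ := by group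
      _ = _ := by rw [conj_eq_of_mem_centralizer (h1 (hr v)) (ZW (m _ (hr v') _ (hr w)))]
  obtain ⟨l, hl⟩ := form_lin (fun v w => ⁅r v, r w⁆) a1 (fun v w w' => by
      rw [← commutatorElement_inv, a1, ← h1 (D.le (ZW (m _ (hr _) _ (hr _)))) _
        (ZW (m _ (hr _) _ (hr _))), _root_.mul_inv_rev, commutatorElement_inv, commutatorElement_inv])
    (fun v => commutatorElement_self _) fun s hs v w => by
      obtain ⟨g, rfl⟩ := D.ex hs
      have := k _ (conj_mem_of_mem_normalizer (D.n g.2) (hr v)) _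
        (conj_mem_of_mem_normalizer (D.n g.2) (hr w))
      rwa [← conjugate_commutatorElement, conj_eq_of_mem_centralizer (h3 g.2) (m _ (hr v) _ (hr w)),
        D.act g _ (hr _), D.act g _ (hr _), hr', hr'] at this
  refine (card_le_of_le (K := l.range) (commutator_le.2 fun u hu v hv =>
    ⟨_, (hl _ _).symm.trans (k u hu v hv)⟩)).trans ?_
  exact Nat.card_le_card_of_surjective _ l.rangeRestrict_surjective

end Form

theorem quot_of_hom {E : Subgroup Γ} {H : Type*} [Group H] (ρ : E →* H)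
    (k : ∀ x : E, ρ x = 1 ↔ (x : Γ) ∈ pCoreOf p E) {R : Subgroup H} (e : ρ.range = R) :
    Nonempty (E ⧸ pCore p E ≃* R) := by
  have e' : ρ.ker = pCore p E := Subgroup.ext fun x => (k x).trans
    (by rw [← subgroupOf_pCoreOf, mem_subgroupOf])
  exact ⟨(QuotientGroup.quotientMulEquivOfEq e'.symm).trans
    ((QuotientGroup.quotientKerEquivRange ρ).trans (MulEquiv.subgroupCongr e))⟩

theorem _root_.CfLp.CS.V_le (h : CS p q G S T M) : ⁅Zc(T), Op(p, G)⁆ ≤ bW p Op(p, G) := by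
  rw [bW, h.core_eq]
  exact le_OZ h.elemAb_comm (commutator_mono inf_le_left le_rfl)
    (((comm_le_left (h.OG.trans h.nZ)).trans inf_le_right).trans (Cz_anti h.LT))

theorem _root_.CfLp.CS.mdZ (h : CS p q G S T M) (hg : Good p G S T) {F : Type} [Field F]
    [Fintype F] {n : ℕ} (hF : Fintype.card F = p ^ n) (hq : Fintype.card F = q) :
    ∃ D : MD (commutator SL(2, F)) (⊤ : AddSubgroup (Fin 2 → F)) Op(p, G) Zc(T) Zc(G),
      ∀ x, D.ρ x = 1 ↔ (x : Γ) ∈ pCoreOf p Op(p, G) := by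
  obtain ⟨D⟩ := h.secD hg hq
  obtain ⟨D', e⟩ := md_of_secD hF D h.Zg_le_Z
  refine ⟨D', fun x => ?_⟩
  rw [e, h.ρ_eq_one (h.Cg_le hg), h.core_eq]
  exact ⟨h.mem_Lc x.2, fun e => h.LT e⟩

theorem _root_.CfLp.CS.mdW (h : CS p q G S T M) (hg : Good p G S T) {F : Type} [Field F]
    [Fintype F] {n : ℕ} (hF : Fintype.card F = p ^ n) (hq : Fintype.card F = q)
    (hW : bW p Op(p, G) ≤ Zc(T)) : Nonempty (MD (commutator SL(2, F))
      (⊤ : AddSubgroup (Fin 2 → F)) Op(p, G) (bW p Op(p, G)) (bZ p Op(p, G))) := by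
  obtain ⟨D, -⟩ := h.mdZ hg hF hq
  have e : bW p Op(p, G) ⊓ Zc(G) = bZ p Op(p, G) := by
    rw [← h.Z_inf_CzO, ← inf_assoc, inf_eq_left.2 hW]
  exact ⟨e ▸ D.restrict hW (h.comm_O_sup.ge.trans (sup_le_sup_right h.V_le _))
    (le_normalizer.trans (Nm_le_Nm_bW _))⟩

theorem _root_.CfLp.CS.W_eq (h : CS p q G S T M) (hI : Lc p G T ≤ Zc(T)) :
    pCoreOf p Op(p, G) = bW p Op(p, G) := le_antisymm (by
  rw [bW, h.core_eq]
  exact fun x hx => mem_OZ.2 ⟨⟨hx, Cz_anti h.LT (hI hx).2⟩, h.elemZ (hI hx)⟩) (bW_le _)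

namespace II2

variable (d : PD p q G T) (h2 : II p G d.S T d.A)

include h2

theorem card_Q : Nat.card (Lc p G T) =
    q * Nat.card (Lc p G T ⊓ (d.A₀ ⊔ Wc p G T) : Subgroup Γ) := by
  have k := card_sup_mul_card_inf (A := Lc p G T) ((d.cs.LT.trans d.cs.TS).trans (d.II_nAW h2))
  rw [show Lc p G T ⊔ (d.A₀ ⊔ Wc p G T) = Lc p G T ⊔ Wc p G T from le_antisymm
    (sup_le le_sup_left d.AW_LW) (sup_le_sup_left le_sup_right _), (d.II_cards h2).2] at k
  refine Nat.eq_of_mul_eq_mul_right (Nat.card_pos (α := (d.A₀ ⊔ Wc p G T : Subgroup Γ))) ?_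
  rw [← k]; ring

theorem lower (hd : NoChar G d.S) : q ≤ Nat.card (⁅Lc p G T, Lc p G T⁆ : Subgroup Γ) := by
  obtain ⟨f, hf, e, hn⟩ := d.cs.exists_twin hd fun e => h2.ne (e.le.trans bot_le)
  have LS := d.cs.LT.trans d.cs.TS
  obtain ⟨a, ha, haT⟩ := SetLike.not_le_iff_exists.1 hn
  have aS : a ∈ d.S := e.le (map_mono le_top ha)
  have n : d.S ≤ Nm(((Lc p G T).subgroupOf d.S).map f) := by
    haveI := (normal_subgroupOf_iff_le_normalizer LS).2 (d.cs.SG.trans d.cs.nL)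
    exact e.ge.trans (map_le_Nm (le_Nm_normal _ _))
  have c : Nat.card (⁅((Lc p G T).subgroupOf d.S).map f, ((Lc p G T).subgroupOf d.S).map f⁆ :
      Subgroup Γ) = Nat.card (⁅Lc p G T, Lc p G T⁆ : Subgroup Γ) := by
    rw [← map_commutator, card_map_of_injective hf, ← subgroupOf_commutator LS LS,
      card_subgroupOf ((commutator_le_self _).trans LS)]
  have aG := d.cs.SG aS
  have k := card_le_of_fibers (S := Lc p G T) (T := d.A₀ ⊔ Wc p G T) (C := ⊥)
    (fun x => ⁅a, ⁅a, x⁆⁆) (fun x hx => commutator_mem_commutator ha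
      (commutator_mem_left ha (n (LS hx)))) bot_le fun x hx y hy e' => by
    refine d.II_cub h2 aS haT (mem_sup_left (mul_mem (inv_mem hx) hy)) ?_
    let s := d.cs.sT h2.LT
    have xT := d.cs.LT hx
    have yT := d.cs.LT hy
    rw [d.sT_δ2 h2.LT aG (mul_mem (inv_mem xT) yT), s.cl_mul (inv_mem xT) yT, s.cl_inv xT, map_add,
      map_add, map_neg, map_neg, s.δ_cl aG xT, s.δ_cl aG yT, s.δ_cl aG (s.comm_mem aG xT),
      s.δ_cl aG (s.comm_mem aG yT), inv_mul_eq_one.1 (mem_bot.1 e'), neg_add_cancel]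
  rw [c, card_bot, mul_one, card_Q d h2, mul_comm] at k
  exact Nat.le_of_mul_le_mul_left k Nat.card_pos

theorem mdQ {F : Type} [Field F] [Fintype F] {n : ℕ} (hF : Fintype.card F = p ^ n)
    (hq : Fintype.card F = q) : Nonempty (MD (commutator SL(2, F)) (⊤ : AddSubgroup (Fin 2 → F))
      Op(p, G) (Lc p G T) (Lc p G T ⊓ (Zc(T) ⊔ Wc p G T))) := by
  obtain ⟨D⟩ := d.secD_U h2 hq
  obtain ⟨D', -⟩ := md_of_secD hF D (sup_le d.cs.Z_le_LW le_sup_right)
  exact ⟨D'.restrict le_sup_left (sup_le_sup_left le_sup_right _) (d.cs.OG.trans d.cs.nL)⟩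

theorem comm_eq {F : Type} [Field F] [Fintype F] {n : ℕ} (hF : Fintype.card F = p ^ n)
    (hq : Fintype.card F = q) : ⁅Lc p G T, Lc p G T⁆ = Lc p G T ⊓ Cz(Op(p, G)) := by
  have h := d.cs
  have NW : ⁅Lc p G T, Lc p G T⁆ ≤ Wc p G T := (commutator_mono le_rfl h.LT).trans h2.LT
  refine le_antisymm (le_inf (commutator_le_self _) (NW.trans inf_le_right)) fun z hz => ?_
  obtain rfl := d.II_three h2
  obtain ⟨D₁, k₁⟩ := h.mdZ (Or.inr ⟨_, h2⟩) hF hq
  obtain ⟨D₂⟩ := mdQ d h2 hF hq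
  have k₂ := D₂.ker_eq (sl_faith _) (quot_of_hom D₁.ρ k₁ D₁.range)
    (h.core_eq.le.trans (le_secCz D₂.U_le_Nm D₂.comm))
  rw [h.core_eq] at k₁ k₂
  obtain ⟨t₀, ht₀⟩ := D₁.ex (mul_mem (ww_mem_comm hF) (ww_mem_comm hF))
  obtain ⟨t, -, ho, ht⟩ := exists_p'el (p := 3) D₁.ρ t₀ (Nat.Coprime.coprime_dvd_left
    (orderOf_dvd_of_pow_eq_one (n := 2) (by rw [ht₀, sq, ww_sq_sq])) (by decide))
  rw [ht₀] at ht
  have tt : t * t = 1 := Subtype.ext (eq_one_of_mem_of_coprime (h.pT.to_le h.LT)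
    ((k₁ _).1 (by rw [map_mul, ht, ww_sq_sq])) (by
      rw [orderOf_coe, ← sq]; exact ho.coprime_dvd_left (orderOf_pow_dvd 2)))
  have tt' : (t : Γ) * t = 1 := congrArg Subtype.val tt
  have ht₂ : D₂.ρ t = ww F * ww F := (sq_eq_one_cases (two_ne_of_card hF)
    (by rw [← map_mul, tt, map_one])).resolve_left fun e => ww_sq_ne hF (ht ▸ (k₁ t).2
      (k₂.le (mi t.2 ((D₂.ρ_eq_one (sl_faith _) t).1 e))))
  have nL := h.OG.trans h.nL
  have m := fun x hx => conj_mem_of_mem_normalizer (nL t.2) (x := x) hx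
  have A1 : ∀ y ∈ Zc(T) ⊔ Wc 3 G T, y * (t * y * (t : Γ)⁻¹) ∈ Wc 3 G T := fun y hy => by
    obtain ⟨v, hv, w, hw, rfl⟩ := h.mem_sup_W h.Z_le_G hy
    have m' := conj_mem_of_mem_normalizer (D₁.n t.2) hv
    have := (D₁.c_zero _ (mul_mem hv m')).1 (by
      rw [D₁.c_mul _ hv _ m', D₁.act t _ hv, ht, ww_sq_smul, add_neg_cancel])
    have e : v * w * (t * (v * w) * (t : Γ)⁻¹) = v * (t * v * (t : Γ)⁻¹) * (w * w) := by
      rw [← conj_mul, conj_eq_self (hw.2 _ t.2), mul_assoc, ← mul_assoc w, ← h.zcomm m' hw.1]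
      group
    exact e ▸ mul_mem (h.Zg_le_W this) (mul_mem hw hw)
  have A2 : ∀ x ∈ Lc 3 G T, x * (t * x * (t : Γ)⁻¹) ∈ Wc 3 G T := fun x hx => by
    have y1 := mul_mem hx (m x hx)
    have y2 := A1 _ ((D₂.c_zero _ y1).1 (by
      rw [D₂.c_mul _ hx _ (m x hx), D₂.act t _ hx, ht₂, ww_sq_smul, add_neg_cancel])).2
    refine mem_of_sq (by decide) ?_ (d.II_powT h2 (h.LT y1))
    have := mul_mem y2 (NW (commutator_mem_commutator (inv_mem hx) (inv_mem (m x hx))))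
    rwa [← conj_mul, show t * (t * x * (t : Γ)⁻¹) * (t : Γ)⁻¹ = (t * t) * x * ((t : Γ) * t)⁻¹ by group,
      tt', show ∀ a b : Γ, a * b * (b * (1 * a * 1⁻¹)) * ⁅a⁻¹, b⁻¹⁆ = (a * b) ^ 2 from
        fun a b => by rw [commutatorElement_def, sq]; group] at this
  obtain ⟨W, _, _, D, e⟩ := exists_md nL (le_normalizer_commutator nL nL) (commutator_le_self _)
    le_rfl (MonoidHom.id _) Function.surjective_id fun x hx => by
      obtain rfl : x = 1 := hx
      exact one_mem _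
  have a := D.act
  simp only [e, MonoidHom.id_apply] at a
  have B1 : ∀ u : Op(3, G), (u : Γ) ∈ Lc 3 G T → ∀ x ∈ Lc 3 G T, u • D.c x = D.c x :=
    fun u hu x hx => by
      rw [← a u x hx, eq_comm, D.c_eq_iff hx (mul_mem (mul_mem hu hx) (inv_mem hu))]
      simpa [commutatorElement_def, mul_assoc] using commutator_mem_commutator (inv_mem hx) hu
  let φ : W →+ W := AddMonoidHom.mk' (fun w => w + t • w) fun _ _ => by rw [smul_add]; abel
  have B2 : ⁅Lc 3 G T, Op(3, G)⁆ ≤ D.pre φ.ker := commutator_le.2 fun x hx k hk => by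
    refine D.mem_pre.2 ⟨comm_le_left nL (commutator_mem_commutator hx hk), ?_⟩
    rw [D.c_comm' ⟨k, hk⟩ hx, AddMonoidHom.mem_ker, map_sub, sub_eq_zero, e, MonoidHom.id_apply]
    set k' : Op(3, G) := ⟨k, hk⟩
    have u : ((k'⁻¹ * t * k' * t⁻¹ : Op(3, G)) : Γ) ∈ Lc 3 G T := (k₁ _).1 (by
      simp only [map_mul, map_inv, ht]
      rw [mul_inv_eq_one, mul_assoc, inv_mul_eq_iff_eq_mul]
      exact sl_ext fun v => by rw [mul_smul _ (D₁.ρ k'), mul_smul (D₁.ρ k'), ww_sq_smul,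
        ww_sq_smul, smul_neg])
    change D.c x + t • D.c x = k' • D.c x + t • k' • D.c x
    have u' := B1 _ u _ (m x hx)
    rw [a t x hx, smul_smul, inv_mul_cancel_right, mul_smul, mul_smul, inv_smul_eq_iff] at u'
    rw [u', ← smul_add, ← a t x hx, ← D.c_mul _ hx _ (m x hx), ← a k' _ (mul_mem hx (m x hx)),
      conj_eq_self ((A2 x hx).2 _ hk)]
  have := (D.mem_pre.1 (B2 (h.L_idem.ge hz.1))).2
  change D.c z + t • D.c z = 0 at this
  rw [← a t z hz.1, conj_eq_self (hz.2 _ t.2), ← D.c_mul _ hz.1 _ hz.1,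
    D.c_zero _ (mul_mem hz.1 hz.1), ← sq] at this
  obtain ⟨k, hk⟩ := isPGroup_iff_mem.1 h.pT z (h.LT hz.1)
  exact CfH1.mem_of_pow_mem_of_coprime this (Nat.Coprime.of_dvd_left (orderOf_dvd_of_pow_eq_one hk)
    (Nat.Coprime.pow_left k (by decide)))

theorem U_le (e : ⁅Lc p G T, Lc p G T⁆ = Lc p G T ⊓ Cz(Op(p, G))) :
    Lc p G T ⊓ (Zc(T) ⊔ Wc p G T) ≤ Zc(T) := fun x hx => by
  have h := d.cs
  have k := comm_eq_bot_right.2 (h.LO.trans (le_Cz_comm inf_le_right : _ ≤ Cz(Wc p G T)))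
  have k' := commutator_commutator_eq_bot_of_rotate (le_bot_iff.1 ((commutator_mono h2.LT le_rfl).trans
    k.le)) (le_bot_iff.1 ((commutator_mono ((commutator_comm _ _).le.trans h2.LT) le_rfl).trans k.le))
  have l : Zc(T) ⊔ Wc p G T ≤ ⁅Zc(T), Op(p, G)⁆ ⊔ Wc p G T :=
    sup_le (h.comm_O_sup.ge.trans (sup_le_sup_left h.Zg_le_W _)) le_sup_right
  have l' := comm_le_left (h.OG.trans h.nZ)
  obtain ⟨v, hv, w, hw, rfl⟩ := h.mem_sup_W (l'.trans h.Z_le_G) (l hx.2)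
  exact mul_mem (l' hv) (mi hw.1 (comm_eq_bot_left.1 k' (e.ge (mi ((mul_mem_cancel_left
    (commutator_mono inf_le_left le_rfl hv)).1 hx.1) hw.2))))

theorem W_eq {F : Type} [Field F] [Fintype F] {n : ℕ} (hF : Fintype.card F = p ^ n)
    (hq : Fintype.card F = q) (hd : NoChar G d.S) :
    bW p Op(p, G) = Lc p G T ⊓ (Zc(T) ⊔ Wc p G T) := by
  have h := d.cs
  have l := U_le d h2 (comm_eq d h2 hF hq)
  obtain ⟨D⟩ := mdQ d h2 hF hq
  rw [bW, h.core_eq]
  refine le_antisymm ((D.is_sl.irr _ (OZ_le _) ((h.OG.trans h.nL).trans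
    (Nm_le_Nm_OZ _))).resolve_right fun e => ?_)
    fun x hx => mem_OZ.2 ⟨⟨hx.1, Cz_anti h.LT (l hx).2⟩, h.elemZ (l hx)⟩
  have := lower d h2 hd
  rw [comm_eq_bot_left.2 (e.trans (sup_le (OZ_le_Cz _)
    ((l.trans inf_le_right).trans (Cz_anti h.LT)))), card_bot] at this
  exact h.one_lt_q.not_ge this

end II2

theorem _root_.CfLp.CS.blk {T' : Subgroup Γ} (h : CS p q G (BB p T') T M)
    (hg : Good p G (BB p T') T) (hd : NoChar G (BB p T')) (hz : ⁅Op(p, G), OZ p T'⁆ ≠ ⊥)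
    {F : Type} [Field F] [Fintype F] {n : ℕ} (hF : Fintype.card F = p ^ n)
    (hq : Fintype.card F = q) : IsBaumannBlock p T' Op(p, G) := by
  obtain ⟨D₁, k₁⟩ := h.mdZ hg hF hq
  refine ⟨pResidualOf_pResidualOf G, h.comm_eq, h.core_eq ▸ h.L_idem, hz,
    Or.inl ⟨F, _, _, n, hF, quot_of_hom D₁.ρ k₁ D₁.range, ?_⟩⟩
  rcases hg with hI | ⟨A, h2⟩
  · obtain ⟨D⟩ := h.mdW (Or.inl hI) hF hq (((bW_le _).trans h.core_eq.le).trans hI)
    exact ⟨D.sl, Or.inl (h.W_eq hI)⟩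
  obtain ⟨d, e1, -, e3⟩ := h.exists_pd h2.hA h2.hT
  rw [← e1, ← e3] at h2
  rw [← e1] at hd
  have eN := II2.comm_eq d h2 hF hq
  have eW := II2.W_eq d h2 hF hq hd
  have lW := eW.le.trans (II2.U_le d h2 eN)
  obtain ⟨D⟩ := d.cs.mdW (Or.inr ⟨_, h2⟩) hF hq lW
  obtain ⟨D₂⟩ := II2.mdQ d h2 hF hq
  have eZ : bZ p Op(p, G) = Lc p G T ⊓ Cz(Op(p, G)) := le_antisymm
    (inf_le_inf_right _ (eW.le.trans inf_le_left)) fun x hx =>
      mi (eW.ge (mi hx.1 (mem_sup_right (mi (h.LT hx.1) hx.2)))) hx.2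
  have eK : Op(p, G) ⊓ Cz(Op(p, G)) = bZ p Op(p, G) := le_antisymm (fun x hx => eZ.ge (mi
    (h.core_eq.le ((D.ker_eq (sl_faith _) (quot_of_hom D₁.ρ k₁ D₁.range) (Q_le_sec _)).le (mi hx.1
      (le_secCz (inf_le_left.trans D.n0) ((comm_eq_bot_right.2 (inf_le_right.trans
        (Cz_anti (bW_le' _)))).le.trans bot_le) hx)))) hx.2)) (inf_le_inf_right _ (bW_le' _))
  have cU := D₂.card_comm_le (h.LT.trans (le_Cz_comm ((eW.ge.trans lW).trans inf_le_right)))
    (le_Cz_comm (eN.le.trans inf_le_right))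
  have cL := II2.lower d h2 hd
  rw [← eW, ← h.core_eq] at D₂
  refine ⟨D.sl, Or.inr ⟨d.II_three h2, D₂.sl, ?_, ?_, eK, ?_, fun b hb hb' e => ?_⟩⟩
  · refine Eq.trans ?_ eZ.symm
    rw [h.core_eq, eN]
  · refine Eq.trans ?_ eZ.symm
    rw [h.core_eq]
    exact le_antisymm (Phi_le_of (p := p) eN.le fun x hx =>
      mi (pow_mem hx p) (d.II_powT h2 (h.LT hx)).2)
      (eN.ge.trans (CfH1.commutator_le_frattiniOf (h.pT.to_le h.LT).isNilpotent))
  · rw [eK, eZ, ← eN, ← d.II_three h2, ← hF]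
    exact le_antisymm (cU.trans Nat.card_eq_fintype_card.le) (hq.le.trans cL)
  · obtain ⟨v, hv, hv'⟩ := SetLike.not_le_iff_exists.1 h2.ne
    have bS : b ∈ d.S := e1.ge hb
    have bG := d.cs.SG bS
    have k := commutator_mem_right (h.LT hv) (h.nT bG)
    rw [h.core_eq] at e
    refine hv' (d.hA₀.le (d.II_mem_A₀ h2 (d.LE hv) (d.II_cub h2 bS (fun e => hb'
      (le_Cz_comm (lW.trans inf_le_right) e)) (mem_sup_left hv)
      (mi (commutator_mem_right k (h.nT bG)) (comm_mem_symm (e (commutator_mem_commutator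
        (comm_mem_symm (commutator_mem_commutator hv (mem_zpowers b))) (mem_zpowers b))).2)))))

end CfH7
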