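import Cfsg.Agent.OD.Pre
import Cfsg.Agent.H7.Blk12

/-! Construction of symmetric blocks. -/

set_option autoImplicit false
set_option linter.unusedSectionVars false

open Cfsg Subgroup CfH9 CfLp Equiv
open scoped commutatorElement MatrixGroups

namespace CfH7

open CfH8 (BB JJ MaxEl)

section Lift

variable {H : Type*} [Group H] {α : Type*} [DecidableEq α] [Fintype α]

theorem swap_eq_of_ne {σ : Perm α} (h : σ.IsSwap) {k : α} (hk : σ k ≠ k) : σ = swap k (σ k) := by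
  obtain ⟨a, b, -, rfl⟩ := h
  rcases eq_or_eq_of_swap_apply_ne_self hk with rfl | rfl
  · rw [swap_apply_left]
  · rw [swap_apply_right, swap_comm]

/-- a class of involutions mapping bijectively onto the transpositions -/
theorem lift_eq_one (f : H →* Perm α) {Λ : Set H} (h1 : ∀ u ∈ Λ, (f u).IsSwap ∧ u * u = 1)
    (h2 : ∀ u ∈ Λ, ∀ w ∈ Λ, w * u * w⁻¹ ∈ Λ) (h3 : ∀ u ∈ Λ, ∀ w ∈ Λ, f u = f w → u = w)
    (s : Finset α) : ∀ h ∈ closure {u | u ∈ Λ ∧ ∀ i ∉ s, f u i = i}, f h = 1 → h = 1 := by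
  have inv : ∀ u ∈ Λ, u⁻¹ = u := fun u hu => inv_eq_of_mul_eq_one_right (h1 u hu).2
  have fix : ∀ s : Finset α, ∀ h ∈ closure {u | u ∈ Λ ∧ ∀ i ∉ s, f u i = i}, ∀ i ∉ s, f h i = i :=
    fun s h hh i hi => (closure_le ((MulAction.stabilizer (Perm α) i).comap f)).2
      (fun u hu => hu.2 i hi) hh
  induction s using Finset.induction_on with
  | empty =>
    intro h hh _
    refine mem_bot.1 ((closure_le ⊥).2 (fun u hu => ?_) hh)
    obtain ⟨a, b, hab, e⟩ := (h1 u hu.1).1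
    have := hu.2 a (by simp)
    rw [e, swap_apply_left] at this
    exact (hab this.symm).elim
  | insert k s hk ih =>
    intro h hh e
    have gen : ∀ w ∈ Λ, (∀ i ∉ insert k s, f w i = i) → f w k = k →
        w ∈ closure {u | u ∈ Λ ∧ ∀ i ∉ s, f u i = i} := fun w hw e1 e2 =>
      subset_closure ⟨hw, fun i hi => by
        by_cases c : i = k
        · rwa [c]
        · exact e1 i (by simp [c, hi])⟩
    have cj : ∀ u w : H, (∀ i ∉ insert k s, f u i = i) → (∀ i ∉ insert k s, f w i = i) →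
        ∀ i ∉ insert k s, f (w * u * w⁻¹) i = i := fun u w e1 e2 i hi => by
      rw [map_mul, map_mul, map_inv, Perm.mul_apply, Perm.mul_apply,
        Perm.inv_eq_iff_eq.2 (e2 i hi).symm, e1 i hi, e2 i hi]
    have step : ∀ w ∈ Λ, (∀ i ∉ insert k s, f w i = i) → ∀ h : H,
        (h ∈ closure {u | u ∈ Λ ∧ ∀ i ∉ s, f u i = i} ∨ ∃ u ∈ Λ, (∀ i ∉ insert k s, f u i = i) ∧
          f u k ≠ k ∧ u⁻¹ * h ∈ closure {u | u ∈ Λ ∧ ∀ i ∉ s, f u i = i}) →
        (w * h ∈ closure {u | u ∈ Λ ∧ ∀ i ∉ s, f u i = i} ∨ ∃ u ∈ Λ, (∀ i ∉ insert k s, f u i = i) ∧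
          f u k ≠ k ∧ u⁻¹ * (w * h) ∈ closure {u | u ∈ Λ ∧ ∀ i ∉ s, f u i = i}) := by
      rintro w hw e1 h (c | ⟨u, hu, e2, e3, c⟩) <;> by_cases e4 : f w k = k
      · exact Or.inl (mul_mem (gen w hw e1 e4) c)
      · exact Or.inr ⟨w, hw, e1, e4, by rwa [inv_mul_cancel_left]⟩
      · refine Or.inr ⟨_, h2 u hu w hw, cj u w e2 e1, fun e5 => e3 ?_, ?_⟩
        · rw [map_mul, map_mul, map_inv, Perm.mul_apply, Perm.mul_apply,
            Perm.inv_eq_iff_eq.2 e4.symm] at e5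
          exact (f w).injective (e5.trans e4.symm)
        · simpa [mul_assoc] using mul_mem (gen w hw e1 e4) c
      have s1 := swap_eq_of_ne (h1 u hu).1 e3
      have s2 := swap_eq_of_ne (h1 w hw).1 e4
      by_cases e5 : f w k = f u k
      · obtain rfl := h3 w hw u hu (by rw [s1, s2, e5])
        exact Or.inl (by rwa [inv w hw] at c)
      refine Or.inr ⟨u, hu, e2, e3, ?_⟩
      have := mul_mem (gen _ (h2 w hw u hu) (cj w u e1 e2) (by
        rw [inv u hu, map_mul, map_mul, Perm.mul_apply, Perm.mul_apply, s2,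
          swap_apply_of_ne_of_ne e3 (Ne.symm e5), ← Perm.mul_apply, ← map_mul, (h1 u hu).2,
          map_one, Perm.one_apply])) c
      rwa [inv u hu, mul_assoc, mul_assoc, ← mul_assoc u u, (h1 u hu).2, one_mul, ← inv u hu] at this
    have key := closure_induction_left (s := {u | u ∈ Λ ∧ ∀ i ∉ insert k s, f u i = i}) (p := fun h _ =>
      h ∈ closure {u | u ∈ Λ ∧ ∀ i ∉ s, f u i = i} ∨ ∃ u ∈ Λ, (∀ i ∉ insert k s, f u i = i) ∧
        f u k ≠ k ∧ u⁻¹ * h ∈ closure {u | u ∈ Λ ∧ ∀ i ∉ s, f u i = i}) (Or.inl (one_mem _))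
      (fun w hw y _ => step w hw.1 hw.2 y) (fun w hw y _ => by
        rw [inv w hw.1]; exact step w hw.1 hw.2 y) hh
    rcases key with c | ⟨u, hu, -, e3, c⟩
    · exact ih h c e
    · have := fix s _ c k hk
      rw [map_mul, e, mul_one, inv u hu] at this
      exact (e3 this).elim

end Lift

theorem lift_split {H : Type*} [Group H] {n : ℕ} (f : H →* Perm (Fin n))
    (hf : Function.Surjective f) (hz : f.ker ≤ center H) {c : H} {a b : Fin n} (hab : a ≠ b)
    (hc : f c = swap a b) (hc' : c * c = 1)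
    (h0 : ∀ i j, i ≠ j → i ≠ a → i ≠ b → j ≠ a → j ≠ b → ∃ y i j, i ≠ j ∧ i ≠ a ∧ i ≠ b ∧ j ≠ a ∧
      j ≠ b ∧ f y = swap i j ∧ y * c = c * y) {h : H} (h1 : h ∈ normalClosure {c}) (h2 : f h = 1) :
    h = 1 := by
  let K := (centralizer {c}).map f
  have mK : ∀ g, f g ∈ K → g * c = c * g := by
    rintro g ⟨y, hy, e⟩
    have := mem_center_iff.1 (hz (show f (y⁻¹ * g) = 1 by rw [map_mul, map_inv, e, inv_mul_cancel])) c
    rw [← mul_inv_cancel_left y g, mul_assoc, ← this, ← mul_assoc, ← hy c rfl, mul_assoc]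
  have fx : ∀ σ : Perm (Fin n), σ a = a → σ b = b → σ * swap a b = swap a b * σ := fun σ e1 e2 => by
    rw [Equiv.mul_swap_eq_swap_mul, e1, e2]
  have cK : ∀ σ : Perm (Fin n), σ a = a → σ b = b → ∀ τ ∈ K, τ a = a → τ b = b → σ * τ * σ⁻¹ ∈ K := by
    rintro σ e1 e2 _ ⟨y, hy, rfl⟩ - -
    obtain ⟨g, rfl⟩ := hf σ
    have z := mem_center_iff.1 (hz (show f (c⁻¹ * (g⁻¹ * c * g)) = 1 by
      simp only [map_mul, map_inv, hc]
      rw [mul_assoc _ (swap a b), ← fx _ e1 e2, inv_mul_cancel_left, inv_mul_cancel])) y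
    refine ⟨g * y * g⁻¹, mem_centralizer_singleton_iff.2 (Eq.symm ?_), by simp⟩
    have e := hy _ rfl
    calc _ = g * (c * (c⁻¹ * (g⁻¹ * c * g) * y)) * g⁻¹ := by group
      _ = _ := by rw [← z, ← mul_assoc c, e]; group
  have sK : ∀ i j, i ≠ j → i ≠ a → i ≠ b → j ≠ a → j ≠ b → swap i j ∈ K := fun i j n1 n2 n3 n4 n5 => by
    obtain ⟨y, k, l, m1, m2, m3, m4, m5, e, e'⟩ := h0 i j n1 n2 n3 n4 n5
    have sw : ∀ {u v w : Fin n}, u ≠ w → v ≠ w → swap u v w = w := fun h h' =>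
      swap_apply_of_ne_of_ne h.symm h'.symm
    have k1 := cK _ (sw m2 n2) (sw m3 n3) _ ⟨y, by rintro _ rfl; exact e'.symm, e⟩ (sw m2 m4) (sw m3 m5)
    rw [← swap_apply_apply, swap_apply_left] at k1
    have m6 : ∀ {w}, k ≠ w → i ≠ w → l ≠ w → swap k i l ≠ w := fun h h' h'' e =>
      h'' ((swap k i).injective (e.trans (sw h h').symm))
    have k2 := cK _ (sw (m6 m2 n2 m4) n4) (sw (m6 m3 n3 m5) n5) _ k1 (sw n2 (m6 m2 n2 m4))
      (sw n3 (m6 m3 n3 m5))
    rwa [← swap_apply_apply, swap_apply_left, sw (fun e => m1 ((swap k i).injective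
      ((swap_apply_left k i).trans e.symm))) n1.symm] at k2
  have aK : ∀ σ : Perm (Fin n), σ a = a → σ b = b → σ ∈ K := fun σ e1 e2 =>
    mem_of_swaps fun i hi => sK _ _ hi.symm (fun e => hi (e ▸ e1)) (fun e => hi (e ▸ e2))
      (fun e => hi (by rw [σ.injective (e.trans e1.symm), e1]))
      fun e => hi (by rw [σ.injective (e.trans e2.symm), e2])
  have uq : ∀ g, f (g * c * g⁻¹) = f c → g * c * g⁻¹ = c := fun g e => by
    rw [map_mul, map_mul, map_inv, hc, ← swap_apply_apply] at e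
    refine mul_inv_eq_iff_eq_mul.2 (mK g ?_)
    have e1 := congrArg (· a) e
    simp only [swap_apply_left] at e1
    rcases eq_or_eq_of_swap_apply_ne_self (e1.trans_ne hab.symm) with e3 | e3
    · exact aK _ e3.symm ((swap_apply_left _ _).symm.trans ((congrArg _ e3).symm.trans e1))
    · have e4 : f g a = b := (swap_apply_right _ _).symm.trans ((congrArg _ e3).symm.trans e1)
      exact (mul_mem_cancel_left (show swap a b ∈ K from ⟨c, by rintro _ rfl; rfl, hc⟩)).1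
        (aK _ (by rw [Perm.mul_apply, e4, swap_apply_right])
          (by rw [Perm.mul_apply, ← e3, swap_apply_left]))
  refine lift_eq_one f (Λ := {u | ∃ g, g * c * g⁻¹ = u}) ?_ ?_ ?_ Finset.univ h
    (closure_mono ?_ h1) h2
  · rintro _ ⟨g, rfl⟩
    refine ⟨⟨f g a, f g b, (f g).injective.ne hab, ?_⟩, by rw [conj_mul, hc']; group⟩
    rw [map_mul, map_mul, map_inv, hc, swap_apply_apply]
  · rintro _ ⟨g, rfl⟩ w -
    exact ⟨w * g, by group⟩
  · rintro _ ⟨g, rfl⟩ _ ⟨g', rfl⟩ e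
    have := uq (g'⁻¹ * g) (by
      rw [show g'⁻¹ * g * c * (g'⁻¹ * g)⁻¹ = g'⁻¹ * (g * c * g⁻¹) * g' by group, map_mul, map_mul, e]
      simp [mul_assoc])
    conv_rhs => rw [← this]
    group
  · intro u hu
    obtain ⟨_, rfl, h⟩ := Group.mem_conjugatesOfSet_iff.1 hu
    exact ⟨isConj_iff.1 h, fun i hi => (hi (Finset.mem_univ i)).elim⟩

theorem alt_le_of_normal {m : ℕ} (hm : m ≠ 0) {N : Subgroup (Perm (Fin (2 * m + 1)))} [N.Normal]
    (h1 : N ≠ ⊥) (h2 : N ≤ alternatingGroup _) : alternatingGroup _ ≤ N := by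
  by_cases e : m = 1
  · subst e
    have c : Nat.card (alternatingGroup (Fin (2 * 1 + 1))) = 3 := by
      rw [nat_card_alternatingGroup]; simp; rfl
    refine (eq_of_le_of_card_ge h2 ?_).ge
    rcases (Nat.dvd_prime Nat.prime_three).1 (c ▸ card_dvd_of_le h2) with e | e
    · exact (h1 (card_eq_one.1 e)).elim
    · exact (c.trans e.symm).le
  · exact Perm.alternatingGroup_le_of_normal (by simp; omega) ((nontrivial_iff_ne_bot N).2 h1)

theorem alt_not_two {m : ℕ} (hm : m ≠ 0) : ¬ IsPGroup 2 (alternatingGroup (Fin (2 * m + 1))) :=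
  fun h => by
  obtain ⟨σ, hσ⟩ : ∃ σ : Perm (Fin (2 * m + 1)), σ.IsThreeCycle :=
    ⟨_, Perm.isThreeCycle_swap_mul_swap_same (a := ⟨0, by omega⟩) (b := ⟨1, by omega⟩)
      (c := ⟨2, by omega⟩) (by simp [Fin.ext_iff]) (by simp [Fin.ext_iff]) (by simp [Fin.ext_iff])⟩
  exact hσ.isCycle.ne_one (eq_one_of_mem_of_coprime h hσ.mem_alternatingGroup
    (by rw [hσ.orderOf]; decide))

theorem two_le_alt {n : ℕ} : pResidualOf 2 (⊤ : Subgroup (Perm (Fin n))) ≤ alternatingGroup _ :=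
  pResidualOf_le_iff.2 fun g _ h => by
    have := Perm.sign.map_pow g (orderOf g)
    rw [pow_orderOf_eq_one, map_one] at this
    refine (Int.units_eq_one_or _).resolve_right fun e => ?_
    rw [e, (Nat.coprime_two_right.1 h).neg_one_pow] at this
    exact absurd this (by decide)

variable {G : Type*} [Group G] [Finite G] {p : ℕ}

/-- restriction of the acting group -/
def MD.resE {P Z : Type*} [Group P] [AddCommGroup Z] [DistribMulAction P Z] {R : Subgroup P}
    {Y : AddSubgroup Z} {E U U₀ : Subgroup G} (D : MD R Y E U U₀) {K : Subgroup G} (h : K ≤ E) :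
    MD (CfH7.im D.ρ K) Y K U U₀ :=
  ⟨D.ρ.comp (inclusion h), D.c, h.trans D.n, D.le, by rw [MonoidHom.range_comp, inclusion_range],
    D.c_mul, D.c_mem, D.c_surj, D.c_zero, fun g => D.act ⟨g, h g.2⟩⟩

theorem res_nclo {K H : Subgroup G} (h : pResidualOf p K = K) :
    pResidualOf p (nclo K H) = nclo K H := le_antisymm (pResidualOf_le _) (nclo_le
  ((right_le_Nm_nclo K H).trans (normalizer_le_normalizer_pResidualOf _))
  (h.ge.trans (pResidualOf_mono (le_nclo K H))))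

theorem im_normal {H N : Subgroup G} {P : Type*} [Group P] (ρ : H →* P)
    (hs : Function.Surjective ρ) (hn : H ≤ Nm(N)) : (im ρ N).Normal :=
  haveI := normal_subgroupOf_of_le_normalizer hn
  Subgroup.Normal.map inferInstance ρ hs

/-- the full symmetric group acting on `V` -/
abbrev PD' (m : ℕ) (H : Subgroup G) :=
  MD (⊤ : Subgroup (Perm (Fin (2 * m + 1)))) (evn (2 * m + 1)) H (VG 2 G) (VG 2 G ⊓ Cz(H))

/-- data for the construction of a symmetric block -/
structure SY (T H K : Subgroup G) {m : ℕ}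
    (D : PD' m H) (x : H) : Prop where
  syl : SylIn 2 T ⊤
  chp : Cz(pCore 2 G) ≤ pCore 2 G
  leR : ∀ X : Subgroup G, IsPGroup 2 X → X ≤ Cz(VG 2 G) → X ≤ pCore 2 G
  YR : OZ 2 (JJ 2 T) ≤ pCore 2 G
  ne : m ≠ 0
  ker : ∀ h : H, D.ρ h = 1 → (h : G) ∈ Cz(VG 2 G)
  dis : ⁅VG 2 G, H⁆ ⊓ Cz(H) = ⊥
  nH : BB 2 T ≤ Nm(H)
  nK : BB 2 T ≤ Nm(K)
  KH : K ≤ H
  res : pResidualOf 2 K = K
  RK : ⁅pCore 2 G, K⁆ ≤ VG 2 G
  nc : ¬ K ≤ Cz(VG 2 G)
  nz : ⁅K, OZ 2 T⁆ ≠ ⊥
  xB : (x : G) ∈ BB 2 T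
  xx : x * x = 1
  sw : (D.ρ x).IsSwap
  xc : ∀ b ∈ BB 2 T, ⁅b, (x : G)⁆ ∈ ⁅VG 2 G, K⁆
  oth : 2 ≤ m → ∃ y : H, (y : G) ∈ BB 2 T ∧ (D.ρ y).IsSwap ∧ D.ρ y ≠ D.ρ x

namespace SY

variable {T H K : Subgroup G} {m : ℕ}
  {D : PD' m H} {x : H}

theorem surj (D : PD' m H) :
    Function.Surjective D.ρ := MonoidHom.range_eq_top.1 D.range

theorem ker' (h : SY T H K D x) (g : H) : D.ρ g = 1 ↔ (g : G) ∈ Cz(VG 2 G) :=
  ⟨h.ker g, fun e => (D.ρ_eq_one (fun r _ => perm_faith r) g).2 (le_secCz (A := H ⊓ Cz(VG 2 G))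
    (inf_le_left.trans D.n0) ((comm_eq_bot_right.2 inf_le_right).le.trans bot_le) (mi g.2 e))⟩

theorem le (h : SY T H K D x) : nclo K H ≤ H := nclo_le_of_le h.KH

theorem nB (h : SY T H K D x) : BB 2 T ≤ Nm(nclo K H) := le_Nm_nclo h.nK h.nH

theorem RK' (h : SY T H K D x) : ⁅pCore 2 G, nclo K H⁆ ≤ ⁅VG 2 G, nclo K H⁆ := by
  have := commutator_pResidualOf_idem (isPGroup_pCore 2 G) (le_Nm_normal (nclo K H) _)
  rw [res_nclo h.res] at this
  exact this.ge.trans (commutator_mono (commutator_nclo_le (le_Nm_normal _ _) (le_Nm_normal _ _)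
    (le_Nm_normal _ _) h.RK) le_rfl)

theorem alt_le (h : SY T H K D x) {N : Subgroup G} (h1 : N ≤ nclo K H) (h2 : H ≤ Nm(N))
    (h3 : ¬ N ≤ Cz(VG 2 G)) : im D.ρ N = alternatingGroup _ := by
  have k : im D.ρ (nclo K H) ≤ alternatingGroup _ := by
    rw [← res_nclo h.res, im_res h.le]
    exact (pResidualOf_mono le_top).trans two_le_alt
  haveI := im_normal D.ρ (surj D) h2
  exact le_antisymm ((im_mono h1).trans k) (alt_le_of_normal h.ne
    (fun e => h3 ((im_eq_bot_iff h.ker' (h1.trans h.le)).1 e)) ((im_mono h1).trans k))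

theorem im_eq (h : SY T H K D x) : im D.ρ (nclo K H) = alternatingGroup _ :=
  h.alt_le le_rfl (right_le_Nm_nclo _ _) fun e => h.nc ((le_nclo _ _).trans e)

theorem md (h : SY T H K D x) : Nonempty (MD (alternatingGroup (Fin (2 * m + 1))) (evn (2 * m + 1))
    (nclo K H) (VG 2 G) (VG 2 G ⊓ Cz(H))) := ⟨h.im_eq ▸ D.resE h.le⟩

theorem V_le (h : SY T H K D x) : ⁅VG 2 G, nclo K H⁆ ≤ ⁅VG 2 G, H⁆ := commutator_mono le_rfl h.le

theorem V_sup (h : SY T H K D x) : VG 2 G ≤ ⁅VG 2 G, nclo K H⁆ ⊔ (VG 2 G ⊓ Cz(H)) := by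
  obtain ⟨D'⟩ := h.md
  refine (D'.is_alt.irr _ (commutator_le_left _ _) (right_le_Nm_comm _ _)).resolve_left fun e =>
    h.nc ((le_nclo K H).trans (comm_eq_bot_right.1 (le_bot_iff.1 ?_)))
  exact (le_inf h.V_le (e.trans inf_le_right)).trans h.dis.le

theorem dis' (h : SY T H K D x) : ⁅VG 2 G, nclo K H⁆ ⊓ Cz(nclo K H) = ⊥ := by
  obtain ⟨D'⟩ := h.md
  refine le_bot_iff.1 ((D'.is_alt.irr _ (inf_le_left.trans (commutator_le_left _ _))
    (le_Nm_of_le_Cz inf_le_right)).elim (fun e => (le_inf (inf_le_left.trans h.V_le)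
      (e.trans inf_le_right)).trans h.dis.le) fun e => (h.nc ((le_nclo _ _).trans (le_Cz_comm
        (e.trans (sup_le inf_le_right (inf_le_right.trans (Cz_anti h.le))))))).elim)

theorem pg (h : SY T H K D x) {X : Subgroup G} (h1 : X ≤ nclo K H ⊔ BB 2 T)
    (h2 : X ≤ Cz(VG 2 G)) : X ≤ pCore 2 G := h.leR X (isPGroup_of_cz h.chp (M := VG 2 G)
  ((commutator_mono le_rfl (pResidualOf_le_of_le_sup (isPGroup_B h.syl.pgrp) h.nB h1)).trans
    (h.RK'.trans (commutator_le_left _ _))) ((pResidualOf_le _).trans h2)) h2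

theorem le_B (h : SY T H K D x) : (nclo K H ⊔ BB 2 T) ⊓ Cz(VG 2 G) ≤ BB 2 T := by
  have l := h.pg (X := (nclo K H ⊔ BB 2 T) ⊓ Cz(VG 2 G)) inf_le_left inf_le_right
  have c : ∀ {A : Subgroup G}, A ≤ pCore 2 G → ⁅⁅VG 2 G, nclo K H⁆, A⁆ = ⊥ := fun e =>
    comm_eq_bot_right.2 (e.trans (R_le_C.trans (Cz_anti (commutator_le_left _ _))))
  refine le_inf (l.trans (R_le_syl h.syl)) (comm_eq_bot_right.1 (le_bot_iff.1
    (le_trans (le_inf ?_ (comm_eq_bot_left.1 (commutator_commutator_eq_bot_of_rotate ?_ ?_)))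
      h.dis'.le)))
  · exact (commutator_mono le_rfl inf_le_left).trans (commutator_sup_right_le
      (right_le_Nm_comm _ _) (le_normalizer_commutator (le_Nm_normal _ _) h.nB)
      ((commutator_mono h.YR le_rfl).trans h.RK')
      ((comm_eq_bot_right.2 (CfH8.B_le_Cz T)).le.trans bot_le))
  · exact le_bot_iff.1 ((commutator_mono ((commutator_mono l le_rfl).trans h.RK') le_rfl).trans
      (c h.YR).le)
  · exact le_bot_iff.1 ((commutator_mono ((commutator_comm _ _).le.trans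
      ((commutator_mono h.YR le_rfl).trans h.RK')) le_rfl).trans (c l).le)

theorem comm_eq (h : SY T H K D x) {X : Subgroup G} (h1 : (x : G) ∈ X) (h2 : X ≤ BB 2 T) :
    ⁅nclo K H, X⁆ = nclo K H := by
  have l := comm_le_left (h2.trans h.nB)
  have xH := zpowers_le.2 x.2
  have l' := commutator_mono (le_refl (nclo K H)) (zpowers_le.2 h1)
  obtain ⟨a, b, hab, e⟩ := h.sw
  have e' : im D.ρ (zpowers (x : G)) = zpowers (swap a b) := by
    rw [← e, im, ← MonoidHom.map_zpowers, ← H.coe_subtype, ← MonoidHom.map_zpowers]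
    exact congrArg _ (comap_map_eq_self_of_injective H.subtype_injective _)
  have k : im D.ρ (nclo K H) ≤ im D.ρ ⁅nclo K H, zpowers (x : G)⁆ := by
    rw [im_comm h.le xH, h.im_eq, e']
    haveI : ⁅alternatingGroup (Fin (2 * m + 1)), zpowers (swap a b)⁆.Normal :=
      normal_of_top_le_normalizer ((alt_sup_swap hab (mem_zpowers _)).ge.trans
        (sup_le (left_le_Nm_comm _ _) (right_le_Nm_comm _ _)))
    refine alt_le_of_normal h.ne (fun e => ?_) (commutator_le_left _ _)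
    obtain ⟨c, h1, h2⟩ : ∃ c, c ≠ a ∧ c ≠ b := by
      have := h.ne
      by_contra k
      have := Finset.card_le_card (s := Finset.univ) (t := {a, b}) fun c _ => by
        by_contra k'
        exact k ⟨c, by simpa using k'⟩
      have := Finset.card_le_two (a := a) (b := b)
      simp at *; omega
    have := congrArg (· a) (comm_eq_bot_left.1 e (Perm.isThreeCycle_swap_mul_swap_same hab
      h1.symm h2.symm).mem_alternatingGroup _ (mem_zpowers _))
    simp only [Perm.mul_apply, swap_apply_left, swap_apply_of_ne_of_ne h1 h2,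
      swap_apply_of_ne_of_ne hab.symm h2.symm, swap_apply_right] at this
    exact h1 this
  rw [im_le_im_iff h.ker' h.le ((l'.trans l).trans h.le)] at k
  refine le_antisymm l ((res_nclo h.res).ge.trans (pResidualOf_le_of_le_sup
    (A := nclo K H ⊓ Cz(VG 2 G)) ((isPGroup_pCore 2 G).to_le (h.pg (inf_le_left.trans le_sup_left)
      inf_le_right)) (inf_le_left.trans (left_le_Nm_comm _ _)) fun g hg => ?_))
  obtain ⟨u, hu, v, hv, rfl⟩ := (mem_sup_of_le_Nm (((l'.trans l).trans h.le).trans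
    (le_normalizer_inf le_normalizer (le_Nm_normal _ _)))).1 (k hg)
  exact mul_mem_sup (l' hu) (mi ((mul_mem_cancel_left (l (l' hu))).1 hg) hv.2)

theorem split (h : SY T H K D x) : nclo K H ⊓ Cz(VG 2 G) ≤ ⁅VG 2 G, nclo K H⁆ := fun g hg => by
  set N := ⁅VG 2 G, nclo K H⁆
  set H₁ := nclo K H ⊔ zpowers (x : G)
  have l1 : H₁ ≤ H := sup_le h.le (zpowers_le.2 x.2)
  have l2 : H₁ ≤ nclo K H ⊔ BB 2 T := sup_le_sup_left (zpowers_le.2 h.xB) _
  have n : nclo K H ⊔ BB 2 T ≤ Nm(N) :=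
    sup_le (right_le_Nm_comm _ _) (le_normalizer_commutator (le_Nm_normal _ _) h.nB)
  have xc : ∀ b ∈ BB 2 T, ⁅b, (x : G)⁆ ∈ N := fun b hb =>
    commutator_mono le_rfl (le_nclo _ _) (h.xc b hb)
  haveI := normal_subgroupOf_of_le_normalizer (l2.trans n)
  let f := QuotientGroup.lift (N.subgroupOf H₁) (D.ρ.comp (inclusion l1)) fun y hy =>
    (h.ker' _).2 (V_le_C (commutator_le_left _ _ hy))
  let x₁ : H₁ := ⟨x, mem_sup_right (mem_zpowers _)⟩
  obtain ⟨a, b, hab, e⟩ := h.sw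
  have sj : ∀ σ, ∃ y : H₁, D.ρ (inclusion l1 y) = σ := fun σ => by
    have : σ ∈ im D.ρ H₁ := by
      rw [im_sup h.le (zpowers_le.2 x.2), h.im_eq,
        alt_sup_swap hab (e ▸ mem_im (π := D.ρ) (x := x) (mem_zpowers _))]
      trivial
    obtain ⟨y, hy, rfl⟩ := this
    exact ⟨⟨y, hy⟩, rfl⟩
  have cm : ∀ y z : H₁, ⁅(y : G), (z : G)⁆ ∈ N →
      (y : H₁ ⧸ N.subgroupOf H₁) * z = z * y := fun y z e =>
    commutatorElement_eq_one_iff_mul_comm.1 ((QuotientGroup.eq_one_iff (N := N.subgroupOf H₁)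
      ⁅y, z⁆).2 e)
  refine (QuotientGroup.eq_one_iff (N := N.subgroupOf H₁) ⟨g, mem_sup_left hg.1⟩).1 (lift_split f
    (fun σ => (sj σ).elim fun y hy => ⟨y, hy⟩) ?_ (c := x₁) hab e ?_ ?_ ?_ ((h.ker' _).2 hg.2))
  · intro r hr
    obtain ⟨r, rfl⟩ := QuotientGroup.mk_surjective r
    have r1 := mi (l2 r.2) (h.ker _ hr)
    refine mem_center_iff.2 fun z => ?_
    obtain ⟨z, rfl⟩ := QuotientGroup.mk_surjective z
    refine (cm _ _ (commutator_sup_right_le (le_sup_left.trans n) ((zpowers_le.2 h.xB).trans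
      (le_sup_right.trans n)) (A := zpowers (r : G)) ((commutator_mono (zpowers_le.2
        (h.pg inf_le_left inf_le_right r1)) le_rfl).trans h.RK')
      (CfH8.commutator_zpowers_le (n r1.1) (n (mem_sup_right h.xB)) (xc _ (h.le_B r1)))
      (commutator_mem_commutator (mem_zpowers _) z.2))).symm
  · rw [← QuotientGroup.mk_mul, ← QuotientGroup.mk_one]
    exact congrArg _ (Subtype.ext (congrArg (fun y : H => (y : G)) h.xx))
  · intro i j n1 n2 n3 n4 n5
    obtain ⟨y, hy, ⟨k, l, hkl, e1⟩, e2⟩ := h.oth (by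
      have := Finset.card_le_univ ({a, b, i, j} : Finset (Fin (2 * m + 1)))
      rw [Finset.card_insert_of_notMem (by simp [hab, n2.symm, n4.symm]),
        Finset.card_insert_of_notMem (by simp [n3.symm, n5.symm]), Finset.card_pair n1] at this
      simp at this; omega)
    obtain ⟨z, hz⟩ := sj (D.ρ y)
    have zB : (z : G) ∈ BB 2 T := by
      have := h.le_B (mi (mul_mem (inv_mem (mem_sup_right hy)) (l2 z.2))
        (h.ker (y⁻¹ * inclusion l1 z) (by rw [map_mul, map_inv, hz, inv_mul_cancel])))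
      exact (mul_mem_cancel_left (inv_mem hy)).1 this
    have c : D.ρ y * D.ρ x = D.ρ x * D.ρ y := commutatorElement_eq_one_iff_mul_comm.1 (by
      rw [← map_commutatorElement]
      exact (h.ker' _).2 (V_le_C (commutator_le_left _ _ (xc _ hy))))
    rw [e1, e] at c e2
    have d : ∀ {k l a b : Fin (2 * m + 1)}, k ≠ l → a ≠ b → swap k l * swap a b = swap a b * swap k l →
        swap k l ≠ swap a b → k ≠ a := fun {k l a b} h1 h2 c e => by
      rintro rfl
      have h3 : l ≠ b := fun e' => e (by rw [e'])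
      have := congrArg (· k) c
      simp only [Perm.mul_apply, swap_apply_left, swap_apply_of_ne_of_ne h2.symm h3.symm,
        swap_apply_of_ne_of_ne h1.symm h3] at this
      exact h3 this.symm
    refine ⟨z, k, l, hkl, d hkl hab c e2, d hkl hab.symm (swap_comm a b ▸ c) (swap_comm a b ▸ e2),
      d hkl.symm hab (swap_comm k l ▸ c) (swap_comm k l ▸ e2), d hkl.symm hab.symm
        (swap_comm a b ▸ swap_comm k l ▸ c) (swap_comm a b ▸ swap_comm k l ▸ e2),
      hz.trans e1, cm z x₁ (xc _ zB)⟩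
  · have k0 : zpowers (x : G) ≤ (normalClosure {x₁}).map H₁.subtype :=
      zpowers_le.2 ⟨x₁, subset_normalClosure rfl, rfl⟩
    have k : nclo K H ≤ (normalClosure {x₁}).map H₁.subtype :=
      (h.comm_eq (mem_zpowers _) (zpowers_le.2 h.xB)).ge.trans ((commutator_mono le_rfl k0).trans
        (comm_le_right (le_sup_left.trans (le_normalizer_map_subtype (normalClosure {x₁})))))
    obtain ⟨g', hg', rfl⟩ := k hg.1
    exact (normalClosure_le_normal (N := (normalClosure {(x₁ : H₁ ⧸ N.subgroupOf H₁)}).comap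
      (QuotientGroup.mk' _)) (by rintro _ rfl; exact subset_normalClosure rfl)) hg'

theorem core_eq (h : SY T H K D x) : pCoreOf 2 (nclo K H) = ⁅VG 2 G, nclo K H⁆ := by
  refine le_antisymm ((le_inf (pCoreOf_le _) (by_contra fun e => alt_not_two h.ne ?_)).trans h.split)
    (le_pCoreOf ((commutator_mono VG_le le_rfl).trans (comm_le_right ?_)) (right_le_Nm_comm _ _)
      ((isPGroup_pCore 2 G).to_le ((commutator_le_left _ _).trans VG_le)))
  · rw [← h.alt_le (pCoreOf_le _) ((right_le_Nm_nclo _ _).trans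
      (normalizer_le_normalizer_pCoreOf _)) e]
    exact isPGroup_im (isPGroup_pCoreOf _)
  · exact le_Nm_of_block h.syl (res_nclo h.res) (h.comm_eq h.xB le_rfl) (isPGroup_pCore 2 G)
      (le_Nm_normal _ _) (le_Nm_normal _ _)

theorem quot (h : SY T H K D x) :
    Nonempty (nclo K H ⧸ pCore 2 (nclo K H) ≃* alternatingGroup (Fin (2 * m + 1))) :=
  quot_of_hom (D.resE h.le).ρ (fun g => (h.ker' ⟨g, h.le g.2⟩).trans (h.core_eq ▸
    ⟨fun e => h.split (mi g.2 e), fun e => V_le_C (commutator_le_left _ _ e)⟩))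
    ((D.resE h.le).range.trans h.im_eq)

theorem blk (h : SY T H K D x) : IsBaumannBlock 2 T (nclo K H) := by
  have l : ⁅VG 2 G, nclo K H⁆ ≤ VG 2 G := commutator_le_left _ _
  have eW : bW 2 (nclo K H) = ⁅VG 2 G, nclo K H⁆ := by
    rw [bW, h.core_eq]
    exact le_antisymm (OZ_le _) (le_OZ (elemAb_of_le l elemAb_VG) le_rfl
      (l.trans (V_le_C.trans (Cz_anti l))))
  obtain ⟨D'⟩ := h.md
  have D'' := D'.restrict l h.V_sup (right_le_Nm_comm _ _)
  rw [show ⁅VG 2 G, nclo K H⁆ ⊓ (VG 2 G ⊓ Cz(H)) = bZ 2 (nclo K H) by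
    rw [bZ, eW, h.dis']
    exact le_bot_iff.1 ((inf_le_inf h.V_le inf_le_right).trans h.dis.le), ← eW] at D''
  refine ⟨res_nclo h.res, h.comm_eq h.xB le_rfl, ?_, fun e => h.nz (le_bot_iff.1
    ((commutator_mono (le_nclo _ _) le_rfl).trans e.le)),
    Or.inr ⟨rfl, m, h.quot, D''.perm, h.core_eq.trans eW.symm⟩⟩
  have := commutator_pResidualOf_idem ((isPGroup_pCore 2 G).to_le VG_le) (le_Nm_normal (nclo K H) _)
  rwa [res_nclo h.res, ← h.core_eq] at this

end SY

end CfH7
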