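import Cfsg.Agent.OD.Pre
import Cfsg.Agent.H7.Blk13
import Cfsg.Agent.OD.Helper7xff8134c238

/-! Existence of a subnormal block in minimal parabolic groups. -/

set_option autoImplicit false
set_option linter.unusedSectionVars false

open Cfsg Subgroup CfH9 CfLp Equiv
open scoped commutatorElement MatrixGroups

namespace CfH7

open CfH8 (BB JJ MaxEl)

section Lin

variable {P : Type*} [Group P] {W : Type*} [AddCommGroup W] [DistribMulAction P W] {p : ℕ}
  [Finite P] [Finite W] [FaithfulSMul P W] [Fact p.Prime] {T M A B E : Subgroup P} {z : W}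

theorem Dec.cj_or (d : Dec W p T E) {t : P} (ht : t ∈ T) : cj t E = E ∨ E ≤ Cz(cj t E) := by
  by_cases h : cj t E = E
  · exact Or.inl h
  · have h1 := d.dis' (one_mem T) ht (by rw [cj_one]; exact Ne.symm h)
    rw [cj_one] at h1
    exact Or.inr (le_Cz_of_cm h1 (d.dis t ht h))

theorem Dec.subn (d : Dec W p T E) : E.IsSubnormal :=
  haveI := d.normal
  (subnIn_of_normal (le_nclo E T) (nclo_le_iff'.2 fun _ ht => (d.cj_or ht).elim
    (fun e => e.le.trans le_normalizer) fun e => (le_Cz_comm e).trans (Cz_le_Nm _))).isSubnormal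
    (Subgroup.Normal.isSubnormal inferInstance)

theorem Dec.mem_Nm (d : Dec W p T E) {t : P} (ht : t ∈ T) {X Y : Subgroup P} (h1 : X ≤ E)
    (h2 : Y ≤ cj t E) (h : ¬ X ≤ Cz(Y)) : t ∈ Nm(E) := mem_normalizer_iff_cj.2
  ((d.cj_or ht).resolve_right fun e => h (h1.trans (e.trans (Cz_anti h2))))

theorem PL.dec_two' (h : PM W 2 T M z) (l : PL W T M A B) (hq : Nat.card A = 2) :
    ∃ E, Dec W 2 T E ∧ A ⊔ B ≤ E ∧ cm W E ⊓ fx W E = ⊥ ∧
      ∃ k ρ ψ, PermD W (2 * 2 ^ k + 1) E ρ ψ ∧ Function.Injective ρ := by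
  have rs := h.rs
  obtain ⟨a, ha, rfl⟩ := l.tv h hq l.rA
  obtain ⟨b, hb, rfl⟩ := l.tv h hq l.rB
  have aT : a ∈ T := l.AT (mem_zpowers a)
  have bM : b ∉ M := fun e => l.nM (zpowers_le.2 e)
  have ba : ff W b a = 1 := (rs.ff_eq_one hb ha).2 (l.not_comm h)
  have cM : ∀ s ∈ T, ∀ t, t ∉ M → s * t * s⁻¹ ∉ M := fun s hs t ht e =>
    ht (by simpa [mul_assoc] using mul_mem (mul_mem (inv_mem (h.min.le hs)) e) (h.min.le hs))
  let K : Set P := {t | Tv W t ∧ t ∉ M ∧ (t = b ∨ ff W t b = 1)}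
  have bK : b ∈ K := ⟨hb, bM, Or.inl rfl⟩
  have fb : ff W (a * b * a⁻¹) b = 1 := by
    rw [hb.ff_conj' ha ba, rs.ff_self hb, rs.ff_symm ha hb, ba, zero_add]
  have b'K : a * b * a⁻¹ ∈ K := ⟨hb.conj a, cM a aT b bM, Or.inr fb⟩
  have k1 : ∀ s ∈ K, ∀ t ∈ K, s = t ∨ ff W s t = 1 := fun s hs t ht =>
    l.rel_trans h hq hs.1 hb ht.1 hs.2.1 bM ht.2.1 hs.2.2 ht.2.2
  have k2 : ∀ s ∈ K, ∀ t, Tv W t → t ∉ M → (t = s ∨ ff W t s = 1) → t ∈ K := fun s hs t ht tM e =>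
    ⟨ht, tM, l.rel_trans h hq ht hs.1 hb tM hs.2.1 bM e
      (hs.2.2.imp Eq.symm fun e => rs.ff_symm hb hs.1 ▸ e)⟩
  have k3 : ∀ g ∈ T, ∀ s ∈ K, ∀ t ∈ K, g * s * g⁻¹ ∈ K → g * t * g⁻¹ ∈ K := fun g hg s hs t ht e =>
    k2 _ e _ (ht.1.conj g) (cM g hg t ht.2.1) ((k1 t ht s hs).imp (fun e => by rw [e])
      fun e => by rw [rs.ff_cj ht.1 hs.1, e])
  have k4 : ∀ g ∈ T, g * b * g⁻¹ ∈ K → cj g (closure K) = closure K := fun g hg e => by
    refine eq_of_le_of_card_ge ?_ (card_cj _ _).ge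
    rw [cj_closure]
    exact closure_mono (by rintro _ ⟨t, ht, rfl⟩; exact k3 g hg b bK t ht e)
  have k5 : ∀ g ∈ T, g * b * g⁻¹ ∉ K → cm W (cj g (closure K)) ≤ fx W (closure K) := fun g hg e => by
    rw [cj_closure]
    refine cm_closure_le ?_
    rintro _ ⟨t, ht, rfl⟩
    refine (ht.1.conj g).sub_mem (mem_fx_closure.2 fun s hs => th_eq_zero.1 ?_)
    refine (zmod2_cases _).resolve_right fun e' => e (k3 g hg t ht b bK (k2 s hs _ (ht.1.conj g)
      (cM g hg t ht.2.1) (Or.inr ?_)))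
    exact rs.ff_symm (ht.1.conj g) hs.1 ▸ e'
  obtain ⟨n, hn⟩ : ∃ n, Nat.card K = 2 ^ n := by
    let H := T ⊓ Nm(closure K)
    letI : MulAction H P := MulAction.compHom P (MulAut.conj.comp H.subtype)
    have : MulAction.orbit H b = K := by
      ext t
      constructor
      · rintro ⟨g, rfl⟩
        change (g : P) * b * (g : P)⁻¹ ∈ K
        by_contra e
        have := k5 g g.2.1 e
        rw [cj_eq_of_mem_normalizer g.2.2] at this
        have := this (cm_mono (zpowers_le.2 (subset_closure bK)) hb.wv_mem) _ (subset_closure b'K)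
        exact zero_ne_one ((th_eq_zero.2 this).symm.trans fb)
      · intro ht
        obtain ⟨g, hg, e⟩ := l.trans_out h ht.1.rt fun e => ht.2.1 (e (mem_zpowers t))
        rw [cj_zpowers] at e
        obtain rfl := (hb.conj g).eq_of_zpowers ht.1 e
        exact ⟨⟨g, mi hg (mem_normalizer_iff_cj.2 (k4 g hg ht))⟩, rfl⟩
    exact this ▸ (h.syl.pgrp.to_le (inf_le_left (b := Nm(closure K)))).card_orbit b
  have n2 : 2 ≤ Nat.card K := by
    refine Finite.one_lt_card_iff_nontrivial.2 ⟨⟨b, bK⟩, ⟨_, b'K⟩, fun e => ?_⟩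
    have : b = a * b * a⁻¹ := congrArg Subtype.val e
    rw [← this, rs.ff_self hb] at fb
    exact zero_ne_one fb
  rcases n with _ | n
  · rw [hn] at n2; simp at n2
  have hn' := hn.trans (pow_succ' 2 n)
  let e := (Finite.equivFinOfCardEq hn').symm
  have er : Set.range (fun i => (e i : P)) = K := by
    ext t
    exact ⟨by rintro ⟨i, rfl⟩; exact (e i).2, fun ht => ⟨e.symm ⟨t, ht⟩, by simp⟩⟩
  obtain ⟨⟨ρ, ψ, s1, s2⟩, s3, s4⟩ := er ▸ rs.star (even_two_mul _) (hn' ▸ n2)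
    (fun i => (e i : P)) (fun i => (e i).2.1) fun i j hne =>
      (k1 _ (e i).2 _ (e j).2).resolve_left fun e' => hne (e.injective (Subtype.ext e'))
  have BE : zpowers b ≤ closure K := zpowers_le.2 (subset_closure bK)
  have nc : ¬ zpowers b ≤ Cz(zpowers a) := fun e => l.not_comm h (le_Cz_comm e)
  refine ⟨closure K, ⟨fun t ht hne => k5 t ht fun e => hne (k4 t ht e), s3,
    fun g hg e => eq_one_of_smul (W := W) fun w => sub_eq_zero.1
      (AddSubgroup.mem_bot.1 (s4 ▸ ⟨sub_mem_cm hg w, e w⟩)),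
    top_unique ((l.sup_eq_top h).ge.trans (sup_le_sup_left BE _)),
    ⟨n + 1, by omega, Or.inr ⟨rfl, by rw [pow_succ']; exact ⟨ρ, ψ, s1, s2⟩⟩⟩,
    (closure_le _).2 fun t ht => le_jj ht.1.rt le_top (mem_zpowers t)⟩, ?_, s4, n, ρ, ψ, s1, s2⟩
  rw [sup_comm, ← (l.rd h).sup_eq_sup l.rB l.rA nc (hb.conj a).rt (zpowers_le.2
    (mul_mem (mul_mem (mem_sup_right (mem_zpowers a)) (mem_sup_left (mem_zpowers b)))
      (mem_sup_right (inv_mem (mem_zpowers a))))) fun e => by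
    rw [(hb.conj a).eq_of_zpowers hb e, rs.ff_self hb] at fb
    exact zero_ne_one fb]
  exact sup_le BE (zpowers_le.2 (subset_closure b'K))

end Lin

theorem comm_of_nonscalar {F : Type*} [Field F] {g h k l : SL(2, F)} (h1 : g * h = h * g)
    (h2 : g * k = k * g) (h3 : g * l ≠ l * g) : h * k = k * h := by
  have c : ∀ {g h : SL(2, F)}, g * h = h * g ↔ g 0 1 * h 1 0 = g 1 0 * h 0 1 ∧
      (g 0 0 - g 1 1) * h 0 1 = g 0 1 * (h 0 0 - h 1 1) ∧
      (g 0 0 - g 1 1) * h 1 0 = g 1 0 * (h 0 0 - h 1 1) := fun {g h} => by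
    simp only [Matrix.SpecialLinearGroup.ext_iff, Matrix.SpecialLinearGroup.coe_mul,
      Fin.forall_fin_two, Matrix.mul_apply, Fin.sum_univ_two]
    exact ⟨fun ⟨⟨a, b⟩, c, d⟩ => ⟨by linear_combination a, by linear_combination b,
      by linear_combination -c⟩, fun ⟨a, b, c⟩ => ⟨⟨by linear_combination a,
        by linear_combination b⟩, by linear_combination -c, by linear_combination -a⟩⟩
  rw [ne_eq, c] at h3
  obtain ⟨a1, a2, a3⟩ := c.1 h1
  obtain ⟨b1, b2, b3⟩ := c.1 h2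
  rw [c]
  by_cases e1 : g 0 1 = 0
  · by_cases e2 : g 1 0 = 0
    · have e3 : g 0 0 - g 1 1 ≠ 0 := fun e => h3 (by simp [e, e1, e2])
      refine ⟨mul_left_cancel₀ e3 ?_, mul_left_cancel₀ e3 ?_, mul_left_cancel₀ e3 ?_⟩
      · linear_combination k 1 0 * a2 - k 0 1 * a3 - (h 0 0 - h 1 1) * (k 0 1 * e2 - k 1 0 * e1)
      · linear_combination (h 0 0 - h 1 1) * b2 - (k 0 0 - k 1 1) * a2
      · linear_combination (h 0 0 - h 1 1) * b3 - (k 0 0 - k 1 1) * a3
    refine ⟨mul_left_cancel₀ e2 ?_, mul_left_cancel₀ e2 ?_, mul_left_cancel₀ e2 ?_⟩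
    · linear_combination h 1 0 * b1 - k 1 0 * a1
    · linear_combination (k 0 0 - k 1 1) * a1 - (h 0 0 - h 1 1) * b1 +
        ((h 0 0 - h 1 1) * k 1 0 - (k 0 0 - k 1 1) * h 1 0) * e1
    · linear_combination h 1 0 * b3 - k 1 0 * a3
  refine ⟨mul_left_cancel₀ e1 ?_, mul_left_cancel₀ e1 ?_, mul_left_cancel₀ e1 ?_⟩
  · linear_combination h 0 1 * b1 - k 0 1 * a1
  · linear_combination h 0 1 * b2 - k 0 1 * a2
  · linear_combination (h 0 0 - h 1 1) * b1 - k 0 1 * a3 + h 1 0 * b2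

theorem deg_lin {F : Type*} [Field F] {R : Subgroup SL(2, F)} {m : ℕ} (hm : 3 ≤ m)
    (e : alternatingGroup (Fin (2 * m + 1)) ≃* R) : False := by
  let i : Fin 7 → Fin (2 * m + 1) := Fin.castLE (by omega)
  have hi : ∀ {a b}, i a = i b ↔ a = b := (Fin.castLE_injective _).eq_iff
  have t : ∀ a b c : Fin 7, a ≠ b → a ≠ c → b ≠ c →
      swap (i a) (i b) * swap (i a) (i c) ∈ alternatingGroup (Fin (2 * m + 1)) := fun a b c h1 h2 h3 =>
    (Perm.isThreeCycle_swap_mul_swap_same (hi.not.2 h1) (hi.not.2 h2)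
      (hi.not.2 h3)).mem_alternatingGroup
  let f := R.subtype.comp e.toMonoidHom
  have inj : Function.Injective f := R.subtype_injective.comp e.injective
  have c : ∀ x y, f x * f y = f y * f x ↔ (x : Perm (Fin (2 * m + 1))) * y = y * x := fun x y => by
    rw [← map_mul, ← map_mul, inj.eq_iff, Subtype.ext_iff]; rfl
  have s : ∀ a b c d : Fin 7, a ≠ c → a ≠ d → b ≠ c → b ≠ d →
      Commute (swap (i a) (i b)) (swap (i c) (i d)) := fun a b c d h1 h2 h3 h4 => by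
    rw [commute_iff_eq, mul_swap_eq_swap_mul, swap_apply_of_ne_of_ne (hi.not.2 h1.symm)
      (hi.not.2 h3.symm), swap_apply_of_ne_of_ne (hi.not.2 h2.symm) (hi.not.2 h4.symm)]
  have := (c _ _).1 (comm_of_nonscalar (g := f ⟨_, t 0 1 2 (by decide) (by decide) (by decide)⟩)
    (h := f ⟨_, t 3 4 5 (by decide) (by decide) (by decide)⟩)
    (k := f ⟨_, t 3 4 6 (by decide) (by decide) (by decide)⟩)
    (l := f ⟨_, t 0 1 3 (by decide) (by decide) (by decide)⟩) ((c _ _).2 ?_) ((c _ _).2 ?_)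
    fun e => ?_)
  · have := congrArg (· (i 3)) this
    simp [swap_apply_def, hi] at this
  · exact ((s _ _ _ _ (by decide) (by decide) (by decide) (by decide)).mul_right
      (s _ _ _ _ (by decide) (by decide) (by decide) (by decide))).mul_left
      ((s _ _ _ _ (by decide) (by decide) (by decide) (by decide)).mul_right
        (s _ _ _ _ (by decide) (by decide) (by decide) (by decide)))
  · exact ((s _ _ _ _ (by decide) (by decide) (by decide) (by decide)).mul_right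
      (s _ _ _ _ (by decide) (by decide) (by decide) (by decide))).mul_left
      ((s _ _ _ _ (by decide) (by decide) (by decide) (by decide)).mul_right
        (s _ _ _ _ (by decide) (by decide) (by decide) (by decide)))
  · have := congrArg (· (i 0)) ((c _ _).1 e)
    simp [swap_apply_def, hi] at this

theorem deg_alt {m k : ℕ} (hm : m ≠ 0) (hk : k ≠ 0)
    (e : alternatingGroup (Fin (2 * m + 1)) ≃* alternatingGroup (Fin (2 * k + 1))) : m = k := by
  haveI : Nontrivial (Fin (2 * m + 1)) := Fin.nontrivial_iff_two_le.2 (by omega)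
  haveI : Nontrivial (Fin (2 * k + 1)) := Fin.nontrivial_iff_two_le.2 (by omega)
  have h1 := two_mul_nat_card_alternatingGroup (α := Fin (2 * m + 1))
  have h2 := two_mul_nat_card_alternatingGroup (α := Fin (2 * k + 1))
  rw [Nat.card_congr e.toEquiv, h2, Nat.card_perm, Nat.card_perm, Nat.card_eq_fintype_card,
    Nat.card_eq_fintype_card, Fintype.card_fin, Fintype.card_fin,
    Nat.factorial_inj (by omega)] at h1
  omega

universe u

variable {G : Type u} [Group G] [Finite G] {p : ℕ} [hp : Fact p.Prime] {T M E : Subgroup G}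

theorem Br.exists_md {P W : Type*} [Group P] [AddCommGroup W] [DistribMulAction P W]
    {V X : Subgroup G} {π : X →* P} {ι : Multiplicative W →* G} (h : Br V X π ι) {L : Subgroup P}
    (r : Rl π E L) {n : ℕ} {ρ : L →* Perm (Fin n)} {ψ : W →+ (Fin n → ZMod 2)}
    (d : PermD W n L ρ ψ) : ∃ D : MD (⊤ : Subgroup (Perm (Fin n))) (evn n) E V (V ⊓ Cz(E)),
      ∀ x, D.ρ x = ρ (r.hom x) := by
  have c : ∀ w, Function.invFun (fun w : W => ι (.ofAdd w)) (ι (.ofAdd w)) = w :=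
    Function.leftInverse_invFun fun _ _ => h.inj'
  refine ⟨⟨ρ.comp r.hom, fun g => ψ (Function.invFun (fun w : W => ι (.ofAdd w)) g),
    r.le.trans h.le, inf_le_left, MonoidHom.range_eq_top.2 (d.surj.comp r.hom_surj),
    fun u hu v hv => ?_, fun u _ => d.sum _, fun y hy => ?_, fun u hu => ?_, fun g u hu => ?_⟩,
    fun _ => rfl⟩
  · obtain ⟨w, rfl⟩ := h.ex hu
    obtain ⟨w', rfl⟩ := h.ex hv
    rw [← map_mul, ← ofAdd_add, c, c, c, map_add]
  · obtain ⟨w, rfl⟩ := d.all y hy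
    exact ⟨_, h.mem w, by rw [c]⟩
  · obtain ⟨w, rfl⟩ := h.ex hu
    rw [c, d.ker, h.mem_fx_iff r, mem_inf, and_iff_right hu]
  · obtain ⟨w, rfl⟩ := h.ex hu
    rw [← h.eqv ⟨g, r.le g.2⟩, c, c]
    exact funext (d.eqv (r.hom g) w)

theorem _root_.CfLp.CS.twin2 {L B : Subgroup G} (h : CS 2 2 L B T M) (hg : Good 2 L B T)
    (hd : NoChar L B) (c4 : Nat.card (Lc 2 L T) = 2 * 2) :
    ∃ x ∈ B, x ∉ T ∧ x * x = 1 ∧ ⁅zpowers x, B⁆ ≤ Lc 2 L T ∧
      Nat.card (⁅zpowers x, B⁆ : Subgroup G) ≤ 2 := by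
  have hI := CS.typeI h hg
  have l := h.LT.trans h.TS
  have cz : ∀ x ∈ B, x ∈ Cz(Lc 2 L T) → x ∈ T := fun x hx e => h.mem_T_of_Cz h.nc hx (by
    rw [← h.comm_O_sup, Cz_sup]
    exact mi (Cz_anti (commutator_mono inf_le_left le_rfl) e) (le_Cz_comm inf_le_right (h.SG hx)))
  obtain ⟨f, hf, e, k⟩ := h.exists_twin hd fun e => by simp [e] at c4
  obtain ⟨_, ⟨v, hv, rfl⟩, k⟩ := SetLike.not_le_iff_exists.1 k
  have xB : f v ∈ B := e.le ⟨v, trivial, rfl⟩
  have c : Nat.card (⁅zpowers (f v), B⁆ : Subgroup G) ≤ 2 := by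
    have k1 : ⁅zpowers (f v), B⁆ ≤ ((Lc 2 L T ⊓ Cz(B)).subgroupOf B).map f := by
      refine (commutator_mono (f.map_zpowers v).ge e.ge).trans ((map_commutator _ _ f).ge.trans
        (map_mono (map_le_iff_le_comap.1 ?_)))
      rw [map_commutator, map_subtype_top, MonoidHom.map_zpowers]
      exact (commutator_mono (zpowers_le.2 (mem_subgroupOf.1 hv)) le_rfl).trans (le_inf (comm_le_left
        (h.SG.trans h.nL)) ((commutator_mono hI le_rfl).trans (h.quad.trans inf_le_right)))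
    refine (card_le_of_le k1).trans ?_
    rw [card_map_of_injective hf, Nat.card_congr (subgroupOfEquivOfLe (inf_le_left.trans l)).toEquiv]
    have k2 := card_dvd_of_le (inf_le_left : Lc 2 L T ⊓ Cz(B) ≤ _)
    have k3 : Nat.card (Lc 2 L T ⊓ Cz(B) : Subgroup G) ≠ 2 * 2 := fun e => h.ne fun x hx =>
      cz x hx (le_Cz_comm ((eq_of_le_of_card_ge inf_le_left (c4.trans e.symm).le).ge.trans
        inf_le_right) hx)
    rw [c4] at k2
    have := Nat.le_of_dvd (by decide) k2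
    generalize Nat.card (Lc 2 L T ⊓ Cz(B) : Subgroup G) = a at *
    interval_cases a <;> simp_all
  refine ⟨_, xB, k, ?_, ?_, c⟩
  · rw [← map_mul, ← map_one f, ← sq]
    exact congrArg f (Subtype.ext (h.elemZ (hI hv)))
  · refine inf_eq_left.1 (eq_of_le_of_card_ge inf_le_left (c.trans
      ((one_lt_card_iff_ne_bot _).2 fun e => k (cz _ xB (zpowers_le.1 (comm_eq_bot_left.1
        (le_bot_iff.1 (le_trans (le_inf (commutator_mono le_rfl l) (comm_le_right
          ((zpowers_le.2 (h.SG xB)).trans h.nL))) e.le))))))))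

theorem blk_quot_ne (h : IsBaumannBlock p T E)
    (e : Nonempty (E ⧸ pCore p E ≃* alternatingGroup (Fin (2 * 0 + 1)))) : False := by
  obtain ⟨e⟩ := e
  haveI : Subsingleton (alternatingGroup (Fin (2 * 0 + 1))) :=
    inferInstanceAs (Subsingleton (alternatingGroup (Fin 1)))
  haveI := e.toEquiv.subsingleton
  exact (bk_of h).not_le_Q fun x hx =>
    ⟨⟨x, hx⟩, (QuotientGroup.eq_one_iff _).1 (Subsingleton.elim _ _), rfl⟩

variable (p) in
/-- no nontrivial characteristic subgroup of `B(T)` is normal -/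
def NC (T : Subgroup G) : Prop :=
  ∀ X : Subgroup (BB p T), X ≠ ⊥ → X.Characteristic → ¬ (X.map (BB p T).subtype).Normal

variable (p) in
/-- alternating quotients have degree `2 ^ n + 1` -/
def Deg (E : Subgroup G) : Prop :=
  ∀ m : ℕ, Nonempty (E ⧸ pCore p E ≃* alternatingGroup (Fin (2 * m + 1))) → ∃ n, 2 * m + 1 = 2 ^ n + 1

theorem deg_of_lin (h : IsBaumannBlock p T E) {F : Type*} [Field F] {R : Subgroup SL(2, F)}
    (e : Nonempty (E ⧸ pCore p E ≃* R)) : Deg p E := fun m e' => by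
  by_cases h3 : 3 ≤ m
  · exact (deg_lin h3 (e'.some.symm.trans e.some)).elim
  · obtain rfl | rfl | rfl : m = 0 ∨ m = 1 ∨ m = 2 := by omega
    exacts [(blk_quot_ne h e').elim, ⟨1, rfl⟩, ⟨2, rfl⟩]

theorem deg_of_alt (h : IsBaumannBlock p T E) {k : ℕ}
    (e : Nonempty (E ⧸ pCore p E ≃* alternatingGroup (Fin (2 * 2 ^ k + 1)))) : Deg p E :=
  fun m e' => ⟨k + 1, by
    rw [deg_alt (by rintro rfl; exact blk_quot_ne h e') (by positivity)
      (e'.some.symm.trans e.some), pow_succ']⟩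

namespace BL

variable {W : Type u} [AddCommGroup W]

theorem small [DistribMulAction (G ⧸ Cz(VG p G)) W] [Finite W]
    [FaithfulSMul (G ⧸ Cz(VG p G)) W] {ι : Multiplicative W →* G} {z : W}
    {A B : Subgroup (G ⧸ Cz(VG p G))} (h : BL p T M W ι z A B) (hn : NC p T) :
    ∃ L, CS p (Nat.card A) L (BB p T) (pCoreOf p L) (L ⊓ M) ∧ Good p L (BB p T) (pCoreOf p L) ∧
      NoChar L (BB p T) ∧ BLK p T Op(p, L) ∧ ¬ Op(p, L) ≤ M ∧
      Op(p, L).map (πG p G) = pResidualOf p (A ⊔ B) ∧ L.map (πG p G) ≤ Nm(A ⊔ B) ∧ Deg p Op(p, L) ∧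
      (Nat.card A = 2 → PCl p Op(p, L)) := by
  obtain ⟨L, k, e⟩ := h.exists_pu
  have n : ¬ L ≤ M := fun e => k.ex.elim fun _ hg => hg.2 (mi hg.1 (e hg.1))
  have hd := h.noChar n hn
  obtain ⟨c, hg⟩ := k.good hd
  have n' : ¬ Op(p, L) ≤ M := fun e => n (k.le_of_O_S e ((CfH8.B_le T).trans h.min.le))
  obtain ⟨F, _, _, hF, _, -, hF'⟩ := exists_field_card (h.pm.syl.pgrp.to_le h.pl.AT) h.pl.rA.ne
  have nD : DD p T (A ⊔ B) ≤ Nm(A ⊔ B) := inf_le_right.trans (Cz_le_Nm _)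
  have b := c.blk hg hd (fun e => n' ((comm_eq_bot_left.1 e).trans h.CZ_le)) hF' hF
  obtain ⟨D, hD⟩ := c.mdZ hg hF' hF
  refine ⟨L, c, hg, hd, ⟨h.syl, h.chp, b⟩, n', ?_, e.le.trans (sup_le le_normalizer nD),
    deg_of_lin b (quot_of_hom D.ρ hD D.range), fun e => pcl_of_hom D.ρ hD fun x =>
      (sf_of_card (by omega)).pow_eq hF' (D.mem_R x)⟩
  rw [map_pResidualOf, e]
  exact pResidualOf_sup_of_isPGroup ((isPGroup_B h.syl.pgrp).map _).to_inf_left nD

theorem large [DistribMulAction (G ⧸ Cz(VG p G)) W] [Finite W]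
    [FaithfulSMul (G ⧸ Cz(VG p G)) W] {ι : Multiplicative W →* G} {z : W}
    {A B : Subgroup (G ⧸ Cz(VG p G))} (h : BL p T M W ι z A B) (hn : NC p T) (hq : 2 < Nat.card A) :
    ∃ E, IsBaumannBlock p T E ∧ E.IsSubnormal ∧ ¬ E ≤ M ∧ Deg p E := by
  obtain ⟨L, -, -, -, b, n, e, -, d, -⟩ := h.small hn
  have s := ((subnIn_of_normal (pResidualOf_le (p := p) _) (le_normalizer_pResidualOf _)).isSubnormal
    (h.pl.dec_large h.pm hq).subn).comap (πG p G)
  rw [← e, comap_map_eq, πG_ker] at s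
  exact ⟨_, b.blk, (subnIn_of_normal le_sup_left (sup_le le_normalizer ((Cz_anti
    (b.bk.V_le b.syl b.chp)).trans b.Cz_le))).isSubnormal s, n, d⟩

theorem two [DistribMulAction (G ⧸ Cz(VG 2 G)) W] [Finite W]
    [FaithfulSMul (G ⧸ Cz(VG 2 G)) W] {ι : Multiplicative W →* G} {z : W}
    {A B : Subgroup (G ⧸ Cz(VG 2 G))} (h : BL 2 T M W ι z A B) (hn : NC 2 T) (hq : Nat.card A = 2) :
    ∃ E, IsBaumannBlock 2 T E ∧ E.IsSubnormal ∧ ¬ E ≤ M ∧ Deg 2 E := by
  obtain ⟨L, c, hg, hd, b, n, e, nL, -, pc⟩ := h.small hn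
  rw [hq] at c
  obtain ⟨E, d, l, dis, k, ρ, ψ, pd, inj⟩ := h.pl.dec_two' h.pm hq
  have eV : Lc 2 L (pCoreOf 2 L) = bV 2 Op(2, L) :=
    c.core_eq.symm.trans (BLK.Q_eq_V b.bk (c.W_eq (CS.typeI c hg)))
  obtain ⟨x, xB, xT, xx, x1, x2⟩ := c.twin2 hg hd
    (eV ▸ ((blk_typ b.blk).resolve_left fun e => e.2 (pc hq)).2)
  have r := rl_comap_mk Cz(VG 2 G) E
  obtain ⟨D, hD⟩ := h.br.exists_md r pd
  have KE : Op(2, L).map (πG 2 G) ≤ A ⊔ B := e.le.trans (pResidualOf_le _)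
  have xA : zpowers (πG 2 G x) = A := by
    have nc : ¬ πG 2 G x ∈ Cz(A ⊔ B) := fun e' => n (h.le_M_iff.1 ((le_inf KE ((map_le_iff_le_comap.2
      (c.O_le (le_Nm_comap (nL.trans (Nm_le_Nm_Cz _))) xB xT e')).trans ((Cz_anti le_sup_left).trans
        (Cz_le_Nm _)))).trans (h.pl.borel_le h.pm)))
    have c2 : Nat.card (zpowers (πG 2 G x)) = 2 := by
      rw [Nat.card_zpowers]
      exact orderOf_eq_prime (by rw [← map_pow, sq, xx, map_one]) fun e => nc (e ▸ one_mem _)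
    obtain ⟨C, h1, h2⟩ := h.pm.exists_rt (h.pm.rs.off_of_idx (Y := zpowers (πG 2 G x))
      ⟨inferInstance, by
        rintro _ ⟨i, rfl⟩
        rw [← zpow_natCast, ← zpow_mul, mul_comm, zpow_mul, zpow_natCast, ← map_pow, sq, xx,
          map_one, one_zpow]⟩ (by
      rw [c2, ← card_range_dl, ← h.br.card_am]
      refine (card_le_of_le ?_).trans x2
      rintro _ ⟨_, ⟨w, rfl⟩, rfl⟩
      exact (h.br.comm ⟨x, trivial⟩ w).symm ▸ commutator_mem_commutator (mem_zpowers x)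
        (h.U_le (mem_sup_right (h.br.mem w))).1)) fun e => by rw [e, card_bot] at c2; omega
    obtain rfl := eq_of_le_of_card_ge h1 (c2.trans ((h.pl.card_eq h.pm h2).trans hq).symm).le
    by_contra e'
    exact nc (le_Cz_comm (h.pl.oth' h.pm h2 (zpowers_le.2 (mem_map_of_mem _ (CfH8.B_le T xB))) e')
      (mem_zpowers _))
  have xE : πG 2 G x ∈ E := l (mem_sup_left (xA ▸ mem_zpowers _))
  have tx : Tv W (πG 2 G x) := ⟨xA ▸ h.pl.rA, xA ▸ hq⟩
  have ker : ∀ g, D.ρ g = 1 ↔ (g : G) ∈ Cz(VG 2 G) := fun g => by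
    rw [hD, map_eq_one_iff _ inj, Subtype.ext_iff]
    exact πG_eq_one
  have sw : ∀ t : E, Tv W (t : G ⧸ Cz(VG 2 G)) → (ρ t).IsSwap := fun t ht => by
    obtain ⟨X, h1, h2⟩ := h.exists_rt ht.rt
    have h3 : X ≤ E.comap (πG 2 G) := map_le_iff_le_comap.1 (h2.le.trans (zpowers_le.2 t.2))
    have bd : BD 2 D (((alternatingGroup _).comap D.ρ).map (Subgroup.subtype _)) (alternatingGroup _) ⊤ :=
      ⟨mdl_perm _, map_subtype_le _, by
        rw [im, subgroupOf, comap_map_eq_self_of_injective (subtype_injective _),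
          map_comap_eq_self_of_surjective (SY.surj D)], ker, elemAb_VG⟩
    obtain ⟨a, b, hab, y, hy, e⟩ := (bd.off_maxEl h1 le_top h3).1.exists_swap fun e =>
      ht.rt.ne (h2 ▸ (Subgroup.map_eq_bot_iff _).2 (πG_ker.ge.trans' ((im_eq_bot_iff ker h3).1 e)))
    refine ⟨a, b, hab, ?_⟩
    rw [← e, hD]
    refine congrArg ρ (Subtype.ext (ht.eq_of_mem (h2.le ⟨_, hy, rfl⟩) fun e' => ?_).symm)
    rw [(ker y).2 (πG_eq_one.1 e')] at e
    exact hab (swap_eq_one_iff.1 e.symm)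
  have sy : SY T (E.comap (πG 2 G)) Op(2, L) D ⟨x, xE⟩ := by
    refine ⟨h.syl, h.chp, fun X => h.le_R, h.Y_le_R, by positivity, fun g => (ker g).1, ?_,
      le_Nm_comap fun g hg => ?_, b.bk.B_le_Nm, map_le_iff_le_comap.1 (KE.trans l), b.bk.res,
      (b.bk.RE_le h.syl).trans (c.core_eq.le.trans (eV.le.trans (b.bk.V_le h.syl h.chp))),
      fun e => n (e.trans h.C_le), b.bk.ne, xB, Subtype.ext xx, hD _ ▸ sw ⟨_, xE⟩ tx,
      fun g hg => ?_, fun hm => ?_⟩
    · rw [← inf_eq_left.2 (commutator_le_left (VG 2 G) _), inf_assoc, ← h.br.am_cm r,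
        ← h.br.am_fx r, ← h.br.am_inf, dis, am_bot]
    · have nc := h.pl.not_comm h.pm
      refine (h.B_eq.le.trans (sup_le (fun a ha => ?_) fun a ha => ?_)) hg
      · exact le_normalizer (l (mem_sup_left ha))
      · exact d.mem_Nm (map_mono (CfH8.B_le T) ha.1) (le_sup_left.trans l)
          ((cj_eq_of_mem_centralizer (Cz_anti le_sup_right ha.2)).ge.trans
            (cj_mono a (le_sup_right.trans l))) nc
    · rw [b.bk.comm_V h.syl h.chp, ← eV]
      exact comm_mem_of_le' x1 (mem_zpowers x) hg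
    · obtain ⟨a, b, hab, e⟩ := sw ⟨_, xE⟩ tx
      obtain ⟨i, j, n1, n2, n3, n4, n5⟩ : ∃ i j : Fin (2 * 2 ^ k + 1), i ≠ j ∧ i ≠ a ∧ i ≠ b ∧
          j ≠ a ∧ j ≠ b := by
        have := Finset.card_le_card_sdiff_add_card (s := Finset.univ) (t := {a, b})
        obtain ⟨i, hi, j, hj, e⟩ := Finset.one_lt_card.1 (show 1 < (Finset.univ \ {a, b}).card by
          have := Finset.card_le_two (a := a) (b := b)
          simp only [Finset.card_univ, Fintype.card_fin] at *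
          omega)
        simp only [Finset.mem_sdiff, Finset.mem_insert, Finset.mem_singleton, not_or] at hi hj
        exact ⟨i, j, e, hi.2.1, hi.2.2, hj.2.1, hj.2.2⟩
      obtain ⟨g, hg⟩ := pd.surj (swap a i * swap b j)
      have e1 : ρ (g * ⟨_, xE⟩ * g⁻¹) = swap i j := by
        rw [map_mul, map_mul, map_inv, e, ← swap_apply_apply, hg]
        simp [swap_apply_def, hab, hab.symm, n1, n1.symm, n2, n3, n4, n5, n2.symm, n3.symm, n4.symm,
          n5.symm]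
      have cm : zpowers (πG 2 G x) ≤ Cz(zpowers ((g : G ⧸ Cz(VG 2 G)) * πG 2 G x * (g : _)⁻¹)) := by
        rw [zpowers_le, Cz_zpowers, mem_centralizer_singleton_iff]
        refine congrArg Subtype.val (inj (a₁ := ⟨_, xE⟩ * (g * ⟨_, xE⟩ * g⁻¹))
          (a₂ := (g * ⟨_, xE⟩ * g⁻¹) * ⟨_, xE⟩) ?_)
        rw [map_mul, map_mul ρ _ ⟨_, xE⟩, e1, e, mul_swap_eq_swap_mul,
          swap_apply_of_ne_of_ne n2 n3, swap_apply_of_ne_of_ne n4 n5]
      obtain ⟨u, hu, e2⟩ := ((subnIn_top_iff.2 d.subn).sylIn_inf h.pm.syl).exists_cj_le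
        (elemAb_isPGroup (elemAb_sup (h.pm.rs.el tx.rt) (h.pm.rs.el (tx.conj g).rt) cm))
        (sup_le (zpowers_le.2 xE) (zpowers_le.2 (g * ⟨_, xE⟩ * g⁻¹).2))
      have key : ∀ t : E, Tv W (t : G ⧸ Cz(VG 2 G)) → (t : G ⧸ Cz(VG 2 G)) ∈ T.map (πG 2 G) →
          t ≠ ⟨_, xE⟩ → ∃ y : E.comap (πG 2 G), (y : G) ∈ BB 2 T ∧ (D.ρ y).IsSwap ∧
            D.ρ y ≠ D.ρ ⟨x, xE⟩ := fun t h1 h2 h3 => by
        obtain ⟨y, hy, e⟩ := h.rt_le_J h1.rt (zpowers_le.2 h2) (mem_zpowers _)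
        have : r.hom ⟨y, show πG 2 G y ∈ E from e ▸ t.2⟩ = t := Subtype.ext e
        exact ⟨⟨y, show πG 2 G y ∈ E from e ▸ t.2⟩, CfH8.J_le_B T hy, by rw [hD, this]; exact sw t h1,
          by rw [hD, hD, this]; exact inj.ne h3⟩
      by_cases e3 : (⟨u, hu⟩ * ⟨_, xE⟩ * ⟨u, hu⟩⁻¹ : E) = ⟨_, xE⟩
      · refine key (⟨u, hu⟩ * (g * ⟨_, xE⟩ * g⁻¹) * ⟨u, hu⟩⁻¹) ((tx.conj g).conj u)
          (e2 (conj_mem_cj u (mem_sup_right (mem_zpowers _)))).1 fun e4 => ?_
        have := congrArg (· i) ((e1.symm.trans (congrArg ρ (mul_left_cancel (mul_right_cancel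
          (e4.trans e3.symm))))).trans e)
        simp only [swap_apply_left, swap_apply_of_ne_of_ne n2 n3] at this
        exact n1 this.symm
      · exact key _ (tx.conj u) (e2 (conj_mem_cj u (mem_sup_left (mem_zpowers _)))).1 e3
  exact ⟨_, sy.blk, (subnIn_of_normal sy.le (right_le_Nm_nclo _ _)).isSubnormal (d.subn.comap _),
    fun e => n ((le_nclo _ _).trans e), deg_of_alt sy.blk sy.quot⟩

end BL

theorem BS.exists_blk (h : BS p T M) (hn : NC p T) :
    ∃ E, IsBaumannBlock p T E ∧ E.IsSubnormal ∧ ¬ E ≤ M ∧ Deg p E := by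
  obtain ⟨W, _, _, _, _, ι, z, A, B, l⟩ := h.exists_bl
  by_cases hq : 2 < Nat.card A
  · exact l.large hn hq
  have hq := le_antisymm (not_lt.1 hq) l.pl.rA.one_lt_card
  obtain rfl : p = 2 := by
    obtain ⟨n, hn⟩ := IsPGroup.iff_card.1 (l.pm.rs.pg l.pl.rA)
    exact ((Nat.Prime.pow_eq_iff Nat.prime_two).1 (hn.symm.trans hq)).1
  exact l.two hn hq

end CfH7
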