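import Cfsg.Agent.OD.Pre
import Cfsg.Agent.H7.Blk14
import Cfsg.Agent.H7.Kieler

/-! The intersection of `C*(G,T)` with a subnormal block. -/

set_option autoImplicit false
set_option linter.unusedSectionVars false

open Cfsg Subgroup CfH9 CfLp Equiv
open scoped commutatorElement MatrixGroups

namespace CfH7

open CfH8 (BB JJ MaxEl)

section Perm

variable {n : ℕ} {L : Subgroup (Perm (Fin n))} {a b c d : Fin n}

theorem Off.cj_le (h : Off (PV n) 2 L) {g : Perm (Fin n)} {K : Subgroup (Perm (Fin n))}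
    (e : ∀ i j, i ≠ j → swap i j ∈ L → swap (g i) (g j) ∈ K) : CfH9.cj g L ≤ K := by
  rintro _ ⟨s, hs, rfl⟩
  refine mem_of_swaps fun i hi => ?_
  obtain ⟨i, rfl⟩ := g.surjective i
  have k : ((MulAut.conj g).toMonoidHom s) (g i) = g (s i) := by simp
  rw [k] at hi ⊢
  have hi' : s i ≠ i := fun e => hi (by rw [e])
  exact e _ _ hi'.symm (h.swap_mem hs hi')

theorem Off.pair (h : Off (PV n) 2 L) (h1 : swap a b ∈ L) (h2 : swap a c ∈ L) (ab : a ≠ b)
    (ac : a ≠ c) : c = b := by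
  simpa [ac.symm] using h.orb h1 (i := a) (by simpa using ab.symm) h2

theorem dbl_apply (ab : a ≠ b) (cd : c ≠ d) (ca : c ≠ a) (cb : c ≠ b) (da : d ≠ a) (db : d ≠ b) :
    (swap a c * swap b d) a = c ∧ (swap a c * swap b d) b = d ∧ (swap a c * swap b d) c = a ∧
      (swap a c * swap b d) d = b := by
  simp [swap_apply_def, ab, cd, ca, cb, da, db, ab.symm, cd.symm, ca.symm, cb.symm, da.symm, db.symm]

theorem Off.cj_dbl (h : Off (PV n) 2 L) (h1 : swap a b ∈ L) (ab : a ≠ b) (cd : c ≠ d) (ca : c ≠ a)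
    (cb : c ≠ b) (da : d ≠ a) (db : d ≠ b) (hc : ∀ j, c ≠ j → swap c j ∈ L → j = d)
    (hd : ∀ j, d ≠ j → swap d j ∈ L → j = c) :
    CfH9.cj (swap a c * swap b d) L ≤ L ⊔ zpowers (swap c d) := by
  obtain ⟨e1, e2, e3, e4⟩ := dbl_apply ab cd ca cb da db
  have key : ∀ i j, i ≠ j → swap i j ∈ L → (i = a ∨ i = b ∨ i = c ∨ i = d) →
      swap ((swap a c * swap b d) i) ((swap a c * swap b d) j) ∈ L ⊔ zpowers (swap c d) := by
    rintro i j ij e (rfl | rfl | rfl | rfl)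
    · rw [h.pair h1 e ab ij, e1, e2]
      exact mem_sup_right (mem_zpowers _)
    · rw [h.pair (swap_comm a i ▸ h1) e ab.symm ij, e1, e2, swap_comm]
      exact mem_sup_right (mem_zpowers _)
    · rw [hc j ij e, e3, e4]
      exact mem_sup_left h1
    · rw [hd j ij e, e3, e4, swap_comm b a]
      exact mem_sup_left h1
  refine h.cj_le fun i j ij e => ?_
  by_cases hi : i = a ∨ i = b ∨ i = c ∨ i = d
  · exact key i j ij e hi
  by_cases hj : j = a ∨ j = b ∨ j = c ∨ j = d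
  · rw [swap_comm ((swap a c * swap b d) i)]
    exact key j i ij.symm (swap_comm i j ▸ e) hj
  push Not at hi hj
  rw [Perm.mul_apply, Perm.mul_apply, swap_apply_of_ne_of_ne hi.2.1 hi.2.2.2,
    swap_apply_of_ne_of_ne hi.1 hi.2.2.1, swap_apply_of_ne_of_ne hj.2.1 hj.2.2.2,
    swap_apply_of_ne_of_ne hj.1 hj.2.2.1]
  exact mem_sup_left e

theorem dbl_mem_alt (ac : a ≠ c) (bd : b ≠ d) : swap a c * swap b d ∈ alternatingGroup (Fin n) := by
  rw [Perm.mem_alternatingGroup, map_mul, Perm.sign_swap ac, Perm.sign_swap bd]; rfl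

theorem stab_max (w : Fin n) (X : Subgroup (Perm (Fin n)))
    (h : MulAction.stabilizer (Perm (Fin n)) w ≤ X) :
    X ≤ MulAction.stabilizer (Perm (Fin n)) w ∨ X = ⊤ := by
  refine or_iff_not_imp_left.2 fun e => top_unique fun s _ => ?_
  obtain ⟨g, hg, e⟩ := SetLike.not_le_iff_exists.1 e
  change g w ≠ w at e
  by_cases e' : s w = w
  · exact h e'
  have k : s⁻¹ * (swap (g w) (s w) * g) ∈ X := h (show (s⁻¹ * (swap (g w) (s w) * g)) w = w by simp)
  exact inv_mem_iff.1 ((mul_mem_cancel_right (mul_mem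
    (h (swap_apply_of_ne_of_ne e.symm (Ne.symm e'))) hg)).1 k)

theorem alt_le_comm {m : ℕ} (hm : m ≠ 0) {A : Subgroup (Perm (Fin (2 * m + 1)))}
    {a b : Fin (2 * m + 1)} (hab : a ≠ b) (h : swap a b ∈ A) :
    alternatingGroup _ ≤ ⁅alternatingGroup (Fin (2 * m + 1)), A⁆ := by
  haveI : ⁅alternatingGroup (Fin (2 * m + 1)), A⁆.Normal :=
    normal_of_top_le_normalizer ((alt_sup_swap hab h).ge.trans
      (sup_le (left_le_Nm_comm _ _) (right_le_Nm_comm _ _)))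
  refine alt_le_of_normal hm (fun e => ?_) (commutator_le_left _ _)
  obtain ⟨c, h1, h2⟩ : ∃ c, c ≠ a ∧ c ≠ b := by
    by_contra k
    have := Finset.card_le_card (s := Finset.univ) (t := {a, b}) fun c _ => by
      by_contra k'
      exact k ⟨c, by simpa using k'⟩
    have := Finset.card_le_two (a := a) (b := b)
    simp at *; omega
  have := congrArg (· a) (comm_eq_bot_left.1 e (Perm.isThreeCycle_swap_mul_swap_same hab
    h1.symm h2.symm).mem_alternatingGroup _ h)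
  simp only [Perm.mul_apply, swap_apply_left, swap_apply_of_ne_of_ne h1 h2,
    swap_apply_of_ne_of_ne hab.symm h2.symm, swap_apply_right] at this
  exact h1 this

theorem stab_alt {k : ℕ} (w : Fin (k + 1)) : Nonempty ((alternatingGroup (Fin (k + 1)) ⊓
    MulAction.stabilizer (Perm (Fin (k + 1))) w : Subgroup _) ≃* alternatingGroup (Fin k)) := by
  let f := Perm.extendDomainHom (finSuccAboveEquiv w)
  have e : (alternatingGroup (Fin k)).map f = alternatingGroup (Fin (k + 1)) ⊓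
      MulAction.stabilizer (Perm (Fin (k + 1))) w := by
    refine le_antisymm ?_ fun s hs => ?_
    · rintro _ ⟨s, hs, rfl⟩
      exact mi ((Perm.sign_extendDomain _ _).trans hs) (Perm.extendDomain_apply_not_subtype _ _ (by simp))
    · have k : ∀ x, s x ≠ w ↔ x ≠ w := fun x => by
        rw [← show s w = w from hs.2, s.injective.ne_iff, show s w = w from hs.2]
      have e : f ((finSuccAboveEquiv w).symm.permCongr (s.subtypePerm k)) = s := Equiv.ext fun x => by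
        by_cases c : x = w
        · rw [c, show s w = w from hs.2]
          exact Perm.extendDomain_apply_not_subtype _ _ (by simp)
        · exact (Perm.extendDomain_apply_subtype _ (finSuccAboveEquiv w) c).trans (by simp)
      exact ⟨_, (Perm.sign_extendDomain _ _).symm.trans ((congrArg _ e).trans hs.1), e⟩
  exact ⟨(MulEquiv.subgroupCongr e.symm).trans
    (equivMapOfInjective _ _ (Perm.extendDomainHom_injective _)).symm⟩

end Perm

section SL

variable {F : Type} [Field F] [Fintype F] {g : SL(2, F)}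

theorem mem_Nm_uH : g ∈ Nm((uH F).range) ↔ g 1 0 = 0 := by
  refine ⟨fun h => ?_, fun h => ?_⟩
  · obtain ⟨t, e⟩ := mem_uH.1 (conj_mem_of_mem_normalizer h (mem_uH.2 ⟨1, rfl⟩))
    have := conj_uu_10 g 1
    rw [← e] at this
    simpa [uu_coe] using this
  · obtain ⟨a, t, rfl⟩ := eq_dd_uu h
    refine mul_mem (mem_normalizer_of_conj_mem ?_) (le_normalizer (mem_uH.2 ⟨t, rfl⟩))
    rintro _ ⟨s, rfl⟩
    exact mem_uH.2 ⟨_, (dd_conj_uu a _).symm⟩

theorem bor_max (X : Subgroup SL(2, F)) (h : Nm((uH F).range) ≤ X) :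
    X ≤ Nm((uH F).range) ∨ X = ⊤ := by
  refine or_iff_not_imp_left.2 fun e => top_unique fun s _ => ?_
  obtain ⟨g, hg, e⟩ := SetLike.not_le_iff_exists.1 e
  rw [mem_Nm_uH] at e
  by_cases e' : s 1 0 = 0
  · exact h (mem_Nm_uH.2 e')
  have k := h (mem_Nm_uH.2 ((bruhat_10 g s (g 0 0 / g 1 0 - s 0 0 / s 1 0)).trans (by field_simp; ring)))
  exact (mul_mem_cancel_left (mul_mem (inv_mem hg) (h (le_normalizer (mem_uH.2 ⟨_, rfl⟩))))).1 k

theorem SF.eq_dd {p n : ℕ} [Fact p.Prime] (h : SF F) (hF : Fintype.card F = p ^ n)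
    (h1 : g ∈ commutator SL(2, F)) (h2 : g ∈ Nm((uH F).range)) :
    g ∈ center SL(2, F) ∧ g * g = 1 := by
  obtain ⟨a, t, rfl⟩ := eq_dd_uu (mem_Nm_uH.1 h2)
  have c : dd a ∈ center SL(2, F) ∧ dd a * dd a = 1 := by
    rcases (h a).resolve_left a.ne_zero with e | e
    · rw [Units.val_eq_one.1 e, dd_one]
      exact ⟨one_mem _, one_mul _⟩
    · obtain rfl : a = -1 := Units.ext e
      refine ⟨mem_center_iff.2 fun g => ?_, by rw [dd_mul, neg_mul_neg, one_mul, dd_one]⟩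
      ext i j
      fin_cases i <;> fin_cases j <;> simp [dd_coe, Matrix.mul_apply, Fin.sum_univ_two]
  have e := h.pow_eq hF h1
  rw [Commute.mul_pow (mem_center_iff.1 c.1 _).symm, pow_succ (uu t), uu_pow_char hF, one_mul,
    dd_pow] at e
  have := congrArg (fun g : SL(2, F) => g 0 1) e
  simp [dd_coe, uu_coe, Matrix.mul_apply, Fin.sum_univ_two] at this
  rwa [this, uu_zero, mul_one]

end SL

variable {G : Type*} [Group G] {p : ℕ} {T T' E X C : Subgroup G} {P : Type*} [Group P]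

theorem Cz_le_cs : Cz(OZ p T) ≤ cStarOf p T := le_sup_left

theorem T_le_cs : T ≤ cStarOf p T := (le_Cz_OZ T).trans Cz_le_cs

theorem B_le_cs : BB p T ≤ cStarOf p T := (CfH8.B_le T).trans T_le_cs

theorem Nm_le_cs (h1 : C ≤ BB p T) (h2 : C ≠ ⊥) (h3 : (C.subgroupOf (BB p T)).Characteristic) :
    Nm(C) ≤ cStarOf p T :=
  (le_iSup (fun C : {C : Subgroup G // C ≤ BB p T ∧ C ≠ ⊥ ∧ (C.subgroupOf (BB p T)).Characteristic} =>
    Nm((C : Subgroup G))) ⟨C, h1, h2, h3⟩).trans le_sup_right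

theorem cs_le (h1 : Cz(OZ p T) ≤ X) (h2 : ∀ C, C ≤ BB p T → C ≠ ⊥ →
    (C.subgroupOf (BB p T)).Characteristic → Nm(C) ≤ X) : cStarOf p T ≤ X :=
  sup_le h1 (iSup_le fun C => h2 C C.2.1 C.2.2.1 C.2.2.2)

theorem NmB_le_cs (h : BB p T ≠ ⊥) : Nm(BB p T) ≤ cStarOf p T :=
  Nm_le_cs le_rfl h (by rw [subgroupOf_self]; infer_instance)

/-- preimage as an ambient subgroup -/
abbrev prim (π : X →* P) (L : Subgroup P) : Subgroup G := (L.comap π).map X.subtype

theorem mem_prim {π : X →* P} {L : Subgroup P} {x : X} : (x : G) ∈ prim π L ↔ π x ∈ L :=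
  mem_map_iff_mem X.subtype_injective

theorem le_prim {π : X →* P} {L : Subgroup P} {A : Subgroup G} (hA : A ≤ X) (h : im π A ≤ L) :
    A ≤ prim π L := fun a ha => mem_prim.2 (h (mem_im (x := ⟨a, hA ha⟩) ha))

theorem isPGroup_prim {π : X →* P} (ker : ∀ x : X, π x = 1 ↔ (x : G) ∈ C)
    (hk : IsPGroup p (X ⊓ C : Subgroup G)) {L : Subgroup P} (hL : IsPGroup p L) :
    IsPGroup p (prim π L) :=
  (hL.comap_of_ker_isPGroup π ((isPGroup_subgroupOf hk X).to_le fun x hx =>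
    mi x.2 ((ker x).1 hx))).map _

theorem mem_Nm_prim {π : X →* P} {L : Subgroup P} {x : X} (h : π x ∈ Nm(L)) :
    (x : G) ∈ Nm(prim π L) := le_normalizer_map X.subtype ⟨x, le_normalizer_comap π h, rfl⟩

variable [Finite G] [hp : Fact p.Prime]

theorem Cz_le_cs' (hT : SylIn p T ⊤) (hT' : SylIn p T' ⊤) (e : BB p T' = BB p T) (h : BB p T ≠ ⊥) :
    Cz(OZ p T') ≤ cStarOf p T := by
  obtain ⟨g, -, rfl⟩ := hT.conj hT'
  rw [← cj_OZ, ← cj_centralizer]
  exact cj_le_of_mem Cz_le_cs (NmB_le_cs h (mem_normalizer_iff_cj.2 ((CfH8.cj_B g T).trans e)))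

theorem BK.B_ne (h : BK p T E) : BB p T ≠ ⊥ := fun e =>
  h.ne_bot (by rw [← h.com, e, commutator_bot_right])

theorem BK.kp (h : BK p T E) (hT : IsPGroup p T) :
    IsPGroup p ((E ⊔ BB p T) ⊓ Cz(bV p E) : Subgroup G) :=
  isPGroup_of_pResidualOf_le (isPGroup_pCoreOf E) ((le_inf (pResidualOf_le_of_le_sup
    (isPGroup_B hT) h.B_le_Nm inf_le_left) ((pResidualOf_le _).trans inf_le_right)).trans h.inf_Cz.le)

theorem BK.nH (h : BK p T E) : E ⊔ BB p T ≤ Nm(E) := sup_le le_normalizer h.B_le_Nm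

section

variable {τ : (E ⊔ BB p T : Subgroup G) →* P}

theorem BLK.nb (h : BLK p T E) (ker : ∀ x, τ x = 1 ↔ (x : G) ∈ Cz(bV p E))
    {x : (E ⊔ BB p T : Subgroup G)} (hx : τ x ∈ Nm(im τ (BB p T))) : (x : G) ∈ cStarOf p T := by
  have := CfH8.Nm_le_Nm_B (p := p) _ (mem_Nm_prim hx)
  rw [B_eq_of_B_le h.syl (isPGroup_prim ker (h.bk.kp h.syl.pgrp)
    (isPGroup_im (isPGroup_B h.syl.pgrp))) (le_prim le_sup_right le_rfl)] at this
  exact NmB_le_cs h.bk.B_ne this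

theorem BK.le_sup_Q (h : BK p T E) (ker : ∀ x, τ x = 1 ↔ (x : G) ∈ Cz(bV p E)) {A B : Subgroup G}
    (hA : A ≤ E) (hB : B ≤ E) (e : im τ A ≤ im τ B) : A ≤ B ⊔ pCoreOf p E := fun a ha => by
  obtain ⟨b, hb, e⟩ := e (mem_im (x := ⟨a, mem_sup_left (hA ha)⟩) ha)
  rw [← mul_inv_cancel_left (b : G) a]
  exact mul_mem_sup hb (h.mem_Q (mul_mem (inv_mem (hB hb)) (hA ha))
    ((ker (b⁻¹ * ⟨a, mem_sup_left (hA ha)⟩)).1 (by rw [map_mul, map_inv, e, inv_mul_cancel])))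

theorem BK.exists_phi (h : BK p T E) (ker : ∀ x, τ x = 1 ↔ (x : G) ∈ Cz(bV p E)) :
    ∃ φ : E ⧸ pCore p E →* P, Function.Injective φ ∧ ∀ A : Subgroup G, A ≤ E →
      ((A.subgroupOf E).map (QuotientGroup.mk' (pCore p E))).map φ = im τ A := by
  have k : ∀ x : E, τ (inclusion le_sup_left x) = 1 ↔ x ∈ pCore p E := fun x =>
    (ker _).trans (⟨fun e => h.mem_Q x.2 e, fun e => Q_le_Cz_bV E e⟩ : (x : G) ∈ Cz(bV p E) ↔
      (x : G) ∈ pCoreOf p E) |>.trans (mem_map_iff_mem E.subtype_injective)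
  refine ⟨QuotientGroup.lift _ (τ.comp (inclusion le_sup_left)) fun x hx => (k x).2 hx,
    (injective_iff_map_eq_one _).2 fun x hx => ?_, fun A hA => le_antisymm ?_ ?_⟩
  · obtain ⟨x, rfl⟩ := QuotientGroup.mk_surjective x
    exact (QuotientGroup.eq_one_iff _).2 ((k x).1 hx)
  · rintro _ ⟨_, ⟨x, hx, rfl⟩, rfl⟩
    exact ⟨inclusion le_sup_left x, hx, rfl⟩
  · rintro _ ⟨x, hx, rfl⟩
    exact ⟨_, ⟨⟨x, hA hx⟩, hx, rfl⟩, rfl⟩

end

theorem BLK.imB {Z : Type*} [AddCommGroup Z] [DistribMulAction P Z] [Finite P] [Finite Z]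
    [FaithfulSMul P Z] {R S' S : Subgroup P} {Y : AddSubgroup Z}
    {D : MD R Y (E ⊔ BB p T) (bV p E) (bV0 p E)} (h : BLK p T E) (b : BD p D E S' S) :
    im D.ρ (BB p T) = im D.ρ (JJ p T) ∧ Off Z p (im D.ρ (BB p T)) ∧ im D.ρ (E ⊔ BB p T) = S ∧
      im D.ρ (BB p T) ≠ ⊥ := by
  have l := (CfH8.J_le_B T).trans (le_sup_right : _ ≤ E ⊔ BB p T)
  have e : im D.ρ (BB p T) = im D.ρ (JJ p T) := le_antisymm ((im_le_im_iff b.ker le_sup_right l).2
    fun x hx => b.fix h.syl.pgrp h.V_le_T l (mem_sup_right hx) ((isPGroup_B h.syl.pgrp).to_le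
      (zpowers_le.2 hx)) (B_le_Cz_inf (elemAb_bV E) h.V_le_T hx)) (im_mono (CfH8.J_le_B T))
  refine ⟨e, e ▸ b.off_J h.syl.pgrp h.V_le_T l, ?_, fun e' => h.bk.not_J_le h.syl
    ((im_eq_bot_iff b.ker l).1 (e.symm.trans e'))⟩
  rw [← b.im_sup_J h.V_le_T l (h.bk.not_J_le h.syl), im_sup le_sup_left le_sup_right,
    im_sup le_sup_left l, e]

/-- `E B(T)` modulo `C(V)` with a maximal subgroup whose preimage lies in `C*(G,T)` -/
structure TD (p : ℕ) (T E : Subgroup G) (τ : (E ⊔ BB p T : Subgroup G) →* P) (S Y : Subgroup P) :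
    Prop where
  surj : Function.Surjective τ
  ker : ∀ x, τ x = 1 ↔ (x : G) ∈ Cz(bV p E)
  imE : im τ E = S
  max : ∀ X : Subgroup P, Y ≤ X → X ≤ Y ∨ X = ⊤
  low : ∀ x, τ x ∈ Y → (x : G) ∈ cStarOf p T
  cm : ∀ A, MaxEl p A T → ¬ A ≤ Cz(bV p E) → S ≤ ⁅S, im τ A⁆

namespace TD

variable {τ : (E ⊔ BB p T : Subgroup G) →* P} {S Y : Subgroup P}

theorem mx (t : TD p T E τ S Y) (h1 : cStarOf p T ⊓ (E ⊔ BB p T) ≤ X) (h2 : X ≤ E ⊔ BB p T) :
    X ≤ cStarOf p T ∨ E ≤ X := by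
  refine (t.max (im τ X) fun y hy => ?_).imp (fun e x hx => t.low ⟨x, h2 hx⟩ (e (mem_im hx)))
    fun e => ((im_le_im_iff t.ker le_sup_left h2).1 (le_top.trans e.ge)).trans (sup_le le_rfl
      fun x hx => h1 (mi (t.low ⟨x, hx.1⟩ (((t.ker ⟨x, hx.1⟩).2 hx.2).symm ▸ one_mem _)) hx.1))
  obtain ⟨x, rfl⟩ := t.surj y
  exact mem_im (h1 (mi (t.low x hy) x.2))

theorem im_eq (t : TD p T E τ S Y) (h : ¬ E ≤ cStarOf p T) : im τ (cStarOf p T ⊓ E) = S ⊓ Y := by
  refine le_antisymm (le_inf ((im_mono inf_le_right).trans t.imE.le) ((im_mono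
    (inf_le_inf_left _ le_sup_left)).trans ((t.max (im τ (cStarOf p T ⊓ (E ⊔ BB p T))) fun y hy => ?_).resolve_right fun e => h ?_))) ?_
  · obtain ⟨x, rfl⟩ := t.surj y
    exact mem_im (mi (t.low x hy) x.2)
  · exact ((im_le_im_iff t.ker le_sup_left inf_le_right).1 (le_top.trans e.ge)).trans (sup_le inf_le_left
      fun x hx => t.low ⟨x, hx.1⟩ (((t.ker ⟨x, hx.1⟩).2 hx.2).symm ▸ one_mem _))
  · rintro _ ⟨h1, h2⟩
    obtain ⟨x, hx, rfl⟩ := t.imE.ge h1
    exact mem_im (mi (t.low x h2) hx)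

theorem comm (t : TD p T E τ S Y) (h : BK p T E) {A : Subgroup G} (hA : MaxEl p A T)
    (hn : ¬ A ≤ Cz(bV p E)) : E ≤ ⁅E, A⁆ := by
  have l := hA.le_J.trans (CfH8.J_le_B T)
  refine h.le_of_le_sup (isPGroup_pCoreOf E) ((pCoreOf_le E).trans (left_le_Nm_comm _ _))
    (h.le_sup_Q t.ker le_rfl (comm_le_left (l.trans h.B_le_Nm)) ?_)
  rw [im_comm le_sup_left (l.trans le_sup_right), t.imE]
  exact t.cm A hA hn

end TD

theorem LinB.td {F : Type} [Field F] [Fintype F] (l : LinB p E F) (h : BLK p T E) :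
    ∃ τ, TD p T E τ (commutator SL(2, F)) Nm((uH F).range) ∧ im τ (BB p T) = (uH F).range := by
  obtain ⟨n, hF⟩ := l.card
  obtain ⟨R, D, b⟩ := l.bd h.bk (X := E ⊔ BB p T) le_sup_left (h.bk.nH.trans (Nm_le_Nm_bV E))
    (Or.inl h.bk.nH)
  obtain ⟨-, o, e, ne⟩ := h.imB b
  have m := lm_slN (F := F)
  obtain ⟨s, hs⟩ := (m.off hF o.el o.eq.ge).resolve_left ne
  let σ := (slN F).comp (MulAut.conj s).toMonoidHom
  have inj : Function.Injective σ := m.inj.comp (MulAut.conj s).injective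
  have r : ∀ x, D.ρ x ∈ σ.range := fun x => by
    obtain ⟨g, hg⟩ := e.le (mem_im x.2)
    exact ⟨s⁻¹ * g * s, by simp [σ, ← hg, mul_assoc]⟩
  let τ := (MonoidHom.ofInjective inj).symm.toMonoidHom.comp (D.ρ.codRestrict _ r)
  have k : σ.comp τ = D.ρ := MonoidHom.ext fun x => MonoidHom.apply_ofInjective_symm inj _
  have k' : ∀ (A : Subgroup G) (X : Subgroup SL(2, F)), im D.ρ A = (cj s X).map (slN F) →
      im τ A = X := fun A X e => map_injective inj (by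
    rw [im, Subgroup.map_map, k]
    exact e.trans (Subgroup.map_map _ _ _))
  have eB := k' _ _ (hs.trans (map_cj _ _ _).symm)
  have eE := k' _ (commutator SL(2, F)) (by rw [cj_normal]; exact b.im)
  have ker : ∀ x, τ x = 1 ↔ (x : G) ∈ Cz(bV p E) := fun x => by
    rw [← b.ker, ← k, ← map_eq_one_iff _ inj]; rfl
  refine ⟨τ, ⟨fun g => ?_, ker, eE, bor_max, fun x hx => h.nb ker (eB ▸ hx), fun A hA hn => ?_⟩, eB⟩
  · obtain ⟨x, -, e⟩ := (k' _ ⊤ (by rw [cj_top, e, MonoidHom.range_eq_map])).ge (mem_top g)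
    exact ⟨x, e⟩
  · have lA := hA.le_J.trans (CfH8.J_le_B T)
    have o' := (b.off_maxEl hA h.V_le_T (lA.trans le_sup_right)).1
    obtain ⟨s', hs'⟩ := (m.off hF o'.el o'.eq.ge).resolve_left fun e =>
      hn ((im_eq_bot_iff b.ker (lA.trans le_sup_right)).1 e)
    rw [k' A _ ((eq_of_le_of_card_ge (im_mono lA) (by rw [hs, hs', card_cj, card_cj])).trans
      (hs.trans (map_cj _ _ _).symm)), ← eB, ← eE, ← im_comm le_sup_left le_sup_right, h.bk.com]

theorem SymB.td {m : ℕ} (l : SymB E m) (h : BLK 2 T E) (sE : E.IsSubnormal) :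
    ∃ τ, ∃ w : Fin (2 * m + 1), TD 2 T E τ (alternatingGroup (Fin (2 * m + 1))) (MulAction.stabilizer _ w) := by
  obtain ⟨R, D, b⟩ := l.bd h.bk (X := E ⊔ BB 2 T) le_sup_left (h.bk.nH.trans (Nm_le_Nm_bV E))
    (Or.inl h.bk.nH)
  obtain ⟨eJ, o, e, ne⟩ := h.imB b
  set L := im D.ρ (BB 2 T)
  have pg : ∀ X : Subgroup (Perm (Fin (2 * m + 1))), IsPGroup 2 X → IsPGroup 2 (prim D.ρ X) := fun X =>
    isPGroup_prim b.ker (h.bk.kp h.syl.pgrp)
  have lift : ∀ s ∈ alternatingGroup (Fin (2 * m + 1)), ∃ x : (E ⊔ BB 2 T : Subgroup G),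
      (x : G) ∈ E ∧ D.ρ x = s := fun s hs => b.im.ge hs
  obtain ⟨w, hw⟩ := (elemAb_isPGroup o.el).nonempty_fixed_point_of_prime_not_dvd_card
    (Fin (2 * m + 1)) (by simp)
  replace hw : ∀ s ∈ L, s w = w := fun s hs => hw ⟨s, hs⟩
  have fx : ∀ {c}, (∀ s ∈ L, s c = c) → ∀ j, c ≠ j → swap c j ∉ L := fun hc j h1 h2 =>
    h1 ((swap_apply_left _ j).symm.trans (hc _ h2)).symm
  have pr : ∀ c, c ≠ w → ∃ d, c ≠ d ∧ d ≠ w ∧ swap c d ∈ L := fun c hc => by
    by_cases k : ∀ s ∈ L, s c = c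
    · obtain ⟨a, a', aa, ha⟩ := o.exists_swap ne
      have n : ∀ {c}, (∀ s ∈ L, s c = c) → c ≠ a ∧ c ≠ a' := fun hc =>
        ⟨by rintro rfl; exact fx hc _ aa ha, by rintro rfl; exact fx hc _ aa.symm (swap_comm a _ ▸ ha)⟩
      obtain ⟨x, -, hx⟩ := lift _ (dbl_mem_alt (n k).1.symm (n hw).2.symm)
      have k1 := o.cj_dbl ha aa hc (n k).1 (n k).2 (n hw).1 (n hw).2
        (fun j h1 h2 => (fx k j h1 h2).elim) fun j h1 h2 => (fx hw j h1 h2).elim
      have k2 := pg _ (elemAb_isPGroup (elemAb_sup o.el (CfH8.elemAb_zpowers (p := 2)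
        (x := swap c w) (by simp [sq])) fun s hs => by
          rw [Cz_zpowers, mem_centralizer_singleton_iff, mul_swap_eq_swap_mul, k s hs, hw s hs]))
      have lJ := (CfH8.J_le_B T).trans (le_sup_right : _ ≤ E ⊔ BB 2 T)
      have k3 := J_eq_of_J_le' (h.syl.cj_top x) k2 (by
        rw [← CfH8.cj_J]
        exact le_prim (cj_le_of_mem lJ x.2) (by rw [im_cj, hx, ← eJ]; exact k1))
      rw [J_eq_of_J_le' h.syl k2 (le_prim lJ (eJ.ge.trans le_sup_left)), ← CfH8.cj_J] at k3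
      have k4 := conj_mem_cj (D.ρ x) ha
      obtain ⟨e1, e2, -, -⟩ := dbl_apply aa hc (n k).1 (n k).2 (n hw).1 (n hw).2
      rw [eJ, ← im_cj, ← k3, ← eJ, ← swap_apply_apply, hx, e1, e2] at k4
      exact (fx k _ hc k4).elim
    · push Not at k
      obtain ⟨s, hs, k⟩ := k
      exact ⟨s c, k.symm, fun e => hc (s.injective (e.trans (hw s hs).symm)), o.swap_mem hs k⟩
  have lB : L ≤ im D.ρ (cStarOf 2 T) := im_mono B_le_cs
  have sw : ∀ a c, a ≠ c → a ≠ w → c ≠ w → swap a c ∈ im D.ρ (cStarOf 2 T) := by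
    intro a c ac aw cw
    obtain ⟨a', aa, -, ha⟩ := pr a aw
    obtain ⟨c', cc, -, hc⟩ := pr c cw
    by_cases e1 : c = a'
    · exact lB (e1 ▸ ha)
    have n1 : c' ≠ a := by
      rintro rfl
      exact e1 (o.pair ha (swap_comm c _ ▸ hc) aa ac)
    have n2 : c' ≠ a' := by
      rintro rfl
      exact ac (o.pair (swap_comm c _ ▸ hc) (swap_comm a _ ▸ ha) cc.symm aa.symm)
    have k1 := (o.cj_dbl ha aa cc ac.symm e1 n1 n2 (fun j h1 h2 => o.pair hc h2 cc h1)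
      fun j h1 h2 => o.pair (swap_comm c _ ▸ hc) h2 cc.symm h1).trans
      (sup_le le_rfl (zpowers_le.2 hc))
    obtain ⟨f1, f2, f3, f4⟩ := dbl_apply aa cc ac.symm e1 n1 n2
    have k2 := pg _ ((elemAb_isPGroup o.el).to_sup_of_normal_left' (elemAb_isPGroup
      (CfH8.elemAb_zpowers (p := 2) (x := swap a c * swap a' c') (by
        rw [sq, mul_assoc, ← mul_assoc (swap a' c'), mul_swap_eq_swap_mul (swap a' c'),
          swap_apply_of_ne_of_ne aa n1.symm, swap_apply_of_ne_of_ne e1 cc]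
        simp))) (zpowers_le.2 (mem_normalizer_of_cj_le k1)))
    obtain ⟨T', hT', lT⟩ := exists_sylIn_ge k2 le_top
    have eB := B_eq_of_B_le h.syl hT'.pgrp ((le_prim le_sup_right le_sup_left).trans lT)
    obtain ⟨x₁, x1, e1'⟩ := lift _ (dbl_mem_alt ac n2.symm)
    obtain ⟨x₂, x2, e2'⟩ := lift _ (dbl_mem_alt aa cc)
    have t := Perm.isThreeCycle_swap_mul_swap_same aa ac (Ne.symm e1)
    obtain ⟨y₀, y0, e0⟩ := lift _ t.mem_alternatingGroup
    obtain ⟨y, hy, cop, ey⟩ := exists_p'el (p := 2) D.ρ y₀ (by rw [e0, t.orderOf]; decide)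
    have yE : (y : G) ∈ E := (zpowers_le.2 (mem_subgroupOf.2 y0) : _ ≤ E.subgroupOf _) hy
    have sE' := subnIn_top_iff.2 sE
    have ch := chP_top_iff.2 h.chp
    have lV : OZ 2 (T' ⊓ E) ≤ bV 2 E := (OZ_le_OZ_pCoreOf (sE'.charP ch) (sE'.sylIn_inf hT')).trans
      (l.exc.ge.trans (BLK.Q_eq_V h.bk l.exc).le)
    have nV := (le_normalizer (H := E)).trans (Nm_le_Nm_bV (p := 2) E)
    have nV0 := (le_normalizer (H := E)).trans (Nm_le_Nm_bV0 (p := 2) E)
    have k3 : (y : G) ∈ Cz(OZ 2 (T' ⊓ E)) := by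
      refine Cz_anti (le_inf lV fun u hu => mem_secCz_zpowers (nV0 yE) (nV0 (bV_le' E (lV hu))) ?_)
        (mem_Cz_of_coprime (P := bV 2 E ⊓ secCz (zpowers (y : G)) (bV0 2 E)) (M := bV0 2 E)
        (isPGroup_bV E).to_inf_left (le_normalizer_inf (zpowers_le.2 (nV yE)) (le_Nm_secCz
          le_normalizer (zpowers_le.2 (nV0 yE))) (mem_zpowers _)) (by simpa using cop)
        ((commutator_comm _ _).le.trans (commutator_le_of_le_secCz inf_le_right))
        (le_Cz_comm inf_le_right yE))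
      have f : ∀ x : (E ⊔ BB 2 T : Subgroup G), (x : G) ∈ E → D.ρ x ∈ L ⊔ zpowers (swap a c * swap a' c') →
          ∀ i, D.c u (D.ρ x i) = D.c u i := fun x h1 h2 i => by
        have := D.act x u (lV hu)
        rw [conj_eq_of_mem_centralizer (le_Cz_OZ _ (mi (lT (mem_prim.2 h2)) h1)) hu] at this
        rw [this, pv_smul, ← this, Perm.inv_def, symm_apply_apply]
      have g1 := f x₁ x1 (e1' ▸ mem_sup_right (mem_zpowers _)) a
      have g2 := f x₂ x2 (e2' ▸ mem_sup_left (mul_mem ha hc)) a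
      rw [e1', f1] at g1
      rw [e2', Perm.mul_apply, swap_apply_of_ne_of_ne ac n1.symm, swap_apply_left] at g2
      rw [← D.c_zero _ (commutator_mem_right (lV hu) (nV yE)), D.c_comm y (lV hu), ey, e0, mul_smul,
        swap_smul_eq_iff.2 g1.symm, swap_smul_eq_iff.2 g2.symm, sub_self]
    have k4 := mem_im (π := D.ρ) (Cz_le_cs' h.syl hT' eB h.bk.B_ne
      ((kieler ch hT' sE').ge (mi yE k3)).2)
    rw [ey, e0] at k4
    exact (mul_mem_cancel_left (lB ha)).1 k4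
  refine ⟨D.ρ, w, fun g => ?_, b.ker, b.im, stab_max w, fun x hx => ?_, fun A hA hn => ?_⟩
  · obtain ⟨x, -, e⟩ := e.ge (mem_top g)
    exact ⟨x, e⟩
  · replace hx : D.ρ x w = w := hx
    refine sup_le (le_refl (cStarOf 2 T)) (b := (E ⊔ BB 2 T) ⊓ Cz(bV 2 E))
      (fun y hy => h.nb b.ker (x := ⟨y, hy.1⟩) ?_) (mem_sup_of_mem_im b.ker
      (mem_of_swaps fun i hi => sw _ _ hi.symm (fun e => hi (e ▸ hx))
        fun e => hi (by rw [(D.ρ x).injective (e.trans hx.symm), hx])))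
    rw [(b.ker ⟨y, hy.1⟩).2 hy.2]
    exact one_mem _
  · have lA := (hA.le_J.trans (CfH8.J_le_B T)).trans (le_sup_right : _ ≤ E ⊔ BB 2 T)
    obtain ⟨a, a', aa, ha⟩ := (b.off_maxEl hA h.V_le_T lA).1.exists_swap fun e =>
      hn ((im_eq_bot_iff b.ker lA).1 e)
    exact alt_le_comm l.ne aa ha

end CfH7
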