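import Cfsg.Agent.OD.Pre
import Cfsg.Agent.H7.Blk15

/-! The block structure. -/

set_option autoImplicit false
set_option linter.unusedSectionVars false

open Cfsg Subgroup CfH9 CfLp Equiv
open scoped commutatorElement MatrixGroups

namespace CfH7

open CfH8 (BB JJ MaxEl)

theorem card_comm_two {F : Type} [Field F] [Fintype F] (hF : Fintype.card F = 2) :
    Nat.card (commutator SL(2, F)) = 3 := by
  have hF' : Fintype.card F = 2 ^ 1 := hF
  have e : commutator SL(2, F) ⊓ (uH F).range = ⊥ := le_bot_iff.1 fun g hg => by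
    have := (sf_of_card (by omega)).pow_eq hF' hg.1
    obtain ⟨t, rfl⟩ := mem_uH.1 hg.2
    rwa [pow_succ, uu_pow_char hF', one_mul] at this
  have := card_sup_mul_card_inf (le_Nm_normal (uH F).range (commutator SL(2, F)))
  rw [sup_comm, inf_comm, e, ← cj_one (uH F).range, comm_sup_cj, card_cj, card_uH, card_top,
    CfH3.card_SL2 rfl, hF, card_bot] at this
  omega

theorem mem_center_of_comm {F : Type} [Field F] [Fintype F] {n : ℕ} (hF : Fintype.card F = 3 ^ n)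
    {g : SL(2, F)} (h : g ∈ Cz(commutator SL(2, F))) : g ∈ center SL(2, F) :=
  mem_center_iff.2 fun l => by_contra fun e => by
    have w := ww_mem_comm hF
    have := congrArg (fun g : SL(2, F) => g 0 1) (comm_of_nonscalar (h _ w).symm
      (h _ (Subgroup.Normal.conj_mem inferInstance _ w (uu 1))).symm (Ne.symm e))
    simp only [Matrix.SpecialLinearGroup.coe_mul, uu_inv] at this
    simp [ww, uu_coe, Matrix.mul_apply, Fin.sum_univ_two] at this
    exact two_ne_of_card hF (by linear_combination this)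

variable {G : Type*} [Group G] [Finite G] {p : ℕ} [hp : Fact p.Prime] {T T' E X : Subgroup G}

namespace TD

variable {P : Type*} [Group P] {τ : (E ⊔ BB p T : Subgroup G) →* P} {S Y : Subgroup P}

theorem phi (t : TD p T E τ S Y) (h : BK p T E) (hn : ¬ E ≤ cStarOf p T) :
    ∃ φ : E ⧸ pCore p E →* P, Function.Injective φ ∧ (⊤ : Subgroup _).map φ = S ∧
      (((cStarOf p T ⊓ E).subgroupOf E).map (QuotientGroup.mk' (pCore p E))).map φ = S ⊓ Y := by
  obtain ⟨φ, h1, h2⟩ := h.exists_phi t.ker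
  refine ⟨φ, h1, ?_, (h2 _ inf_le_right).trans (t.im_eq hn)⟩
  rw [← t.imE, ← h2 _ le_rfl, subgroupOf_self, map_top_of_surjective _ (QuotientGroup.mk'_surjective _)]

theorem quot (t : TD p T E τ S Y) (h : BK p T E) (hn : ¬ E ≤ cStarOf p T) :
    Nonempty (E ⧸ pCore p E ≃* S) ∧ Nonempty (((cStarOf p T ⊓ E).subgroupOf E).map
      (QuotientGroup.mk' (pCore p E)) ≃* (S ⊓ Y : Subgroup P)) := by
  obtain ⟨φ, h1, h2, h3⟩ := t.phi h hn
  exact ⟨⟨topEquiv.symm.trans ((equivMapOfInjective _ _ h1).trans (MulEquiv.subgroupCongr h2))⟩,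
    ⟨(equivMapOfInjective _ _ h1).trans (MulEquiv.subgroupCongr h3)⟩⟩

end TD

theorem BLK.Q_le_R (sE : E.IsSubnormal) : pCoreOf p E ≤ pCore p G :=
  pCoreOf_le_pCore_of_subnormal sE

theorem BLK.seven (h : BLK p T E) (sE : E.IsSubnormal) (hn : ¬ E ≤ cStarOf p T) :
    (∃ (F : Type) (_ : Field F) (_ : Fintype F) (m : ℕ), 3 < p ^ m ∧ Fintype.card F = p ^ m ∧
      Nonempty (E ⧸ pCore p E ≃* SL(2, F)) ∧ cStarOf p T ⊓ E = E ⊓ Nm(T ⊓ E)) ∨
    (p = 2 ∧ ∃ m : ℕ, Nonempty (E ⧸ pCore p E ≃* alternatingGroup (Fin (2 * m + 1))) ∧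
      Nonempty (((cStarOf p T ⊓ E).subgroupOf E).map (QuotientGroup.mk' (pCore p E)) ≃*
        alternatingGroup (Fin (2 * m)))) ∨
    (p = 3 ∧ Nonempty (E ⧸ pCore p E ≃* commutator SL(2, ZMod 3)) ∧
      ((cStarOf p T ⊓ E).subgroupOf E).map (QuotientGroup.mk' (pCore p E)) =
        center (E ⧸ pCore p E)) := by
  obtain ⟨F, _, _, l⟩ | ⟨rfl, m, l⟩ := blk_kind h.blk
  swap
  · obtain ⟨τ, w, t⟩ := l.td h sE
    obtain ⟨e1, ⟨e2⟩⟩ := t.quot h.bk hn
    exact Or.inr (Or.inl ⟨rfl, m, e1, ⟨e2.trans (stab_alt w).some⟩⟩)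
  obtain ⟨τ, t, eB⟩ := l.td h
  obtain ⟨n, hF⟩ := l.card
  obtain ⟨⟨e1⟩, ⟨e2⟩⟩ := t.quot h.bk hn
  by_cases s : SF F
  · obtain ⟨c, rfl | rfl⟩ := s.card_eq hF
    · refine Or.inr (Or.inl ⟨rfl, 1, ⟨e1.trans (mulEquivOfPrimeCardEq (p := 3) (card_comm_two c)
        (by rw [nat_card_alternatingGroup]; simp; rfl))⟩, ⟨e2.trans ?_⟩⟩)
      have : commutator SL(2, F) ⊓ Nm((uH F).range) = ⊥ := le_bot_iff.1 fun g hg => by
        have := s.pow_eq hF hg.1
        rwa [pow_succ, sq, (s.eq_dd hF hg.1 hg.2).2, one_mul] at this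
      rw [this]
      haveI : Subsingleton (alternatingGroup (Fin (2 * 1))) :=
        (Nat.card_eq_one_iff_unique.1 (by rw [nat_card_alternatingGroup]; simp)).1
      letI := uniqueOfSubsingleton (1 : alternatingGroup (Fin (2 * 1)))
      exact MulEquiv.ofUnique
    · let e := slEquiv (ZMod.ringEquivOfPrime F Nat.prime_three c)
      refine Or.inr (Or.inr ⟨rfl, ⟨e1.trans ((e.subgroupMap _).trans
        (MulEquiv.subgroupCongr (map_comm_equiv e))).symm⟩, ?_⟩)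
      obtain ⟨φ, h1, h2, h3⟩ := t.phi h.bk hn
      ext x
      have k : φ x ∈ commutator SL(2, F) := h2.le ⟨x, trivial, rfl⟩
      rw [← mem_map_iff_mem h1, h3, mem_center_iff]
      refine ⟨fun e y => h1 ?_, fun e => mi k (center_le_normalizer _ (mem_center_of_comm hF
        fun y hy => ?_))⟩
      · rw [map_mul, map_mul, mem_center_iff.1 (s.eq_dd hF k e.2).1]
      · obtain ⟨y, -, rfl⟩ := h2.ge hy
        rw [← map_mul, ← map_mul, e]
  have c := comm_top_of_not_sf s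
  have eT : im τ (T ⊓ E) = (uH F).range := by
    have k := ((sylIn_subgroupOf_iff (inf_le_right.trans le_sup_left) le_sup_left).2
      ((subnIn_top_iff.2 sE).sylIn_inf h.syl)).map τ
    refine ((sylIn_uH hF).eq_of_le k.pgrp le_top (k.le_of_le_Nm' (sylIn_uH hF).pgrp
      (le_top.trans (t.imE.trans c).ge) (eB.ge.trans ?_)))
    rintro _ ⟨x, hx, rfl⟩
    rw [mem_normalizer_iff_cj, ← im_cj, cj_eq_of_mem_normalizer
      (g := (x : G)) (mem_Nm_inf (le_normalizer (CfH8.B_le T hx)) (h.bk.B_le_Nm hx))]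
  refine Or.inl ⟨F, _, _, n, hF ▸ not_le.1 fun e => s (sf_of_card e), hF,
    ⟨e1.trans ((MulEquiv.subgroupCongr c).trans topEquiv)⟩, le_antisymm (fun x hx => mi hx.2 ?_)
      fun x hx => mi (t.low ⟨x, mem_sup_left hx.1⟩ ?_) hx.1⟩
  · refine mem_normalizer_of_cj_le ((h.bk.le_sup_Q t.ker (cj_le_of_mem inf_le_right hx.2)
      inf_le_right ?_).trans (sup_le le_rfl (le_inf ((BLK.Q_le_R sE).trans (R_le_syl h.syl))
        (pCoreOf_le E))))
    rw [im_cj (⟨x, mem_sup_left hx.2⟩ : (E ⊔ BB p T : Subgroup G)), eT,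
      cj_eq_of_mem_normalizer ((t.im_eq hn).le (mem_im hx)).2]
  · rw [mem_normalizer_iff_cj, ← eT, ← im_cj, cj_eq_of_mem_normalizer hx.2]

theorem BLK.td (h : BLK p T E) (sE : E.IsSubnormal) :
    (∀ X, cStarOf p T ⊓ (E ⊔ BB p T) ≤ X → X ≤ E ⊔ BB p T → X ≤ cStarOf p T ∨ E ≤ X) ∧
      ∀ A, MaxEl p A T → ¬ A ≤ Cz(bV p E) → E ≤ ⁅E, A⁆ := by
  obtain ⟨F, _, _, l⟩ | ⟨rfl, m, l⟩ := blk_kind h.blk
  · obtain ⟨τ, t, -⟩ := l.td h
    exact ⟨fun _ => t.mx, fun _ => t.comm h.bk⟩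
  · obtain ⟨τ, w, t⟩ := l.td h sE
    exact ⟨fun _ => t.mx, fun _ => t.comm h.bk⟩

theorem BLK.maxEl_repl (h : BLK p T E) {A : Subgroup G} (hA : MaxEl p A T) :
    MaxEl p ((A ⊓ Cz(bV p E)) ⊔ bV p E) T := by
  refine hA.of_card_le (sup_le (inf_le_left.trans hA.le) h.V_le_T)
    (elemAb_sup (elemAb_of_le inf_le_left hA.el) (elemAb_bV E) inf_le_right) ?_
  have k1 := blk_noo h.blk (hA.le_J.trans h.J_le_Nm) hA.el
  rw [← card_sup_mul_card_inf (inf_le_right.trans (Cz_le_Nm _))] at k1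
  refine Nat.le_of_mul_le_mul_right ((Nat.mul_le_mul_left _ (card_le_of_le (le_inf inf_le_right
    (le_secCz (A := A ⊓ Cz(bV p E) ⊓ bV p E) (inf_le_right.trans ((bV_le' E).trans
      (le_normalizer.trans (Nm_le_Nm_bV0 E)))) ((comm_eq_bot_right.2 ((inf_le_left.trans
        inf_le_left).trans (elemAb_le_Cz hA.el))).le.trans bot_le))))).trans k1) Nat.card_pos

theorem BLK.V_le_Cz {F : Subgroup G} (h : BLK p T E) (h' : BLK p T' F) : bV p E ≤ Cz(bV p F) :=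
  (h.bk.V_le h.syl h.chp).trans (V_le_C.trans (Cz_anti (h'.bk.V_le h'.syl h'.chp)))

theorem BLK.exists_only (h : BLK p T E) (s : Set (Subgroup G))
    (hs : ∀ F ∈ s, BLK p T F ∧ F ≤ Cz(E)) :
    ∃ A, MaxEl p A T ∧ ¬ A ≤ Cz(bV p E) ∧ ∀ F ∈ s, A ≤ Cz(bV p F) := by
  induction s, s.toFinite using Set.Finite.induction_on with
  | empty =>
    have := h.bk.not_J_le h.syl
    rw [CfH8.J_le_iff] at this
    push Not at this
    exact this.imp fun A hA => ⟨hA.1, hA.2, by simp⟩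
  | @insert F s _ _ ih =>
    obtain ⟨A, h1, h2, h3⟩ := ih fun F hF => hs F (Or.inr hF)
    obtain ⟨b, c⟩ := hs F (Or.inl rfl)
    refine ⟨_, b.maxEl_repl h1, fun e => h2 (h.bk.le_Cz_of_sec0 (h1.le_J.trans h.J_le_Nm) ?_), ?_⟩
    · have n := (h1.le_J.trans b.J_le_Nm).trans (Nm_le_Nm_bV (p := p) F)
      exact (commutator_mono ((b.maxEl_repl h1).le_of_le_Cz h.V_le_T (elemAb_bV E) (le_Cz_comm e))
        le_rfl).trans ((commutator_sup_left_le (inf_le_left.trans n) le_normalizer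
          ((comm_eq_bot_left.2 (inf_le_left.trans (elemAb_le_Cz h1.el))).le.trans bot_le)
          (comm_le_left n)).trans ((bV_le' F).trans c))
    · rintro F' (rfl | hF)
      · exact sup_le inf_le_right (b.V_le_Cz b)
      · exact sup_le (inf_le_left.trans (h3 F' hF)) (b.V_le_Cz (hs F' (Or.inr hF)).1)

variable (p) in
/-- the subnormal blocks outside `C*(G,T)` -/
def SBk (T : Subgroup G) : Set (Subgroup G) :=
  {E | IsBaumannBlock p T E ∧ E.IsSubnormal ∧ ¬ E ≤ cStarOf p T}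

theorem isSubnormal_cj (h : E.IsSubnormal) (g : G) : (cj g E).IsSubnormal :=
  h.map (MulAut.conj g).surjective

theorem BLK.mem_cs (h : BLK p T E) (sE : E.IsSubnormal) (hn : ¬ E ≤ cStarOf p T)
    (s : Set (Subgroup G)) (hs : ∀ F ∈ s, BLK p T F ∧ F.IsSubnormal ∧ F ≤ Cz(E)) {e c : G}
    (he : e ∈ E) (hc : c ∈ sSup s) (hx : e * c ∈ cStarOf p T) : e ∈ cStarOf p T := by
  obtain ⟨t1, t2⟩ := h.td sE
  have cE : sSup s ≤ Cz(E) := sSup_le fun F hF => (hs F hF).2.2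
  have n : E ⊔ BB p T ≤ Nm(sSup s) := sup_le (le_Nm_of_le_Cz cE) fun b hb =>
    mem_normalizer_of_cj_le (cj_le_iff.2 (sSup_le fun F hF => cj_le_iff.1
      ((cj_eq_of_mem_normalizer ((hs F hF).1.bk.B_le_Nm hb)).le.trans (le_sSup hF))))
  refine (t1 ((E ⊔ BB p T) ⊓ ((cStarOf p T ⊓ Nm(sSup s)) ⊔ sSup s)) (le_inf inf_le_right
    ((inf_le_inf_left _ n).trans le_sup_left)) inf_le_left).resolve_right (fun k => hn ?_)
    (mi (mem_sup_left he) ((mul_mem_cancel_right (mem_sup_right hc)).1 (mem_sup_left (mi hx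
      (mul_mem (n (mem_sup_left he)) (le_normalizer hc))))))
  obtain ⟨A, h1, h2, h3⟩ := h.exists_only s fun F hF => ⟨(hs F hF).1, (hs F hF).2.2⟩
  have k1 : ⁅A, sSup s⁆ ≤ pCore p G := commutator_le_of_le_secCz (sSup_le fun F hF => le_secCz
    (le_Nm_normal _ _) (((hs F hF).1.bk.comm_le_Q (h1.le_J.trans (hs F hF).1.J_le_Nm)
      (h3 F hF)).trans (BLK.Q_le_R (hs F hF).2.1)))
  refine (t2 A h1 h2).trans (commutator_le.2 fun y hy a ha => ?_)
  obtain ⟨x, hx, c, hc, rfl⟩ := (mem_sup_of_le_Nm inf_le_right).1 (k hy).2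
  rw [comm_mul_left]
  exact mul_mem (mul_mem (mul_mem hx.1 (T_le_cs (R_le_syl h.syl (comm_mem_of_le' k1 ha hc))))
    (inv_mem hx.1)) (commutator_mem_left hx.1 (le_normalizer (T_le_cs (h1.le ha))))

section

variable (hT : SylIn p T ⊤) (hG : Cz(pCore p G) ≤ pCore p G)
include hT hG

theorem SBk.comm {F : Subgroup G} (h : E ∈ SBk p T) (h' : F ∈ SBk p T) (hne : E ≠ F) :
    ⁅E, F⁆ = ⊥ := (BLK.eq_or_comm ⟨hT, hG, h.1⟩ ⟨hT, hG, h'.1⟩ h.2.1 h'.2.1).resolve_left hne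

theorem SBk.cj (h : E ∈ SBk p T) {g : G} (hg : g ∈ cStarOf p T) : CfH9.cj g E ∈ SBk p T :=
  ⟨((BLK.cj ⟨hT, hG, h.1⟩ g).of_syl (isSubnormal_cj h.2.1 g) hT).blk, isSubnormal_cj h.2.1 g,
    fun e => h.2.2 ((cj_le_iff.1 e).trans (cj_eq_of_mem (inv_mem hg)).le)⟩

theorem SBk.le_Nm (h : E ∈ SBk p T) : sSup (SBk p T) ≤ Nm(E) := sSup_le fun F hF => by
  by_cases e : F = E
  · exact e.le.trans le_normalizer
  · exact (comm_eq_bot_left.1 (SBk.comm hT hG hF h e)).trans (Cz_le_Nm _)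

theorem cs_le_Nm : cStarOf p T ≤ Nm(sSup (SBk p T)) := fun _ hg =>
  mem_normalizer_of_cj_le (cj_le_iff.2 (sSup_le fun _ hF => cj_le_iff.1 (le_sSup (SBk.cj hT hG hF hg))))

theorem six (s : Set (Subgroup G)) (hs : s ⊆ SBk p T) :
    cStarOf p T ⊓ sSup s ≤ ⨆ E ∈ s, cStarOf p T ⊓ E := by
  induction s, s.toFinite using Set.Finite.induction_on with
  | empty => simp
  | @insert E s hE _ ih =>
    intro x hx
    have e := hs (Or.inl rfl)
    have k : ∀ F ∈ s, BLK p T F ∧ F.IsSubnormal ∧ F ≤ Cz(E) := fun F hF =>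
      ⟨⟨hT, hG, (hs (Or.inr hF)).1⟩, (hs (Or.inr hF)).2.1, comm_eq_bot_left.1
        (SBk.comm hT hG (hs (Or.inr hF)) e (by rintro rfl; exact hE hF))⟩
    obtain ⟨y, hy, c, hc, rfl⟩ := (mem_sup_of_le_Nm' ((sSup_le fun F hF => (k F hF).2.2).trans
      (Cz_le_Nm _))).1 ((sSup_insert (a := E) (s := s)).le hx.2)
    have := BLK.mem_cs ⟨hT, hG, e.1⟩ e.2.1 e.2.2 s k hy hc hx.1
    rw [iSup_insert]
    exact mul_mem_sup (mi this hy)
      (ih (fun F hF => hs (Or.inr hF)) (mi ((mul_mem_cancel_left this).1 hx.1) hc))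

theorem has_struct (h4 : cStarOf p T ⊔ sSup (SBk p T) = ⊤)
    (h5 : ∀ F, IsBaumannBlock p T F → F ≤ Cz(sSup (SBk p T)) → F ≤ cStarOf p T) :
    HasBaumannBlockStructure p T (SBk p T) := by
  refine ⟨fun E h => h.1, fun E h g => ?_, fun E h F h' => SBk.comm hT hG h h', h4, fun F h hn => ?_,
    le_antisymm (six hT hG _ le_rfl) (iSup₂_le fun E h => inf_le_inf_left _ (le_sSup h)),
    fun E h => BLK.seven ⟨hT, hG, h.1⟩ h.2.1 h.2.2⟩
  · obtain ⟨c, hc, k, hk, rfl⟩ := (mem_sup_of_le_Nm (cs_le_Nm hT hG)).1 (h4.ge (mem_top g))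
    rw [← cj_def, cj_mul, cj_eq_of_mem_normalizer (SBk.le_Nm hT hG h hk)]
    exact SBk.cj hT hG h hc
  · by_contra k
    push Not at k
    exact hn (h5 F h (le_Cz_comm (sSup_le fun E hE => comm_eq_bot_right.1
      ((BLK.le_or_comm ⟨hT, hG, hE.1⟩ hE.2.1 ⟨hT, hG, h⟩).resolve_left (k E hE)))))

end

theorem BK.not_le_Cz (h : BK p T E) : ¬ E ≤ Cz(E) := fun e => h.V_not_le ((bV_le' E).trans e)

theorem Deg.cj (h : Deg p E) (g : G) : Deg p (CfH9.cj g E) := fun m e =>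
  h m ((quot_map_iff (MulAut.conj g).injective).1 e)

theorem J_char : ((JJ p T).subgroupOf (BB p T)).Characteristic := by
  have : (JJ p T).subgroupOf (BB p T) = JJ p ⊤ := by
    rw [← map_subtype_inj, map_subgroupOf_eq_of_le (CfH8.J_le_B T),
      CfH8.map_J_of_injective _ (subtype_injective _), map_subtype_top, CfH8.J_B]
  rw [this]
  exact characteristic_iff_map_eq.2 fun e => by
    rw [CfH8.map_J_of_injective _ e.injective, map_top_equiv]

theorem pu_minimal {M : Subgroup G} (h : BS p T M) (hn : NC p T) :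
    HasBaumannBlockStructure p T (SBk p T) ∧ (∀ E ∈ SBk p T, Deg p E) ∧
      cStarOf p T = (cStarOf p T ⊓ sSup (SBk p T)) ⊔ T := by
  obtain ⟨E, b, s, n, d⟩ := h.exists_blk hn
  have cM : cStarOf p T ≤ M := cs_le h.CZ_le fun C h1 h2 h3 => h.le_M
    (le_normalizer.trans ((CfH8.Nm_le_Nm_B T).trans ((Nm_le_Nm_char (C.subgroupOf _)).trans
      (by rw [map_subgroupOf_eq_of_le h1])))) fun e => hn _ (by
        rwa [ne_eq, ← map_subtype_inj, map_subgroupOf_eq_of_le h1, Subgroup.map_bot]) h3 (by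
          rw [map_subgroupOf_eq_of_le h1]; exact normal_of_top_le_normalizer e.ge)
  have hE : E ∈ SBk p T := ⟨b, s, fun e => n (e.trans cM)⟩
  have l : nclo E T ≤ sSup (SBk p T) :=
    nclo_le_iff'.2 fun t ht => le_sSup (SBk.cj h.syl h.chp hE (T_le_cs ht))
  have e : nclo E T ⊔ T = ⊤ := h.eq_top le_sup_right fun e =>
    n ((le_nclo _ _).trans (le_sup_left.trans e))
  have k : ∀ F, IsBaumannBlock p T F → ¬ F ≤ Cz(nclo E T) := fun F hF c => (bk_of hF).not_le_Cz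
    (c.trans (Cz_anti ((bk_of hF).le_of_le_sup h.syl.pgrp (right_le_Nm_nclo _ _) (le_top.trans e.ge))))
  refine ⟨has_struct h.syl h.chp (top_unique (e.ge.trans (sup_le (l.trans le_sup_right)
    (T_le_cs.trans le_sup_left)))) fun F hF c => (k F hF (c.trans (Cz_anti l))).elim,
    fun F hF => by_contra fun c => k F hF.1 (le_Cz_comm (nclo_le_iff'.2 fun t ht =>
      comm_eq_bot_left.1 (SBk.comm h.syl h.chp (SBk.cj h.syl h.chp hE (T_le_cs ht)) hF ?_))), ?_⟩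
  · rintro rfl
    exact c (d.cj t)
  · refine le_antisymm (fun x hx => ?_) (sup_le inf_le_left T_le_cs)
    obtain ⟨y, hy, t, ht, rfl⟩ := (mem_sup_of_le_Nm' (right_le_Nm_nclo _ _)).1 (e.ge (mem_top x))
    exact mul_mem_sup (mi ((mul_mem_cancel_right (T_le_cs ht)).1 hx) (l hy)) ht

end CfH7
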