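import Cfsg.Agent.OD.Pre
import Cfsg.Agent.H7.Tools
import Cfsg.Agent.H9.Frobenius

/-! The characteristic polynomial of elements of Suzuki groups and its consequences. -/

set_option autoImplicit false
set_option linter.unusedSectionVars false

open Cfsg Subgroup CfH9 Matrix
open scoped commutatorElement MatrixGroups

namespace CfH7

open Cfsg.Lie

section Mat

variable {K : Type*} [Field K]

/-- the Gram matrix of `altForm4` -/
def J4 (K : Type*) [Field K] : Matrix (Fin 4) (Fin 4) K := !![0, 0, 0, 1; 0, 0, 1, 0; 0, 1, 0, 0; 1, 0, 0, 0]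

theorem J4_mul : J4 K * J4 K = 1 := by
  ext i j
  fin_cases i <;> fin_cases j <;> simp [J4, Matrix.mul_apply, Fin.sum_univ_four]

theorem J4_entry (x y : Matrix (Fin 4) (Fin 4) K) (i j : Fin 4) :
    (x * J4 K * y) i j = x i 0 * y 3 j + x i 1 * y 2 j + x i 2 * y 1 j + x i 3 * y 0 j := by
  simp [J4, Matrix.mul_apply, Fin.sum_univ_four]
  ring

theorem sp_inv {x : Matrix (Fin 4) (Fin 4) K} (h : xᵀ * J4 K * x = J4 K) :
    x * (J4 K * xᵀ * J4 K) = 1 := by
  rw [mul_eq_one_comm, mul_assoc, mul_assoc, ← mul_assoc xᵀ, h, J4_mul]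

theorem sp_row {x : Matrix (Fin 4) (Fin 4) K} (h : xᵀ * J4 K * x = J4 K) :
    x * J4 K * xᵀ = J4 K := by
  have := congrArg (· * J4 K) (sp_inv h)
  simp only [mul_assoc, J4_mul, mul_one, one_mul] at this
  rwa [mul_assoc]

theorem det4 (x : Matrix (Fin 4) (Fin 4) K) (μ : K) : (Matrix.scalar _ μ - x).det =
    μ ^ 4 - trace x * μ ^ 3 + (trace (star4 x) + (x 0 0 * x 3 3 - x 3 0 * x 0 3) +
      (x 1 1 * x 2 2 - x 2 1 * x 1 2)) * μ ^ 2 - trace (adjugate x) * μ + det x := by
  simp [det_succ_row_zero, trace, Fin.sum_univ_succ, star4, pairOf,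
    adjugate_fin_succ_eq_det_submatrix, Fin.succAbove]
  ring

variable [CharP K 2]

theorem two_eq : (2 : K) = 0 := CharTwo.two_eq_zero

theorem star4_mul {x y : Matrix (Fin 4) (Fin 4) K} (hx : xᵀ * J4 K * x = J4 K)
    (hy : yᵀ * J4 K * y = J4 K) : star4 (x * y) = star4 x * star4 y := by
  have k : ∀ r : Fin 4, J4 K (pairOf r).1 (pairOf r).2 = 0 := fun r => by
    fin_cases r <;> simp [J4, pairOf]
  ext s r
  have h1 := congrFun (congrFun (sp_row hx) (pairOf s).1) (pairOf s).2
  have h2 := congrFun (congrFun hy (pairOf r).1) (pairOf r).2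
  rw [J4_entry, k] at h1 h2
  simp only [transpose_apply] at h1 h2
  rw [Matrix.mul_apply, Fin.sum_univ_four]
  simp only [star4, of_apply, Matrix.mul_apply, Fin.sum_univ_four]
  generalize (pairOf s).1 = a at *
  generalize (pairOf s).2 = b at *
  generalize (pairOf r).1 = c at *
  generalize (pairOf r).2 = d at *
  simp only [pairOf, cons_val_zero, cons_val_one, cons_val]
  have e1 : x a 0 * x b 3 - x b 0 * x a 3 = x a 1 * x b 2 - x b 1 * x a 2 := by
    linear_combination h1 - (x a 1 * x b 2 + x b 0 * x a 3) * two_eq (K := K)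
  have e2 : y 0 c * y 3 d - y 3 c * y 0 d = y 1 c * y 2 d - y 2 c * y 1 d := by
    linear_combination h2 - (y 1 c * y 2 d + y 3 c * y 0 d) * two_eq (K := K)
  linear_combination (y 0 c * y 3 d - y 3 c * y 0 d) * e1 + (x a 1 * x b 2 - x b 1 * x a 2) * e2 +
    (x a 1 * x b 2 - x b 1 * x a 2) * (y 1 c * y 2 d - y 2 c * y 1 d) * two_eq (K := K)

theorem star4_one : star4 (1 : Matrix (Fin 4) (Fin 4) K) = 1 := by
  ext i j
  simp only [star4, of_apply, one_apply]
  fin_cases i <;> fin_cases j <;> simp [pairOf]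

theorem sp_det {x : Matrix (Fin 4) (Fin 4) K} (h : xᵀ * J4 K * x = J4 K) : det x = 1 := by
  have h1 := congrArg det (sp_inv h)
  have h2 := congrArg det (J4_mul (K := K))
  simp only [det_mul, det_transpose, det_one] at h1 h2
  have : (det x - 1) ^ 2 = 0 := by
    linear_combination h1 - det x ^ 2 * h2 + (1 - det x) * two_eq (K := K)
  exact sub_eq_zero.1 (pow_eq_zero_iff two_ne_zero |>.1 this)

theorem sp_charpoly {x : Matrix (Fin 4) (Fin 4) K} (h : xᵀ * J4 K * x = J4 K) (μ : K) :
    (Matrix.scalar _ μ - x).det =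
      μ ^ 4 + trace x * μ ^ 3 + trace (star4 x) * μ ^ 2 + trace x * μ + 1 := by
  have h1 : adjugate x = J4 K * xᵀ * J4 K := by
    rw [← mul_one (adjugate x), ← sp_inv h, ← mul_assoc, adjugate_mul, sp_det h, one_smul, one_mul]
  have h2 := congrFun (congrFun h 0) 3
  have h3 := congrFun (congrFun (sp_row h) 1) 2
  rw [J4_entry] at h2 h3
  simp only [transpose_apply, J4, of_apply, cons_val', cons_val_zero, cons_val_one, cons_val,
    cons_val_fin_one] at h2 h3
  rw [det4, h1, trace_mul_cycle, J4_mul, one_mul, trace_transpose, sp_det h]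
  linear_combination μ ^ 2 * h2 + μ ^ 2 * h3 + (μ ^ 2 * (1 - x 3 0 * x 0 3 - x 2 1 * x 1 2 -
    x 1 0 * x 2 3 - x 2 0 * x 1 3) - trace x * μ ^ 3 - trace x * μ) * two_eq (K := K)

end Mat

/-- a faithful representation with the characteristic polynomials of a Suzuki group -/
structure SzM {H : Type*} [Group H] {K : Type*} [Field K] (ρ : H →* Matrix (Fin 4) (Fin 4) K) :
    Prop where
  inj : Function.Injective ρ
  ch : ∀ g, ∃ a b : K, (a = 0 ↔ b = 0) ∧
    ∀ μ, (Matrix.scalar _ μ - ρ g).det = μ ^ 4 + a * μ ^ 3 + b * μ ^ 2 + a * μ + 1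

theorem exists_szM (F : Type) [Field F] [CharP F 2] (m : ℕ) :
    ∃ ρ : Lie.Sz F (2 ^ m) →* Matrix (Fin 4) (Fin 4) (AlgebraicClosure F), SzM ρ := by
  let f : GL (Fin 4) F →* Matrix (Fin 4) (Fin 4) (AlgebraicClosure F) :=
    (algebraMap F (AlgebraicClosure F)).mapMatrix.toMonoidHom.comp (Units.coeHom _)
  let θ := (iterateFrobenius (AlgebraicClosure F) 2 m).mapMatrix (m := Fin 4)
  have key : ∀ g ∈ Lie.Sz F (2 ^ m), (f g)ᵀ * J4 _ * f g = J4 _ ∧ star4 (f g) = θ (f g) := by
    intro g hg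
    induction hg using Subgroup.closure_induction with
    | mem g hg =>
      refine ⟨?_, ?_⟩
      · ext i j
        have := congrArg (algebraMap F (AlgebraicClosure F))
          (hg.1 (Pi.single i 1) (Pi.single j 1))
        rw [J4_entry]
        simp only [altForm4, mulVec_single_one, map_add, map_mul] at this
        refine this.trans ?_
        fin_cases i <;> fin_cases j <;> simp [J4]
      · ext i j
        have := congrArg (algebraMap F (AlgebraicClosure F)) (congrFun (congrFun hg.2 i) j)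
        simp only [star4, of_apply, map_apply, map_sub, map_mul, map_pow] at this
        exact this
    | one => rw [map_one, transpose_one, one_mul, mul_one, star4_one, map_one]; exact ⟨rfl, rfl⟩
    | mul g h _ _ hg hh =>
      refine ⟨?_, by rw [map_mul, star4_mul hg.1 hh.1, hg.2, hh.2, map_mul]⟩
      rw [map_mul, transpose_mul, mul_assoc, mul_assoc, ← mul_assoc (J4 _), ← mul_assoc (f g)ᵀ,
        ← mul_assoc (f g)ᵀ, hg.1, ← mul_assoc, hh.1]
    | inv g _ hg =>
      have e : f g * f g⁻¹ = 1 := by rw [← map_mul, mul_inv_cancel, map_one]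
      have e' : (f g⁻¹)ᵀ * J4 _ * f g⁻¹ = J4 _ := by
        conv_lhs => rw [← hg.1, mul_assoc, mul_assoc, e, mul_one, ← mul_assoc, ← transpose_mul, e,
          transpose_one, one_mul]
      refine ⟨e', ?_⟩
      have e1 : θ (f g) * star4 (f g⁻¹) = 1 := by rw [← hg.2, ← star4_mul hg.1 e', e, star4_one]
      rw [← one_mul (star4 _), ← map_one θ, ← mul_eq_one_comm.1 e, map_mul, mul_assoc, e1, mul_one]
  refine ⟨f.comp (Subgroup.subtype _), fun g h e => Subtype.ext (Units.ext
    (Matrix.map_injective (algebraMap F (AlgebraicClosure F)).injective e)), fun g => ?_⟩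
  obtain ⟨h1, h2⟩ := key g g.2
  refine ⟨trace (f g), trace (f g) ^ 2 ^ m, (pow_eq_zero_iff (by positivity)).symm, fun μ => ?_⟩
  refine (sp_charpoly h1 μ).trans ?_
  rw [h2, ← iterateFrobenius_def, AddMonoidHom.map_trace (iterateFrobenius _ 2 m)]
  rfl

end CfH7
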