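import Cfsg.Agent.OD.Pre
import Cfsg.Agent.H7.Sz1

/-! Suzuki groups: centralizers of involutions are `2`-groups and elements of odd order are
strongly real. -/

set_option autoImplicit false
set_option linter.unusedSectionVars false

open Cfsg Subgroup CfH9 Matrix
open scoped commutatorElement MatrixGroups

namespace CfH7

variable {K : Type*} [Field K]

/-- `μ` is an eigenvalue of `x` -/
def Ev (x : Matrix (Fin 4) (Fin 4) K) (μ : K) : Prop := ∃ v ≠ 0, x *ᵥ v = μ • v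

theorem ev_iff {x : Matrix (Fin 4) (Fin 4) K} {μ : K} :
    Ev x μ ↔ (Matrix.scalar _ μ - x).det = 0 := by
  rw [← exists_mulVec_eq_zero_iff]
  refine exists_congr fun v => and_congr_right fun _ => ?_
  rw [sub_mulVec, sub_eq_zero, scalar_apply, ← smul_one_eq_diagonal, smul_mulVec, one_mulVec,
    eq_comm]

theorem pow_mulVec {x : Matrix (Fin 4) (Fin 4) K} {μ : K} {v : Fin 4 → K} (h : x *ᵥ v = μ • v)
    (n : ℕ) : x ^ n *ᵥ v = μ ^ n • v := by
  induction n with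
  | zero => simp
  | succ n ih => rw [pow_succ, ← mulVec_mulVec, h, mulVec_smul, ih, smul_smul, pow_succ']

theorem eq_one_of_pow_four {H : Type*} [Group H] {g : H} (h : g ^ 4 = 1) (ho : Odd (orderOf g)) :
    g = 1 := orderOf_eq_one_iff.1 (Nat.Coprime.eq_one_of_dvd
      ((Nat.coprime_two_right.2 ho).pow_right 2) (orderOf_dvd_of_pow_eq_one h))

theorem exists_invol_pow {H : Type*} [Group H] [Finite H] {g : H} (h : ¬ Odd (orderOf g)) :
    ∃ k, g ^ k ≠ 1 ∧ (g ^ k) ^ 2 = 1 := by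
  obtain ⟨k, hk⟩ := Nat.not_odd_iff_even.1 h
  have := orderOf_pos g
  exact ⟨k, pow_ne_one_of_lt_orderOf (by omega) (by omega),
    by rw [← pow_mul, mul_two, ← hk, pow_orderOf_eq_one]⟩

variable [CharP K 2] [IsAlgClosed K] {H : Type*} [Group H] [Finite H]
  {ρ : H →* Matrix (Fin 4) (Fin 4) K}

namespace SzM

theorem pow_four' (h : SzM ρ) {g : H} (e : ∀ μ, (Matrix.scalar _ μ - ρ g).det = μ ^ 4 + 1) :
    g ^ 4 = 1 := by
  have k : (ρ g).charpoly = Polynomial.X ^ 4 + 1 := Polynomial.funext fun μ => by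
    rw [eval_charpoly, e]; simp
  have := aeval_self_charpoly (ρ g)
  rw [k, map_add, map_pow, Polynomial.aeval_X, map_one, CharTwo.add_eq_zero] at this
  exact h.inj (by rw [map_pow, this, map_one])

theorem pow_four (h : SzM ρ) {g : H} (e : Ev (ρ g) 1) : g ^ 4 = 1 := by
  obtain ⟨a, b, h1, h2⟩ := h.ch g
  have hb : b = 0 := by
    linear_combination (ev_iff.1 e) - h2 1 - (1 + a) * two_eq (K := K)
  exact h.pow_four' fun μ => by rw [h2, h1.2 hb, hb]; ring

theorem ev_inv (h : SzM ρ) {g : H} {μ : K} (e : Ev (ρ g) μ) : Ev (ρ g) μ⁻¹ := by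
  obtain ⟨a, b, -, h2⟩ := h.ch g
  rw [ev_iff, h2] at e ⊢
  have h0 : μ ≠ 0 := by
    rintro rfl
    simp at e
  field_simp
  linear_combination e

theorem basis (h : SzM ρ) {g : H} (hg : g ^ 4 ≠ 1) :
    ∃ (l : Fin 4 → K) (v : Module.Basis (Fin 4) K (Fin 4 → K)), (∀ μ, Ev (ρ g) μ → ∃ i, l i = μ) ∧
      (∀ i, ρ g *ᵥ v i = l i • v i) ∧ ∀ i w, ρ g *ᵥ w = l i • w → ∃ c : K, w = c • v i := by
  obtain ⟨a, b, h1, h2⟩ := h.ch g
  have ha : a ≠ 0 := fun e => hg (h.pow_four' fun μ => by rw [h2, h1.1 e, e]; ring)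
  have hb : b ≠ 0 := fun e => ha (h1.2 e)
  have q : ∀ s t : K, ∃ x : K, x ^ 2 + s * x + t = 0 := fun s t => by
    obtain ⟨x, hx⟩ := IsAlgClosed.exists_root
      (Polynomial.C 1 * Polynomial.X ^ 2 + Polynomial.C s * Polynomial.X + Polynomial.C t)
      (by rw [Polynomial.degree_quadratic one_ne_zero]; simp)
    exact ⟨x, by simpa using hx⟩
  obtain ⟨c, hc⟩ := q a b
  obtain ⟨x, hx⟩ := q c 1
  obtain ⟨y, hy⟩ := q (c + a) 1
  have t2 := two_eq (K := K)
  have hc0 : c ≠ 0 := fun e => hb (by rw [e] at hc; linear_combination hc)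
  have hd0 : c + a ≠ 0 := fun e => hb (by linear_combination hc - c * e)
  have k : ∀ z : K, z ^ 2 + c * z + 1 = 0 → z ^ 2 + (c + a) * z + 1 ≠ 0 := fun z h1 h2 => by
    have : z = 0 := (mul_eq_zero.1 (show a * z = 0 by linear_combination h2 - h1)).resolve_left ha
    rw [this] at h1
    simp at h1
  have hx' : (x + c) ^ 2 + c * (x + c) + 1 = 0 := by linear_combination hx + (c * x + c ^ 2) * t2
  have hy' : (y + (c + a)) ^ 2 + (c + a) * (y + (c + a)) + 1 = 0 := by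
    linear_combination hy + ((c + a) * y + (c + a) ^ 2) * t2
  have hP : ∀ μ : K, μ ^ 4 + a * μ ^ 3 + b * μ ^ 2 + a * μ + 1 =
      (μ ^ 2 + c * μ + 1) * (μ ^ 2 + (c + a) * μ + 1) := fun μ => by
    linear_combination μ ^ 2 * hc - (c * μ ^ 3 + (1 + c ^ 2 + a * c) * μ ^ 2 + c * μ) * t2
  let l : Fin 4 → K := ![x, x + c, y, y + (c + a)]
  have n1 : x ≠ y := fun e => k x hx (e ▸ hy)
  have n2 : x ≠ y + (c + a) := fun e => k x hx (e ▸ hy')
  have n3 : x + c ≠ y := fun e => k _ hx' (e ▸ hy)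
  have n4 : x + c ≠ y + (c + a) := fun e => k _ hx' (e ▸ hy')
  have li : Function.Injective l := by
    intro i j e
    fin_cases i <;> fin_cases j <;>
      simp [l, n1, n2, n3, n4, n1.symm, n2.symm, n3.symm, n4.symm, hc0, hd0] at e ⊢
  have ev : ∀ i, Ev (ρ g) (l i) := fun i => by
    rw [ev_iff, h2, hP]
    fin_cases i <;> simp [l, hx, hx', hy, hy']
  choose v hv0 hv using ev
  have lin := Module.End.eigenvectors_linearIndependent' (Matrix.toLin' (ρ g)) l li v fun i =>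
    ⟨Module.End.mem_eigenspace_iff.2 (hv i), hv0 i⟩
  refine ⟨l, basisOfLinearIndependentOfCardEqFinrank lin (by simp), fun μ e => ?_,
    fun i => by simpa using hv i, fun i w hw => ?_⟩
  · rw [ev_iff, h2, hP, mul_eq_zero] at e
    rcases e with e | e
    · rcases mul_eq_zero.1 (show (x - μ) * (x + c - μ) = 0 by
        linear_combination e + hx - (1 + x * μ + c * μ) * t2) with e | e
      · exact ⟨0, sub_eq_zero.1 e⟩
      · exact ⟨1, sub_eq_zero.1 e⟩
    · rcases mul_eq_zero.1 (show (y - μ) * (y + (c + a) - μ) = 0 by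
        linear_combination e + hy - (1 + y * μ + (c + a) * μ) * t2) with e | e
      · exact ⟨2, sub_eq_zero.1 e⟩
      · exact ⟨3, sub_eq_zero.1 e⟩
  · set B := basisOfLinearIndependentOfCardEqFinrank lin (by simp)
    have hB : ∀ j, B j = v j := fun j => by simp [B]
    have e := B.sum_repr w
    have e' : ∑ j, (B.repr w j * (l j - l i)) • v j = 0 := by
      conv_lhs at hw => rw [← e, mulVec_sum]
      conv_rhs at hw => rw [← e, Finset.smul_sum]
      rw [← sub_eq_zero, ← Finset.sum_sub_distrib] at hw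
      refine (Finset.sum_congr rfl fun j _ => ?_).trans hw
      rw [hB, mulVec_smul, hv, smul_smul, smul_smul, ← sub_smul, mul_sub, mul_comm (l i)]
    refine ⟨B.repr w i, e.symm.trans (Finset.sum_eq_single i (fun j _ hj => ?_) (by simp))⟩
    rw [(mul_eq_zero.1 (Fintype.linearIndependent_iff.1 lin _ e' j)).resolve_right
      (sub_ne_zero.2 (li.ne hj)), zero_smul]

theorem comm_ev {g t : H} (e : t * g = g * t) {μ : K} {v : Fin 4 → K} (hv : ρ g *ᵥ v = μ • v) :
    ρ g *ᵥ (ρ t *ᵥ v) = μ • (ρ t *ᵥ v) := by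
  rw [mulVec_mulVec, ← map_mul, ← e, map_mul, ← mulVec_mulVec, hv, mulVec_smul]

theorem cit (h : SzM ρ) {t g : H} (h1 : t ≠ 1) (h2 : t ^ 2 = 1) (e : t * g = g * t) : g ^ 4 = 1 := by
  by_contra hg
  obtain ⟨l, v, -, k1, k2⟩ := h.basis hg
  refine h1 (h.inj (Matrix.toLin'.injective (v.ext fun i => ?_)))
  obtain ⟨c, hc⟩ := k2 i _ (comm_ev e (k1 i))
  have := pow_mulVec hc 2
  rw [← map_pow, h2, map_one, one_mulVec] at this
  have e1 : c ^ 2 = 1 := smul_left_injective K (v.ne_zero i) (this.symm.trans (one_smul _ _).symm)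
  have e2 : c = 1 := sub_eq_zero.1 (pow_eq_zero_iff two_ne_zero |>.1
    (show (c - 1) ^ 2 = 0 by linear_combination e1 + (1 - c) * two_eq (K := K)))
  rw [toLin'_apply, toLin'_apply, hc, e2, map_one, one_mulVec, one_smul]

theorem cyc (h : SzM ρ) {r : ℕ} [Fact r.Prime] {R : Subgroup H} (hR : IsPGroup r R)
    (ho : Odd (Nat.card R)) : IsCyclic R := by
  rcases subsingleton_or_nontrivial R with h0 | h0
  · infer_instance
  have odd : ∀ x : R, Odd (orderOf (x : H)) := fun x =>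
    ho.of_dvd_nat (by rw [orderOf_coe]; exact orderOf_dvd_natCard x)
  haveI := hR.center_nontrivial
  obtain ⟨z, hz⟩ := exists_ne (1 : center R)
  obtain ⟨l, v, -, k1, k2⟩ := h.basis fun e => hz
    (Subtype.ext (Subtype.ext (eq_one_of_pow_four e (odd z))))
  have k : ∀ x : R, ∃ c : K, ρ x *ᵥ v 0 = c • v 0 := fun x =>
    k2 0 _ (comm_ev (congrArg Subtype.val (mem_center_iff.1 z.2 x)) (k1 0))
  choose c hc using k
  have inj := smul_left_injective K (v.ne_zero 0)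
  refine isCyclic_of_injective_ringHom (R := K) ⟨⟨c, inj ?_⟩, fun x y => inj ?_⟩
    ((injective_iff_map_eq_one _).2 fun x hx => Subtype.ext (eq_one_of_pow_four
      (h.pow_four ⟨v 0, v.ne_zero 0, (hc x).trans (congrArg (· • v 0) hx)⟩) (odd x)))
  · exact (hc 1).symm.trans (by simp)
  · refine (hc (x * y)).symm.trans ?_
    rw [Subgroup.coe_mul, map_mul, ← mulVec_mulVec, hc, mulVec_smul, hc, smul_smul, mul_comm]

theorem odd_fix (h : SzM ρ) {n y : H} {k : ℕ} (e : n * y * n⁻¹ = y ^ k) (hn : Odd (orderOf n))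
    (hy : Odd (orderOf y)) : y ^ k = y := by
  classical
  by_contra hne
  have y1 : y ^ 4 ≠ 1 := fun e => hne (by rw [eq_one_of_pow_four e hy, one_pow])
  obtain ⟨l, v, k0, k1, -⟩ := h.basis y1
  have nf : ∀ μ, Ev (ρ y) μ → μ ^ k ≠ μ := by
    rintro μ ⟨w, hw0, hw⟩ e'
    refine hne (mul_inv_eq_one.1 (eq_one_of_pow_four (h.pow_four ⟨ρ y *ᵥ w, fun e => hw0 ?_, ?_⟩)
      (hy.of_dvd_nat (orderOf_dvd_of_mem_zpowers (mul_mem (pow_mem (mem_zpowers y) k)
        (inv_mem (mem_zpowers y)))))))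
    · rw [← one_mulVec w, ← map_one ρ, ← inv_mul_cancel y, map_mul, ← mulVec_mulVec, e, mulVec_zero]
    · rw [mulVec_mulVec, ← map_mul, inv_mul_cancel_right, map_pow, pow_mulVec hw, e', hw, one_smul]
  have ek : ∀ μ, Ev (ρ y) μ → Ev (ρ y) (μ ^ k) := by
    rintro μ ⟨w, hw0, hw⟩
    refine ⟨ρ n⁻¹ *ᵥ w, fun e => hw0 ?_, ?_⟩
    · rw [← one_mulVec w, ← map_one ρ, ← mul_inv_cancel n, map_mul, ← mulVec_mulVec, e, mulVec_zero]
    · rw [← mulVec_smul, ← pow_mulVec hw, mulVec_mulVec, mulVec_mulVec, ← map_pow, ← e, ← map_mul,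
        ← map_mul, mul_assoc, inv_mul_cancel_left]
  have cj : ∀ j : ℕ, n ^ j * y * (n ^ j)⁻¹ = y ^ k ^ j := fun j => by
    induction j with
    | zero => simp
    | succ j ih => rw [pow_succ' k, pow_mul, ← e, conj_pow, ← ih, pow_succ' n]; group
  have p4 : ∀ μ, Ev (ρ y) μ → (((μ ^ k) ^ k) ^ k) ^ k ≠ μ := fun μ hμ e' => by
    have p1 : Function.IsPeriodicPt (· ^ k) (orderOf n) μ := by
      obtain ⟨w, hw0, hw⟩ := hμ
      have := pow_mulVec hw (k ^ orderOf n)
      rw [← map_pow, ← cj, pow_orderOf_eq_one, one_mul, inv_one, mul_one, hw] at this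
      rw [Function.IsPeriodicPt, pow_iterate]
      exact (smul_left_injective K hw0 this).symm
    have p2 : Function.IsPeriodicPt (· ^ k) 4 μ := e'
    have := p1.gcd p2
    rw [show (orderOf n).gcd 4 = 1 from (Nat.coprime_two_right.2 hn).pow_right 2] at this
    exact nf μ hμ this
  have i1 : ∀ μ, Ev (ρ y) μ → μ⁻¹ ≠ μ := fun μ hμ e' => by
    have h0 : μ ≠ 0 := by
      rintro rfl
      obtain ⟨a, b, -, h2⟩ := h.ch y
      rw [ev_iff, h2] at hμ
      simp at hμ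
    have : μ = 1 := sub_eq_zero.1 (pow_eq_zero_iff two_ne_zero |>.1 (show (μ - 1) ^ 2 = 0 by
      linear_combination mul_inv_cancel₀ h0 - μ * e' + (1 - μ) * two_eq (K := K)))
    exact nf μ hμ (by rw [this, one_pow])
  have e0 : Ev (ρ y) (l 0) := ⟨v 0, v.ne_zero 0, k1 0⟩
  set x := l 0
  have e1 := ek _ e0
  have n1 := nf _ e0
  have n2 := nf _ e1
  have n3 : (x ^ k) ^ k ≠ x := fun e => p4 _ e0 (by rw [e, e])
  have n4 := i1 _ e0
  have n5 : x⁻¹ ≠ x ^ k := fun e => n3 (by rw [← e, inv_pow, ← e, inv_inv])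
  have n6 : x⁻¹ ≠ (x ^ k) ^ k := fun e => p4 _ e0 (by rw [← e, inv_pow, inv_pow, ← e, inv_inv])
  have n7 : (x ^ k)⁻¹ ≠ x := fun e => n5 (by rw [← e, inv_inv, e])
  have n8 := i1 _ e1
  have n9 : (x ^ k)⁻¹ ≠ (x ^ k) ^ k := fun e => p4 _ e1 (by
    have : ((x ^ k) ^ k) ^ k = x ^ k := by rw [← e, inv_pow, ← e, inv_inv]
    rw [this, this])
  have n10 : (x ^ k)⁻¹ ≠ x⁻¹ := fun e => n1 (inv_injective e)
  have := Finset.card_le_card (show ({(x ^ k)⁻¹, x⁻¹, (x ^ k) ^ k, x ^ k, x} : Finset K) ⊆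
    Finset.univ.image l from fun μ hμ => by
      simp only [Finset.mem_insert, Finset.mem_singleton] at hμ
      simp only [Finset.mem_image, Finset.mem_univ, true_and]
      rcases hμ with e | e | e | e | e <;> rw [e]
      exacts [k0 _ (h.ev_inv e1), k0 _ (h.ev_inv e0), k0 _ (ek _ e1), k0 _ e1, k0 _ e0])
  rw [Finset.card_insert_of_notMem (by simp [n7, n8, n9, n10]),
    Finset.card_insert_of_notMem (by simp [n4, n5, n6]),
    Finset.card_insert_of_notMem (by simp [n2, n3]), Finset.card_pair n1] at this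
  exact absurd (this.trans Finset.card_image_le) (by simp)

theorem real (h : SzM ρ) {r : ℕ} [hr : Fact r.Prime] (h2 : r ≠ 2)
    (hgen : pResidualOf r (⊤ : Subgroup H) = ⊤) {x : H} (hx : orderOf x = r) :
    ∃ t : H, t ≠ 1 ∧ t ^ 2 = 1 ∧ t * x * t⁻¹ = x⁻¹ := by
  obtain ⟨R, hR, hxR⟩ := exists_sylIn_ge (p := r) (IsPGroup.of_card (G := zpowers x) (n := 1)
    (by rw [Nat.card_zpowers, hx, pow_one])) (le_top : zpowers x ≤ ⊤)
  have hxR := hxR (mem_zpowers x)
  have ho : Odd (Nat.card R) := by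
    obtain ⟨n, hn⟩ := hR.pgrp.exists_card_eq
    exact hn ▸ (hr.out.odd_of_ne_two h2).pow
  have odd : ∀ x ∈ R, Odd (orderOf x) := fun x hx => ho.of_dvd_nat (orderOf_dvd_natCard _ hx)
  obtain ⟨y, hy⟩ := (h.cyc hR.pgrp ho).exists_monoid_generator
  have hy' : ∀ z ∈ R, ∃ k : ℕ, (y : H) ^ k = z := fun z hz => by
    obtain ⟨k, hk⟩ := hy ⟨z, hz⟩
    exact ⟨k, congrArg Subtype.val hk⟩
  obtain ⟨n, hn, hn'⟩ : ∃ n ∈ Nm(R), ¬ Odd (orderOf n) := by
    by_contra! hh
    have := (pNil_iff_inf hR).1 (burnside_pNil hR fun n hn => mem_centralizer_of_conj_eq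
      fun z hz => by
        obtain ⟨k, hk⟩ := hy' _ (conj_mem_of_mem_normalizer hn.2 y.2)
        obtain ⟨j, rfl⟩ := hy' z hz
        rw [← conj_pow, ← hk, h.odd_fix hk.symm (hh n hn.2) (odd _ y.2)])
    rw [hgen, inf_top_eq] at this
    exact hr.out.one_lt.ne' (by rw [← hx, mem_bot.1 (this.le hxR), orderOf_one])
  obtain ⟨k, k1, k2⟩ := exists_invol_pow hn'
  have ht := pow_mem hn k
  refine ⟨_, k1, k2, eq_inv_of_mul_eq_one_left (eq_one_of_pow_four (h.cit k1 k2 ?_)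
    (odd _ (mul_mem (conj_mem_of_mem_normalizer ht hxR) hxR)))⟩
  generalize n ^ k = t at *
  have e1 : t⁻¹ = t := inv_eq_of_mul_eq_one_right (sq t ▸ k2)
  have e2 : t * x * t⁻¹ * x = x * (t * x * t⁻¹) := by
    obtain ⟨i, hi⟩ := hy' _ (conj_mem_of_mem_normalizer ht hxR)
    obtain ⟨j, hj⟩ := hy' _ hxR
    rw [← hi, ← hj, pow_mul_comm]
  conv_rhs => rw [e2]
  rw [e1]
  simp only [← mul_assoc, ← sq, k2, one_mul]
  rw [mul_assoc _ t t, ← sq, k2, mul_one]

end SzM

end CfH7
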