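import Cfsg.Agent.OD.Pre
import Cfsg.Agent.H7.Sz2
import Cfsg.Agent.H7.Blk1
import Cfsg.Agent.H7.SL2Mod

/-! Fixed-point-free elements of rank one groups acting on a quadratic module. -/

set_option autoImplicit false
set_option linter.unusedSectionVars false

open Cfsg Subgroup CfH9 Matrix
open scoped commutatorElement MatrixGroups

namespace CfH7

open CfLp (uu dd uu_coe uu_zero uu_mul uu_inv)

variable {H : Type*} [Group H]

/-- the axioms for the fixed-point-free elements `Fp` -/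
structure FP (p : ℕ) (Y : Subgroup H) (Fp : H → Prop) : Prop where
  el : IsElementaryAbelian p Y
  ne : Y ≠ ⊥
  ex : ∃ g, cj g Y ≠ Y
  clo : nclo Y ⊤ = ⊤
  mul' : ∀ g, cj g Y ≠ Y → ∀ x ∈ Y, ∀ y ∈ cj g Y, x ≠ 1 → y ≠ 1 → Fp (x * y)
  conj : ∀ g x, Fp x → Fp (g * x * g⁻¹)
  pow : ∀ x k, Fp (x ^ k) → Fp x
  one : ¬ Fp 1
  cen : ∀ z u k, z * u = u * z → u ^ p ^ k = 1 → Fp (z * u) → Fp z

/-- the conclusions -/
def FC (p : ℕ) (Y : Subgroup H) (Fp : H → Prop) : Prop :=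
  (∀ x, (∀ k, x ^ p ^ k ≠ 1) → Fp x) ∧ ∀ V : Subgroup H, V ≤ Nm(Y) → Nm(Y) ≤ Nm(V) →
    IsElementaryAbelian p V → V ≠ ⊥ → V = Y

theorem conj_of_odd {x w : H} (hx : x ^ 2 = 1) (hw : w ^ 2 = 1) (ho : Odd (orderOf (x * w))) :
    ∃ g : H, g * w * g⁻¹ = x := by
  obtain ⟨k, hk⟩ := ho
  have hw' : x⁻¹ = x := inv_eq_of_mul_eq_one_right (pow_two x ▸ hx)
  have hv' : w⁻¹ = w := inv_eq_of_mul_eq_one_right (pow_two w ▸ hw)
  have h1 : x * (x * w) * x⁻¹ = (x * w)⁻¹ := by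
    rw [← mul_assoc, ← pow_two, hx, one_mul, _root_.mul_inv_rev, hv']
  refine ⟨(x * w) ^ (k + 1), ?_⟩
  rw [mul_inv_eq_iff_eq_mul, ← eq_inv_mul_iff_mul_eq, eq_comm, ← mul_assoc, ← inv_pow, ← h1,
    conj_pow, inv_mul_cancel_right, mul_assoc, ← pow_add,
    show k + 1 + (k + 1) = 2 * k + 1 + 1 by ring, ← hk, pow_succ, pow_orderOf_eq_one, one_mul,
    ← mul_assoc, ← pow_two, hx, one_mul]

variable [Finite H] {p : ℕ} [hp : Fact p.Prime] {Y : Subgroup H} {Fp : H → Prop}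

namespace FP

theorem mul (h : FP p Y Fp) {a b x y : H} (hn : cj a Y ≠ cj b Y) (hx : x ∈ cj a Y)
    (hy : y ∈ cj b Y) (x1 : x ≠ 1) (y1 : y ≠ 1) : Fp (x * y) := by
  have := h.conj a _ (h.mul' (a⁻¹ * b) (fun e => hn (by rw [← e, ← cj_mul, e, mul_inv_cancel_left]))
    _ (mem_cj.1 hx) (a⁻¹ * y * a) (by rw [cj_mul, mem_cj]; simpa [mul_assoc] using hy)
    (fun e => x1 (by simpa [mul_assoc, inv_mul_eq_one] using e))
    (fun e => y1 (by simpa [mul_assoc, inv_mul_eq_one] using e)))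
  simpa [mul_assoc] using this

theorem not_fp (h : FP p Y Fp) {x : H} {k : ℕ} (e : x ^ p ^ k = 1) : ¬ Fp x := fun e' =>
  h.one (h.cen 1 x k (by simp) e (by rwa [one_mul]))

theorem pow_eq (h : FP p Y Fp) {a x : H} (hx : x ∈ cj a Y) : x ^ p = 1 := (elemAb_map h.el _).2 x hx

section two

variable (h : FP 2 Y Fp) (cit : ∀ t g : H, t ≠ 1 → t ^ 2 = 1 → t * g = g * t → ∃ k, g ^ 2 ^ k = 1)
include h cit

theorem odd {x : H} (hx : ∀ k, x ^ 2 ^ k ≠ 1) : Odd (orderOf x) := by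
  by_contra e
  obtain ⟨k, k1, k2⟩ := exists_invol_pow e
  obtain ⟨j, hj⟩ := cit _ x k1 k2 (pow_mul_comm' x k)
  exact hx j hj

theorem eq_of_nm {t a b : H} (t1 : t ≠ 1) (t2 : t ^ 2 = 1) (h1 : t ∈ Nm(cj a Y))
    (h2 : t ∈ Nm(cj b Y)) : cj a Y = cj b Y := by
  by_contra hn
  have k : ∀ c, t ∈ Nm(cj c Y) → ∃ x ∈ cj c Y, x ≠ 1 ∧ t * x = x * t := fun c hc => by
    obtain ⟨x, hx, x1, e⟩ := exists_mem_center_of_normal (isPGroup_zpowers (k := 1) t2)
      (isPGroup_cj (elemAb_isPGroup h.el) c) (zpowers_le.2 hc) (cj_ne_bot (g := c) h.ne)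
    exact ⟨x, hx, x1, e t (mem_zpowers t)⟩
  obtain ⟨x, hx, x1, e1⟩ := k a h1
  obtain ⟨y, hy, y1, e2⟩ := k b h2
  obtain ⟨j, hj⟩ := cit t (x * y) t1 t2 (by rw [← mul_assoc, e1, mul_assoc, e2, mul_assoc])
  exact h.not_fp hj (h.mul hn hx hy x1 y1)

theorem mem {t : H} (t1 : t ≠ 1) (t2 : t ^ 2 = 1) : ∃ g, t ∈ cj g Y := by
  by_contra! hn
  have k : ∀ c, t ∈ Nm(cj c Y) := fun c => by
    obtain ⟨⟨y, hy⟩, y1⟩ := ne_bot_iff_exists_ne_one.1 (cj_ne_bot (g := c) h.ne)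
    have y1 : y ≠ 1 := fun e => y1 (Subtype.ext e)
    obtain ⟨j, hj⟩ : ∃ j, (t * y) ^ 2 ^ j = 1 := by
      by_contra! hh
      obtain ⟨g, hg⟩ := conj_of_odd t2 (h.pow_eq hy) (h.odd cit hh)
      exact hn (g * c) (by rw [cj_mul, ← hg]; exact conj_mem_cj g hy)
    by_contra e
    refine h.not_fp (k := j) ?_ (h.mul (a := t * c) (fun e' => e (mem_normalizer_iff_cj.2
      (by rwa [cj_mul] at e'))) (by rw [cj_mul]; exact conj_mem_cj t hy) hy (by simpa using y1) y1)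
    rw [inv_eq_of_mul_eq_one_right (sq t ▸ t2), mul_assoc, ← sq, ← pow_mul, mul_comm, pow_mul, hj,
      one_pow]
  obtain ⟨g, hg⟩ := h.ex
  exact hg ((h.eq_of_nm cit t1 t2 (k g) (k 1)).trans (cj_one _))

theorem fp_of_real {t x : H} (t1 : t ≠ 1) (t2 : t ^ 2 = 1) (e : t * x * t⁻¹ = x⁻¹) (x1 : x ≠ 1)
    (ho : Odd (orderOf x)) : Fp x := by
  have x4 : x ^ 2 ≠ 1 := fun e => x1 (eq_one_of_pow_four (by rw [show 4 = 2 * 2 from rfl, pow_mul, e,
    one_pow]) ho)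
  have e1 : t⁻¹ = t := inv_eq_of_mul_eq_one_right (sq t ▸ t2)
  have s2 : (t * x) ^ 2 = 1 := by
    rw [sq, ← mul_assoc, ← mul_inv_cancel_right (t * x * t) t, mul_assoc _ t t, ← sq, t2, mul_one,
      e, inv_mul_cancel]
  have s1 : t * x ≠ 1 := fun e' => x4 (by rw [eq_inv_of_mul_eq_one_right e', e1, t2])
  obtain ⟨a, ha⟩ := h.mem cit t1 t2
  obtain ⟨b, hb⟩ := h.mem cit s1 s2
  have ex : t * (t * x) = x := by rw [← mul_assoc, ← sq, t2, one_mul]
  exact ex ▸ h.mul (fun e => x4 (h.pow_eq (ex ▸ mul_mem (e.le ha) hb))) ha hb t1 s1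

theorem uniq {V : Subgroup H} (h1 : V ≤ Nm(Y)) (h2 : Nm(Y) ≤ Nm(V))
    (h3 : IsElementaryAbelian 2 V) (h4 : V ≠ ⊥) : V = Y := by
  have k : V ≤ Y := fun v hv => by
    by_cases v1 : v = 1
    · exact v1 ▸ one_mem _
    obtain ⟨g, hg⟩ := h.mem cit v1 (h3.2 v hv)
    exact ((h.eq_of_nm cit v1 (h3.2 v hv) (le_normalizer hg) (b := 1)
      (by rw [cj_one]; exact h1 hv)).trans (cj_one _)).le hg
  refine le_antisymm k fun y hy => ?_
  by_cases y1 : y = 1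
  · exact y1 ▸ one_mem _
  obtain ⟨⟨v, hv⟩, v1⟩ := ne_bot_iff_exists_ne_one.1 h4
  have v1 : v ≠ 1 := fun e => v1 (Subtype.ext e)
  obtain ⟨g, hg⟩ := h.ex
  obtain ⟨⟨t, ht⟩, t1⟩ := ne_bot_iff_exists_ne_one.1 (cj_ne_bot (g := g) h.ne)
  have t1 : t ≠ 1 := fun e => t1 (Subtype.ext e)
  have hg' : cj g Y ≠ cj 1 Y := by rwa [cj_one]
  obtain ⟨a, ha⟩ := conj_of_odd (h.pow_eq ht) (h3.2 v hv) (h.odd cit fun _ e =>
    h.not_fp e (h.mul hg' ht ((cj_one Y).ge (k hv)) t1 v1))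
  obtain ⟨b, hb⟩ := conj_of_odd (h.el.2 y hy) (h.pow_eq ht) (h.odd cit fun _ e =>
    h.not_fp e (h.mul hg'.symm ((cj_one Y).ge hy) ht y1 t1))
  have e : b * a * v * (b * a)⁻¹ = y := by rw [← hb, ← ha]; group
  rw [← e]
  refine conj_mem_of_mem_normalizer (h2 (mem_normalizer_iff_cj.2 ((h.eq_of_nm cit y1
    (h.el.2 y hy) (le_normalizer ?_) (le_normalizer ((cj_one Y).ge hy))).trans (cj_one Y)))) hv
  exact e ▸ conj_mem_cj _ (k hv)

end two

theorem sz (h : FP 2 Y Fp) {K : Type*} [Field K] [CharP K 2] [IsAlgClosed K]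
    {ρ : H →* Matrix (Fin 4) (Fin 4) K} (s : SzM ρ) : FC 2 Y Fp := by
  have cit : ∀ t g : H, t ≠ 1 → t ^ 2 = 1 → t * g = g * t → ∃ k, g ^ 2 ^ k = 1 :=
    fun t g h1 h2 e => ⟨2, s.cit h1 h2 e⟩
  refine ⟨fun x hx => ?_, fun V => h.uniq cit⟩
  have ho := h.odd cit hx
  obtain ⟨r, hr, hd⟩ := Nat.exists_prime_and_dvd (n := orderOf x) fun e =>
    hx 0 (by rw [orderOf_eq_one_iff.1 e, one_pow])
  haveI : Fact r.Prime := ⟨hr⟩
  have r2 : r ≠ 2 := fun e => (Nat.not_even_iff_odd.2 ho) (even_iff_two_dvd.2 (e ▸ hd))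
  have e := orderOf_pow_orderOf_div (orderOf_pos x).ne' hd
  obtain ⟨t, t1, t2, t3⟩ := s.real r2 (top_unique (h.clo.ge.trans (nclo_le
    (le_normalizer_pResidualOf _) fun y hy => mem_pResidualOf trivial
      (((Nat.coprime_primes Nat.prime_two hr).2 r2.symm).coprime_dvd_left
        (orderOf_dvd_of_pow_eq_one (h.el.2 y hy)))))) e
  exact h.pow _ _ (h.fp_of_real cit t1 t2 t3 (fun e' => hr.one_lt.ne' (by rw [← e, e', orderOf_one]))
    (e.symm ▸ hr.odd_of_ne_two r2))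

theorem dih {r : ℕ} [NeZero r] (hr : Odd r) {Y : Subgroup (DihedralGroup r)}
    {Fp : DihedralGroup r → Prop} (h : FP 2 Y Fp) : FC 2 Y Fp := by
  have u2 : ∀ i : ZMod r, i + i = 0 → i = 0 := fun i e =>
    (ZMod.isUnit_iff_coprime 2 r |>.2 (Nat.coprime_two_left.2 hr)).mul_right_eq_zero.1
      (by rw [Nat.cast_ofNat, two_mul, e])
  have cit : ∀ t g : DihedralGroup r, t ≠ 1 → t ^ 2 = 1 → t * g = g * t → ∃ k, g ^ 2 ^ k = 1 := by
    rintro (i | i) (j | j) h1 h2 e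
    · rw [sq, DihedralGroup.r_mul_r, DihedralGroup.one_def, DihedralGroup.r.injEq] at h2
      exact absurd (by rw [u2 i h2]; rfl) h1
    · exact ⟨1, by simp [sq]⟩
    · rw [DihedralGroup.sr_mul_r, DihedralGroup.r_mul_sr, DihedralGroup.sr.injEq] at e
      exact ⟨0, by rw [u2 j (by linear_combination e), pow_zero, pow_one]; rfl⟩
    · exact ⟨1, by simp [sq]⟩
  refine ⟨fun x hx => ?_, fun V => h.uniq cit⟩
  rcases x with i | i
  · exact h.fp_of_real cit (t := .sr 0) (fun e => by cases e) (by simp [sq]) (by simp)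
      (fun e => hx 0 (by simpa using e)) (h.odd cit hx)
  · exact absurd (by simp [sq]) (hx 1)

end FP

theorem sl_pow_of_trace {F : Type} [Field F] [CharP F p] {x : SL(2, F)} (h : x 0 0 + x 1 1 = 2) :
    x ^ p = 1 := by
  have hd := x.det_coe
  rw [det_fin_two] at hd
  have k : ((x : Matrix (Fin 2) (Fin 2) F) - 1) ^ 2 = 0 := by
    ext i j
    fin_cases i <;> fin_cases j <;> simp [sq, mul_apply, Fin.sum_univ_two]
    · linear_combination (x 0 0) * h - hd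
    · linear_combination (x 0 1) * h
    · linear_combination (x 1 0) * h
    · linear_combination (x 1 1) * h - hd
  have := sub_pow_char_of_commute p (Commute.one_right (x : Matrix (Fin 2) (Fin 2) F))
  rw [pow_eq_zero_of_le hp.out.two_le k, one_pow, eq_comm, sub_eq_zero] at this
  exact Subtype.ext this

theorem FP.sl {F : Type} [Field F] [Fintype F] {Y : Subgroup SL(2, F)} {Fp : SL(2, F) → Prop}
    (h : FP p Y Fp) (hc : Fintype.card F = Nat.card Y) : FC p Y Fp := by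
  obtain ⟨n, hn⟩ := (elemAb_isPGroup h.el).exists_card_eq
  rw [← hc] at hn
  haveI : CharP F p := charP_of_card_eq_prime_pow hn
  have hY : SylIn p Y ⊤ := (sylIn_uH hn).of_card_le (elemAb_isPGroup h.el) le_top
    (card_uH.trans hc).le
  have m : ∀ x : SL(2, F), x 0 0 + x 1 1 = 2 → ∃ g, x ∈ cj g Y := fun x hx => by
    obtain ⟨g, -, e⟩ := hY.exists_conj_mem (mem_top x) (k := 1) (by rw [pow_one, sl_pow_of_trace hx])
    exact ⟨g⁻¹, mem_cj.2 (by rwa [inv_inv])⟩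
  have k1 : ∀ x : SL(2, F), x 1 0 ≠ 0 → x 0 0 + x 1 1 ≠ 2 → Fp x := fun x h1 h2 => by
    set t := (x 0 0 + x 1 1 - 2) / x 1 0 with ht
    have t0 : t ≠ 0 := div_ne_zero (sub_ne_zero.2 h2) h1
    obtain ⟨a, ha⟩ := m (x * uu (-t)) (by
      simp [uu_coe, mul_apply, Fin.sum_univ_two, ht]; field_simp; ring)
    obtain ⟨b, hb⟩ := m (uu t) (by simp [uu_coe]; ring)
    have ex : x * uu (-t) * uu t = x := by rw [mul_assoc, uu_mul, neg_add_cancel, uu_zero, mul_one]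
    refine ex ▸ h.mul (fun e => ?_) ha hb (fun e => h1 ?_) fun e => t0 (uu_inj (e.trans uu_zero.symm))
    · have := congrArg (fun y : SL(2, F) => y 0 0) (elemAb_le_Cz (elemAb_map h.el _) (e.le ha) _ hb)
      simp [uu_coe, mul_apply, Fin.sum_univ_two, t0, h1] at this
    · simpa [uu_coe, mul_apply, Fin.sum_univ_two] using congrArg (fun y : SL(2, F) => y 1 0) e
  have k2 : ∀ g x : SL(2, F), (g * x * g⁻¹) 1 0 ≠ 0 → x 0 0 + x 1 1 ≠ 2 → Fp x := fun g x h1 h2 => by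
    have := h.conj g⁻¹ _ (k1 _ h1 fun e => h2 (by
      have e' : trace ((g * x * g⁻¹ : SL(2, F)) : Matrix (Fin 2) (Fin 2) F) =
          trace ((g⁻¹ * g * x : SL(2, F)) : Matrix (Fin 2) (Fin 2) F) := trace_mul_cycle g.1 x.1 g⁻¹.1
      rw [inv_mul_cancel, one_mul, trace_fin_two, trace_fin_two] at e'
      exact e'.symm.trans e))
    simpa [mul_assoc] using this
  refine ⟨fun x hx => ?_, fun V h1 h2 h3 h4 => ?_⟩
  · have h2 : x 0 0 + x 1 1 ≠ 2 := fun e => hx 1 (by rw [pow_one, sl_pow_of_trace e])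
    by_cases e1 : x 1 0 = 0
    swap
    · exact k1 x e1 h2
    by_cases e2 : x 0 1 = 0
    swap
    · exact k2 (uu (-1) * ll 1 * uu (-1)) x (by
        rw [_root_.mul_inv_rev, _root_.mul_inv_rev, uu_inv, ll_inv]
        simpa [uu_coe, ll_coe, mul_apply, vecMul, dotProduct, Fin.sum_univ_two] using e2) h2
    by_cases e3 : x 0 0 = x 1 1
    swap
    · exact k2 (ll 1) x (by
        rw [ll_inv]
        simpa [ll_coe, mul_apply, vecMul, dotProduct, Fin.sum_univ_two, e1, e2, ← sub_eq_add_neg,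
          sub_eq_zero] using e3) h2
    have hd := x.det_coe
    rw [det_fin_two, e1, mul_zero, sub_zero] at hd
    refine h.cen x (ll 1) 1 ?_ (by rw [pow_one, sl_pow_of_trace (by simp [ll_coe]; ring)])
      (k1 _ ?_ ?_)
    · ext i j
      fin_cases i <;> fin_cases j <;> simp [ll_coe, mul_apply, Fin.sum_univ_two, e1, e2, e3]
    · simpa [ll_coe, mul_apply, Fin.sum_univ_two, e1] using right_ne_zero_of_mul_eq_one hd
    · simpa [ll_coe, mul_apply, Fin.sum_univ_two, e2] using h2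
  · have k : V ≤ Y := hY.le_of_le_Nm' (elemAb_isPGroup h3) le_top h1
    refine le_antisymm k ?_
    obtain ⟨g, -, rfl⟩ := (sylIn_uH hn).conj hY
    obtain ⟨⟨v, hv⟩, v1⟩ := ne_bot_iff_exists_ne_one.1 h4
    obtain ⟨t, ht⟩ := mem_uH.1 (mem_cj.1 (k hv))
    rw [cj_le_iff]
    rintro _ ⟨s, rfl⟩
    refine CfLp.addSubgroup_eq_top (Subgroup.toAddSubgroup' ((cj g⁻¹ V).comap (uH F)))
      (fun a t ht => ?_) (t := t) ?_ (fun e => v1 (Subtype.ext ?_)) s
    · change uu ((a : F) ^ 2 * t) ∈ cj g⁻¹ V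
      rw [← dd_conj_uu]
      refine conj_mem_of_mem_normalizer ?_ ht
      rw [← cj_normalizer]
      refine cj_mono _ h2 ?_
      rw [cj_normalizer, cj_inv_cj]
      refine mem_normalizer_of_cj_le (cj_le_iff_forall.2 ?_)
      rintro _ ⟨s, rfl⟩
      exact mem_uH.2 ⟨_, (dd_conj_uu a _).symm⟩
    · change uu t ∈ cj g⁻¹ V
      rw [ht]
      simpa using conj_mem_cj g⁻¹ hv
    · rw [e, uu_zero] at ht
      simpa [mul_assoc, inv_mul_eq_one] using ht.symm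

end CfH7
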