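import Cfsg.Agent.OD.Pre
import Cfsg.Agent.H7.PMin

/-!
The family `𝔐` (basic property), asymmetric `Y_M`, the family `ℌ`.
-/

set_option autoImplicit false
set_option linter.unusedSectionVars false
set_option linter.unusedVariables false
open Cfsg Subgroup CfH9
open scoped commutatorElement Pointwise

namespace CfH7

variable {G : Type*} [Group G] {p : ℕ} [Finite G] [Fact p.Prime]

/-- `M†` -/
abbrev dag (p : ℕ) (M : Subgroup G) : Subgroup G := M ⊔ Cz(largestPReducedOf p M)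

theorem dag_le_Nm (M : Subgroup G) : dag p M ≤ Nm(largestPReducedOf p M) :=
  sup_le (le_Nm_Y M) (Cz_le_Nm _)

theorem cj_dag (g : G) (M : Subgroup G) : cj g (dag p M) = dag p (cj g M) := by
  rw [cj_sup, cj_centralizer, cj_Y]

/-- the relation `L ≪ X` -/
def Below (p : ℕ) (T L X : Subgroup G) : Prop := ∃ L', T ≤ L' ∧ L' ≤ X ∧
  L' ⊔ Cz(largestPReducedOf p L) = L ⊔ Cz(largestPReducedOf p L)

theorem Below.Y_le {T L X : Subgroup G} (h : Below p T L X) (hT : SylIn p T ⊤) (hTL : T ≤ L)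
    (hX : ChP p X) : largestPReducedOf p L ≤ largestPReducedOf p X := by
  obtain ⟨L', h1, h2, h3⟩ := h
  have hYT : largestPReducedOf p L ≤ T := (Y_le_pCoreOf L).trans (sylIn_pCoreOf_le (hT.mono hTL le_top))
  exact ((pRed_Y L).of_sup_Cz_eq (hYT.trans h1) h3).le_Y_of_chP hX (hT.mono (h1.trans h2) le_top) h1 h2

theorem Below.trans {T L X X' : Subgroup G} (h : Below p T L X) (h' : Below p T X X')
    (hY : largestPReducedOf p L ≤ largestPReducedOf p X) : Below p T L X' := by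
  obtain ⟨L', h1, h2, h3⟩ := h
  obtain ⟨X₁, h4, h5, h6⟩ := h'
  have hX₁ : X₁ ≤ Nm(Cz(largestPReducedOf p X)) :=
    le_normalizer_centralizer ((le_sup_left.trans h6.le).trans (dag_le_Nm X))
  refine ⟨X₁ ⊓ (L' ⊔ Cz(largestPReducedOf p X)), le_inf h4 (h1.trans le_sup_left),
    inf_le_left.trans h5, ?_⟩
  have h7 := sup_inf_of_le_normalizer' (C := L' ⊔ Cz(largestPReducedOf p X)) hX₁ le_sup_right
  rw [h6, inf_eq_right.mpr (sup_le_sup_right h2 _)] at h7
  rw [← h3]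
  apply le_antisymm
  · exact sup_le (inf_le_right.trans (sup_le_sup_left (Cz_anti hY) _)) le_sup_right
  · exact sup_le ((le_sup_left.trans h7.le).trans (sup_le_sup_left (Cz_anti hY) _)) le_sup_right

theorem below_of_le {T L X : Subgroup G} (h1 : T ≤ L) (h2 : L ≤ X) : Below p T L X :=
  ⟨L, h1, h2, rfl⟩

theorem Y_inf_Nm {T L M : Subgroup G} (hT : SylIn p T ⊤) (hTL : T ≤ L) (hTM : T ≤ M) (hL : ChP p L)
    (hfac : M ⊔ Cz(largestPReducedOf p L) = L ⊔ Cz(largestPReducedOf p L)) :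
    largestPReducedOf p (M ⊓ Nm(T ⊓ Cz(largestPReducedOf p L))) = largestPReducedOf p L ∧
      (M ⊓ Nm(T ⊓ Cz(largestPReducedOf p L))) ⊔ Cz(largestPReducedOf p L) =
        L ⊔ Cz(largestPReducedOf p L) ∧ T ≤ M ⊓ Nm(T ⊓ Cz(largestPReducedOf p L)) := by
  have hY := pRed_Y (p := p) L
  set Y := largestPReducedOf p L with hYdef
  have hTL' := hT.mono hTL le_top
  have hTM' := hT.mono hTM le_top
  have hYT : Y ≤ T := (Y_le_pCoreOf L).trans (sylIn_pCoreOf_le hTL')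
  have hYM : PRed p Y M := hY.of_sup_Cz_eq (hYT.trans hTM) hfac
  have h1 := inf_Nm_sup_Cz hTM' hYM.norm
  have h2 := hYM.red.pCoreOf_inf_Nm hTM' hYM.norm
  have h3 := le_inf_Nm_inf_Cz (T := T) hTM hYM.norm
  refine ⟨le_antisymm ?_ (hYM.of_sup_Cz_eq (hYT.trans h3) h1).le_Y, by rw [h1, hfac], h3⟩
  refine (Y_le_OZ _).trans ?_
  rw [h2]
  exact (Y_eq_OZ hL hTL').ge

theorem exists_frakM (hH : IsOfParabolicCharacteristic p G) {T L : Subgroup G} (hT : SylIn p T ⊤)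
    (hTL : T ≤ L) (hL : L ∈ charPSubgroups p G) :
    ∃ M, T ≤ M ∧ IsInFrakM p M ∧ Below p T L M := by
  have hcp : ∀ {X Y : Subgroup G}, T ≤ X → IsPGroup p Y → Y ≠ ⊥ → X ≤ Nm(Y) →
      X ∈ charPSubgroups p G := fun {X Y} h1 h2 h3 h4 =>
    parabolicChar_mem_charPSubgroups hH hT h1 (ne_bot_of_le (le_pCoreOf
      ((hT.le_of_le_Nm h2 le_top (h1.trans h4)).trans h1) h4 h2) h3)
  have hYne : ∀ {X : Subgroup G}, X ∈ charPSubgroups p G → largestPReducedOf p X ≠ ⊥ :=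
    fun h => Y_ne_bot (chP_of_mem_charPSubgroups h) (mem_charPSubgroups.mp h).1
  let P : Subgroup G → Prop := fun X => T ≤ X ∧ X ∈ charPSubgroups p G ∧ Below p T L X
  obtain ⟨Y, ⟨X₀, hX₀, hY₀⟩, -, hYmax⟩ := exists_maximal_ge
    (fun Y => ∃ X, P X ∧ largestPReducedOf p X = Y) ⟨L, ⟨hTL, hL, below_of_le hTL le_rfl⟩, rfl⟩
  obtain ⟨D, ⟨X, hX, hYX, hD⟩, -, hDmax⟩ := exists_maximal_ge
    (fun D => ∃ X, P X ∧ largestPReducedOf p X = Y ∧ X ⊔ Cz(Y) = D) ⟨X₀, hX₀, hY₀, rfl⟩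
  obtain ⟨M, ⟨hTM, hMD⟩, -, hmin⟩ := exists_minimal_le
    (fun M => T ≤ M ∧ M ⊔ Cz(Y) = D) ⟨hX.1, hD⟩
  have hDN : D ≤ Nm(Y) := by rw [← hD, ← hYX]; exact dag_le_Nm X
  have hYp : IsPGroup p Y := hYX ▸ isPGroup_Y X
  have hY1 : Y ≠ ⊥ := hYX ▸ hYne hX.2.1
  have hMN : M ≤ Nm(Y) := (le_sup_left.trans hMD.le).trans hDN
  have hM : M ∈ charPSubgroups p G := hcp hTM hYp hY1 hMN
  have step : ∀ {A B : Subgroup G}, P A → largestPReducedOf p A = Y → B ∈ charPSubgroups p G →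
      T ≤ B → Below p T A B → P B ∧ largestPReducedOf p B = Y := by
    intro A B hA hAY hB hTB hAB
    have h1 : P B := ⟨hTB, hB, hA.2.2.trans hAB
      (hA.2.2.Y_le hT hTL (chP_of_mem_charPSubgroups hA.2.1))⟩
    exact ⟨h1, hYmax _ ⟨B, h1, rfl⟩ (hAY ▸ hAB.Y_le hT hA.1 (chP_of_mem_charPSubgroups hB))⟩
  obtain ⟨hPM, hYM⟩ := step hX hYX hM hTM ⟨M, hTM, le_rfl, by rw [hYX, hMD, hD]⟩
  have hover : ∀ W ∈ charPSubgroups p G, M ≤ W → W ≤ D ∧ largestPReducedOf p W = Y := by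
    intro W hW hMW
    obtain ⟨h1, h2⟩ := step hPM hYM hW (hTM.trans hMW) (below_of_le hTM hMW)
    exact ⟨le_sup_left.trans (hDmax _ ⟨W, h1, h2, rfl⟩ (hMD ▸ sup_le_sup_right hMW _)).le, h2⟩
  have hMD' : M ≤ D := le_sup_left.trans hMD.le
  have hDc : D ∈ charPSubgroups p G := hcp (hTM.trans hMD') hYp hY1 hDN
  have hTM' := hT.mono hTM le_top
  have hT0 := sylIn_inf_Cz hTM' hMN
  have hn0 : M ≤ Nm(T ⊓ Cz(Y)) := inf_eq_left.mp (hmin _
    ⟨le_inf_Nm_inf_Cz hTM hMN, by rw [inf_Nm_sup_Cz hTM' hMN, hMD]⟩ inf_le_left)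
  have hO : T ⊓ Cz(Y) ≤ pCoreOf p M := le_pCoreOf (inf_le_left.trans hTM) hn0 hT0.pgrp
  refine ⟨M, hTM, ?_, hPM.2.2⟩
  unfold IsInFrakM
  rw [hYM, hMD]
  refine ⟨hM, ⟨hDc, fun W hW h => le_antisymm (hover W hW (hMD'.trans h)).1 h⟩,
    fun W hW h => (hW.2 D hDc (hover W hW.1 h).1).symm, (hover D hDc hMD').2.symm,
    isPClosed_iff.mpr (pCl_of_sylIn hT0 (inf_le_left.trans hn0)), ?_⟩
  refine CfH1.le_frattini_iff.mpr fun K hK => ?_
  rw [map_le_iff_le_comap]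
  have hK' := isCoatom_comap_of_surjective (QuotientGroup.mk'_surjective (pCore p M)) hK
  set K' := K.comap (QuotientGroup.mk' (pCore p M)) with hK'def
  by_contra hne
  have h1 : K'.map M.subtype ⊔ (M ⊓ Cz(Y)) = M := by
    have := congrArg (Subgroup.map M.subtype) (CfH1.sup_eq_top_of_isCoatom hK' hne)
    rwa [Subgroup.map_sup, map_subgroupOf_eq_of_le inf_le_left, map_subtype_top, sup_comm] at this
  have hn1 : M ≤ Nm(M ⊓ Cz(Y)) := le_normalizer_inf le_normalizer (le_normalizer_centralizer hMN)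
  obtain ⟨g, hg, hle⟩ := exists_cj_le_of_sup (h1.symm ▸ hTM') ((map_subtype_le _).trans hn1) hT0
    (hO.trans (map_mono (CfH1.le_comap_mk' _ _)))
  rw [h1] at hg
  have h2 : cj g⁻¹ (K'.map M.subtype) = M := by
    refine hmin _ ⟨cj_le_iff.mp hle, ?_⟩ (cj_le_of_mem (map_subtype_le _) (inv_mem hg))
    have h3 := congrArg (cj g⁻¹) h1
    rw [cj_sup, cj_eq_of_mem_normalizer (hn1 (inv_mem hg)), cj_eq_of_mem (inv_mem hg)] at h3
    rw [← hMD]
    exact le_antisymm (sup_le_sup_right (le_sup_left.trans h3.le) _)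
      (sup_le (h3.ge.trans (sup_le_sup_left inf_le_right _)) le_sup_right)
  rw [cj_eq_iff, inv_inv, cj_eq_of_mem hg] at h2
  exact hK'.1 (map_injective M.subtype_injective (h2.trans (map_subtype_top M).symm))

/-- the standing hypotheses on `M` -/
structure FM (p : ℕ) (S M : Subgroup G) : Prop where
  par : IsOfParabolicCharacteristic p G
  syl : SylIn p S ⊤
  le : S ≤ M
  frak : IsInFrakM p M

theorem fm_of_large {Q M : Subgroup G} (S : Sylow p G) (hQ : IsLarge Q) (hQp : IsPGroup p Q)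
    (hSM : (S : Subgroup G) ≤ M) (hM : IsInFrakM p M) : FM p S M :=
  ⟨large_parabolicChar hQ hQp, sylIn_top S, hSM, hM⟩

namespace FM

variable {S M : Subgroup G}

local notation "Y" => largestPReducedOf p M
local notation "O" => pCoreOf p M

theorem mem (h : FM p S M) : M ∈ charPSubgroups p G := h.frak.1
theorem chP (h : FM p S M) : ChP p M := chP_of_mem_charPSubgroups h.mem
theorem O_ne (h : FM p S M) : O ≠ ⊥ := (mem_charPSubgroups.mp h.mem).1
theorem Cz_O (h : FM p S M) : Cz(O) ≤ O := (mem_charPSubgroups.mp h.mem).2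
theorem Y_ne (h : FM p S M) : Y ≠ ⊥ := Y_ne_bot h.chP h.O_ne
theorem Y_dag (h : FM p S M) : largestPReducedOf p (dag p M) = Y := h.frak.2.2.2.1.symm
theorem sylM (h : FM p S M) : SylIn p S M := h.syl.mono h.le le_top

theorem le_dag (h : FM p S M) {X : Subgroup G} (hX : X ∈ charPSubgroups p G) (hMX : M ≤ X) :
    X ≤ dag p M := by
  obtain ⟨W, hW, hXW⟩ := exists_maxCharP_ge hX
  exact hXW.trans (h.frak.2.2.1 W hW (hMX.trans hXW)).le

theorem Nm_le_dag (h : FM p S M) {I : Subgroup G} (hI : IsPGroup p I) (hne : I ≠ ⊥)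
    (hn : M ≤ Nm(I)) : Nm(I) ≤ dag p M :=
  h.le_dag (parabolicChar_mem_charPSubgroups h.par h.syl (h.le.trans hn)
    (ne_bot_of_le (le_pCoreOf le_normalizer le_rfl hI) hne)) hn

theorem Nm_Y (h : FM p S M) : Nm(Y) = dag p M :=
  le_antisymm (h.Nm_le_dag (isPGroup_Y M) h.Y_ne (le_Nm_Y M)) (dag_le_Nm M)

theorem Nm_O_le (h : FM p S M) : Nm(O) ≤ dag p M :=
  h.Nm_le_dag (isPGroup_pCoreOf M) h.O_ne (le_normalizer_pCoreOf M)

theorem Nm_O_le_Nm_Y (h : FM p S M) : Nm(O) ≤ Nm(Y) := h.Nm_O_le.trans (dag_le_Nm M)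

theorem O_eq (h : FM p S M) : O = S ⊓ Cz(Y) := by
  refine le_antisymm (le_inf (sylIn_pCoreOf_le h.sylM) (pCoreOf_le_Cz_Y M)) ?_
  refine ((isPClosed_iff.mp h.frak.2.2.2.2.1) _ (inf_le_inf_right _ h.le)
    (h.syl.pgrp.to_le inf_le_left)).trans (pCoreOf_le_pCoreOf_of_normal inf_le_left ?_)
  exact le_normalizer_inf le_normalizer (le_normalizer_centralizer (le_Nm_Y M))

theorem sylIn_O (h : FM p S M) : SylIn p O Cz(Y) := by
  have := sylIn_inf_Cz (h.syl.mono (h.le.trans (le_Nm_Y (p := p) M)) le_top) le_rfl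
  rwa [inf_eq_right.mpr (Cz_le_Nm _), ← h.O_eq] at this

theorem Y_eq (h : FM p S M) : Y = OZ p O := by
  have := Y_eq_OZ h.chP h.sylM
  rwa [← h.O_eq] at this

theorem inf_Cz_eq (h : FM p S M) {L : Subgroup G} (hL : IsPGroup p L) (hOL : O ≤ L) :
    L ⊓ Cz(Y) = O :=
  h.sylIn_O.eq_of_le (hL.to_le inf_le_left) inf_le_right (le_inf hOL (pCoreOf_le_Cz_Y M))

end FM

/-- asymmetric subgroup -/
def Asym (A : Subgroup G) : Prop := ∀ g : G, A ≤ Nm(cj g A) → cj g A ≤ Nm(A) → A ≤ Cz(cj g A)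

theorem asym_of_not (A : Subgroup G) (h : ¬ IsSymmetricIn A) : Asym A := fun g h1 h2 => by
  by_contra e
  exact h ⟨g, fun e' => e (comm_eq_bot_left.mp e'), le_inf (comm_le_left h2) (comm_le_right h1)⟩

theorem Asym.cj_cj {A : Subgroup G} (h : Asym A) {a b : G} (h1 : cj a A ≤ Nm(cj b A))
    (h2 : cj b A ≤ Nm(cj a A)) : cj a A ≤ Cz(cj b A) := by
  have e : cj b A = cj a (cj (a⁻¹ * b) A) := by rw [← cj_mul, mul_inv_cancel_left]
  rw [e, ← cj_normalizer, cj_le_cj_iff] at h1 h2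
  rw [e, ← cj_centralizer, cj_le_cj_iff]
  exact h _ h1 h2

theorem Asym.elemAb_nclo {A R : Subgroup G} (h : Asym A) (hA : IsElementaryAbelian p A)
    (h1 : A ≤ R) (h2 : R ≤ Nm(A)) : IsElementaryAbelian p (nclo A Nm(R)) := by
  have key : ∀ a ∈ Nm(R), ∀ b ∈ Nm(R), cj a A ≤ Nm(cj b A) := fun a ha b hb => by
    rw [← cj_normalizer]
    exact (cj_le_of_mem_Nm h1 ha).trans ((cj_eq_of_mem_normalizer hb).ge.trans (cj_mono b h2))
  exact elemAb_iSup (fun g => (elemAb_map hA _).2)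
    fun a b => h.cj_cj (key a a.2 b b.2) (key b b.2 a a.2)

namespace FM

variable {S M : Subgroup G}

local notation "Y" => largestPReducedOf p M
local notation "O" => pCoreOf p M

theorem wc (h : FM p S M) (ha : Asym Y) : WC p O := by
  refine wc_of_comm (isPGroup_pCoreOf M) fun g h1 h2 => ?_
  set P := cj g O with hP
  set L := O ⊔ P with hL
  have hLp : IsPGroup p L := isPGroup_sup (isPGroup_pCoreOf M) (isPGroup_cj (isPGroup_pCoreOf M) g) h1
  have hLO : L ≤ Nm(O) := sup_le le_normalizer h2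
  have hLP : L ≤ Nm(P) := sup_le h1 le_normalizer
  have hNP : Nm(P) ≤ Nm(cj g Y) := by
    rw [← cj_normalizer, ← cj_normalizer]; exact cj_mono g h.Nm_O_le_Nm_Y
  have hC1 : L ⊓ Cz(Y) = O := h.inf_Cz_eq hLp le_sup_left
  have hC2 : L ⊓ Cz(cj g Y) = P := by
    have := h.inf_Cz_eq (isPGroup_cj hLp g⁻¹) (cj_le_iff.mp (le_sup_right : P ≤ L))
    rw [hP, ← this, cj_inf, cj_cj_inv, cj_centralizer]
  let s : Set G := (Nm(O) : Set G) ∪ (Nm(P) : Set G)
  have hs : s⁻¹ = s := by simp [s]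
  -- the main induction
  have hL' : ∀ a : G, a = 1 ∨ a = g → L ≤ Nm(cj a Y) := by
    rintro a (rfl | rfl)
    · rw [cj_one]; exact hLO.trans h.Nm_O_le_Nm_Y
    · exact hLP.trans hNP
  have fin : ∀ w : G, (∀ a : G, a = 1 ∨ a = g → cj w (cj a Y) ≤ L ∧ cj w⁻¹ (cj a Y) ≤ L) →
      ∀ a : G, a = 1 ∨ a = g → cj w (cj a Y) ≤ O ⊓ P := by
    intro w hw a ha'
    have k : ∀ b : G, b = 1 ∨ b = g → cj w (cj a Y) ≤ Cz(cj b Y) := fun b hb => by
      rw [← cj_mul]
      refine ha.cj_cj (by rw [cj_mul]; exact (hw a ha').1.trans (hL' b hb)) ?_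
      rw [cj_mul, le_Nm_cj_iff]
      exact (hw b hb).2.trans (hL' a ha')
    rw [← hC1, ← hC2]
    refine le_inf (le_inf (hw a ha').1 ?_) (le_inf (hw a ha').1 (k g (Or.inr rfl)))
    have := k 1 (Or.inl rfl)
    rwa [cj_one] at this
  have main : ∀ n : ℕ, ∀ w ∈ s ^ n, ∀ a : G, a = 1 ∨ a = g → cj w (cj a Y) ≤ O ⊓ P := by
    intro n
    induction n with
    | zero =>
      intro w hw
      obtain rfl : w = 1 := by simpa using hw
      refine fin 1 fun a ha' => ?_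
      rw [inv_one, cj_one, and_self]
      rcases ha' with rfl | rfl
      · rw [cj_one]; exact (Y_le_pCoreOf M).trans le_sup_left
      · exact (cj_mono _ (Y_le_pCoreOf M)).trans le_sup_right
    | succ n ih =>
      have k : ∀ w ∈ s ^ (n + 1), ∀ a : G, a = 1 ∨ a = g → cj w (cj a Y) ≤ L := by
        intro w hw a ha'
        rw [pow_succ'] at hw
        obtain ⟨x, hx, y, hy, rfl⟩ := hw
        rw [cj_mul]
        rcases hx with hx | hx
        · exact (cj_le_of_mem_Nm ((ih y hy a ha').trans inf_le_left) hx).trans le_sup_left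
        · exact (cj_le_of_mem_Nm ((ih y hy a ha').trans inf_le_right) hx).trans le_sup_right
      intro w hw
      refine fin w fun a ha' => ⟨k w hw a ha', k w⁻¹ ?_ a ha'⟩
      rw [← hs, inv_pow]
      exact Set.inv_mem_inv.mpr hw
  have hX : ∀ w ∈ Nm(O) ⊔ Nm(P), ∃ n : ℕ, w ∈ s ^ n := by
    intro w hw
    rw [← closure_eq (Nm(O)), ← closure_eq (Nm(P)), ← Subgroup.closure_union] at hw
    induction hw using closure_induction with
    | mem x hx => exact ⟨1, by rw [pow_one]; exact hx⟩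
    | one => exact ⟨0, by simp⟩
    | mul x y _ _ h1 h2 =>
      obtain ⟨n, hn⟩ := h1
      obtain ⟨m, hm⟩ := h2
      exact ⟨n + m, by rw [pow_add]; exact Set.mul_mem_mul hn hm⟩
    | inv x _ h1 =>
      obtain ⟨n, hn⟩ := h1
      exact ⟨n, by rw [← hs, inv_pow]; exact Set.inv_mem_inv.mpr hn⟩
  have hW : nclo Y (Nm(O) ⊔ Nm(P)) ≤ O := nclo_le_iff'.mpr fun w hw => by
    obtain ⟨n, hn⟩ := hX w hw
    have := main n w hn 1 (Or.inl rfl)
    rw [cj_one] at this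
    exact this.trans inf_le_left
  have hN : Nm(O) ⊔ Nm(P) ≤ dag p M := (right_le_Nm_nclo _ _).trans (h.Nm_le_dag
    ((isPGroup_pCoreOf M).to_le hW) (ne_bot_of_le (le_nclo _ _) h.Y_ne)
    (((le_normalizer_pCoreOf M).trans le_sup_left).trans (right_le_Nm_nclo _ _)))
  have h3 : M ≤ cj g⁻¹ (dag p M) := by
    rw [← cj_le_iff]
    refine le_trans ?_ (le_sup_right.trans hN)
    rw [← cj_normalizer]; exact cj_mono g (le_normalizer_pCoreOf M)
  have h4 := h.le_dag (cj_mem_charPSubgroups h.frak.2.1.1 g⁻¹) h3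
  have h5 : g ∈ Nm(Y) := by
    rw [← h.Y_dag]
    exact Nm_le_Nm_Y _ (inv_mem_iff.mp (mem_normalizer_of_cj_le h4))
  rw [← hC2, cj_eq_of_mem_normalizer h5, hC1]

theorem fusion (h : FM p S M) (ha : Asym Y) {x g : G} (hx : x ∈ Y) (hg : g * x * g⁻¹ ∈ Y) :
    ∃ m ∈ M, m * x * m⁻¹ = g * x * g⁻¹ := by
  have h1 : ∀ y ∈ Y, O ≤ Cx(y) := fun y hy => (pCoreOf_le_Cz_Y M).trans (Cz_le_Cx hy)
  have h2 : cj g⁻¹ O ≤ Cx(x) := by
    rw [cj_le_iff, inv_inv, cj_Cx]; exact h1 _ hg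
  obtain ⟨c, hc, e⟩ := (h.wc ha).exists_mem (h1 x hx) h2
  have h3 := h.Nm_O_le (mem_Nm_of_cj_eq_cj e.symm)
  rw [inv_inv] at h3
  obtain ⟨m, hm, d, hd, e'⟩ := (mem_sup_of_le_Nm (le_normalizer_centralizer (le_Nm_Y M))).mp h3
  refine ⟨m, hm, ?_⟩
  calc m * x * m⁻¹ = m * (d * x * d⁻¹) * m⁻¹ := by rw [conj_eq_of_mem_centralizer hd hx]
    _ = (m * d) * x * (m * d)⁻¹ := by group
    _ = g * (c * x * c⁻¹) * g⁻¹ := by rw [e']; group
    _ = _ := by rw [mem_Cx'.mp hc]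

theorem exists_sylIn (h : FM p S M) (ha : Asym Y) {L : Subgroup G} (hL : O ≤ L) :
    ∃ T, SylIn p T L ∧ O ≤ T ∧ T ≤ Nm(O) ∧ T ≤ L ⊓ dag p M := by
  obtain ⟨T, h1, h2, h3⟩ := (h.wc ha).exists_sylIn hL
  exact ⟨T, h1, h2, h3, le_inf h1.le (h3.trans h.Nm_O_le)⟩

end FM

/-- `H ∈ ℌ(O_p(M))` with `Y_M` asymmetric -/
structure FH (p : ℕ) (S M H : Subgroup G) : Prop extends FM p S M where
  asym : Asym (largestPReducedOf p M)
  frakH : IsInFrakH p M H

namespace FH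

variable {S M H : Subgroup G}

local notation "Y" => largestPReducedOf p M
local notation "O" => pCoreOf p M

theorem chPH (h : FH p S M H) : ChP p H := h.frakH.1
theorem O_le (h : FH p S M H) : O ≤ H := h.frakH.2.1
theorem Y_le' (h : FH p S M H) : Y ≤ H := (Y_le_pCoreOf M).trans h.O_le
theorem not_le (h : FH p S M H) : ¬ Y ≤ pCoreOf p H := h.frakH.2.2.1

theorem eq_or (h : FH p S M H) {P : Subgroup G} (h1 : O ≤ P) (h2 : P ≤ H) :
    P = H ∨ Y ≤ pCoreOf p P := h2.eq_or_lt.imp_right (h.frakH.2.2.2 P h1)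

theorem V_le_Nm_O (h : FH p S M H) : pCoreOf p H ≤ Nm(O) :=
  (h.wc h.asym).pCoreOf_le_Nm (h.O_le.trans le_normalizer)

theorem V_le_Nm_Y (h : FH p S M H) : pCoreOf p H ≤ Nm(Y) := h.V_le_Nm_O.trans h.Nm_O_le_Nm_Y

/-- a subgroup `L ≥ Y` with `Y ≰ O_p(L)` generates `H` together with `O` -/
theorem sup_eq (h : FH p S M H) {L P : Subgroup G} (hY : Y ≤ L) (h' : ¬ Y ≤ pCoreOf p L)
    (hLP : L ≤ P) (hOP : O ≤ P) (hP : P ≤ H) : P = H :=
  (h.eq_or hOP hP).resolve_right fun e => h' ((le_inf hY e).trans (inf_pCoreOf_le hLP))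

theorem res_sup (h : FH p S M H) : pResidualOf p H ⊔ O = H := by
  refine (h.eq_or le_sup_right (sup_le (pResidualOf_le H) h.O_le)).resolve_right fun e => ?_
  refine h.not_le (e.trans (SubnIn.pCoreOf_le ?_))
  obtain ⟨T, hT, hOT⟩ := exists_sylIn_ge (isPGroup_pCoreOf (p := p) M) h.O_le
  have h1 := (subnIn_of_isPGroup hT.pgrp hOT)
  have h2 : ∀ {A}, SubnIn A T → SubnIn (pResidualOf p H ⊔ A) H := fun {A} hA => by
    refine SubnIn.induction (P := fun A => SubnIn (pResidualOf p H ⊔ A) H) ?_ ?_ hA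
    · rw [sylIn_pResidualOf_sup hT]; exact SubnIn.refl H
    · intro A B hAB hn hB ih
      refine SubnIn.step (sup_le_sup_left hAB _) (sup_le (le_sup_left.trans le_normalizer) ?_) ih
      exact le_normalizer_sup ((hB.le.trans hT.le).trans (le_normalizer_pResidualOf H)) hn
  exact h2 h1

theorem nclo_Y (h : FH p S M H) : nclo Y H = nclo Y (pResidualOf p H) := by
  conv_lhs => rw [← h.res_sup]
  exact nclo_sup_of_le_Nm ((pCoreOf_le M).trans (le_Nm_Y M))
    (h.O_le.trans (le_normalizer_pResidualOf H))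

theorem res_le_nclo (h : FH p S M H) : pResidualOf p H ≤ nclo Y H := by
  have h1 := h.sup_eq (le_nclo Y H) (fun e => h.not_le (e.trans (pCoreOf_le_pCoreOf_of_normal
    (nclo_le_of_le h.Y_le') (right_le_Nm_nclo _ _)))) (le_sup_left : _ ≤ nclo Y H ⊔ O)
    le_sup_right (sup_le (nclo_le_of_le h.Y_le') h.O_le)
  exact pResidualOf_le_of_le_sup (isPGroup_pCoreOf M) (h.O_le.trans (right_le_Nm_nclo _ _)) h1.ge

theorem comm_res (h : FH p S M H) : ⁅pResidualOf p H, Y⁆ = pResidualOf p H :=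
  commutator_pResidualOf_eq (pResidualOf_pResidualOf H) (isPGroup_Y M)
    (h.Y_le'.trans (le_normalizer_pResidualOf H)) (h.nclo_Y ▸ h.res_le_nclo)

theorem res_sup_Y (h : FH p S M H) : pResidualOf p H ⊔ Y = nclo Y H :=
  le_antisymm (sup_le h.res_le_nclo (le_nclo _ _)) (nclo_le (by
    conv_lhs => rw [← h.res_sup]
    exact sup_le (le_sup_left.trans le_normalizer) (le_normalizer_sup
      (h.O_le.trans (le_normalizer_pResidualOf H)) ((pCoreOf_le M).trans (le_Nm_Y M))))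
    le_sup_right)

theorem nclo_O (h : FH p S M H) : nclo O H = H :=
  le_antisymm (nclo_le_of_le h.O_le) (h.res_sup.ge.trans (sup_le
    (h.res_le_nclo.trans (nclo_mono (Y_le_pCoreOf M) le_rfl)) (le_nclo _ _)))

theorem pIrr (h : FH p S M H) : PIrr p H := by
  refine ⟨fun e => h.not_le (e _ h.Y_le' (isPGroup_Y M)), fun N hN hn hc => ?_⟩
  rcases h.eq_or (le_sup_right : O ≤ N ⊔ O) (sup_le hN h.O_le) with e | e
  · exact pResidualOf_le_of_le_sup (isPGroup_pCoreOf M) (h.O_le.trans hn) e.ge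
  · exfalso
    have h1 : ⁅N, Y⁆ ≤ pCoreOf p H :=
      (le_inf (comm_le_left (h.Y_le'.trans hn)) ((commutator_mono le_rfl e).trans
        (comm_le_right (le_sup_left.trans (le_normalizer_pCoreOf _))))).trans
        ((inf_pCoreOf_le le_sup_left).trans (pCoreOf_le_pCoreOf_of_normal hN hn))
    have h2 : ⁅N, pResidualOf p H⁆ ≤ pCoreOf p H := (commutator_mono le_rfl h.res_le_nclo).trans
      (commutator_nclo_le hn (le_normalizer_pCoreOf H) (h.Y_le'.trans (le_normalizer_pCoreOf H)) h1)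
    obtain ⟨T, hT⟩ := CfH9.exists_sylIn p H
    have h3 := hT.inf_normal' hn hN
    have h4 : H ≤ Nm((T ⊓ N) ⊔ pCoreOf p H) := by
      conv_lhs => rw [← sylIn_pResidualOf_sup hT]
      refine sup_le (le_Nm_sup_of_comm_le ((pResidualOf_le H).trans (le_normalizer_pCoreOf H))
        (((commutator_mono inf_le_right le_rfl).trans h2).trans le_sup_right)) ?_
      exact le_normalizer_sup (le_normalizer_inf le_normalizer (hT.le.trans hn))
        (hT.le.trans (le_normalizer_pCoreOf H))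
    have h5 := le_pCoreOf (sup_le (h3.le.trans hN) (pCoreOf_le H)) h4
      (hT.pgrp.to_le (sup_le inf_le_left (sylIn_pCoreOf_le hT)))
    exact hc (pCl_of_sylIn_le h3 ((le_inf h3.le (le_sup_left.trans h5)).trans (inf_pCoreOf_le hN)))

end FH

end CfH7
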