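import Cfsg.Agent.OD.Pre
import Cfsg.Agent.H7.FrL1
import Cfsg.Agent.H7.FrakM
import Cfsg.Agent.L.PU4
import Cfsg.Agent.S2837

/-! Members of `𝔏_G(Y_M)`. -/

set_option autoImplicit false
set_option linter.unusedSectionVars false

open Cfsg Subgroup CfH9 Matrix
open scoped commutatorElement MatrixGroups

namespace CfH7

open CfLp (comm_mul_left comm_mul_right conj_comm comm_mem_symm comm_eq_one comm_eq_one')

variable {L : Type*} [Group L] {H : Type*} [Group H]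

/-- a `Y`-minimal group with `O_p(L) = ⟨(O_p(L) ∩ Y)^L⟩` -/
structure FL (p : ℕ) (Y : Subgroup L) : Prop where
  el : IsElementaryAbelian p Y
  min : MinOver Y ⊤ Nm(Y)
  chp : Cz(pCore p L) ≤ pCore p L
  nA : pCore p L ≤ Nm(Y)
  clo : pCore p L = nclo (pCore p L ⊓ Y) ⊤

/-- `h` acts fixed-point-freely on `O_p(L) / C_Y(L)` -/
def Fpf (p : ℕ) (Y : Subgroup L) (h : L) : Prop :=
  ∀ a ∈ pCore p L, ⁅h, a⁆ ∈ Y ⊓ center L → a ∈ Y ⊓ center L

instance inf_center_normal (Y : Subgroup L) : (Y ⊓ center L).Normal :=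
  ⟨fun x hx g => by rwa [mem_center_iff.1 hx.2 g, mul_inv_cancel_right]⟩

variable [Finite L] {p : ℕ} [hp : Fact p.Prime] {Y : Subgroup L}

namespace FL

theorem aux (h : FL p Y) {g : L} (hg : g ∉ Nm(Y)) : ⁅pCore p L, pCore p L⁆ ≤ Y ⊓ center L ∧
    Y ⊓ cj g Y = Y ⊓ center L ∧ pCore p L ⊓ center L = Y ⊓ center L := by
  obtain ⟨-, h1, -, h2, h3, -, h4⟩ := Cfsg.Agent.S2837.result h.chp _ h.min.isCoatom Y h.min.le h.el
    (isMinimalOver_iff_top.2 ⟨_, h.min⟩) h.nA _ (h.clo.trans (nclo_top _)) g hg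
  exact ⟨h1.le.trans h2, h3, h4⟩

theorem ex (h : FL p Y) : ∃ g, g ∉ Nm(Y) := (SetLike.exists_of_lt h.min.lt).imp fun _ e => e.2

theorem AA (h : FL p Y) {a b : L} (ha : a ∈ pCore p L) (hb : b ∈ pCore p L) :
    ⁅a, b⁆ ∈ Y ⊓ center L :=
  h.ex.elim fun _ hg => (h.aux hg).1 (commutator_mem_commutator ha hb)

theorem comm_mem (h : FL p Y) {g a y : L} (ha : a ∈ pCore p L) (hy : y ∈ cj g Y) :
    ⁅y, a⁆ ∈ cj g Y := commutator_mem_left hy (by
  rw [← cj_normalizer]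
  exact cj_mono g h.nA ((cj_normal g _).ge ha))

theorem dec (h : FL p Y) {g a : L} (hg : g ∉ Nm(Y)) (ha : a ∈ pCore p L) :
    ∃ b ∈ pCore p L ⊓ Y, ∃ c ∈ pCore p L ⊓ cj g Y, b * c = a := by
  have c : ∀ x, ⁅(pCore p L ⊓ Y) ⊔ (pCore p L ⊓ cj g Y), cj x Y⁆ ≤ pCore p L ⊓ cj x Y := fun x =>
    (commutator_mono (sup_le inf_le_left inf_le_left) le_rfl).trans (le_inf
      (comm_le_left (le_Nm_normal _ _))
      (commutator_le.2 fun _ ha _ hy => comm_mem_symm (h.comm_mem ha hy)))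
  have c1 := c 1
  rw [cj_one] at c1
  rw [h.clo] at ha
  refine (mem_sup_of_le_Nm (le_normalizer_inf (le_Nm_normal _ _) (le_Nm_of_comm_le_left
    (commutator_le.2 fun _ hy _ ha => h.comm_mem (mi1 ha) hy)))).1 (nclo_le ?_ le_sup_left ha)
  rw [← h.min.sup_cj (mem_top g) hg]
  exact sup_le (le_Nm_of_comm_le_left (c1.trans le_sup_left))
    (le_Nm_of_comm_le_left ((c g).trans le_sup_right))

theorem fix (h : FL p Y) {y a : L} (hy : y ∈ Y) (hy' : y ∉ pCore p L) (ha : a ∈ pCore p L)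
    (e : ⁅y, a⁆ ∈ Y ⊓ center L) : a ∈ Y := by
  obtain ⟨g, hg⟩ : ∃ g, y ∉ cj g Nm(Y) := by
    by_contra! hh
    exact hy' (pCoreOf_le_pCore_of_subnormal (Subgroup.Normal.isSubnormal inferInstance)
      (h.min.pCl_of_normal (elemAb_isPGroup h.el) (normalCore_le _) (top_le_Nm _) _
        (zpowers_le.2 fun b => mem_cj_inv.1 (hh b⁻¹))
        ((elemAb_isPGroup h.el).to_le (zpowers_le.2 hy)) (mem_zpowers y)))
  have hg' : g ∉ Nm(Y) := fun e => hg ((cj_eq_of_mem e).ge (le_normalizer hy))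
  obtain ⟨b, hb, c, hc, rfl⟩ := h.dec hg' ha
  have m := h.min.conj g
  rw [cj_top] at m
  have ab := elemAb_le_Cz (elemAb_map h.el (MulAut.conj g).toMonoidHom)
  rw [comm_mul_right, comm_eq_one (elemAb_le_Cz h.el hy) hb.2, one_mul,
    Subgroup.Normal.mem_comm_iff inferInstance, inv_mul_cancel_left] at e
  have k1 : secCz (zpowers c) (Y ⊓ center L) = ⊤ := m.eq_of_not_le (fun x hx =>
    CfLp.mem_secCz_zpowers (mem_Nm_of_normal _ _) (mem_Nm_of_normal _ _)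
      (by rw [comm_eq_one (ab hc.2) hx]; exact one_mem _)) le_top fun e' => hg (e'
        (CfLp.mem_secCz_zpowers (mem_Nm_of_normal _ _) (mem_Nm_of_normal _ _) (comm_mem_symm e)))
  have k2 := m.le_of_le_Nm (N := Cz(zpowers c ⊔ (Y ⊓ center L)))
    (le_Cz_comm (sup_le (zpowers_le.2 (ab hc.2))
      (inf_le_right.trans (Cz_top.ge.trans (Cz_anti le_top)))))
    ((le_Nm_sup_of_comm_le (le_Nm_normal _ _)
      ((commutator_le_of_le_secCz k1.ge).trans le_sup_right)).trans (Nm_le_Nm_Cz _))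
  exact mul_mem hb.2 ((h.aux hg').2.2.le (mi hc.1
    (Cz_top.le (le_Cz_comm k2 (mem_sup_left (mem_zpowers c)))))).1

theorem comm_mul_iff (h : FL p Y) {x α a : L} (hα : α ∈ pCore p L) (ha : a ∈ pCore p L) :
    ⁅x * α, a⁆ ∈ Y ⊓ center L ↔ ⁅x, a⁆ ∈ Y ⊓ center L := by
  rw [comm_mul_left, mul_mem_cancel_left (Subgroup.Normal.conj_mem inferInstance _ (h.AA hα ha) x)]

theorem fpf_mul (h : FL p Y) {g x y : L} (hg : g ∉ Nm(Y)) (hx : x ∈ Y) (hy : y ∈ cj g Y)
    (hx' : x ∉ pCore p L) (hy' : y ∉ pCore p L) : Fpf p Y (x * y) := fun a ha e => by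
  have e1 := h.comm_mem (g := 1) ha ((cj_one Y).ge hx)
  rw [cj_one] at e1
  rw [comm_mul_left] at e
  have e2 : ⁅y, a⁆ ∈ Y ⊓ center L := (h.aux hg).2.1.le (mi (by
    have := (mul_mem_cancel_right e1).1 e.1
    rwa [mul_mem_cancel_right (inv_mem hx), mul_mem_cancel_left hx] at this) (h.comm_mem ha hy))
  rw [mul_mem_cancel_left (Subgroup.Normal.conj_mem inferInstance _ e2 x)] at e
  refine (h.aux hg).2.1.le (mi (h.fix hx hx' ha e) (mem_cj.2 (h.fix (mem_cj.1 hy)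
    (fun e => hy' ?_) ?_ ?_)))
  · simpa [mul_assoc] using Subgroup.Normal.conj_mem inferInstance _ e g
  · simpa using Subgroup.Normal.conj_mem inferInstance _ ha g⁻¹
  · have := Subgroup.Normal.conj_mem inferInstance _ e2 g⁻¹
    rwa [conj_comm, inv_inv] at this

theorem not_le (h : FL p Y) : ¬ Y ≤ pCore p L := fun e =>
  h.min.not_le_pCoreOf (p := p) (by rwa [pCoreOf_top])

theorem fp (h : FL p Y) [Finite H] {φ : L →* H} (hs : Function.Surjective φ) (hk : φ.ker = pCore p L) :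
    FP p (Y.map φ) fun x => ∀ g, φ g = x → Fpf p Y g := by
  have k0 : ∀ g g', φ g = φ g' → ∀ a ∈ pCore p L, ⁅g, a⁆ ∈ Y ⊓ center L → ⁅g', a⁆ ∈ Y ⊓ center L :=
    fun g g' e a ha e' => by
      rw [← mul_inv_cancel_left g g']
      exact (h.comm_mul_iff (hk.le (by rw [MonoidHom.mem_ker, map_mul, map_inv, e, inv_mul_cancel]))
        ha).2 e'
  have k : ∀ g, Fpf p Y g → ∀ g', φ g' = φ g → Fpf p Y g' := fun g hg g' e a ha e' =>
    hg a ha (k0 _ _ e a ha e')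
  have n : ∀ g, g ∉ Nm(Y) → cj (φ g) (Y.map φ) ≠ Y.map φ := fun g hg e => by
    rw [← map_cj] at e
    have := e.le
    rw [map_le_iff_le_comap, comap_map_eq, hk] at this
    exact hg (h.min.mem_of_cj_le trivial (this.trans (sup_le le_normalizer h.nA)))
  refine ⟨elemAb_map h.el _, fun e => h.not_le (hk ▸ (Subgroup.map_eq_bot_iff _).1 e),
    h.ex.elim fun g hg => ⟨_, n g hg⟩, ?_, ?_, ?_, ?_, ?_, ?_⟩
  · rw [← map_top_of_surjective φ hs, ← map_nclo, h.min.clo]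
  · intro g hg x hx y hy x1 y1
    obtain ⟨g, rfl⟩ := hs g
    rw [← map_cj] at hg hy
    obtain ⟨x, hx, rfl⟩ := hx
    obtain ⟨y, hy, rfl⟩ := hy
    exact fun g' e => k _ (h.fpf_mul (fun e => hg (by rw [cj_eq_of_mem_normalizer e])) hx hy
      (fun e => x1 (hk.ge e)) fun e => y1 (hk.ge e)) g' (by rw [e, map_mul])
  · intro g x hx g' e a ha e'
    obtain ⟨g, rfl⟩ := hs g
    have := hx (g⁻¹ * g' * g) (by simp [e, mul_assoc]) (g⁻¹ * a * g)
      (by simpa using Subgroup.Normal.conj_mem inferInstance _ ha g⁻¹)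
      (by have := Subgroup.Normal.conj_mem inferInstance _ e' g⁻¹; rwa [conj_comm, inv_inv] at this)
    simpa [mul_assoc] using Subgroup.Normal.conj_mem inferInstance _ this g
  · intro x n hx g e a ha e'
    refine hx (g ^ n) (by rw [map_pow, e]) a ha (comm_mem_symm ((pow_mem (CfLp.mem_secCz_zpowers
      (mem_Nm_of_normal _ _) (mem_Nm_of_normal _ _) (comm_mem_symm e')) n).2 a (mem_zpowers a)))
  · intro e
    refine h.min.not_isPGroup (p := p) ((isPGroup_pCore p L).to_le (le_trans (le_Cz_comm fun a ha =>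
      Cz_top.ge (e 1 (map_one φ) a ha (by simpa using one_mem _)).2) h.chp))
  · intro z u n e1 e2 e3 g e a ha e'
    by_contra hn
    obtain ⟨u, rfl⟩ := hs u
    subst e
    let X := pCore p L ⊓ secCz (zpowers g) (Y ⊓ center L)
    have mX : ∀ {b}, b ∈ pCore p L → ⁅g, b⁆ ∈ Y ⊓ center L → b ∈ X := fun hb e => mi hb
      (CfLp.mem_secCz_zpowers (mem_Nm_of_normal _ _) (mem_Nm_of_normal _ _) e)
    have pu : IsPGroup p (zpowers u) := by
      obtain ⟨j, hj⟩ := isPGroup_iff_mem.1 (isPGroup_pCore p L) (u ^ p ^ n)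
        (hk.le (by rw [MonoidHom.mem_ker, map_pow, e2]))
      exact isPGroup_zpowers (k := n + j) (by rw [pow_add, pow_mul, hj])
    have nX : u ∈ Nm(X) := mem_normalizer_of_cj_le (cj_le_iff_forall.2 fun b hb => by
      refine mX (Subgroup.Normal.conj_mem inferInstance _ hb.1 u) (k0 (u * g * u⁻¹) g
        (by rw [map_mul, map_mul, ← e1, map_inv, mul_inv_cancel_right]) _
        (Subgroup.Normal.conj_mem inferInstance _ hb.1 u) ?_)
      rw [← conj_comm]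
      exact Subgroup.Normal.conj_mem inferInstance _ (hb.2.2 g (mem_zpowers g)) u)
    obtain ⟨_, ⟨b, hb, rfl⟩, b1, hc⟩ := exists_mem_center_of_normal
      (pu.map (QuotientGroup.mk' (Y ⊓ center L)))
      (((isPGroup_pCore p L).to_inf_left : IsPGroup p X).map (QuotientGroup.mk' (Y ⊓ center L)))
      (CfLp.map_le_Nm (zpowers_le.2 nX))
      fun e => hn ((CfH1.map_mk'_eq_bot_iff _ _).1 e (mX ha e'))
    have c1 := comm_eq_one' hc (mem_map_of_mem _ (mem_zpowers u))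
    rw [← map_commutatorElement, QuotientGroup.mk'_apply, QuotientGroup.eq_one_iff] at c1
    refine b1 ((QuotientGroup.eq_one_iff _).2 (e3 (g * u) (map_mul _ _ _) b hb.1 ?_))
    rw [comm_mul_left]
    exact mul_mem (Subgroup.Normal.conj_mem inferInstance _ c1 g) (hb.2.2 g (mem_zpowers g))

theorem of_hom (h : FL p Y) [Finite H] {φ : L →* H} (hs : Function.Surjective φ)
    (hk : φ.ker = pCore p L) (c : ∀ Fp, FP p (Y.map φ) Fp → FC p (Y.map φ) Fp) :
    (∀ g, (∀ k, g ^ p ^ k ≠ 1) → Fpf p Y g) ∧ ∀ V : Subgroup L, V ≤ Nm(Y) →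
      Nm(Y) ≤ Nm(V) → (∀ a ∈ V, ∀ b ∈ V, ⁅a, b⁆ ∈ pCore p L) → (∀ v ∈ V, v ^ p ∈ pCore p L) →
      ¬ V ≤ pCore p L → V ⊔ pCore p L = Y ⊔ pCore p L := by
  obtain ⟨c1, c2⟩ := c _ (h.fp hs hk)
  refine ⟨fun g hg => c1 _ (fun n e => ?_) g rfl, fun V h1 h2 h3 h4 h5 => ?_⟩
  · obtain ⟨j, hj⟩ := isPGroup_iff_mem.1 (isPGroup_pCore p L) (g ^ p ^ n)
      (hk.le (by rw [MonoidHom.mem_ker, map_pow, e]))
    exact hg (n + j) (by rw [pow_add, pow_mul, hj])
  · rw [← hk, ← comap_map_eq, ← comap_map_eq]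
    refine congrArg _ (c2 _ (CfLp.map_le_Nm h1) (fun g hg => ?_)
      ⟨comm_iff.2 ?_, ?_⟩ fun e => h5 (hk ▸ (Subgroup.map_eq_bot_iff _).1 e))
    · obtain ⟨g, rfl⟩ := hs g
      refine CfLp.map_le_Nm h2 (mem_map_of_mem _ (h.min.mem_of_cj_le trivial ?_))
      have := (mem_normalizer_iff_cj.1 hg).le
      rw [← map_cj, map_le_iff_le_comap, comap_map_eq, hk] at this
      exact this.trans (sup_le le_normalizer h.nA)
    · rintro _ ⟨a, ha, rfl⟩ _ ⟨b, hb, rfl⟩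
      rw [← commutatorElement_eq_one_iff_mul_comm, ← map_commutatorElement]
      exact hk.ge (h3 a ha b hb)
    · rintro _ ⟨a, ha, rfl⟩
      rw [← map_pow]
      exact hk.ge (h4 a ha)

end FL

theorem frakL_main {G : Type*} [Group G] [Finite G] {M L : Subgroup G} (hL : IsInFrakL p M L) :
    FL p ((largestPReducedOf p M).subgroupOf L) ∧
    (∀ g, (∀ k, g ^ p ^ k ≠ 1) → Fpf p ((largestPReducedOf p M).subgroupOf L) g) ∧
    ∀ V : Subgroup L, V ≤ Nm((largestPReducedOf p M).subgroupOf L) →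
      Nm((largestPReducedOf p M).subgroupOf L) ≤ Nm(V) → (∀ a ∈ V, ∀ b ∈ V, ⁅a, b⁆ ∈ pCore p L) →
      (∀ v ∈ V, v ^ p ∈ pCore p L) → ¬ V ≤ pCore p L →
      V ⊔ pCore p L = (largestPReducedOf p M).subgroupOf L ⊔ pCore p L := by
  obtain ⟨h1, h2, h3, h4, h5, ⟨h6, h7⟩, h8⟩ := hL
  have el := elemAb_Y (p := p) M
  set Y := largestPReducedOf p M
  have inj := L.subtype_injective
  have eN : Nm(Y.subgroupOf L) = (L ⊓ Nm(Y)).subgroupOf L := by
    rw [← subgroupOf_normalizer_eq h1, inf_subgroupOf_left]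
  have h : FL p (Y.subgroupOf L) := by
    refine ⟨elemAb_subgroupOf el L, ?_, h5, ?_, map_injective inj ?_⟩
    · obtain ⟨M', hM⟩ := (isMinimalOver_subgroupOf_iff h1).1 h4
      rw [← minOver_map_iff inj, eN, map_subtype_top, map_subgroupOf_eq_of_le h1,
        map_subgroupOf_eq_of_le inf_le_left]
      exact ⟨⟨le_inf h1 le_normalizer, h6, h7⟩, hM.clo⟩
    · rw [eN, ← subgroupOf_pCoreOf]
      exact comap_mono (le_inf (pCoreOf_le L) h3)
    · refine h2.trans ?_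
      rw [nclo_top, inf_comm, ← subgroupOf_pCoreOf]
      rfl
  have q : ∀ {H : Type} [Group H] (e : L ⧸ pCore p L ≃* H),
      Function.Surjective (e.toMonoidHom.comp (QuotientGroup.mk' (pCore p L))) ∧
      (e.toMonoidHom.comp (QuotientGroup.mk' (pCore p L))).ker = pCore p L := fun e =>
    ⟨e.surjective.comp (QuotientGroup.mk'_surjective _), by
      rw [← MonoidHom.comap_ker, (MonoidHom.ker_eq_bot_iff _).2 e.injective, MonoidHom.comap_bot,
        QuotientGroup.ker_mk']⟩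
  refine ⟨h, ?_⟩
  rcases h8 with ⟨F, _, _, hF, ⟨e⟩⟩ | ⟨rfl, F, _, _, m, hF, -, ⟨e⟩⟩ | ⟨rfl, r, r1, r2, ⟨e⟩⟩
  · refine h.of_hom (q e).1 (q e).2 fun _ k => k.sl ?_
    rw [hF, ← relIndex_ker, (q e).2, ← subgroupOf_pCoreOf, relIndex_subgroupOf h1, inf_relIndex_left]
  · haveI : CharP F 2 := charP_of_card_eq_prime_pow hF
    obtain ⟨ρ, s⟩ := exists_szM F (m + 1)
    exact h.of_hom (q e).1 (q e).2 fun _ k => k.sz s
  · haveI : NeZero r := ⟨r1.ne_zero⟩
    exact h.of_hom (q e).1 (q e).2 fun _ k => k.dih (r1.odd_of_ne_two r2)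

end CfH7
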