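import Cfsg.Agent.OD.Pre
import Cfsg.Agent.H7.Blk16
import Cfsg.Agent.H7.SPEFF
import Cfsg.Agent.H7.PMS5
import Cfsg.Agent.OD.Helper7x5eacb907bc

/-! The local `C*(G,T)`-theorem: the inductive statements and their relative versions. -/

set_option autoImplicit false
set_option linter.unusedSectionVars false

open Cfsg Subgroup CfH9 CfLp Equiv
open scoped commutatorElement MatrixGroups

namespace CfH7

open CfH8 (BB JJ MaxEl)

universe u

section Defs

variable {G : Type*} [Group G]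

/-- the block is linear -/
def Ln (p : ℕ) (E : Subgroup G) : Prop := ∃ (F : Type) (_ : Field F) (_ : Fintype F), LinB p E F

/-- extra property of exceptional blocks -/
def XB (p : ℕ) (B E : Subgroup G) : Prop :=
  pCoreOf p E ≤ B ∧ ⁅pCoreOf p E, B ⊓ Cz(bV p E)⁆ ≤ Cz(E)

/-- a good block, subnormal in `H` -/
structure GB (p : ℕ) (S H E : Subgroup G) : Prop where
  blk : IsBaumannBlock p S E
  sub : SubnIn E H
  sp : bV0 p E = ⊥ ∨ Ln p E
  xb : pCoreOf p E = bW p E ∨ XB p (BB p S) E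

end Defs

/-- existence of a good block outside a proper overgroup of `C*(G,T)` -/
def CoreS (p : ℕ) (G : Type*) [Group G] : Prop :=
  ∀ T M : Subgroup G, SylIn p T ⊤ → Cz(pCore p G) ≤ pCore p G → cStarOf p T ≤ M → M ≠ ⊤ →
    ∃ E, GB p T ⊤ E ∧ ¬ E ≤ M

/-- every block outside `C*(G,T)` lies in a good block -/
def FullS (p : ℕ) (G : Type*) [Group G] : Prop :=
  ∀ T F : Subgroup G, SylIn p T ⊤ → Cz(pCore p G) ≤ pCore p G → IsBaumannBlock p T F →
    ¬ F ≤ cStarOf p T → ∃ E, GB p T ⊤ E ∧ F ≤ E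

variable {G G' : Type*} [Group G] [Group G'] [Finite G] [Finite G'] {p : ℕ} [hp : Fact p.Prime]
  {S T T' H E F M : Subgroup G} {f : G →* G'}

theorem ln_of_md (h : IsBaumannBlock p T E) {K : Type} [Field K] [Fintype K]
    (c : ∃ n, Fintype.card K = p ^ n)
    (D : MD (commutator SL(2, K)) (⊤ : AddSubgroup (Fin 2 → K)) E (bV p E) (bV0 p E)) : Ln p E := by
  by_cases e : pCoreOf p E = bW p E
  · exact ⟨K, _, _, c, ⟨D⟩, Or.inl e⟩
  · rcases blk_kind h with l | ⟨rfl, m, l⟩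
    · exact l
    · exact absurd l.exc e

theorem map_bV0 (hf : Function.Injective f) (E : Subgroup G) :
    (bV0 p E).map f = bV0 p (E.map f) := by
  rw [bV0, map_inf_Cz hf, map_bV hf]

theorem map_bW (hf : Function.Injective f) (E : Subgroup G) : (bW p E).map f = bW p (E.map f) := by
  rw [bW, map_OZ_inj hf, map_pCoreOf_of_injective _ hf]

theorem GB.map (hf : Function.Injective f) (h : GB p S H E) :
    GB p (S.map f) (H.map f) (E.map f) := by
  have b := (blk_map_iff hf).2 h.blk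
  refine ⟨b, h.sub.map f, h.sp.imp (fun e => by rw [← map_bV0 hf, e, Subgroup.map_bot]) ?_,
    h.xb.imp (fun e => by rw [← map_bW hf, ← e, map_pCoreOf_of_injective _ hf]) fun e => ?_⟩
  · rintro ⟨K, _, _, l⟩
    obtain ⟨D⟩ := l.md
    have D' := D.map hf
    rw [map_bV0 hf, map_bV hf] at D'
    exact ln_of_md b l.card D'
  · rw [XB, ← map_pCoreOf_of_injective _ hf, ← map_B_inj hf, ← map_bV hf, ← map_inf_Cz hf,
      ← map_commutator]
    exact ⟨map_mono e.1, (map_mono e.2).trans (map_Cz_le _ _)⟩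

theorem GB.bk (h : GB p S H E) : BK p S E := bk_of h.blk

theorem GB.le (h : GB p S H E) : E ≤ H := h.sub.le

theorem GB.cj' (h : GB p S H E) (g : G) : GB p (cj g S) (cj g H) (cj g E) :=
  h.map (MulAut.conj g).injective

theorem BLK.exists_cj_B (h : BLK p T E) (s : E.IsSubnormal) (hT : SylIn p T' ⊤) :
    ∃ g ∈ Nm(E), CfH9.cj g (BB p T) = BB p T' := by
  obtain ⟨S₁, h1, h2⟩ := exists_sylIn_ge (isPGroup_B h.syl.pgrp) h.bk.B_le_Nm
  obtain ⟨S₂, h3, h4⟩ := exists_sylIn_ge (isPGroup_B hT.pgrp) (h.B_le_Nm s hT)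
  obtain ⟨g, hg, e⟩ := h1.conj h3
  exact ⟨g, hg, by rw [← B_eq_of_B_le h.syl h1.pgrp h2, CfH8.cj_B, e, B_eq_of_B_le hT h3.pgrp h4]⟩

theorem GB.of_syl (h : GB p T ⊤ E) (hT : SylIn p T ⊤) (hG : Cz(pCore p G) ≤ pCore p G)
    (hT' : SylIn p T' ⊤) : GB p T' ⊤ E := by
  have b : BLK p T E := ⟨hT, hG, h.blk⟩
  have s := subnIn_top_iff.1 h.sub
  obtain ⟨g, hg, e⟩ := b.exists_cj_B s hT'
  have k := (h.cj' g).xb
  rw [← CfH8.cj_B, e, cj_eq_of_mem_normalizer hg] at k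
  exact ⟨(b.of_syl s hT').blk, h.sub, h.sp, k⟩

theorem GB.cj_top (h : GB p T ⊤ E) (hT : SylIn p T ⊤) (hG : Cz(pCore p G) ≤ pCore p G) (g : G) :
    GB p T ⊤ (cj g E) := by
  have k := h.cj' g
  rw [CfH9.cj_top] at k
  exact k.of_syl (hT.cj_top g) hG hT

/-! ### passing to a subgroup -/

theorem chp_rel (hG : Cz(pCore p G) ≤ pCore p G) (hR : pCore p G ≤ H) : ChP p H :=
  chP_of_normal hR (le_Nm_normal _ _) (isPGroup_pCore p G) (inf_le_right.trans hG)

theorem blk_rel (hS : S ≤ H) (hE : E ≤ H) :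
    IsBaumannBlock p (S.subgroupOf H) (E.subgroupOf H) ↔ IsBaumannBlock p S E := by
  rw [← blk_map_iff H.subtype_injective, map_subgroupOf_eq_of_le hS, map_subgroupOf_eq_of_le hE]

theorem GB.of_rel (hS : S ≤ H) {E : Subgroup H} (h : GB p (S.subgroupOf H) ⊤ E) :
    GB p S H (E.map H.subtype) := by
  have := h.map H.subtype_injective
  rwa [map_subgroupOf_eq_of_le hS, map_subtype_top] at this

theorem char_map (hf : Function.Injective f) {C B : Subgroup G} (h : C ≤ B)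
    (c : (C.subgroupOf B).Characteristic) : ((C.map f).subgroupOf (B.map f)).Characteristic := by
  have e : (C.map f).subgroupOf (B.map f) =
      (C.subgroupOf B).map (B.equivMapOfInjective f hf).toMonoidHom := by
    ext x
    constructor
    · rintro ⟨y, hy, e⟩
      exact ⟨⟨y, h hy⟩, hy, Subtype.ext e⟩
    · rintro ⟨y, hy, rfl⟩
      exact ⟨y, hy, rfl⟩
  rw [e]
  refine characteristic_iff_map_eq.2 fun φ => ?_
  have := characteristic_iff_map_eq.1 c
    (((B.equivMapOfInjective f hf).trans φ).trans (B.equivMapOfInjective f hf).symm)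
  conv_rhs => rw [← this]
  rw [Subgroup.map_map, Subgroup.map_map]
  congr 1
  ext x
  simp

theorem map_cs_le (hf : Function.Injective f) (S : Subgroup G) :
    (cStarOf p S).map f ≤ cStarOf p (S.map f) := by
  refine map_le_iff_le_comap.2 (cs_le ?_ fun C h1 h2 h3 => ?_) <;> rw [← map_le_iff_le_comap]
  · exact (map_Cz_le _ _).trans (map_OZ_inj (p := p) hf S ▸ Cz_le_cs)
  · refine (le_normalizer_map f).trans (Nm_le_cs (map_B_inj (p := p) hf S ▸ map_mono h1)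
      (by rwa [ne_eq, map_eq_bot_iff_of_injective _ hf]) ?_)
    rw [← map_B_inj hf]
    exact char_map hf h1 h3

theorem cs_rel (hS : S ≤ H) : (cStarOf p (S.subgroupOf H)).map H.subtype ≤ H ⊓ cStarOf p S := by
  have := map_cs_le (p := p) H.subtype_injective (S.subgroupOf H)
  rw [map_subgroupOf_eq_of_le hS] at this
  exact le_inf (map_subtype_le _) this

theorem CoreS.rel (h : CoreS p H) (hS : SylIn p S H) (hc : ChP p H) (h1 : H ⊓ cStarOf p S ≤ M)
    (h2 : ¬ H ≤ M) : ∃ E, GB p S H E ∧ ¬ E ≤ M := by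
  obtain ⟨E, e1, e2⟩ := h _ (M.subgroupOf H) hS.subgroupOf_top hc
    (map_le_iff_le_comap.1 ((cs_rel hS.le).trans h1)) fun e => h2 (subgroupOf_eq_top.1 e)
  exact ⟨_, e1.of_rel hS.le, fun e => e2 (map_le_iff_le_comap.1 e)⟩

theorem FullS.rel (h : FullS p H) (hS : SylIn p S H) (hc : ChP p H) (hF : IsBaumannBlock p S F)
    (h1 : F ≤ H) (h2 : ¬ F ≤ cStarOf p S) : ∃ E, GB p S H E ∧ F ≤ E := by
  obtain ⟨E, e1, e2⟩ := h _ (F.subgroupOf H) hS.subgroupOf_top hc ((blk_rel hS.le h1).2 hF)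
    fun e => h2 ((map_subgroupOf_eq_of_le h1).ge.trans ((map_mono e).trans
      ((cs_rel hS.le).trans inf_le_right)))
  exact ⟨_, e1.of_rel hS.le, (map_subgroupOf_eq_of_le h1).ge.trans (map_mono e2)⟩

theorem GB.blk' (h : GB p S H E) (hS : SylIn p S H) (hc : ChP p H) :
    BLK p (S.subgroupOf H) (E.subgroupOf H) :=
  ⟨hS.subgroupOf_top, hc, (blk_rel hS.le h.le).2 h.blk⟩

theorem GB.le_or_comm (h : GB p S H E) (hS : SylIn p S H) (hc : ChP p H)
    (hF : IsBaumannBlock p S F) (h1 : F ≤ H) : F ≤ E ∨ F ≤ Cz(E) := by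
  refine ((h.blk' hS hc).le_or_comm h.sub.2
    ⟨hS.subgroupOf_top, hc, (blk_rel hS.le h1).2 hF⟩).imp (fun e => ?_) fun e => ?_
  · simpa [map_subgroupOf_eq_of_le h1, map_subgroupOf_eq_of_le h.le] using map_mono (f := H.subtype) e
  · rw [← subgroupOf_commutator h1 h.le, subgroupOf_eq_bot] at e
    exact comm_eq_bot_left.1 (e.eq_bot_of_le ((commutator_le_sup _ _).trans (sup_le h1 h.le)))

theorem GB.eq_or_comm (h : GB p S H E) (hS : SylIn p S H) (hc : ChP p H) (h' : GB p S H F) :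
    F = E ∨ F ≤ Cz(E) := by
  rcases h.le_or_comm hS hc h'.blk h'.le with e | e
  · exact (h'.le_or_comm hS hc h.blk h.le).imp (le_antisymm e) le_Cz_comm
  · exact Or.inr e

theorem GB.to_rel (h : GB p S H E) (hS : S ≤ H) : GB p (S.subgroupOf H) ⊤ (E.subgroupOf H) := by
  have hf := H.subtype_injective
  have e := map_subgroupOf_eq_of_le h.le
  have b := (blk_rel hS h.le).2 h.blk
  refine ⟨b, subnIn_top_iff.2 h.sub.2, h.sp.imp (fun e' => ?_) ?_, h.xb.imp (fun e' => ?_) fun e' => ?_⟩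
  · rw [← map_eq_bot_iff_of_injective _ hf, map_bV0 hf, e, e']
  · rintro ⟨K, _, _, l⟩
    obtain ⟨D⟩ := l.md
    rw [← e, ← map_bV0 hf, ← map_bV hf] at D
    exact ln_of_md b l.card (D.comap hf)
  · rw [← (Subgroup.map_injective hf).eq_iff, map_bW hf, map_pCoreOf_of_injective _ hf, e, e']
  · rw [XB, ← map_le_map_iff_of_injective hf, ← map_Cz_of_injective hf, map_commutator,
      map_inf_Cz hf, map_pCoreOf_of_injective _ hf, map_B_inj hf, map_bV hf, e,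
      map_subgroupOf_eq_of_le hS]
    exact e'

theorem GB.cj (h : GB p S H E) (hS : SylIn p S H) (hc : ChP p H) {g : G} (hg : g ∈ H) :
    GB p S H (cj g E) := by
  have := ((h.to_rel hS.le).cj_top hS.subgroupOf_top hc ⟨g, hg⟩).of_rel hS.le
  rwa [map_cj, map_subgroupOf_eq_of_le h.le] at this

theorem GB.cj_or (h : GB p S H E) (hS : SylIn p S H) (hc : ChP p H) {g : G} (hg : g ∈ H) :
    g ∈ Nm(E) ∨ CfH9.cj g E ≤ Cz(E) :=
  (h.eq_or_comm hS hc (h.cj hS hc hg)).imp_left mem_normalizer_iff_cj.2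

/-- the good blocks outside `M` -/
def KK (p : ℕ) (S H M : Subgroup G) : Set (Subgroup G) := {E | GB p S H E ∧ ¬ E ≤ M}

theorem KK.le_Nm (h : E ∈ KK p S H M) (hS : SylIn p S H) (hc : ChP p H) :
    sSup (KK p S H M) ≤ Nm(E) := sSup_le fun _ hF => (h.1.eq_or_comm hS hc hF.1).elim
  (fun e => e.le.trans le_normalizer) fun e => e.trans (Cz_le_Nm _)

theorem KK.cj (h : E ∈ KK p S H M) (hS : SylIn p S H) (hc : ChP p H) {g : G} (hg : g ∈ H ⊓ M) :
    cj g E ∈ KK p S H M := ⟨h.1.cj hS hc hg.1, fun e =>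
  h.2 ((cj_le_iff.1 e).trans (cj_eq_of_mem (inv_mem hg.2)).le)⟩

theorem sSup_KK_le : sSup (KK p S H M) ≤ H := sSup_le fun _ h => h.1.le

theorem CoreS.le_Nm (h : CoreS p H) (hS : SylIn p S H) (hc : ChP p H) (h1 : cStarOf p S ≤ M) :
    H ≤ Nm(sSup (KK p S H M)) := by
  by_contra e
  obtain ⟨E, e1, e2⟩ := h.rel hS hc (M := (H ⊓ M) ⊔ sSup (KK p S H M))
    ((inf_le_inf_left _ h1).trans le_sup_left) fun e' => e (e'.trans (sup_le (fun g hg =>
      mem_normalizer_of_cj_le (cj_le_iff.2 (sSup_le fun _ hF => cj_le_iff.1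
        (le_sSup (KK.cj hF hS hc hg))))) le_normalizer))
  exact e2 (le_sup_of_le_right (le_sSup ⟨e1, fun e' => e2 (le_sup_of_le_left (le_inf e1.le e'))⟩))

theorem CoreS.sup_eq (h : CoreS p G) (hT : SylIn p T ⊤) (hG : Cz(pCore p G) ≤ pCore p G) :
    cStarOf p T ⊔ sSup (KK p T ⊤ (cStarOf p T)) = ⊤ := by
  by_contra e
  obtain ⟨E, e1, e2⟩ := h T _ hT hG le_sup_left e
  exact e2 (le_sup_of_le_right (le_sSup ⟨e1, fun e' => e2 (le_sup_of_le_left e')⟩))

theorem full_of_core (h : CoreS p G) (ih : ∀ H : Subgroup G, H ≠ ⊤ → FullS p H) : FullS p G := by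
  intro T F hT hG hF hn
  have c : ChP p (⊤ : Subgroup G) := chp_rel hG le_top
  by_contra e
  push Not at e
  set K := sSup (KK p T ⊤ (cStarOf p T))
  have e1 : F ≤ Cz(K) := le_Cz_comm (sSup_le fun E hE => le_Cz_comm
    ((hE.1.le_or_comm hT c hF le_top).resolve_left (e E hE.1)))
  haveI n : K.Normal := normal_of_top_le_normalizer ((h.sup_eq hT hG).ge.trans (sup_le
    (fun g hg => mem_normalizer_of_cj_le (cj_le_iff.2 (sSup_le fun _ hF => cj_le_iff.1
      (le_sSup (KK.cj hF hT c (mi trivial hg)))))) le_normalizer))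
  have e2 : Cz(K) ⊔ T ≠ ⊤ := fun e' => by
    obtain ⟨E, b1, b2⟩ := h T _ hT hG le_rfl fun e => hn (le_top.trans e.ge)
    exact b1.bk.not_le_Cz ((b1.bk.le_of_le_sup hT.pgrp (le_Nm_normal _ _) (le_top.trans e'.ge)).trans
      (Cz_anti (le_sSup ⟨b1, b2⟩)))
  obtain ⟨E, b1, b2⟩ := (ih _ e2).rel (hT.mono le_sup_right le_top)
    (chp_rel hG ((R_le_syl hT).trans le_sup_right)) hF (e1.trans le_sup_left) hn
  exact e E ⟨b1.blk, subnIn_top_iff.2 ((b1.sub.mono_right (b1.bk.le_of_le_sup hT.pgrp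
    (le_Nm_normal _ _) b1.le) le_sup_left).isSubnormal (Normal.isSubnormal inferInstance)),
    b1.sp, b1.xb⟩ b2

/-- a minimal counterexample -/
structure MC (p : ℕ) (T M : Subgroup G) : Prop where
  syl : SylIn p T ⊤
  chp : Cz(pCore p G) ≤ pCore p G
  cs : cStarOf p T ≤ M
  ne : M ≠ ⊤
  no : ∀ E, GB p T ⊤ E → E ≤ M
  core : ∀ H : Subgroup G, H ≠ ⊤ → CoreS p H
  full : ∀ H : Subgroup G, H ≠ ⊤ → FullS p H

namespace MC

variable (h : MC p T M)
include h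

theorem TM : T ≤ M := T_le_cs.trans h.cs

theorem RT : pCore p G ≤ T := R_le_syl h.syl

theorem CZ : Cz(OZ p T) ≤ M := Cz_le_cs.trans h.cs

theorem ZV : OZ p T ≤ VG p G := OZ_le_OZ_pCore h.syl h.chp

theorem CV : Cz(VG p G) ≤ M := (Cz_anti h.ZV).trans h.CZ

theorem sylH (hT : T ≤ H) : SylIn p T H := h.syl.mono hT le_top

theorem chH (hT : T ≤ H) : ChP p H := chp_rel h.chp (h.RT.trans hT)

theorem blk (hE : IsBaumannBlock p T E) : BLK p T E := ⟨h.syl, h.chp, hE⟩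

theorem B_ne : BB p T ≠ ⊥ := fun e => h.ne (top_unique (le_trans (by
  rw [le_bot_iff.1 ((CfH8.OZ_le_OZ_J T).trans ((OZ_le _).trans ((CfH8.J_le_B T).trans e.le)))]
  exact le_Cz_comm bot_le) h.CZ))

theorem NB : Nm(BB p T) ≤ M := (NmB_le_cs h.B_ne).trans h.cs

theorem NT : Nm(T) ≤ M := (CfH8.Nm_le_Nm_B T).trans h.NB

theorem J_ne : JJ p T ≠ ⊥ := fun e => h.ne (top_unique (le_trans (by
  rw [le_bot_iff.1 ((CfH8.OZ_le_OZ_J T).trans ((OZ_le _).trans e.le))]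
  exact le_Cz_comm bot_le) h.CZ))

theorem NJ : Nm(JJ p T) ≤ M := (Nm_le_cs (CfH8.J_le_B T) h.J_ne J_char).trans h.cs

theorem core' (hT : T ≤ H) (h1 : H ≠ ⊤) (h2 : ¬ H ≤ M) : ∃ E, E ∈ KK p T H M :=
  (h.core H h1).rel (h.sylH hT) (h.chH hT) (inf_le_right.trans h.cs) h2

theorem full' (hT : T ≤ H) (h1 : H ≠ ⊤) (hF : IsBaumannBlock p T F) (h2 : F ≤ H) (h3 : ¬ F ≤ M) :
    ∃ E, GB p T H E ∧ F ≤ E :=
  (h.full H h1).rel (h.sylH hT) (h.chH hT) hF h2 fun e => h3 (e.trans h.cs)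

theorem V_le {U : Subgroup G} [U.Normal] (hU : U ≤ VG p G) (hE : IsBaumannBlock p T E)
    (hn : ¬ U ≤ Cz(E)) : bV p E ≤ U := by
  have b := bk_of hE
  refine (b.irr' (((commutator_mono hU le_rfl).trans (b.comm_V h.syl h.chp).le).trans (bV_le E))
    (right_le_Nm_comm _ _) fun e => hn ?_).trans (commutator_le_left _ _)
  exact b.le_Cz_of ((elemAb_isPGroup elemAb_VG).to_le hU) (le_Nm_normal _ _) le_rfl e

theorem not_sup {U : Subgroup G} [U.Normal] (hU : U ≤ VG p G) (hE : GB p T H E) (hM : ¬ E ≤ M)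
    (hn : ¬ U ≤ Cz(E)) : H ⊔ Cz(U) ≠ ⊤ := fun e => by
  have c := (Cz_anti (h.V_le hU hE.blk hn)).trans (h.blk hE.blk).Cz_le
  refine hM (h.no E ⟨hE.blk, SubnIn.step le_sup_left (sup_le le_normalizer c) ?_, hE.sp, hE.xb⟩)
  have s := (hE.sub.map (QuotientGroup.mk' Cz(U))).comap (QuotientGroup.mk' Cz(U))
  rwa [comap_map_eq, comap_map_eq, QuotientGroup.ker_mk', e] at s

/-- Frattini argument for a normal subgroup covered by `C(U)` -/
theorem Nm_sup {U N : Subgroup G} [N.Normal] (e : N ≤ T ⊔ Cz(U)) (hN : Cz(U) ≤ N) [U.Normal] :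
    Nm(T ⊓ N) ⊔ Cz(U) = ⊤ := by
  have k := (h.syl.inf_normal' (top_le_Nm N) le_top).frattini_sup (top_le_Nm N) le_top
  rw [top_inf_eq] at k
  refine top_unique (k.ge.trans (sup_le (fun x hx => ?_) le_sup_left))
  obtain ⟨t, ht, c, hc, rfl⟩ := (mem_sup_of_le_Nm (le_Nm_normal _ _)).1 (e hx)
  exact mul_mem_sup (le_normalizer (mi ht ((mul_mem_cancel_right (hN hc)).1 hx))) hc

theorem T_le_Nm (N : Subgroup G) [N.Normal] : T ≤ Nm(T ⊓ N) :=
  le_normalizer_inf le_normalizer (le_Nm_normal _ _)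

theorem le_R_of (N : Subgroup G) (e : Nm(T ⊓ N) = ⊤) : T ⊓ N ≤ pCore p G :=
  le_pCore (normal_of_top_le_normalizer e.ge) h.syl.pgrp.to_inf_left

theorem inf_le_R {N : Subgroup G} [N.Normal] (e : N ≤ T ⊔ Cz(VG p G)) (hN : Cz(VG p G) ≤ N) :
    T ⊓ N ≤ pCore p G := h.le_R_of N (by
  by_contra e'
  have k := h.Nm_sup e hN
  obtain ⟨E, b1, b2⟩ := h.core' (h.T_le_Nm N) e' fun e => h.ne (top_unique (k.ge.trans (sup_le e h.CV)))
  exact h.not_sup le_rfl b1 b2 (fun e => b1.bk.ne (comm_eq_bot_right.2 (h.ZV.trans e))) k)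

theorem le_R {X : Subgroup G} (h1 : IsPGroup p X) (h2 : X ≤ Cz(VG p G)) : X ≤ pCore p G := by
  obtain ⟨g, -, hg⟩ := h.syl.exists_cj_le h1 le_top
  have := (le_inf hg ((cj_mono g h2).trans (cj_normal g _).le)).trans (h.inf_le_R le_sup_right le_rfl)
  rwa [cj_le_iff, cj_normal] at this

theorem mem_R {X : Subgroup G} (h1 : IsPGroup p X) {x : G} (hx : x ∈ X) (h2 : x ∈ Cz(VG p G)) :
    x ∈ pCore p G := h.le_R (h1.to_le (inf_le_left : X ⊓ Cz(VG p G) ≤ X)) inf_le_right (mi hx h2)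

theorem pCore_quot : pCore p (G ⧸ Cz(VG p G)) = ⊥ := by
  have l := (h.syl.map_surj πG_surj).le_of_le_Nm (isPGroup_pCore p (G ⧸ Cz(VG p G))) le_top
    (le_Nm_normal _ _)
  have k := h.inf_le_R (N := (pCore p _).comap (πG p G)) ((comap_mono l).trans
    (by rw [comap_map_eq, πG_ker])) (πG_ker.ge.trans (ker_le_comap _ _))
  refine le_bot_iff.1 fun x hx => ?_
  obtain ⟨t, ht, rfl⟩ := l hx
  exact πG_eq_one.2 (R_le_C (k (mi ht hx)))

theorem inf_Cz_le {U : Subgroup G} [U.Normal] (hU : U ≤ VG p G) (hF : IsBaumannBlock p T F)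
    (hM : ¬ F ≤ M) (hV : bV p F ≤ U) (hQ : pCoreOf p F ≤ T) : T ⊓ Cz(U) ≤ pCore p G :=
  h.le_R_of _ (by
    by_contra e'
    have c : T ⊓ Cz(U) ≤ Cz(bV p F) := inf_le_right.trans (Cz_anti hV)
    obtain ⟨E, b1, b2⟩ := h.full' (h.T_le_Nm Cz(U)) e' hF (le_Nm_of_comm_le_left (le_inf
      (((bk_of hF).comm_le_Q (c.trans (h.blk hF).Cz_le) c).trans hQ)
      ((commutator_mono inf_le_right le_rfl).trans (commutator_le_left _ _)))) hM
    exact h.not_sup hU b1 (fun e => hM (b2.trans e)) (fun e => (bk_of hF).V_not_le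
      (hV.trans (e.trans (Cz_anti b2)))) (h.Nm_sup le_sup_right le_rfl))

theorem not_J_le : ¬ JJ p T ≤ Cz(VG p G) := fun e => h.ne (top_unique (le_trans (by
  rw [← CfH8.J_eq_of_J_le (h.le_R (CfH8.isPGroup_J h.syl.pgrp) e) h.RT]
  exact (top_le_Nm _).trans (CfH8.Nm_le_Nm_J _)) h.NJ))

theorem noChar {L : Subgroup G} (hL : ¬ L ≤ M) : NoChar L (BB p T) := fun X h1 h2 e =>
  hL (e.trans ((Nm_le_cs (map_subtype_le X) (by rwa [ne_eq, map_eq_bot_iff_of_injective _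
    (subtype_injective _)]) (by rwa [subgroupOf_map_subtype_self])).trans h.cs))

/-- a block in a proper subgroup containing `B(T)` and `O_p(G)` -/
theorem ext (h1 : H ≠ ⊤) (hS : SylIn p S H) (hB : BB p T ≤ S) (hR : pCore p G ≤ H)
    (hE : IsBaumannBlock p T E) (h2 : E ≤ H) (h3 : ¬ E ≤ M) :
    ∃ F, GB p S H F ∧ IsBaumannBlock p T F ∧ E ≤ F := by
  obtain ⟨T', t1, t2⟩ := exists_sylIn_ge hS.pgrp (le_top : S ≤ ⊤)
  have e := B_eq_of_B_le h.syl hS.pgrp hB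
  have c := (Cz_le_cs' h.syl t1 (B_eq_of_B_le h.syl t1.pgrp (hB.trans t2)) h.B_ne).trans h.cs
  have z : OZ p T' ≤ OZ p S := OZ_le_OZ t2 ((OZ_le_OZ_pCore t1 h.chp).trans ((OZ_le _).trans
    (hS.le_of_le_Nm (isPGroup_pCore p G) hR (le_Nm_normal _ _))))
  obtain ⟨F, b1, b2⟩ := (h.full H h1).rel hS (chp_rel h.chp hR) (blk_of_B_eq hE e fun e' =>
    h3 ((comm_eq_bot_left.1 e').trans ((Cz_anti z).trans c))) h2 fun e' => h3 (e'.trans
      (cs_le ((Cz_anti z).trans c) fun C c1 c2 c3 => (Nm_le_cs (e ▸ c1) c2 (e ▸ c3)).trans h.cs))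
  exact ⟨F, b1, blk_of_B_eq b1.blk e.symm fun e' => (bk_of hE).ne
    (le_bot_iff.1 ((commutator_mono b2 le_rfl).trans e'.le)), b2⟩

end MC

end CfH7
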