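import Cfsg.Agent.OD.Pre
import Cfsg.Agent.H7.PMS5
import Cfsg.Agent.H7.Blk4

/-! A conjugacy class of root subgroups with an opposite pair centralizing the other members of a
Sylow subgroup. -/

set_option autoImplicit false
set_option linter.unusedSectionVars false

open Cfsg Subgroup CfH9 Matrix
open scoped commutatorElement MatrixGroups

namespace CfH7

variable {P : Type*} [Group P] {W : Type*} [AddCommGroup W] [DistribMulAction P W] {p q : ℕ}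
  {A₀ A B C D T X Y : Subgroup P}

variable (W) in
/-- the conjugates of the root subgroup `A₀` -/
structure Dc (A₀ A : Subgroup P) : Prop extends Rt W A where
  ex : ∃ g, CfH9.cj g A₀ = A

instance : CoeOut (Dc W A₀ A) (Rt W A) := ⟨Dc.toRt⟩

theorem Dc.cj (h : Dc W A₀ A) (g : P) : Dc W A₀ (cj g A) :=
  ⟨h.toRt.cj g, h.ex.elim fun k e => ⟨g * k, by rw [cj_mul, e]⟩⟩

theorem Dc.card (h : Dc W A₀ A) : Nat.card A = Nat.card A₀ := h.ex.elim fun _ e => e ▸ card_cj _ _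

theorem dc_self (h : Rt W A) : Dc W A A := ⟨h, 1, cj_one _⟩

variable (W) in
/-- the subgroup generated by the conjugates inside `X` -/
def jc (A₀ X : Subgroup P) : Subgroup P := sSup {A | Dc W A₀ A ∧ A ≤ X}

theorem le_jc (hA : Dc W A₀ A) (h : A ≤ X) : A ≤ jc W A₀ X := le_sSup ⟨hA, h⟩

theorem jc_le_iff : jc W A₀ X ≤ Y ↔ ∀ A, Dc W A₀ A → A ≤ X → A ≤ Y :=
  sSup_le_iff.trans ⟨fun h A h1 h2 => h A ⟨h1, h2⟩, fun h A h1 => h A h1.1 h1.2⟩

theorem jc_le : jc W A₀ X ≤ X := jc_le_iff.2 fun _ _ h => h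

theorem cj_jc_le (g : P) : cj g (jc W A₀ X) ≤ jc W A₀ (cj g X) :=
  cj_le_iff.2 (jc_le_iff.2 fun _ h1 h2 => cj_le_iff.1 (le_jc (h1.cj g) (cj_mono g h2)))

variable (W p) in
/-- no element of a member of the class normalizes a member with which it does not commute -/
structure RC (A₀ : Subgroup P) (q : ℕ) : Prop extends RS P W p where
  card₀ : Nat.card A₀ = q
  del : ∀ A B : Subgroup P, Dc W A₀ A → Dc W A₀ B → ¬ A ≤ Cz(B) → ∀ a ∈ A, a ∈ Nm(B) → a = 1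

variable (W p) in
/-- an opposite pair centralizing the other members of the class inside `T` -/
structure DS (T A B : Subgroup P) : Prop extends RS P W p where
  syl : SylIn p T ⊤
  rA : Rt W A
  AT : A ≤ T
  dB : Dc W A B
  o : Opp W A B
  oth : ∀ C, Dc W A C → C ≤ T → C ≠ A → C ≤ Cz(B)

variable [Finite P] [Finite W] [FaithfulSMul P W] [Fact p.Prime]

theorem le_jc_of_le (hT : SylIn p T ⊤) (hX : IsPGroup p X) (h : jc W A₀ T ≤ X) (hA : Dc W A₀ A)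
    (hAX : A ≤ X) : A ≤ jc W A₀ T := by
  obtain ⟨k, -, hk⟩ := hT.exists_le_cj hX le_top
  have h1 : jc W A₀ T ≤ jc W A₀ (cj k T) :=
    jc_le_iff.2 fun C hC hCT => le_jc hC ((le_jc hC hCT).trans (h.trans hk))
  have h2 := card_le_of_le (cj_jc_le (W := W) (A₀ := A₀) (X := cj k T) k⁻¹)
  rw [cj_inv_cj, card_cj] at h2
  rw [eq_of_le_of_card_ge h1 h2]
  exact le_jc hA (hAX.trans hk)

theorem RS.jc_le_Cz (h : RS P W p) (hT : IsPGroup p T) (hA : Rt W A) (h1 : A ≤ T) :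
    jc W A₀ T ≤ Cz(A) := jc_le_iff.2 fun _ hC h2 => h.comm_of_le hC hA hT h2 h1

/-- an offender commuting with `A` acts trivially modulo the fixed points of `⟨A, B⟩` -/
theorem RS.cm_le_fx (h : RS P W p) (hA : Rt W A) (hB : Rt W B) (o : Opp W A B)
    (hc : Nat.card B ≤ Nat.card A) (hY : Off W p Y) (h1 : A ≤ Cz(Y)) (h2 : ¬ A ≤ Y)
    (h3 : Y ≤ st P (fx W (A ⊔ B))) : cm W Y ≤ fx W (A ⊔ B) := cm_le_iff.2 fun y hy w => by
  have e := h.sup_top hA hY h1 h2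
  obtain ⟨u, hu, v, hv, rfl⟩ := AddSubgroup.mem_sup.1 (e.ge trivial : w ∈ fx W A ⊔ fx W Y)
  obtain ⟨a, ha, b, hb, rfl⟩ := AddSubgroup.mem_sup.1 (o.fx_le_sup hA hB hc hu)
  rw [smul_add, smul_add, hv y hy, cm_le_of_sup_top e (h1.trans (Cz_le_Nm _)) ha y hy,
    add_sub_add_right_eq_sub, add_sub_add_left_eq_sub]
  exact sub_mem (st_apply (h3 hy) hb) hb

namespace RC

theorem card (h : RC W p A₀ q) (hA : Dc W A₀ A) : Nat.card A = q := hA.card.trans h.card₀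


theorem idx (h : RC W p A₀ q) (hA : Dc W A₀ A) : (fx W A).index = q := hA.idx.trans (h.card hA)

theorem cj_ne (h : RC W p A₀ q) (hA : Dc W A₀ A) (hB : Dc W A₀ B) (hn : ¬ A ≤ Cz(B)) {a : P} (ha : a ∈ A)
    (h1 : a ≠ 1) : B ≠ cj a B := fun e => h1 (h.del A B hA hB hn a ha (mem_normalizer_iff_cj.2 e.symm))

theorem index_inf (h : RC W p A₀ q) (hA : Dc W A₀ A) (hB : Dc W A₀ B) (hne : A ≠ B) :
    (fx W A ⊓ fx W B).index = q * q := by
  refine le_antisymm (by rw [← h.idx hA]; nth_rewrite 2 [h.idx hA]; rw [← h.idx hB]; exact AddSubgroup.index_inf_le) ?_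
  suffices ∀ n, ∀ A B : Subgroup P, Dc W A₀ A → Dc W A₀ B → A ≠ B → (fx W B ⊓ fx W A).index = n → q * q ≤ n from
    this _ B A hB hA hne.symm rfl
  intro n
  induction n using Nat.strong_induction_on with
  | _ n ih =>
  intro A B hA hB hne e
  by_cases hc : A ≤ Cz(B)
  · rw [← e, index_inf_of_sup_eq_top (h.sup_top' hB hA (le_Cz_comm hc) hne.symm), h.idx hA, h.idx hB]
  by_contra hlt
  have key : ∀ a ∈ A, a ≠ 1 → fx W B ⊓ fx W A = fx W B ⊓ fx W (cj a B) := fun a ha h1 => by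
    refine add_eq_of_le_of_index (RD.fx_le_cj ha) ?_
    by_contra h2
    rw [e, not_le] at h2
    exact hlt ((ih _ h2 _ _ (hB.cj a) hB (h.cj_ne hA hB hc ha h1).symm rfl).trans h2.le)
  have h1 : ¬ fx W B ≤ fx W A := fun e =>
    hne (h.eq_of_fx_eq hB hA (add_eq_of_le_of_index e (by rw [h.idx hA, h.idx hB]))).symm
  obtain ⟨y, hy, hy'⟩ := SetLike.not_le_iff_exists.1 h1
  have h2 := card_le_relIndex (X := fx W B) (Y := fx W A) (fun a : A => (a : P) • y - y)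
    (fun a => hA.quad a a.2 y) fun a b e => by
      rw [← hA.dl_inv_mul b.2 a.2] at e
      by_contra h3
      have h4 : (b : P)⁻¹ * a ≠ 1 := fun e => h3 (Subtype.ext (inv_mul_eq_one.1 e)).symm
      have h5 := mul_mem (inv_mem b.2) a.2
      have h6 := (key _ h5 h4).ge (x := ((b : P)⁻¹ * a) • y)
        ⟨by simpa using add_mem e hy, smul_mem_fx_cj _ hy⟩
      exact hy' ((smul_mem_fx_iff (le_normalizer h5)).1 h6.2)
  rw [add_index_inf, h.idx hA] at e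
  rw [h.card hA] at h2
  exact hlt (e ▸ Nat.mul_le_mul_right _ h2)

theorem sup_eq (h : RC W p A₀ q) (hA : Dc W A₀ A) (hB : Dc W A₀ B) (hne : A ≠ B) : fx W A ⊔ fx W B = ⊤ :=
  sup_eq_top_of_index (by rw [h.index_inf hA hB hne, h.idx hA, h.idx hB])

theorem inf_eq {C D : Subgroup P} (h : RC W p A₀ q) (hA : Dc W A₀ A) (hB : Dc W A₀ B) (hC : Dc W A₀ C)
    (hD : Dc W A₀ D) (hne : A ≠ B) (hne' : C ≠ D) (h1 : C ≤ A ⊔ B) (h2 : D ≤ A ⊔ B) :
    fx W (A ⊔ B) = fx W C ⊓ fx W D :=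
  add_eq_of_le_of_index (le_inf (fx_anti h1) (fx_anti h2))
    (by rw [fx_sup, h.index_inf hA hB hne, h.index_inf hC hD hne'])

theorem ne_of_not (h : RC W p A₀ q) (hA : Dc W A₀ A) (hn : ¬ A ≤ Cz(B)) : A ≠ B := fun e =>
  hn (e ▸ h.self hA)

theorem opp (h : RC W p A₀ q) (hA : Dc W A₀ A) (hB : Dc W A₀ B) (hn : ¬ A ≤ Cz(B)) : Opp W A B := by
  intro a ha w hw
  by_cases h1 : a = 1
  · rw [h1, one_smul]
  have hne := h.ne_of_not hA hn
  obtain ⟨x, hx, y, hy, rfl⟩ :=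
    AddSubgroup.mem_sup.1 (h.sup_eq hA hB hne ▸ trivial : w ∈ fx W A ⊔ fx W B)
  rw [smul_add, hx a ha, add_sub_add_left_eq_sub] at hw
  have h2 := (h.inf_eq hA hB hB (hB.cj a) hne (h.cj_ne hA hB hn ha h1) le_sup_right
    ((cj_mono a le_sup_right).trans (cj_eq_of_mem (mem_sup_left ha)).le)).ge (x := a • y)
    ⟨by simpa using add_mem hw hy, smul_mem_fx_cj _ hy⟩
  rw [smul_add, hx a ha, (smul_mem_fx_iff (le_normalizer ha)).1 (fx_anti le_sup_left h2) a ha]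

theorem nat (h : RC W p A₀ q) (hA : Dc W A₀ A) (hB : Dc W A₀ B) (hn : ¬ A ≤ Cz(B)) (F : Type) [Field F]
    [Fintype F] (hF : Fintype.card F = q) :
    ∃ ρ ψ, NatD W F (A ⊔ B) A ρ ψ ∧ Function.Injective ρ := by
  have o := h.opp hA hB hn
  have o' := h.opp hB hA fun e => hn (le_Cz_comm e)
  obtain ⟨ρ, ψ, h1⟩ := o.nat h.hp o' hA hB (fun a ha b hb => by
    by_cases e : cj a B = cj b A
    · exact Or.inr (by rw [e])
    · exact Or.inl (h.inf_eq hA hB (hB.cj a) (hA.cj b) (h.ne_of_not hA hn) e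
        ((cj_mono a le_sup_right).trans (cj_eq_of_mem (mem_sup_left ha)).le)
        ((cj_mono b le_sup_left).trans (cj_eq_of_mem (mem_sup_right hb)).le)).ge) F
    (hF.trans (h.card hA).symm)
  exact ⟨ρ, ψ, h1, h.nat_inj hA hB o o' h1⟩

theorem cover (h : RC W p A₀ q) (hA : Dc W A₀ A) (hB : Dc W A₀ B) (hn : ¬ A ≤ Cz(B)) {w : W}
    (hw : w ∉ fx W A) : ∃ a ∈ A, a • w ∈ fx W B :=
  (h.opp hA hB hn).cover' hA hB (by rw [h.card hA, h.card hB]) hw

/-- every root subgroup commutes with some root subgroup of `⟨A, B⟩` -/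
theorem eta (h : RC W p A₀ q) (hA : Dc W A₀ A) (hB : Dc W A₀ B) (hn : ¬ A ≤ Cz(B)) (hC : Dc W A₀ C) :
    C ≤ Cz(A) ∨ ∃ a ∈ A, C ≤ Cz(cj a B) := by
  obtain ⟨c, hc, h1⟩ := exists_ne_one_of_ne_bot hC.ne
  obtain ⟨w, hw⟩ := hC.exists_smul_ne hc h1
  by_contra e
  push Not at e
  obtain ⟨a, ha, h2⟩ := h.cover hA hB hn fun e' => hw (h.opp hC hA e.1 c hc w e')
  exact hw (h.opp hC (hB.cj a⁻¹) (e.2 _ (inv_mem ha)) c hc w (mem_fx_cj.2 (by rwa [inv_inv])))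

theorem sylIn (h : RC W p A₀ q) (hA : Dc W A₀ A) (hB : Dc W A₀ B) (hn : ¬ A ≤ Cz(B)) :
    SylIn p A (A ⊔ B) := by
  obtain ⟨F, _, _, hF, -⟩ := exists_field_card (h.pg hA) hA.ne
  obtain ⟨ρ, ψ, h1, h2⟩ := h.nat hA hB hn F (hF.trans (h.card hA))
  exact h1.sylIn h2 (h.pg hA)

theorem conj (h : RC W p A₀ q) (hA : Dc W A₀ A) (hB : Dc W A₀ B) (hn : ¬ A ≤ Cz(B)) (hC : Dc W A₀ C)
    (h1 : C ≤ A ⊔ B) : ∃ g ∈ A ⊔ B, cj g A = C :=
  (h.sylIn hA hB hn).conj ((h.sylIn hA hB hn).of_card_le (h.pg hC) h1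
    (by rw [h.card hA, h.card hC]))

end RC

namespace DS

theorem conj (h : DS W p T A B) (g : P) : DS W p (cj g T) (cj g A) (cj g B) := by
  have k : ∀ {C}, Dc W (cj g A) C → Dc W A C := fun hC =>
    ⟨hC.toRt, hC.ex.elim fun k e => ⟨k * g, by rw [cj_mul, e]⟩⟩
  refine ⟨h.toRS, h.syl.cj_top g, h.rA.cj g, cj_mono g h.AT, ⟨h.dB.toRt.cj g, h.dB.ex.elim
    fun k e => ⟨g * k * g⁻¹, by rw [cj_mul, cj_inv_cj, cj_mul, e]⟩⟩, h.o.cj g, fun C h1 h2 h3 => ?_⟩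
  rw [← cj_centralizer, le_cj_iff]
  exact h.oth _ ((k h1).cj _) (le_cj_iff.1 h2) fun e => h3 (by rw [← e, cj_cj_inv])

theorem burn (h : DS W p T A B) (hC : Dc W A C) (hT : C ≤ T) :
    ∃ n ∈ Nm(jc W A T), cj n A = C := by
  obtain ⟨g, rfl⟩ := hC.ex
  have j := h.syl.pgrp.to_le (jc_le (W := W) (A₀ := A))
  obtain ⟨S, s1, s2⟩ := exists_sylIn_ge j (h.jc_le_Cz h.syl.pgrp hC hT)
  obtain ⟨x, hx, e⟩ := s1.exists_cj_le (isPGroup_cj j g) ((cj_mono g
    (h.jc_le_Cz h.syl.pgrp h.rA h.AT)).trans (cj_centralizer _ _).le)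
  refine ⟨x * g, mem_normalizer_of_cj_le (cj_le_iff.2 (jc_le_iff.2 fun D hD hDT => cj_le_iff.1
    (le_jc_of_le h.syl s1.pgrp s2 (hD.cj _) ?_))), by rw [cj_mul, cj_eq_of_mem_centralizer hx]⟩
  rw [cj_mul]
  exact (cj_mono x (cj_mono g (le_jc hD hDT))).trans e

theorem par (h : DS W p T A B) (hC : Dc W A C) (hT : C ≤ T) :
    ∃ E, Dc W A E ∧ Opp W C E ∧ ∀ D, Dc W A D → D ≤ T → D ≠ C → D ≤ Cz(E) := by
  obtain ⟨n, hn, rfl⟩ := h.burn hC hT
  refine ⟨_, h.dB.cj n, h.o.cj n, fun D h1 h2 h3 => ?_⟩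
  rw [← cj_centralizer, le_cj_iff]
  exact h.oth _ (h1.cj _) (((cj_mono _ (le_jc h1 h2)).trans (cj_eq_of_mem_normalizer
    (inv_mem hn)).le).trans jc_le) fun e => h3 (by rw [← e, cj_cj_inv])

theorem sep (h : DS W p T A B) (hC : Dc W A C) (hD : Dc W A D) (hc : C ≤ Cz(D)) (hne : C ≠ D) :
    ∃ E, Rt W E ∧ Opp W C E ∧ D ≤ Cz(E) := by
  obtain ⟨g, -, hg⟩ := h.syl.exists_cj_le (isPGroup_sup (h.pg hC) (h.pg hD)
    (hc.trans (Cz_le_Nm _))) le_top
  obtain ⟨E, h1, h2, h3⟩ := h.par (hC.cj g) ((cj_mono g le_sup_left).trans hg)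
  refine ⟨cj g⁻¹ E, h1.toRt.cj _, ?_, ?_⟩
  · have := h2.cj g⁻¹
    rwa [cj_inv_cj] at this
  · rw [← cj_centralizer, le_cj_iff, inv_inv]
    exact h3 _ (hD.cj g) ((cj_mono g le_sup_right).trans hg) fun e' => hne (cj_inj.1 e').symm

theorem eq_or_le (h : DS W p T A B) (hC : Dc W A C) (hD : Dc W A D) (hY : Off W p Y)
    (hc : C ≤ Cz(Y)) (h1 : D ≤ C ⊔ Y) : D = C ∨ D ≤ Y := by
  by_cases h2 : C ≤ Y
  · exact Or.inr (sup_eq_right.2 h2 ▸ h1)
  by_contra e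
  push Not at e
  obtain ⟨a, ha, a1, a2⟩ := h.range_le hC hY hc h2 h1 e.2
  obtain ⟨E, rE, o, e'⟩ := h.sep hC hD
    (le_Cz_comm (h1.trans (sup_le (h.self hC) (le_Cz_comm hc)))) (Ne.symm e.1)
  obtain ⟨w, hw⟩ := hC.exists_smul_ne ha a1
  exact hw (o a ha w (h.cm_le hD rE e' (a2 (mem_range_dl.2 ⟨w, rfl⟩))))

theorem le_of_comm (h : DS W p T A B) (hC : Dc W A C)
    (hc : ∀ D, Dc W A D → D ≤ T → D ≤ Cz(C)) : C ≤ T :=
  (le_jc_of_le h.syl (isPGroup_sup (h.syl.pgrp.to_le jc_le) (h.pg hC)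
    ((jc_le_iff.2 hc).trans (Cz_le_Nm _))) le_sup_left hC le_sup_right).trans jc_le

theorem t2 {B₀ : Subgroup P} (h : DS W p T A₀ B₀) (r : RC W p A₀ q) (hq : 2 < q) (hA : Dc W A₀ A)
    (hB : Dc W A₀ B) (hn : ¬ A ≤ Cz(B)) (hC : Dc W A₀ C) (h1 : C ≤ Cz(A)) (h2 : C ≠ A) :
    C ≤ Cz(B) := by
  have o := r.opp hA hB hn
  have cd : ∀ {X Y}, Dc W A₀ X → Dc W A₀ Y → Nat.card Y ≤ Nat.card X := fun a b => by
    rw [r.card a, r.card b]
  have aC : cm W A ≤ fx W C := r.cm_le hA hC (le_Cz_comm h1)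
  have k1 : ∀ x ∈ (A ⊔ B) ⊓ Nm(A), cj x C = C := fun x hx => by
    by_contra ne
    have hC' := hC.cj x
    have c' : cj x C ≤ Cz(A) := by
      rw [← cj_eq_of_mem_normalizer hx.2, ← cj_centralizer]; exact cj_mono x h1
    have e1 : fx W A ⊓ fx W C ≤ fx W C ⊓ fx W (cj x C) := le_inf inf_le_right fun w hw => by
      obtain ⟨u, hu, v, hv, rfl⟩ := AddSubgroup.mem_sup.1 (o.fx_le_sup hA hB (cd hA hB) hw.1)
      rw [mem_fx_cj, smul_add, hv _ (inv_mem hx.1)]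
      exact add_mem (aC (smul_mem_cm (inv_mem hx.2) hu)) ((add_mem_cancel_left (aC hu)).1 hw.2)
    have e3 : fx W (C ⊔ cj x C) ≤ fx W A := by
      rw [fx_sup, ← add_eq_of_le_of_index e1
        (by rw [r.index_inf hA hC h2.symm, r.index_inf hC hC' (Ne.symm ne)])]
      exact inf_le_left
    by_cases cc : C ≤ Cz(cj x C)
    · rcases h.eq_or_le hC hA (r.off hC') cc (r.le_of_fx_le hA (r.lat (r.off hC) (r.off hC') cc).2.1
        (le_Cz_comm (sup_le h1 c')) e3) with e | e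
      · exact h2 e.symm
      · exact h2 (cj_inj.1 ((r.eq_of_le hA hC' e).symm.trans (cj_eq_of_mem_normalizer hx.2).symm))
    · have o1 := r.opp hC hC' cc
      refine hA.fx_ne_top (top_unique ((o1.sup_eq hC hC' (cd hC hC')).ge.trans (sup_le
        ((o1.fx_le_sup hC hC' (cd hC hC')).trans (sup_le (r.cm_le hC hA h1) e3))
        (((r.opp hC' hC fun e => cc (le_Cz_comm e)).fx_le_sup hC' hC (cd hC' hC)).trans
          (sup_le (r.cm_le hC' hA c') (sup_comm C _ ▸ e3))))))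
  obtain ⟨F, _, _, hF, -⟩ := exists_field_card (r.pg hA) hA.ne
  obtain ⟨ρ, ψ, n, hi⟩ := r.nat hA hB hn F (hF.trans (r.card hA))
  classical
  obtain ⟨c, hc⟩ := Fintype.exists_ne_of_one_lt_card (α := Fˣ)
    (by rw [Fintype.card_units, hF, r.card hA]; omega) 1
  obtain ⟨x, hx, e⟩ := n.tor hi c
  obtain ⟨g, hg, eg⟩ := r.conj hA hB hn hB le_sup_right
  refine le_Cz_comm (r.comm_of_cm hB hC fun w hw => ?_)
  obtain ⟨v, hv⟩ := n.surjψ ![((c : F) - 1)⁻¹ * ψ w 0, (((c⁻¹ : Fˣ) : F) - 1)⁻¹ * ψ w 1]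
  have e1 : w - ((x : P) • v - v) ∈ fx W (A ⊔ B) := by
    have c1 : (c : F) - 1 ≠ 0 := sub_ne_zero.2 fun e => hc (Units.ext e)
    have c2 : ((c⁻¹ : Fˣ) : F) - 1 ≠ 0 := sub_ne_zero.2 fun e => hc (inv_eq_one.1 (Units.ext e))
    rw [n.sub_mem_iff, map_sub, n.eqv, e, dd_smul, hv]
    refine vec_ext ?_ ?_ <;> simp only [Pi.sub_apply, cons_val_zero, cons_val_one, cons_val_fin_one]
    · rw [← sub_one_mul, mul_inv_cancel_left₀ c1]
    · rw [← sub_one_mul, mul_inv_cancel_left₀ c2]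
  have e2 : (x : P) • v - v ∈ fx W C := by
    obtain ⟨u, hu, y, hy, rfl⟩ := AddSubgroup.mem_sup.1
      ((r.sup_top' hA hC (le_Cz_comm h1) h2.symm).ge trivial : v ∈ fx W A ⊔ fx W C)
    obtain ⟨a, ha, b, hb, rfl⟩ := AddSubgroup.mem_sup.1 (o.fx_le_sup hA hB (cd hA hB) hu)
    rw [smul_add, smul_add, hb x x.2, add_sub_add_comm, add_sub_add_right_eq_sub]
    exact add_mem (aC (sub_mem (smul_mem_cm hx ha) ha))
      (smul_sub_mem_fx (mem_normalizer_iff_cj.2 (k1 x (mi x.2 hx))) hy)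
  obtain ⟨a, ha, b, hb, e3⟩ := AddSubgroup.mem_sup.1 ((cm_sup A B).le
    (sub_mem (cm_mono le_sup_right hw) (sub_mem_cm x.2 v)))
  have e4 : b ∈ fx W (A ⊔ B) := mem_fx_sup ((add_mem_cancel_left (hA.cm_le ha)).1
    (e3 ▸ fx_anti le_sup_left e1)) (hB.cm_le hb)
  have e5 := smul_mem_cm_cj g⁻¹ hb
  rw [e4 _ (inv_mem hg), ← eg, cj_inv_cj] at e5
  have := add_mem (e3 ▸ add_mem (aC ha) (aC e5)) e2
  rwa [sub_add_cancel] at this

theorem not_comm (h : DS W p T A B) : ¬ A ≤ Cz(B) := fun e =>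
  h.o.not_cm_le h.rA (h.cm_le h.rA h.dB e)

theorem subn {L : Subgroup P} (hA : L ≤ jc W A ⊤) (h : ∀ C, Dc W A C → C ≤ Nm(L)) :
    L.IsSubnormal :=
  (subnIn_of_normal hA (jc_le_iff.2 fun C hC _ => h C hC)).isSubnormal (Normal.isSubnormal
    (normal_of_top_le_normalizer fun g _ => mem_normalizer_of_cj_le ((cj_jc_le g).trans
      (by rw [cj_top]))))

theorem large (h : DS W p T A B) (r : RC W p A q) (hq : 2 < q) : (A ⊔ B).IsSubnormal := by
  have hA := dc_self h.rA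
  refine subn (sup_le (le_jc hA le_top) (le_jc h.dB le_top)) fun C hC => ?_
  have k : ∀ A' B', Dc W A A' → Dc W A B' → ¬ A' ≤ Cz(B') → C ≤ Cz(A') → C ≤ Nm(A' ⊔ B') :=
    fun A' B' a b n c => by
      by_cases e : C = A'
      · exact e.le.trans (le_sup_left.trans le_normalizer)
      · exact (le_Cz_comm (sup_le (le_Cz_comm c) (le_Cz_comm (h.t2 r hq a b n hC c e)))).trans
          (Cz_le_Nm _)
  rcases r.eta hA h.dB h.not_comm hC with e | ⟨a, ha, e⟩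
  · exact k _ _ hA h.dB h.not_comm e
  · rw [← RD.sup_cj_eq ha, sup_comm]
    exact k _ _ (h.dB.cj a) hA (fun e => RD.not_cj ha h.not_comm (le_Cz_comm e)) e

end DS

theorem le_relIndex_of_not_le (hp : ∀ w : W, p • w = 0) {U V : AddSubgroup W} (h : ¬ V ≤ U) :
    p ≤ U.relIndex V := by
  obtain ⟨n, hn⟩ := exists_card_eq_pow hp
  obtain ⟨k, -, hk⟩ := (Nat.dvd_prime_pow (Fact.out : p.Prime)).1 (hn ▸
    (AddSubgroup.relIndex_dvd_card U V).trans (AddSubgroup.card_addSubgroup_dvd_card V))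
  rcases k with _ | k
  · exact absurd (AddSubgroup.relIndex_eq_one.1 hk) h
  · rw [hk, pow_succ']
    exact Nat.le_mul_of_pos_right _ (pow_pos (Fact.out : p.Prime).pos _)

theorem relIndex_le_card {α : Type*} [Finite α] {U V : AddSubgroup W} (f : α → W)
    (h : ∀ y ∈ V, ∃ a, f a - y ∈ U) : U.relIndex V ≤ Nat.card α := by
  choose g hg using h
  refine Nat.card_le_card_of_injective (fun x : V ⧸ U.addSubgroupOf V => g _ x.out.2) fun a b e => ?_
  rw [← a.out_eq', ← b.out_eq', QuotientAddGroup.eq_iff_sub_mem]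
  have := sub_mem (hg _ b.out.2) (hg _ a.out.2)
  rwa [show g _ a.out.2 = g _ b.out.2 from e, sub_sub_sub_cancel_left] at this

theorem RS.del_mod (h : RS P W p) (hA : Rt W A) (hB : Rt W B) (hC : Rt W C) (o : Opp W A B)
    (cB : Nat.card B = Nat.card A) (cC : Nat.card C = Nat.card A) {F : Type} [Field F]
    {ρ : (A ⊔ B : Subgroup P) →* SL(2, F)} {ψ : W →+ (Fin 2 → F)} (n : NatD W F (A ⊔ B) A ρ ψ)
    (hi : Function.Injective ρ) {M S : Subgroup P} (bor : (A ⊔ B) ⊓ Nm(A) ≤ M) (nB : ¬ B ≤ M)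
    (hS : ∀ X, fx W S ≤ fx W X → X ≤ M) (AS : A ≤ S) {c : P} (hc : c ∈ C) (h1 : c ≠ 1)
    (cS : c ∈ S) (cN : c ∈ Nm(A)) (cL : c ∈ st P (fx W (A ⊔ B)))
    (b : Nat.card (A ⊓ Nm(C) : Subgroup P) ≤ p) : C ≤ Cz(A) := by
  by_contra nc
  have pc := (h.pg hC).to_le (zpowers_le.2 hc)
  have l0 : A ⊓ Cz(zpowers c) ≤ A ⊓ Nm(C) := fun a ha => mi ha.1 (h.mem_Nm hC hc h1
    (by rwa [← ha.2 c (mem_zpowers c), mul_inv_cancel_right]))
  have s1 := (card_le_of_le l0).trans b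
  have s2 : p * Nat.card (A ⊓ Cz(zpowers c) : Subgroup P) ≤ Nat.card A := by
    rw [← card_mul_relIndex (inf_le_left : A ⊓ Cz(zpowers c) ≤ A), mul_comm]
    obtain ⟨k, hk⟩ := IsPGroup.iff_card.1 (h.pg hA)
    obtain ⟨j, -, hj⟩ := (Nat.dvd_prime_pow (Fact.out : p.Prime)).1 (hk ▸
      relIndex_dvd_card (A ⊓ Cz(zpowers c)) A)
    rcases j with _ | j
    · exact absurd (le_Cz_comm (h.comm_of_Nm hA hC (((relIndex_eq_one.1 hj).trans l0).trans
        inf_le_right))) nc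
    · rw [hj, pow_succ']
      exact Nat.mul_le_mul_left _ (Nat.le_mul_of_pos_right _ (pow_pos (Fact.out : p.Prime).pos _))
  set U := (fx W (A ⊔ B)).comap (dl W c)
  have LU : fx W (A ⊔ B) ≤ U ⊓ fx W A := le_inf (fun w hw => sub_mem (st_apply cL hw) hw)
    (fx_anti le_sup_left)
  have i1 : (fx W (A ⊔ B)).relIndex (U ⊓ fx W A) ≤ Nat.card (A ⊓ Cz(zpowers c) : Subgroup P) := by
    obtain ⟨w, -, hw, e⟩ := exists_fixed_mod h.hp pc (U := ⊤) (fun g _ => mem_st_top g)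
      ((zpowers_le.2 cN).trans (Nm_le_st_fx A)) fun e => hA.fx_ne_top (top_unique e)
    refine relIndex_le_card (fun a => (a : P) • w - w) fun y hy => ?_
    obtain ⟨a, ha, e1⟩ := o.trans hA hB cB.le hw y
    have e2 := mem_fx_sup (sub_mem (hA.quad a ha w) hy.2) e1
    have a' := conj_mem_of_mem_normalizer cN ha
    have e3 : (c * a * c⁻¹) • w - w = c • (a • w - w) := by
      have := e c (mem_zpowers c) _ a'
      rw [smul_sub, smul_smul, inv_mul_cancel_right, sub_eq_sub_iff_sub_eq_sub] at this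
      rw [smul_sub, smul_smul, this]
    refine ⟨⟨a, mi ha ?_⟩, e2⟩
    rw [Cz_zpowers, mem_centralizer_singleton_iff, eq_comm, ← mul_inv_eq_iff_eq_mul, eq_comm]
    refine o.eq_of_sub hA hw ha a' (fx_anti (le_sup_right : B ≤ A ⊔ B) ?_)
    rw [e3]
    have := sub_mem (add_mem (st_apply cL e2) hy.1) e2
    rwa [dl_apply, smul_sub, sub_add_sub_cancel, sub_sub_sub_cancel_right] at this
  have i2 : (fx W A).relIndex U ≤ (fx W (A ⊔ B)).relIndex (U ⊓ fx W A) := by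
    obtain ⟨a, ha, a1⟩ := exists_ne_one_of_ne_bot (inf_Cz_ne_bot pc (h.pg hA) (zpowers_le.2 cN) hA.ne)
    refine card_le_relIndex (α := U ⧸ (fx W A).addSubgroupOf U) (fun x => a • (x.out : W) - x.out)
      (fun x => ⟨?_, hA.quad a ha.1 _⟩) fun x y e => ?_
    · refine AddSubgroup.mem_comap.2 ?_
      rw [dl_apply, smul_sub, smul_smul, ha.2 c (mem_zpowers c), mul_smul, sub_sub_sub_comm, ← smul_sub,
        ← dl_apply c, x.out.2 a (mem_sup_left ha.1), sub_self]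
      exact zero_mem _
    · rw [← x.out_eq', ← y.out_eq', QuotientAddGroup.eq_iff_sub_mem]
      rw [sub_sub_sub_comm, ← smul_sub] at e
      exact hA.cent a ha.1 a1 _ (o a ha.1 _ (fx_anti le_sup_right e))
  have CU : fx W C ≤ U := fun w hw => AddSubgroup.mem_comap.2 (by
    rw [dl_apply, hw c hc, sub_self]; exact zero_mem _)
  have LC : fx W (A ⊔ B) ≤ fx W C := by
    by_contra e
    have j1 := le_relIndex_of_not_le h.hp fun e' : U ≤ fx W C => e ((LU.trans inf_le_left).trans e')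
    have j2 := AddSubgroup.relIndex_mul_index CU
    have j3 := AddSubgroup.relIndex_mul_index (LU.trans inf_le_left)
    rw [← AddSubgroup.relIndex_mul_relIndex _ _ _ LU inf_le_left, AddSubgroup.inf_relIndex_left,
      o.index_fx hA hB cB.le, cB] at j3
    rw [hC.idx, cC] at j2
    have j4 := (Fact.out : p.Prime).two_le
    have j5 : 0 < Nat.card (A ⊓ Cz(zpowers c) : Subgroup P) := Nat.card_pos
    generalize Nat.card (A ⊓ Cz(zpowers c) : Subgroup P) = s at *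
    have j6 : Nat.card A * Nat.card A ≤ s * s * U.index :=
      j3 ▸ Nat.mul_le_mul_right _ (Nat.mul_le_mul i1 (i2.trans i1))
    have j7 : p * U.index ≤ Nat.card A := j2 ▸ Nat.mul_le_mul_right _ j1
    have j8 : p * s * (p * U.index) ≤ s * s * U.index := (Nat.mul_le_mul s2 j7).trans j6
    have j9 := add_index_pos U
    have : p * p ≤ s := by
      refine Nat.le_of_mul_le_mul_right (c := s * U.index) ?_ (Nat.mul_pos j5 j9)
      linarith
    nlinarith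
  have SU : fx W S ≤ U ⊓ fx W A := le_inf ((fx_anti (zpowers_le.2 cS)).trans
    ((hC.fx_zpowers hc h1).le.trans CU)) (fx_anti AS)
  obtain ⟨z, z1, z2⟩ := SetLike.not_le_iff_exists.1 fun e : fx W S ≤ fx W (A ⊔ B) =>
    nB (hS B (e.trans (fx_anti le_sup_right)))
  set X := ((A ⊔ B) ⊓ Nm(A)) ⊔ C
  have XM : X ≤ M := sup_le bor (hS C ((fx_anti (zpowers_le.2 cS)).trans (hC.fx_zpowers hc h1).le))
  have XL : fx W (A ⊔ B) ≤ fx W X := by rw [fx_sup _ C]; exact le_inf (fx_anti inf_le_left) LC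
  have AX : A ≤ X := le_sup_of_le_left (le_inf le_sup_left le_normalizer)
  have k : nclo A X ≤ MulAction.stabilizer P z := nclo_le_iff'.2 fun x hx => by
    by_contra e
    obtain ⟨a, ha, e1⟩ := o.cover' hA hB cB.le fun e' => e (mem_fx_cj.2 e')
    rw [smul_smul, ← inv_inv (a * _), ← mem_fx_cj] at e1
    have m := inv_mem (mul_mem (AX ha) (inv_mem hx))
    have l : fx W (A ⊔ B) ≤ (U ⊓ fx W A) ⊓ fx W (cj (a * x⁻¹)⁻¹ B) := le_inf LU fun w hw =>
      mem_fx_cj.2 (by rw [XL hw _ (inv_mem m)]; exact fx_anti le_sup_right hw)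
    have j1 := le_relIndex_of_not_le h.hp fun e' : _ ≤ fx W (A ⊔ B) => z2 (e' (x := z)
      (show z ∈ (U ⊓ fx W A) ⊓ fx W (cj (a * x⁻¹)⁻¹ B) from ⟨SU z1, e1⟩))
    have j2 := AddSubgroup.relIndex_mul_relIndex _ _ _ l inf_le_left
    have j3 := add_relIndex_pos ((U ⊓ fx W A) ⊓ fx W (cj (a * x⁻¹)⁻¹ B)) (U ⊓ fx W A)
    have j4 := (Fact.out : p.Prime).pos
    have := hS _ ((SU.trans (AddSubgroup.relIndex_eq_one.1 (by nlinarith [i1.trans s1]))).trans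
      (inf_le_right (b := fx W (cj (a * x⁻¹)⁻¹ B))))
    rw [cj_le_iff, cj_eq_of_mem (inv_mem (XM m))] at this
    exact nB this
  have e := n.irrX hi (U := fx W (nclo A X)) (XL.trans (fx_anti (nclo_le_of_le AX)))
    (fx_anti (le_nclo _ _)) (le_sup_left.trans ((right_le_Nm_nclo A X).trans (Nm_le_st_fx _)))
    fun e => z2 (e k)
  exact nc (h.comm_of_Nm hC hA fun g hg => mem_normalizer_iff_cj.2 (h.eq_of_fx_eq hA (hA.cj g)
    (add_eq_of_le_of_index (e.trans (fx_anti (cj_le_nclo (mem_sup_right hg))))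
      (index_fx_cj _ _).ge)).symm)

end CfH7
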