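import Cfsg.Agent.OD.Pre
import Cfsg.Agent.H7.GM4

/-! A conjugacy class of transvections with separated Sylow intersection. -/

set_option autoImplicit false
set_option linter.unusedSectionVars false

open Cfsg Subgroup CfH9 Matrix MulAction
open scoped commutatorElement MatrixGroups

namespace CfH7

variable {P : Type*} [Group P] {W : Type*} [AddCommGroup W] [DistribMulAction P W] {p : ℕ}
  {T A B : Subgroup P} {z : W} {s t : P}

variable (W) in
/-- transvections conjugate to `A` -/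
structure Td (A : Subgroup P) (t : P) : Prop extends Tv W t where
  ex : ∃ g, cj g A = zpowers t

instance : CoeOut (Td W A t) (Tv W t) := ⟨Td.toTv⟩

theorem Td.dc (h : Td W A t) : Dc W A (zpowers t) := ⟨h.rt, h.ex⟩

theorem Td.conj (h : Td W A t) (g : P) : Td W A (g * t * g⁻¹) :=
  ⟨h.toTv.conj g, cj_zpowers g t ▸ (h.dc.cj g).ex⟩

theorem th_z : th t z = 0 ↔ t ∈ stabilizer P z := th_eq_zero

theorem th_z' : th t z = 1 ↔ t ∉ stabilizer P z := th_eq_one

variable (W p) in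
/-- every member of the class in `T` has a partner moving `z` -/
structure TS (T A : Subgroup P) (z : W) : Prop extends RS P W p where
  syl : SylIn p T ⊤
  two : Nat.card A = 2
  TM : T ≤ stabilizer P z
  eol : ∀ C D Y, Dc W A C → Dc W A D → Off W p Y → C ≤ Cz(Y) → D ≤ C ⊔ Y → D = C ∨ D ≤ Y
  par : ∀ a, Td W A a → a ∈ T → ∃ e, Td W A e ∧ e ∉ stabilizer P z ∧ ff W e a = 1 ∧
    ∀ k, Td W A k → k ∈ T → k ≠ a → ff W e k = 0

variable [Finite P] [Finite W] [FaithfulSMul P W] [Fact p.Prime]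

theorem Dc.td {C : Subgroup P} (h : Dc W A C) (e : Nat.card A = 2) :
    ∃ t, Td W A t ∧ zpowers t = C := by
  obtain ⟨t, ht, rfl⟩ := exists_tv h.toRt (h.card.trans e)
  exact ⟨t, ⟨ht, h.ex⟩, rfl⟩

theorem DS.ts (h : DS W p T A B) (e : Nat.card A = 2) : ∃ z, TS W p T A z ∧
    ∀ a b, Td W A a → Td W A b → zpowers a = A → zpowers b = B →
      b ∉ stabilizer P z ∧ ff W b a = 1 := by
  classical
  let K := (Set.toFinite {k | Td W A k ∧ k ∈ T}).toFinset
  have mK : ∀ {k}, k ∈ K ↔ Td W A k ∧ k ∈ T := Set.Finite.mem_toFinset _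
  have key : ∀ a b, Td W A a → a ∈ T → Td W A b → Opp W (zpowers a) (zpowers b) →
      (∀ D, Dc W A D → D ≤ T → D ≠ zpowers a → D ≤ Cz(zpowers b)) →
      b ∉ stabilizer P (∑ k ∈ K, wv W k) ∧ ff W b a = 1 ∧
        ∀ k, Td W A k → k ∈ T → k ≠ a → ff W b k = 0 := fun a b ha aT hb h2 h3 => by
    have f1 : ff W b a = 1 := (h.ff_eq_one hb ha).2 fun e => h2.not_cm_le ha.rt (h.cm_le ha.rt hb.rt e)
    have f2 : ∀ k, Td W A k → k ∈ T → k ≠ a → ff W b k = 0 := fun k hk kT ne =>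
      (h.ff_eq_zero hb hk).2 (h3 _ hk.dc (zpowers_le.2 kT) fun e => ne (hk.eq_of_zpowers ha e))
    refine ⟨th_z'.1 ((map_sum hb.thH _ _).trans ?_), f1, f2⟩
    exact (Finset.sum_eq_single_of_mem a (mK.2 ⟨ha, aT⟩) fun k hk =>
      f2 k (mK.1 hk).1 (mK.1 hk).2).trans f1
  refine ⟨∑ k ∈ K, wv W k, ⟨h.toRS, h.syl, e, fun g hg => ?_, fun _ _ _ => h.eq_or_le,
    fun a ha aT => ?_⟩, fun a b ha hb e1 e2 => ?_⟩
  · rw [mem_stabilizer_iff, Finset.smul_sum]
    refine Finset.sum_nbij' (fun k => g * k * g⁻¹) (fun k => g⁻¹ * k * g⁻¹⁻¹)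
      (fun k hk => mK.2 ⟨(mK.1 hk).1.conj g, mul_mem (mul_mem hg (mK.1 hk).2) (inv_mem hg)⟩)
      (fun k hk => mK.2 ⟨(mK.1 hk).1.conj _, mul_mem (mul_mem (inv_mem hg) (mK.1 hk).2)
        (inv_mem (inv_mem hg))⟩) (fun k _ => by group) (fun k _ => by group) fun k hk => ?_
    obtain ⟨v, h1, h2⟩ := (mK.1 hk).1.wv_spec
    rw [h2, ← ((mK.1 hk).1.toTv.conj g).sub_eq (v := g • v) (by simpa [mul_smul] using h1), smul_sub,
      smul_smul, smul_smul, inv_mul_cancel_right]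
  · obtain ⟨E, h1, h2, h3⟩ := h.par ha.dc (zpowers_le.2 aT)
    obtain ⟨b, hb, rfl⟩ := h1.td e
    exact ⟨b, hb, key a b ha aT hb h2 h3⟩
  · subst e1 e2
    have := key a b ha (zpowers_le.1 h.AT) hb h.o h.oth
    exact ⟨this.1, this.2.1⟩

theorem Td.th_conj' (hs : Td W A s) (ht : Td W A t) (e : ff W s t = 1) (v : W) :
    th (t * s * t⁻¹) v = th s v + th t v := hs.toTv.th_conj' ht.toTv e v

theorem Td.ff_conj' (hs : Td W A s) (ht : Td W A t) (e : ff W s t = 1) (u : P) :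
    ff W (t * s * t⁻¹) u = ff W s u + ff W t u := hs.toTv.ff_conj' ht.toTv e u

theorem Td.eq_of_zpowers (hs : Td W A s) (ht : Td W A t) (e : zpowers s = zpowers t) : s = t :=
  hs.toTv.eq_of_zpowers ht.toTv e

namespace TS

theorem ff_symm (h : TS W p T A z) (hs : Td W A s) (ht : Td W A t) : ff W s t = ff W t s :=
  h.toRS.ff_symm hs.toTv ht.toTv

theorem ff_self (h : TS W p T A z) (hs : Td W A s) : ff W s s = 0 := h.toRS.ff_self hs.toTv

theorem ff_eq_zero (h : TS W p T A z) (hs : Td W A s) (ht : Td W A t) :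
    ff W s t = 0 ↔ zpowers t ≤ Cz(zpowers s) := h.toRS.ff_eq_zero hs.toTv ht.toTv

theorem ff_cj (h : TS W p T A z) (hs : Td W A s) (ht : Td W A t) (g : P) :
    ff W (g * s * g⁻¹) (g * t * g⁻¹) = ff W s t := h.toRS.ff_cj hs.toTv ht.toTv g

theorem eq_of_th (h : TS W p T A z) (hs : Td W A s) (ht : Td W A t) (e : ∀ v : W, th s v = th t v) :
    s = t := h.toRS.eq_of_th hs.toTv ht.toTv e

theorem conj (h : TS W p T A z) {g : P} (hg : g ∈ stabilizer P z) : TS W p (cj g T) A z := by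
  refine ⟨h.toRS, h.syl.cj_top g, h.two, (cj_mono g h.TM).trans (cj_eq_of_mem hg).le, h.eol,
    fun a ha aT => ?_⟩
  obtain ⟨a, aT, rfl⟩ := aT
  have ha' : Td W A a := by simpa [mul_assoc] using ha.conj g⁻¹
  obtain ⟨e, h1, h2, h3, h4⟩ := h.par a ha' aT
  refine ⟨_, h1.conj g, fun e' => h2 (by
    simpa [mul_assoc] using mul_mem (mul_mem (inv_mem hg) e') hg), (h.ff_cj h1 ha' g).trans h3, ?_⟩
  rintro _ hk ⟨k, kT, rfl⟩ ne
  have hk' : Td W A k := by simpa [mul_assoc] using hk.conj g⁻¹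
  exact (h.ff_cj h1 hk' g).trans (h4 k hk' kT fun e => ne (e ▸ rfl))

theorem ff_T (h : TS W p T A z) (hs : Td W A s) (ht : Td W A t) (h1 : s ∈ T) (h2 : t ∈ T) :
    ff W s t = 0 := (h.ff_eq_zero hs ht).2
  (h.comm_of_le ht.rt hs.rt h.syl.pgrp (zpowers_le.2 h2) (zpowers_le.2 h1))

theorem mem_T (h : TS W p T A z) (ht : Td W A t) (hc : ∀ k, Td W A k → k ∈ T → ff W t k = 0) :
    t ∈ T := zpowers_le.1 ((le_jc_of_le h.syl (isPGroup_sup (h.syl.pgrp.to_le jc_le) (h.pg ht.rt)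
    ((jc_le_iff.2 fun D hD hDT => by
      obtain ⟨k, hk, rfl⟩ := hD.td h.two
      exact (h.ff_eq_zero ht hk).1 (hc k hk (zpowers_le.1 hDT))).trans (Cz_le_Nm _))) le_sup_left
    ht.dc le_sup_right).trans jc_le)

theorem d4 (h : TS W p T A z) {a x y u : P} (ha : Td W A a) (hx : Td W A x)
    (hy : Td W A y) (hu : Td W A u) (xy : ff W x y = 0) (xu : ff W x u = 0) (yu : ff W y u = 0)
    (xa : ff W x a = 1) (ya : ff W y a = 1) (ua : ff W u a = 1) (n1 : x ≠ y) (n2 : x ≠ u)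
    (n3 : y ≠ u) : False := by
  have rs := h
  have t1 := hx.conj a
  have f1 := hx.ff_conj' ha xa
  have e1 : ff W (a * x * a⁻¹) y = 1 := by rw [f1, xy, rs.ff_symm ha hy, ya, zero_add]
  have t2 := t1.conj y
  have f2 := t1.ff_conj' hy e1
  have e2 : ff W (y * (a * x * a⁻¹) * y⁻¹) u = 1 := by
    rw [f2, f1, xu, yu, rs.ff_symm ha hu, ua, zero_add, add_zero]
  have t3 := t2.conj u
  have f3 := t2.ff_conj' hu e2
  have e3 : ff W (u * (y * (a * x * a⁻¹) * y⁻¹) * u⁻¹) a = 1 := by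
    rw [f3, f2, f1, xa, ya, ua, rs.ff_self ha]; decide
  have t4 := t3.conj a
  have e4 : ∀ v : W, th (a * (u * (y * (a * x * a⁻¹) * y⁻¹) * u⁻¹) * a⁻¹) v =
      th x v + th y v + th u v := fun v => by
    rw [t3.th_conj' ha e3, t2.th_conj' hu e2, t1.th_conj' hy e1, hx.th_conj' ha xa]
    generalize th x v = a, th a v = b, th y v = c, th u v = d
    revert a b c d; decide
  generalize a * (u * (y * (a * x * a⁻¹) * y⁻¹) * u⁻¹) * a⁻¹ = s at t4 e4
  have e5 : ∀ k, ff W s k = ff W x k + ff W y k + ff W u k := fun k => e4 _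
  have cyu := (rs.ff_eq_zero hu hy).1 (by rw [rs.ff_symm hu hy, yu])
  have o1 := (rs.lat (rs.off hy.rt) (rs.off hu.rt) cyu).2.1
  have c1 : zpowers x ≤ Cz(zpowers y ⊔ zpowers u) :=
    le_Cz_comm (sup_le ((rs.ff_eq_zero hx hy).1 xy) ((rs.ff_eq_zero hx hu).1 xu))
  have o2 := (rs.lat (rs.off hx.rt) o1 c1).2.1
  have c2 : zpowers s ≤ Cz(zpowers x ⊔ (zpowers y ⊔ zpowers u)) := by
    refine le_Cz_comm (sup_le ((rs.ff_eq_zero t4 hx).1 ?_)
      (sup_le ((rs.ff_eq_zero t4 hy).1 ?_) ((rs.ff_eq_zero t4 hu).1 ?_))) <;> rw [e5]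
    · rw [rs.ff_self hx, rs.ff_symm hy hx, rs.ff_symm hu hx, xy, xu]; rfl
    · rw [rs.ff_self hy, rs.ff_symm hu hy, xy, yu]; rfl
    · rw [rs.ff_self hu, xu, yu]; rfl
  have c3 := rs.le_of_fx_le t4.rt o2 c2 fun v hv => by
    simp only [fx_sup, AddSubgroup.mem_inf, mem_fx_zpowers, ← th_eq_zero] at hv ⊢
    rw [e4, hv.1, hv.2.1, hv.2.2]; rfl
  have k : ∀ a b c d : ZMod 2, d = a + b + c →
      (d = a → b = c) ∧ (d = b → a = c) ∧ (d = c → a = b) := by decide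
  rcases h.eol _ _ _ hx.dc t4.dc o1 c1 c3 with e | e
  · obtain rfl := t4.eq_of_zpowers hx e
    exact n3 (rs.eq_of_th hy hu fun v => (k _ _ _ _ (e4 v)).1 rfl)
  rcases h.eol _ _ _ hy.dc t4.dc (rs.off hu.rt) cyu e with e | e
  · obtain rfl := t4.eq_of_zpowers hy e
    exact n2 (rs.eq_of_th hx hu fun v => (k _ _ _ _ (e4 v)).2.1 rfl)
  · obtain rfl := t4.eq_of_zpowers hu (rs.eq_of_le t4.rt hu.rt e)
    exact n1 (rs.eq_of_th hx hy fun v => (k _ _ _ _ (e4 v)).2.2 rfl)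

theorem cb_aux2 (h : TS W p T A z) {a c b b₁ d e : P}
    (ha : Td W A a) (hc : Td W A c) (hb₁ : Td W A b₁) (hd : Td W A d) (he : Td W A e) (aT : a ∈ T)
    (cT : c ∈ T) (ac : a ≠ c) (b₁M : b₁ ∉ stabilizer P z) (dM : d ∉ stabilizer P z) (eM : e ∉ stabilizer P z) (b₁a : ff W b₁ a = 1)
    (b₁c : ff W b₁ c = 1) (b₁b : ff W b₁ b = 0) (b₁d : ff W b₁ d = 1) (dc : ff W d c = 1)
    (dk : ∀ k, Td W A k → k ∈ T → k ≠ c → ff W d k = 0) (ea : ff W e a = 1) (b₁e : ff W b₁ e = 0)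
    (eb : ff W e b = 1) (ek : ∀ k, Td W A k → k ∈ T → k ≠ a → ff W e k = 0) : False := by
  have rs := h
  have da := dk a ha aT ac
  have t1 := hb₁.conj a
  have f1 := hb₁.ff_conj' ha b₁a
  have e1 : ff W (a * b₁ * a⁻¹) d = 1 := by rw [f1, b₁d, rs.ff_symm ha hd, da, add_zero]
  have ts := t1.conj d
  have e2 : ∀ v : W, th (d * (a * b₁ * a⁻¹) * d⁻¹) v = th b₁ v + th a v + th d v := fun v => by
    rw [t1.th_conj' hd e1, hb₁.th_conj' ha b₁a]
  generalize d * (a * b₁ * a⁻¹) * d⁻¹ = s at ts e2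
  have fs : ∀ k, ff W s k = ff W b₁ k + ff W a k + ff W d k := fun k => e2 _
  have aM := th_z.2 (h.TM aT)
  have sM : s ∈ stabilizer P z := th_z.1 (by
    rw [e2, th_z'.2 b₁M, th_z'.2 dM, aM]; decide)
  rcases zmod2_cases (ff W d e) with de | de
  · have se : ff W s e = 1 := by rw [fs, b₁e, rs.ff_symm ha he, ea, de]; decide
    have tg := ts.conj e
    refine th_z'.1 (by
      rw [ts.th_conj' he se, th_z.2 sM, th_z'.2 eM, zero_add])
      (h.TM (h.mem_T tg fun k hk kT => ?_))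
    rw [ts.ff_conj' he se, fs, h.ff_T ha hk aT kT]
    by_cases ka : k = a
    · rw [ka, b₁a, da, ea]; decide
    by_cases kc : k = c
    · rw [kc, b₁c, dc, ek c hc cT ac.symm]; decide
    rw [dk k hk kT kc, ek k hk kT ka]
    rcases zmod2_cases (ff W b₁ k) with e | e
    · rw [e]; rfl
    · exact (h.d4 hb₁ ha hc hk (h.ff_T ha hc aT cT) (h.ff_T ha hk aT kT) (h.ff_T hc hk cT kT)
        (rs.ff_symm ha hb₁ ▸ b₁a) (rs.ff_symm hc hb₁ ▸ b₁c) (rs.ff_symm hk hb₁ ▸ e) ac (Ne.symm ka)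
        (Ne.symm kc)).elim
  · refine h.d4 ha ts he hb₁ ?_ ?_ (rs.ff_symm he hb₁ ▸ b₁e) ?_ ea b₁a (fun e' => eM (e' ▸ sM))
      (fun e' => b₁M (e' ▸ sM)) fun e' => ?_
    · rw [fs, b₁e, rs.ff_symm ha he, ea, de]; decide
    · rw [fs, rs.ff_self hb₁, rs.ff_symm ha hb₁, rs.ff_symm hd hb₁, b₁a, b₁d]; decide
    · rw [fs, rs.ff_self ha, b₁a, da]; decide
    · rw [e', b₁b] at eb; exact zero_ne_one eb

theorem cb_aux (h : TS W p T A z) {a c b b' : P}
    (ha : Td W A a) (hc : Td W A c) (hb : Td W A b) (hb' : Td W A b') (aT : a ∈ T) (cT : c ∈ T)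
    (bM : b ∉ stabilizer P z) (b'M : b' ∉ stabilizer P z) (hne : b ≠ b') (bb' : ff W b b' = 0) (ba : ff W b a = 1)
    (b'a : ff W b' a = 1) (e : ∀ v : W, th c v = th a v + th b v + th b' v) : False := by
  have rs := h
  have ac : a ≠ c := fun e' => hne (rs.eq_of_th hb hb' fun v => by
    have := e v
    rw [← e'] at this
    revert this
    generalize th a v = x, th b v = y, th b' v = w
    revert x y w; decide)
  obtain ⟨d, hd, dM, dc, dk⟩ := h.par _ hc cT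
  have key : ∀ b b' : P, Td W A b → Td W A b' → b' ∉ stabilizer P z → ff W b b' = 0 → ff W b a = 1 → ff W b' a = 1 →
      (∀ v : W, th c v = th a v + th b v + th b' v) → ff W b' d = 1 → False := by
    intro b b' hb hb' b'M bb' ba b'a e b'd
    have fc : ∀ k, ff W c k = ff W a k + ff W b k + ff W b' k := fun k => e _
    have b'c : ff W b' c = 1 := by
      rw [rs.ff_symm hb' hc, fc, rs.ff_symm ha hb', b'a, bb', rs.ff_self hb']; rfl
    have key2 : ∀ e, Td W A e → e ∉ stabilizer P z → ff W e a = 1 → (∀ k, Td W A k → k ∈ T → k ≠ a → ff W e k = 0) →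
        ff W b' e = 0 → False := fun e he eM ea ek b'e => by
      refine h.cb_aux2 ha hc hb' hd he aT cT ac b'M dM eM b'a b'c (rs.ff_symm hb hb' ▸ bb') b'd dc
        dk ea b'e ?_ ek
      have := fc e
      rw [rs.ff_symm hc he, ek c hc cT ac.symm, rs.ff_symm ha he, ea, b'e, rs.ff_symm hb he] at this
      revert this
      generalize ff W e b = x
      revert x; decide
    obtain ⟨e, he, eM, ea, ek⟩ := h.par _ ha aT
    rcases zmod2_cases (ff W b' e) with b'e | b'e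
    · exact key2 e he eM ea ek b'e
    · refine key2 _ (he.conj a) (th_z'.1 ?_) ?_ (fun k hk kT ka => ?_) ?_
      · rw [he.th_conj' ha ea, th_z'.2 eM, th_z.2 (h.TM aT), add_zero]
      · rw [he.ff_conj' ha ea, ea, rs.ff_self ha, add_zero]
      · rw [he.ff_conj' ha ea, ek k hk kT ka, h.ff_T ha hk aT kT, add_zero]
      · rw [rs.ff_symm hb' (he.conj a), he.ff_conj' ha ea, rs.ff_symm he hb', b'e, rs.ff_symm ha hb',
          b'a]; decide
  rcases zmod2_cases (ff W b' d) with b'd | b'd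
  · refine key b' b hb' hb bM (rs.ff_symm hb hb' ▸ bb') b'a ba (fun v => by rw [e, add_right_comm]) ?_
    have : ff W c d = ff W a d + ff W b d + ff W b' d := e _
    rw [rs.ff_symm hc hd, dc, rs.ff_symm ha hd, dk a ha aT ac, b'd, zero_add, add_zero] at this
    exact this.symm
  · exact key b b' hb hb' b'M bb' ba b'a e b'd

theorem cb (h : TS W p T A z) {a b b' : P}
    (ha : Td W A a) (hb : Td W A b) (hb' : Td W A b') (aM : a ∈ stabilizer P z) (bM : b ∉ stabilizer P z) (b'M : b' ∉ stabilizer P z)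
    (bb' : ff W b b' = 0) (ba : ff W b a = 1) (b'a : ff W b' a = 1) : b = b' := by
  have rs := h
  by_contra hne
  have ab : ff W a b = 1 := rs.ff_symm ha hb ▸ ba
  have t1 := ha.conj b
  have e1 : ff W (b * a * b⁻¹) b' = 1 := by rw [ha.ff_conj' hb ab, rs.ff_symm ha hb', b'a, bb', add_zero]
  have tc := t1.conj b'
  have e2 : ∀ v : W, th (b' * (b * a * b⁻¹) * b'⁻¹) v = th a v + th b v + th b' v := fun v => by
    rw [t1.th_conj' hb' e1, ha.th_conj' hb ab]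
  generalize b' * (b * a * b⁻¹) * b'⁻¹ = c at tc e2
  have cM : c ∈ stabilizer P z := th_z.1 (by
    rw [e2, th_z'.2 bM, th_z'.2 b'M, th_z.2 aM]; decide)
  have ca : ff W c a = 0 := by
    have : ff W c a = ff W a a + ff W b a + ff W b' a := e2 _
    rw [this, rs.ff_self ha, ba, b'a]; decide
  obtain ⟨m, hm, e⟩ := (h.syl.mono h.TM le_top).exists_le_cj (isPGroup_sup (rs.pg ha.rt) (rs.pg tc.rt)
    (((rs.ff_eq_zero tc ha).1 ca).trans (Cz_le_Nm _))) (sup_le (zpowers_le.2 aM) (zpowers_le.2 cM))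
  exact (h.conj hm).cb_aux ha tc hb hb'
    (e (mem_sup_left (mem_zpowers a))) (e (mem_sup_right (mem_zpowers c))) bM b'M hne bb' ba b'a e2

theorem rel_trans (h : TS W p T A z) {s t u : P}
    (hs : Td W A s) (ht : Td W A t) (hu : Td W A u) (sM : s ∉ stabilizer P z) (tM : t ∉ stabilizer P z) (uM : u ∉ stabilizer P z)
    (h1 : s = t ∨ ff W s t = 1) (h2 : u = t ∨ ff W u t = 1) : s = u ∨ ff W s u = 1 := by
  have rs := h
  rcases h1 with rfl | h1
  · exact h2.imp Eq.symm fun e => rs.ff_symm hs hu ▸ e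
  rcases h2 with rfl | h2
  · exact Or.inr h1
  rcases zmod2_cases (ff W s u) with e | e
  · have e1 : ff W t s = 1 := rs.ff_symm ht hs ▸ h1
    refine Or.inl (h.cb (ht.conj s) hs hu (th_z.1 ?_) sM uM e ?_ ?_)
    · rw [ht.th_conj' hs e1, th_z'.2 tM, th_z'.2 sM]; decide
    · rw [rs.ff_symm hs (ht.conj s), ht.ff_conj' hs e1, e1, rs.ff_self hs, add_zero]
    · rw [rs.ff_symm hu (ht.conj s), ht.ff_conj' hs e1, rs.ff_symm ht hu, h2, e, add_zero]
  · exact Or.inr e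

theorem star (h : TS W 2 T A z) {a b : P} (ha : Td W A a) (aT : a ∈ T) (hb : Td W A b)
    (bM : b ∉ stabilizer P z) (ba : ff W b a = 1) : ∃ (E : Subgroup P) (m : ℕ), m ≠ 0 ∧
      zpowers a ⊔ zpowers b ≤ E ∧ E.IsSubnormal ∧ (∀ g ∈ T, g * b = b * g → g ∈ Nm(E)) ∧
      cm W E ⊓ fx W E = ⊥ ∧ ∃ ρ ψ, PermD W (2 * m + 1) E ρ ψ ∧ Function.Injective ρ := by
  have rs := h
  have cM : ∀ s ∈ T, ∀ t, t ∉ stabilizer P z → s * t * s⁻¹ ∉ stabilizer P z := fun s hs t ht e =>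
    ht (by simpa [mul_assoc] using mul_mem (mul_mem (inv_mem (h.TM hs)) e) (h.TM hs))
  let K : Set P := {t | Td W A t ∧ t ∉ stabilizer P z ∧ (t = b ∨ ff W t b = 1)}
  have bK : b ∈ K := ⟨hb, bM, Or.inl rfl⟩
  have fb : ∀ {s t}, Td W A s → Td W A t → ff W s t = 1 → ff W (t * s * t⁻¹) s = 1 :=
    fun hs ht e => by rw [hs.ff_conj' ht e, rs.ff_self hs, rs.ff_symm ht hs, e, zero_add]
  have k1 : ∀ s ∈ K, ∀ t ∈ K, s = t ∨ ff W s t = 1 := fun s hs t ht =>
    h.rel_trans hs.1 hb ht.1 hs.2.1 bM ht.2.1 hs.2.2 ht.2.2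
  have k2 : ∀ s ∈ K, ∀ t, Td W A t → t ∉ stabilizer P z → (t = s ∨ ff W t s = 1) → t ∈ K :=
    fun s hs t ht tM e => ⟨ht, tM, h.rel_trans ht hs.1 hb tM hs.2.1 bM e
      (hs.2.2.imp Eq.symm fun e => rs.ff_symm hb hs.1 ▸ e)⟩
  have k3 : ∀ g ∈ T, ∀ s ∈ K, g * s * g⁻¹ ∈ K → ∀ t ∈ K, g * t * g⁻¹ ∈ K := fun g hg s hs e t ht =>
    k2 _ e _ (ht.1.conj g) (cM g hg t ht.2.1) ((k1 t ht s hs).imp (fun e => by rw [e])
      fun e => by rw [rs.ff_cj ht.1 hs.1, e])
  have k4 : ∀ g, (∀ t ∈ K, g * t * g⁻¹ ∈ K) → g ∈ Nm(closure K) := fun g e =>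
    mem_normalizer_of_cj_le (by
      rw [cj_closure]
      exact closure_mono (by rintro _ ⟨t, ht, rfl⟩; exact e t ht))
  have k5 : ∀ t, Td W A t → ∀ s ∈ K, ff W t s = 1 → t ∈ closure K := fun t ht s hs e => by
    by_cases tM : t ∈ stabilizer P z
    · have := subset_closure (k2 s hs _ (ht.conj s) (th_z'.1 (by
        rw [ht.th_conj' hs.1 e, th_z.2 tM, th_z'.2 hs.2.1, zero_add])) (Or.inr (by
          rw [ht.ff_conj' hs.1 e, e, rs.ff_self hs.1, add_zero])))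
      have m := subset_closure hs
      simpa [mul_assoc] using mul_mem (mul_mem (inv_mem m) this) m
    · exact subset_closure (k2 s hs t ht tM (Or.inr e))
  obtain ⟨m, hm⟩ : Even (Nat.card K) := by
    let H : Subgroup P :=
      { carrier := {g | g ∈ T ∧ ∀ t, g * t * g⁻¹ ∈ K ↔ t ∈ K}
        one_mem' := ⟨one_mem _, by simp⟩
        mul_mem' := fun {x y} hx hy => ⟨mul_mem hx.1 hy.1, fun t => by
          rw [← hy.2 t, ← hx.2 (y * t * y⁻¹)]; simp [mul_assoc]⟩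
        inv_mem' := fun {x} hx => ⟨inv_mem hx.1, fun t => by rw [← hx.2 (x⁻¹ * t * x⁻¹⁻¹)]; simp [mul_assoc]⟩ }
    letI : MulAction H K :=
      { smul := fun g t => ⟨g * t * (g : P)⁻¹, (g.2.2 _).2 t.2⟩
        one_smul := fun t => Subtype.ext (show (1 : P) * t * 1⁻¹ = t by simp)
        mul_smul := fun x y t => Subtype.ext
          (show (x : P) * y * t * (x * y : P)⁻¹ = x * (y * t * (y : P)⁻¹) * (x : P)⁻¹ by group) }
    have e := (h.syl.pgrp.to_le (fun _ hg => hg.1 : H ≤ T)).card_modEq_card_fixedPoints K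
    rw [show fixedPoints H K = ∅ from Set.eq_empty_of_forall_notMem fun t ht => ?_] at e
    · exact even_iff_two_dvd.2 ((Nat.modEq_zero_iff_dvd).1 (by simpa using e))
    refine t.2.2.1 (h.TM (h.mem_T t.2.1 fun k hk kT => (zmod2_cases _).resolve_right fun e => ?_))
    have e1 := k3 k kT t t.2 (k2 t t.2 _ (t.2.1.conj k) (cM k kT t t.2.2.1) (Or.inr (fb t.2.1 hk e)))
    have e2 : k * t * k⁻¹ = t := congrArg Subtype.val (ht ⟨k, kT, fun u => ⟨fun hu => by
      simpa [mul_assoc, hk.inv, hk.sq, ← mul_assoc k k] using e1 _ hu, e1 u⟩⟩)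
    have := fb t.2.1 hk e
    rw [e2, rs.ff_self t.2.1] at this
    exact zero_ne_one this
  have b'K : a * b * a⁻¹ ∈ K := ⟨hb.conj a, cM a aT b bM, Or.inr (fb hb ha ba)⟩
  have n2 : 2 ≤ Nat.card K := by
    refine Finite.one_lt_card_iff_nontrivial.2 ⟨⟨b, bK⟩, ⟨_, b'K⟩, fun e => ?_⟩
    have := fb hb ha ba
    rw [← show b = a * b * a⁻¹ from congrArg Subtype.val e, rs.ff_self hb] at this
    exact zero_ne_one this
  rw [← two_mul] at hm
  let e := (Finite.equivFinOfCardEq hm).symm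
  have er : Set.range (fun i => (e i : P)) = K := by
    ext t
    exact ⟨by rintro ⟨i, rfl⟩; exact (e i).2, fun ht => ⟨e.symm ⟨t, ht⟩, by simp⟩⟩
  obtain ⟨s1, -, s4⟩ := er ▸ rs.toRS.star (even_two_mul _) (hm ▸ n2)
    (fun i => (e i : P)) (fun i => (e i).2.1.toTv) fun i j hne =>
      (k1 _ (e i).2 _ (e j).2).resolve_left fun e' => hne (e.injective (Subtype.ext e'))
  refine ⟨closure K, m, by omega, sup_le (zpowers_le.2 (k5 a ha b bK (rs.ff_symm ha hb ▸ ba)))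
    (zpowers_le.2 (subset_closure bK)), DS.subn (A := A) (W := W) ((closure_le _).2 fun t ht =>
      le_jc ht.1.dc le_top (mem_zpowers t)) fun C hC => ?_, fun g hg e => k4 g (k3 g hg b bK
        (by rwa [e, mul_inv_cancel_right])), s4, s1⟩
  obtain ⟨t, ht, rfl⟩ := hC.td h.two
  by_cases e : ∃ s ∈ K, ff W t s = 1
  · obtain ⟨s, hs, e⟩ := e
    exact zpowers_le.2 (le_normalizer (k5 t ht s hs e))
  · exact (le_Cz_comm ((closure_le _).2 fun s hs => (rs.ff_eq_zero ht hs.1).1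
      ((zmod2_cases _).resolve_right fun e' => e ⟨s, hs, e'⟩) (mem_zpowers s))).trans (Cz_le_Nm _)

end TS

end CfH7
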