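import Cfsg.Agent.OD.Pre
import Cfsg.Agent.H7.GM1

/-! The local `C*(G,T)`-theorem: small blocks of a minimal counterexample. -/

set_option autoImplicit false
set_option linter.unusedSectionVars false

open Cfsg Subgroup CfH9 CfLp Equiv
open scoped commutatorElement MatrixGroups

namespace CfH7

open CfH8 (BB JJ MaxEl)

universe u

theorem sl_top_of {F : Type} [Field F] [Fintype F] {X : Subgroup SL(2, F)}
    (h1 : (uH F).range ≤ X) (h2 : ¬ X ≤ Nm((uH F).range)) : X = ⊤ := by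
  obtain ⟨g, hg, e⟩ := SetLike.not_le_iff_exists.1 h2
  rw [mem_Nm_uH] at e
  have u : ∀ t, uu t ∈ X := fun t => h1 (mem_uH.2 ⟨t, rfl⟩)
  refine sl_eq_top u fun t => ?_
  have m := mul_mem (u (-(g 0 0 / g 1 0))) hg
  have k : ll t * (uu (-(g 0 0 / g 1 0)) * g) =
      uu (-(g 0 0 / g 1 0)) * g * uu (-(t / g 1 0 ^ 2)) := by
    have d := g.det_coe
    rw [Matrix.det_fin_two] at d
    ext i j
    fin_cases i <;> fin_cases j <;>
      simp [uu_coe, ll_coe, Matrix.mul_apply, Fin.sum_univ_two, Matrix.vecMul, dotProduct] <;>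
      field_simp
    all_goals first | ring1 | (simp; done) | linear_combination (-t) * d | linear_combination t * d
  exact (mul_mem_cancel_right m).1 (k ▸ mul_mem m (u _))

section

variable {G : Type*} [Group G] [Finite G] {p q : ℕ} [hp : Fact p.Prime] {T M E F L U : Subgroup G}

theorem BLK.eq_of_le (hE : BLK p T E) (hF : BLK p T F) (l : Ln p F) (h1 : E ≤ F)
    (h2 : ¬ E ≤ cStarOf p T) : E = F := by
  obtain ⟨K, _, _, l⟩ := l
  obtain ⟨τ, t, e⟩ := l.td hF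
  have s : E ⊔ BB p T ≤ F ⊔ BB p T := sup_le_sup_right h1 _
  have e1 := sl_top_of (X := im τ (E ⊔ BB p T)) (e.ge.trans (im_mono le_sup_right)) fun e' =>
    h2 fun x hx => t.low ⟨x, s (mem_sup_left hx)⟩ (e' (mem_im (mem_sup_left hx)))
  have e2 := (im_le_im_iff t.ker le_sup_left s).1 (le_top.trans e1.ge)
  have k := hF.bk.kp hF.syl.pgrp
  have n : F ⊔ BB p T ≤ Nm((F ⊔ BB p T) ⊓ Cz(bV p F)) := le_normalizer_inf le_normalizer
    (hF.bk.nH.trans ((Nm_le_Nm_bV F).trans (Nm_le_Nm_Cz _)))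
  rw [sup_assoc] at e2
  exact le_antisymm h1 (hF.bk.le_of_le_sup (isPGroup_sup (isPGroup_B hE.syl.pgrp) k
    (le_sup_right.trans n)) (sup_le hE.bk.B_le_Nm (hE.bk.nm hE.syl k (le_sup_right.trans n)
      ((h1.trans le_sup_left).trans n))) e2)

theorem card_coprime_zpowers {x : G} (hx : (orderOf x).Coprime p) (hU : IsPGroup p U) :
    (Nat.card (zpowers x)).Coprime (Nat.card U) := by
  obtain ⟨n, hn⟩ := IsPGroup.iff_card.1 hU
  rw [Nat.card_zpowers, hn]
  exact hx.pow_right n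

theorem BLK.exc_t (h : BLK p T E) (e : pCoreOf p E ≠ bW p E) : ∃ t ∈ E, (orderOf t).Coprime p ∧
    ⁅E, zpowers t⁆ ≤ pCoreOf p E ∧ bV p E ⊓ Cz(zpowers t) = ⊥ := by
  obtain ⟨w, hw⟩ := h.exists_ww e
  have m := mul_mem hw.mem hw.mem
  have o : (orderOf (w * w)).Coprime p :=
    hw.ord.coprime_dvd_left (by rw [← sq]; exact orderOf_pow_dvd 2)
  have c : ⁅E, zpowers (w * w)⁆ ≤ pCoreOf p E := (commutator_mono le_normalizer le_rfl).trans
    (commutator_le_of_le_secCz (zpowers_le.2 hw.cen))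
  have n : zpowers (w * w) ≤ Nm(bV p E) := (zpowers_le.2 m).trans (right_le_Nm_comm _ _)
  have k : ⁅bV p E, zpowers (w * w) ⊔ pCoreOf p E⁆ = ⁅bV p E, zpowers (w * w)⁆ := le_antisymm
    (commutator_le_of_le_sup_Cz (Q_le_Cz_bV E) n (sup_comm _ _).le)
    (commutator_mono le_rfl le_sup_left)
  refine ⟨_, m, o, c, le_bot_iff.1 (le_trans (inf_le_inf_right _ (h.bk.irr'
    ((comm_le_left n).trans (bV_le E)) ?_ fun e => hw.nm (h.bk.mem_Q m (zpowers_le.1
      (h.bk.le_Cz_of_sec0 ((zpowers_le.2 m).trans le_normalizer) e)))))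
    (CfH8.commutator_inf_centralizer_eq_bot (elemAb_bV E).1 n
      (card_coprime_zpowers o (isPGroup_bV E))).le)⟩
  rw [← k]
  exact le_normalizer_commutator (right_le_Nm_comm _ _) (le_Nm_sup_of_comm_le
    (le_normalizer_pCoreOf E) ((commutator_comm _ _).le.trans (c.trans le_sup_right)))

theorem BLK.exc_V0 (h : BLK p T E) (e : pCoreOf p E ≠ bW p E) : bV0 p E = ⊥ := by
  obtain ⟨t, h1, -, -, h2⟩ := h.exc_t e
  exact le_bot_iff.1 ((inf_le_inf_left _ (Cz_anti (zpowers_le.2 h1))).trans h2.le)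

theorem BLK.W_le_Cz (h : BLK p T E) (e : bV0 p E = ⊥) : bW p E ≤ Cz(OZ p (pCore p G)) := by
  have c := h.bk.comm_V h.syl h.chp
  have r : OZ p (pCore p G) ≤ Nm(E) := (OZ_le _).trans h.R_le
  have k : ⁅OZ p (pCore p G), bZ p E⁆ ≤ Cz(E) := comm_eq_bot_left.1 (le_bot_iff.1
    (three_subgroups (le_Nm_normal _ _) (le_Nm_normal _ _) (le_Nm_normal _ _)
      (by rw [comm_eq_bot_left.2 inf_le_right, commutator_bot_left])
      (by rw [commutator_comm E, c]
          exact (comm_eq_bot_right.2 ((inf_le_left.trans (bW_le E)).trans (Q_le_Cz_bV E))).le)))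
  refine h.bk.W_le.trans (sup_le ((h.bk.V_le h.syl h.chp).trans (elemAb_le_Cz (elemAb_OZ _)))
    (comm_eq_bot_right.1 (le_bot_iff.1 (le_trans (le_inf ?_ k) e.le))))
  exact (commutator_mono le_rfl (inf_le_left.trans (bW_le' E))).trans c.le

/-- the centre of `O_p(G)` splits over an exceptional block -/
theorem BLK.exc_sup (h : BLK p T E) (e : pCoreOf p E ≠ bW p E)
    (hQ : pCoreOf p E ≤ Cz(OZ p (pCore p G))) :
    OZ p (pCore p G) ≤ bV p E ⊔ (OZ p (pCore p G) ⊓ Cz(E)) := by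
  obtain ⟨t, h1, h2, h3, h4⟩ := h.exc_t e
  have c := h.bk.comm_V h.syl h.chp
  have n : ∀ X : Subgroup G, X ≤ Nm(OZ p (pCore p G)) := fun X =>
    (le_Nm_normal _ _).trans (Nm_le_Nm_OZ _)
  refine (CfH8.commutator_sup_centralizer_eq (n _) (card_coprime_zpowers h2
    (elemAb_isPGroup (elemAb_OZ _))) (Or.inl inferInstance)).ge.trans (sup_le_sup
      ((commutator_mono le_rfl (zpowers_le.2 h1)).trans c.le) (le_inf inf_le_left
        (comm_eq_bot_left.1 (le_bot_iff.1 (le_trans (le_inf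
          ((commutator_mono inf_le_left le_rfl).trans c.le) ?_) h4.le)))))
  refine comm_eq_bot_left.1 (le_bot_iff.1 (three_subgroups (le_Nm_normal _ _) (le_Nm_normal _ _)
    (le_Nm_normal _ _) ?_ ?_))
  · exact (comm_eq_bot_left.2 (h3.trans (hQ.trans (Cz_anti inf_le_left)))).le
  · rw [comm_eq_bot_right.2 inf_le_right, commutator_bot_left]

/-- a block obtained by pushing up `B(T)` -/
structure SB (p q : ℕ) (T M L : Subgroup G) : Prop where
  cs : CS p q L (BB p T) (pCoreOf p L) (L ⊓ M)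
  good : Good p L (BB p T) (pCoreOf p L)
  hd : NoChar L (BB p T)
  nz : ⁅Op(p, L), OZ p T⁆ ≠ ⊥
  fld : ∃ (F : Type) (_ : Field F) (_ : Fintype F) (n : ℕ), Fintype.card F = p ^ n ∧
    Fintype.card F = q

namespace SB

variable (h : SB p q T M L)
include h

theorem blk : IsBaumannBlock p T Op(p, L) := by
  obtain ⟨F, _, _, n, h1, h2⟩ := h.fld
  exact h.cs.blk h.good h.hd h.nz h1 h2

theorem bk : BK p T Op(p, L) := bk_of h.blk

theorem nM (hT : T ≤ M) : ¬ Op(p, L) ≤ M := fun e => h.cs.ex.elim fun _ hg =>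
  hg.2 (mi hg.1 (h.cs.le_of_O_S e ((CfH8.B_le T).trans hT) hg.1))

theorem lW : bW p Op(p, L) ≤ Zc(pCoreOf p L) := by
  obtain ⟨F, _, _, n, hF, hq⟩ := h.fld
  rcases h.good with hI | ⟨A, h2⟩
  · exact ((bW_le _).trans h.cs.core_eq.le).trans hI
  have hd := h.hd
  obtain ⟨d, e1, -, e3⟩ := h.cs.exists_pd h2.hA h2.hT
  rw [← e1, ← e3] at h2
  rw [← e1] at hd
  exact (II2.W_eq d h2 hF hq hd).le.trans (II2.U_le d h2 (II2.comm_eq d h2 hF hq))

theorem ln : Ln p Op(p, L) := by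
  obtain ⟨F, _, _, n, hF, hq⟩ := h.fld
  obtain ⟨D⟩ := h.cs.mdW h.good hF hq h.lW
  obtain ⟨D⟩ := h.bk.md_V D
  exact ln_of_md h.blk ⟨n, hF⟩ D

theorem pcl (e : q = 2) : PCl p Op(p, L) := by
  obtain ⟨F, _, _, n, hF, hq⟩ := h.fld
  obtain ⟨D, hD⟩ := h.cs.mdZ h.good hF hq
  exact pcl_of_hom D.ρ hD fun x => (sf_of_card (by omega)).pow_eq hF (D.mem_R x)

theorem LT : ⁅Lc p L (pCoreOf p L), pCoreOf p L⁆ ≤ Wc p L (pCoreOf p L) :=
  h.good.elim h.cs.I_LT fun ⟨_, e⟩ => e.LT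

theorem lV : bV p Op(p, L) ≤ Zc(pCoreOf p L) := (bV_le _).trans h.lW

theorem nV : L ≤ Nm(bV p Op(p, L)) := h.cs.nO.trans (Nm_le_Nm_bV _)

theorem V_sup : bV p Op(p, L) ⊔ Zc(L) = Zc(pCoreOf p L) := le_antisymm
  (sup_le h.lV h.cs.Zg_le_Z) (h.cs.comm_O_sup.ge.trans (sup_le_sup_right ((h.bk.idem
    h.cs.pT.to_inf_left (h.cs.OG.trans h.cs.nZ)).ge.trans (commutator_mono h.cs.V_le le_rfl)) _))

theorem mem_T {x : G} (h1 : x ∈ BB p T) (h2 : x ∈ Cz(bV p Op(p, L))) : x ∈ pCoreOf p L :=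
  h.cs.mem_T_of_Cz h.cs.nc h1 (by
    rw [← h.V_sup, Cz_sup]
    exact mi h2 (le_Cz_comm inf_le_right (h.cs.SG h1)))

theorem T_le : pCoreOf p L ≤ Cz(bV p Op(p, L)) := le_Cz_comm (h.lV.trans inf_le_right)

theorem xb : XB p (BB p T) Op(p, L) := by
  rw [XB, h.cs.core_eq]
  have k : BB p T ⊓ Cz(bV p Op(p, L)) ≤ pCoreOf p L := fun _ hx => h.mem_T hx.1 hx.2
  exact ⟨h.cs.LT.trans h.cs.TS, ((commutator_mono le_rfl k).trans h.LT).trans inf_le_right⟩

theorem gb {H : Subgroup G} (s : SubnIn Op(p, L) H) : GB p T H Op(p, L) :=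
  ⟨h.blk, s, Or.inr h.ln, Or.inr h.xb⟩

end SB

end

variable {G : Type u} [Group G] [Finite G] {p q : ℕ} [hp : Fact p.Prime] {T M E F L : Subgroup G}

theorem MC.exists_sb (h : MC p T M) :
    ∃ q L P, SB p q T M L ∧ T ≤ P ∧ (2 < q → SubnIn Op(p, L) P) := by
  obtain ⟨P, h1, h2⟩ := exists_minOver_not_le h.syl h.TM h.ne h.NT
  have TP := h2.le'
  have i := P.subtype_injective
  have eT := map_subgroupOf_eq_of_le TP
  have s := (h.sylH TP).subgroupOf_top
  have b : BS p (T.subgroupOf P) (M.subgroupOf P) := by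
    refine ⟨s, (minOver_map_iff i).1 ?_, h.chH TP, fun e => h1 ?_, fun e => h1 ?_⟩
    · rwa [eT, map_subtype_top, subgroupOf_map_subtype, inf_comm]
    · have := map_le_Nm_map (top_le_Nm (OZ p (T.subgroupOf P))) P.subtype
      rw [map_subtype_top, map_OZ_inj i, eT] at this
      exact (h2.le_of_le_Nm (le_Cz_OZ T) (this.trans (Nm_le_Nm_Cz _))).trans h.CZ
    · have := map_le_Nm_map (top_le_Nm (JJ p (T.subgroupOf P))) P.subtype
      rw [map_subtype_top, CfH8.map_J_of_injective _ i, eT] at this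
      exact this.trans h.NJ
  obtain ⟨W, _, _, _, _, ι, z, A, B, l⟩ := b.exists_bl
  obtain ⟨L, k, e⟩ := l.exists_pu
  have k' := k.map i
  rw [map_B_inj i, eT, map_pCoreOf_of_injective _ i, Subgroup.map_inf _ _ _ i,
    subgroupOf_map_subtype, inf_comm M, ← inf_assoc, inf_eq_left.2 (map_subtype_le L)] at k'
  have n : ¬ L.map P.subtype ≤ M := fun e => k'.ex.elim fun _ hg => hg.2 (mi hg.1 (e hg.1))
  obtain ⟨c, hg⟩ := k'.good (h.noChar n)
  obtain ⟨F, _, _, hF, m, -, hF'⟩ := exists_field_card (l.pm.syl.pgrp.to_le l.pl.AT) l.pl.rA.ne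
  have sb : SB p (Nat.card A) T M (L.map P.subtype) := ⟨c, hg, h.noChar n, fun e => n
    (k'.le_of_O_S ((comm_eq_bot_left.1 e).trans h.CZ) ((CfH8.B_le T).trans h.TM)),
    F, inferInstance, inferInstance, m, hF', hF⟩
  refine ⟨_, _, P, sb, TP, fun hq => ?_⟩
  have bl : BLK p (T.subgroupOf P) Op(p, L) := ⟨s, b.chp, (blk_map_iff i).1 (by
    rw [eT, map_pResidualOf]; exact sb.blk)⟩
  have s := ((subnIn_of_normal (pResidualOf_le (p := p) _) (le_normalizer_pResidualOf _)).isSubnormal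
    (l.pl.dec_large l.pm hq).subn).comap (πG p P)
  rw [← pResidualOf_sup_of_isPGroup ((isPGroup_B b.syl.pgrp).map _).to_inf_left
    (inf_le_right.trans (Cz_le_Nm _)), ← e, ← map_pResidualOf, comap_map_eq, πG_ker] at s
  have := (subnIn_top_iff.2 ((subnIn_of_normal le_sup_left (sup_le le_normalizer ((Cz_anti
    (bl.bk.V_le bl.syl bl.chp)).trans bl.Cz_le))).isSubnormal s)).map P.subtype
  rwa [map_pResidualOf, map_subtype_top] at this

end CfH7
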