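import Cfsg.Agent.OD.Pre
import Cfsg.Agent.H7.GM2

/-! The local `C*(G,T)`-theorem: over-offenders. -/

set_option autoImplicit false
set_option linter.unusedSectionVars false

open Cfsg Subgroup CfH9 CfLp Equiv
open scoped commutatorElement MatrixGroups

namespace CfH7

open CfH8 (BB JJ MaxEl)

universe u

/-- a minimal over-offender -/
structure OV {G : Type*} [Group G] (p : ℕ) (V A : Subgroup G) : Prop where
  pg : IsPGroup p A
  cc : ⁅A, A⁆ ≤ Cz(V)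
  pw : ∀ a ∈ A, a ^ p ∈ Cz(V)
  nc : ¬ A ≤ Cz(V)
  quad : ⁅V, A⁆ ≤ Cz(A)
  key : ∀ U, U ≤ V → Nat.card A * Nat.card (U ⊓ Cz(A) : Subgroup G) ≤
    Nat.card (A ⊓ Cz(U) : Subgroup G) * Nat.card U → A ≤ Cz(U)

variable {G : Type u} [Group G] [Finite G] {p q : ℕ} [hp : Fact p.Prime]
  {T M E F H V A U X : Subgroup G}

theorem OV.cj [V.Normal] (h : OV p V A) (g : G) : OV p V (cj g A) := by
  have e : CfH9.cj g Cz(V) = Cz(V) := cj_normal g _
  refine ⟨isPGroup_cj h.pg g, ?_, ?_, fun e' => h.nc (cj_le_cj_iff.1 (e'.trans e.ge)), ?_,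
    fun U h1 h2 => ?_⟩
  · rw [← cj_commutator, ← e]; exact cj_mono g h.cc
  · rintro _ ⟨a, ha, rfl⟩
    rw [← map_pow, ← e]
    exact mem_map_of_mem _ (h.pw a ha)
  · have := cj_mono g h.quad
    rwa [cj_commutator, cj_normal, cj_centralizer] at this
  · obtain ⟨U, rfl⟩ : ∃ U', CfH9.cj g U' = U := ⟨_, cj_cj_inv g U⟩
    rw [← cj_centralizer, ← cj_centralizer, ← cj_inf, ← cj_inf, card_cj, card_cj, card_cj,
      card_cj] at h2
    rw [← cj_centralizer]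
    exact cj_mono g (h.key U (cj_le_cj_iff.1 (h1.trans (cj_normal g V).ge)) h2)

theorem exists_ov [V.Normal] {W : Type*} [AddCommGroup W] [DistribMulAction (G ⧸ Cz(V)) W]
    [Finite W] [FaithfulSMul (G ⧸ Cz(V)) W] {ι : Multiplicative W →* G}
    (b : Br V ⊤ (mkT Cz(V)) ι) (hw : ∀ w : W, p • w = 0) (h : ¬ RS (G ⧸ Cz(V)) W p) :
    ∃ A, OV p V A := by
  obtain ⟨Y, hY, hlt⟩ : ∃ Y : Subgroup (G ⧸ Cz(V)), IsElementaryAbelian p Y ∧ Nat.card W < lm W Y := by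
    by_contra e
    push Not at e
    exact h ⟨hw, e⟩
  obtain ⟨Y', hY', hm⟩ := Set.exists_max_image {Y : Subgroup (G ⧸ Cz(V)) | IsElementaryAbelian p Y}
    (lm W) (Set.toFinite _) ⟨Y, hY⟩
  obtain ⟨A, ⟨a1, a2⟩, a3⟩ := exists_min_card (fun A => IsElementaryAbelian p A ∧ lm W A = lm W Y')
    ⟨Y', hY', rfl⟩
  have a4 : Nat.card W < lm W A := a2 ▸ hlt.trans_le (hm Y hY)
  have a5 : ∀ B, B ≤ A → B ≠ A → lm W B < lm W A := fun B b1 b3 =>
    lt_of_le_of_ne (a2 ▸ hm B (elemAb_of_le b1 a1)) fun e =>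
      b3 (eq_of_le_of_card_ge b1 (a3 B ⟨elemAb_of_le b1 a1, e.trans a2⟩))
  obtain ⟨S, hS⟩ := exists_sylIn p (A.comap (QuotientGroup.mk' Cz(V)))
  have e : S.map (QuotientGroup.mk' Cz(V)) = A := by
    have := hS.map (QuotientGroup.mk' Cz(V))
    rw [map_comap_eq_self_of_surjective (QuotientGroup.mk'_surjective _)] at this
    exact (this.eq_of_le (elemAb_isPGroup a1) le_rfl this.le).symm
  have k : ∀ X : Subgroup G, X.map (QuotientGroup.mk' Cz(V)) = ⊥ ↔ X ≤ Cz(V) := fun X => by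
    rw [Subgroup.map_eq_bot_iff, QuotientGroup.ker_mk']
  subst e
  have r := rl_mk Cz(V) S
  refine ⟨S, hS.pgrp, (k _).1 ?_, fun a ha => (QuotientGroup.eq_one_iff _).1 ?_,
    fun e => a4.ne (by rw [(k _).2 e, lm_bot]), comm_eq_bot_left.1 (b.comm_comm r r (cm_le_iff.2
      (BestL.quad hw a1 a4.le fun B b1 _ => a5 B b1).2)), fun U h1 h2 => ?_⟩
  · rw [map_commutator, comm_eq_bot_left.2 (elemAb_le_Cz a1)]
  · exact (map_pow (QuotientGroup.mk' Cz(V)) a p).trans (a1.2 _ (mem_map_of_mem _ ha))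
  obtain ⟨U, rfl⟩ := b.exists_am h1
  have r' := rl_mk Cz(V) (S ⊓ Cz(am ι U))
  have u := (b.le_Cz_iff r').1 inf_le_right
  by_contra n
  refine (a5 _ (map_mono inf_le_left) fun e => n ((b.le_Cz_iff r).2 (e ▸ u))).not_ge
    (lm_le_of_relIndex (map_mono inf_le_left) u ?_)
  rw [← inf_eq_left.2 h1, inf_assoc, ← b.am_fx r, ← b.am_inf, inf_eq_left.2 h1, b.card_am, b.card_am,
    ← b.card_mul r, ← b.card_mul r', inf_assoc, inf_eq_right.2 (Cz_anti h1), inf_comm U,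
    ← add_card_inf_mul_relIndex (fx W (S.map (QuotientGroup.mk' Cz(V)))) U] at h2
  refine Nat.le_of_mul_le_mul_right (le_trans (le_of_eq ?_) (h2.trans (le_of_eq ?_)))
    (Nat.mul_pos (Nat.card_pos (α := (S ⊓ Cz(V) : Subgroup G))) (Nat.card_pos
      (α := (fx W (S.map (QuotientGroup.mk' Cz(V))) ⊓ U : AddSubgroup W)))) <;> ring

theorem noo_min [U.Normal] (hT : SylIn p T ⊤) (h : MinOver T ⊤ M) (hU : IsElementaryAbelian p U)
    (hO : pCore p G ≤ Cz(U)) (hC : Cz(U) ≤ M) (h1 : ⁅A, A⁆ ≤ Cz(U)) (h2 : ∀ a ∈ A, a ^ p ∈ Cz(U)) :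
    Nat.card A * Nat.card (U ⊓ Cz(A) : Subgroup G) ≤
      Nat.card (A ⊓ Cz(U) : Subgroup G) * Nat.card U := by
  obtain ⟨W, _, _, _, _, ι, b, hw⟩ := exists_br_quot hU
  have r := rl_mk Cz(U) A
  rw [← b.card_mul r, b.card_fx r, b.card_eq, mul_right_comm, mul_comm]
  refine Nat.mul_le_mul_left _ (not_lt.1 fun e => ?_)
  have s := hT.map_surj (QuotientGroup.mk'_surjective Cz(U))
  have m := h.map (QuotientGroup.mk' Cz(U)) (by
    rw [QuotientGroup.ker_mk']; exact inf_le_right.trans hC)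
  rw [map_top_of_surjective _ (QuotientGroup.mk'_surjective Cz(U))] at m
  have o := h.pCore_quot hT _ hC hO
  have el := b.elemAb r h1 h2
  obtain ⟨z, z1, z2⟩ := SetLike.not_le_iff_exists.1 (moves_fixed hw s m o el
    (fun e' => e.ne (by change _ = lm W _; rw [e', lm_bot])) e.le)
  exact e.not_ge ((PM.rs ⟨hw, s, m, o, z1, z2⟩).noo _ el)

theorem OV.res_le [V.Normal] (h : OV p V A) (hV : IsElementaryAbelian p V) (hVX : V ≤ X)
    (hT : SylIn p T X) (m : MinOver T X M) (hA : A ≤ X) (n : ¬ A ≤ pCoreOf p X) :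
    pResidualOf p X ≤ Cz(V ⊓ Cz(pCoreOf p X)) := by
  have nU : X ≤ Nm(V ⊓ Cz(pCoreOf p X)) := le_normalizer_inf (le_Nm_normal _ _)
    ((le_normalizer_pCoreOf X).trans (Nm_le_Nm_Cz _))
  have hO : pCoreOf p X ≤ Cz(V ⊓ Cz(pCoreOf p X)) := le_Cz_comm inf_le_right
  have k := h.key _ (inf_le_left : V ⊓ Cz(pCoreOf p X) ≤ V)
  have h1 := h.cc.trans (Cz_anti (inf_le_left : V ⊓ Cz(pCoreOf p X) ≤ V))
  have h2 := fun a ha => Cz_anti (inf_le_left : V ⊓ Cz(pCoreOf p X) ≤ V) (h.pw a ha)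
  have el := elemAb_of_le (inf_le_left : V ⊓ Cz(pCoreOf p X) ≤ V) hV
  have UX : V ⊓ Cz(pCoreOf p X) ≤ X := inf_le_left.trans hVX
  generalize V ⊓ Cz(pCoreOf p X) = U at *
  have nC : X ≤ Nm(X ⊓ Cz(U)) := le_normalizer_inf le_normalizer (nU.trans (Nm_le_Nm_Cz _))
  refine ((m.pResidualOf_le_or hT.pgrp inf_le_left nC).resolve_right fun e => n ?_).trans
    inf_le_right
  refine (m.pCl_of_normal hT.pgrp e nC A (le_inf hA (k ?_)) h.pg).trans
    (pCoreOf_le_pCoreOf_of_normal inf_le_left nC)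
  have i := X.subtype_injective
  obtain ⟨A, rfl⟩ : ∃ A' : Subgroup X, A'.map X.subtype = A := ⟨_, map_subgroupOf_eq_of_le hA⟩
  obtain ⟨U, rfl⟩ : ∃ A' : Subgroup X, A'.map X.subtype = U := ⟨_, map_subgroupOf_eq_of_le UX⟩
  haveI : U.Normal := normal_of_top_le_normalizer ((map_Nm_of_injective i).1
    (by rwa [map_subtype_top]))
  rw [← map_inf_Cz i, ← map_inf_Cz i, card_map_subtype, card_map_subtype, card_map_subtype,
    card_map_subtype]
  refine noo_min hT.subgroupOf_top ((minOver_map_iff (M := M.subgroupOf X) i).1 (by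
    rwa [map_subtype_top, map_subgroupOf_eq_of_le hT.le, map_subgroupOf_eq_of_le m.lt.le]))
    ((elemAb_map_iff i).1 el) ((map_Cz_of_injective i).1 hO) (map_le_iff_le_comap.1
      ((map_subtype_Cz U).le.trans e)) ((map_Cz_of_injective i).1 (by rwa [map_commutator]))
    fun a ha => zpowers_le.1 ((map_Cz_of_injective i).1 ?_)
  rw [MonoidHom.map_zpowers, zpowers_le, map_pow]
  exact h2 _ (mem_map_of_mem _ ha)

theorem elemAb_im_of {P : Type*} [Group P] {C : Subgroup G} {π : X →* P}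
    (ker : ∀ x : X, π x = 1 ↔ (x : G) ∈ C) (hA : A ≤ X) (h1 : ⁅A, A⁆ ≤ C)
    (h2 : ∀ a ∈ A, a ^ p ∈ C) : IsElementaryAbelian p (im π A) := by
  refine ⟨comm_iff.2 fun a ha b hb => (comm_eq_bot_left.1 ?_ hb a ha), ?_⟩
  · rw [← im_comm hA hA, im_eq_bot_iff ker ((comm_le_left le_normalizer).trans hA)]
    exact h1
  · rintro _ ⟨a, ha, rfl⟩
    rw [← map_pow, ker]
    exact h2 _ ha

theorem OV.le_Cz (h : OV p (VG p G) A) (hF : GB p T H F) (hT : SylIn p T ⊤)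
    (hG : Cz(pCore p G) ≤ pCore p G) (hH : T ≤ H) (hA : A ≤ T) : A ≤ Cz(bV p F) := by
  have b := hF.bk
  have l : bV p F ≤ VG p G := b.V_le hT hG
  refine h.key _ l ?_
  by_cases n : A ≤ Nm(F)
  · obtain ⟨P, Z, _, _, _, _, _, _, R', S', S, Y, D, d, -⟩ := exists_bd hF.blk le_normalizer
      (Nm_le_Nm_bV F) (Or.inl le_rfl)
    exact (Nat.mul_le_mul_left _ (card_le_of_le (BD.inf_Cz_le D A))).trans (d.noo n (elemAb_im_of
      d.ker n (h.cc.trans (Cz_anti l)) fun a ha => Cz_anti l (h.pw a ha)))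
  obtain ⟨a, ha, n⟩ := SetLike.not_le_iff_exists.1 n
  have c : ∀ g ∈ A, g ∉ Nm(F) → ∀ v ∈ bV p F, g * v * g⁻¹ ∈ Cz(F) := fun g hg e v hv =>
    (hF.cj_or (hT.mono hH le_top) (chp_rel hG ((R_le_syl hT).trans hH)) (hH (hA hg))).resolve_left e
      (conj_mem_cj g (bV_le' F hv))
  have k : ∀ g ∈ A, ∀ v ∈ bV p F, g * ⁅v, a⁆ * g⁻¹ = ⁅v, a⁆ := fun g hg v hv => by
    rw [h.quad (commutator_mem_commutator (l hv) ha) g hg, mul_inv_cancel_right]
  have k1 : A ⊓ Nm(F) ≤ Cz(bV p F) := b.le_Cz_of_sec0 inf_le_right (commutator_le.2 fun v hv g hg => by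
    have := mul_mem (c a ha n v hv) (c _ (mul_mem hg.1 ha) (fun e => n
      ((Subgroup.mul_mem_cancel_left _ hg.2).1 e)) _ (inv_mem hv))
    convert this using 1
    have e := k g hg.1 _ (inv_mem hv)
    calc _ = v * (g * ⁅v⁻¹, a⁆ * g⁻¹) * (g * a * v⁻¹ * (g * a)⁻¹) := by group
      _ = _ := by rw [e]; group)
  have k2 : (A ⊓ Cz(bV p F)).relIndex A = 2 := relIndex_eq_two_iff.2 ⟨a, ha, fun g hg => by
    have z := BLK.Cz_le ⟨hT, hG, hF.blk⟩
    by_cases e : g ∈ Nm(F)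
    · exact Or.inr ⟨mi hg (k1 (mi hg e)), fun e' => n ((mul_mem_cancel_left e).1 (z e'.2))⟩
    refine Or.inl ⟨mi (mul_mem hg ha) (k1 (mi (mul_mem hg ha) (by_contra fun e' =>
      b.V_not_le fun v hv => ?_))), fun e' => e (z e'.2)⟩
    have := mul_mem (mul_mem (c g hg e v hv) (c _ (mul_mem hg ha) e' _ (inv_mem hv))) (c a ha n v hv)
    convert this using 1
    calc _ = ⁅v, a⁆ * (a * v * a⁻¹) := by group
      _ = _ := by rw [← k g hg v hv]; group⟩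
  have k3 : bV p F ⊓ Cz(A) ≠ bV p F := fun e => n (BLK.Cz_le ⟨hT, hG, hF.blk⟩
    (le_Cz_comm (inf_eq_left.1 e) ha))
  rw [← card_mul_relIndex (inf_le_left : A ⊓ Cz(bV p F) ≤ A), k2, mul_assoc,
    ← card_mul_relIndex (inf_le_left : bV p F ⊓ Cz(A) ≤ bV p F), mul_comm 2]
  refine Nat.mul_le_mul_left _ (Nat.mul_le_mul_left _ ?_)
  have k4 : (bV p F ⊓ Cz(A)).relIndex (bV p F) ≠ 0 := index_ne_zero_of_finite
  have k5 : (bV p F ⊓ Cz(A)).relIndex (bV p F) ≠ 1 := fun e =>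
    k3 (le_antisymm inf_le_left (relIndex_eq_one.1 e))
  omega

end CfH7
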