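import Cfsg.Agent.OD.Pre
import Cfsg.Agent.H7.GM3

/-! The local `C*(G,T)`-theorem: the line fixed by `J(T)` in a linear block. -/

set_option autoImplicit false
set_option linter.unusedSectionVars false

open Cfsg Subgroup CfH9 CfLp Equiv
open scoped commutatorElement MatrixGroups

namespace CfH7

open CfH8 (BB JJ MaxEl)

theorem bor_comm {F : Type} [Field F] [Fintype F] {x y : SL(2, F)} (hx : x ∈ Nm((uH F).range))
    (hy : y ∈ Nm((uH F).range)) : ⁅x, y⁆ ∈ (uH F).range := by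
  obtain ⟨a, s, rfl⟩ := eq_dd_uu (mem_Nm_uH.1 hx)
  obtain ⟨b, t, rfl⟩ := eq_dd_uu (mem_Nm_uH.1 hy)
  have u : ∀ t, uu t ∈ (uH F).range := fun t => mem_uH.2 ⟨t, rfl⟩
  have d : ∀ a : Fˣ, dd a ∈ Nm((uH F).range) := fun a => mem_Nm_uH.2 (by simp [dd_coe])
  have e : dd a * dd b = dd b * dd a := by rw [dd_mul, dd_mul, mul_comm]
  have := mul_mem (conj_mem_of_mem_normalizer (d a) (u s)) (conj_mem_of_mem_normalizer
    (mul_mem (d a) (d b)) (mul_mem (mul_mem (u t) (inv_mem (u s))) (conj_mem_of_mem_normalizer'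
      (d a) (inv_mem (u t)))))
  convert this using 1
  calc _ = dd a * uu s * dd b * uu t * (uu s)⁻¹ * (dd a)⁻¹ * (uu t)⁻¹ * dd a *
        (dd b * dd a)⁻¹ := by group
    _ = _ := by rw [← e]; group

theorem sl_line {F : Type} [Field F] [Fintype F] {p n : ℕ} [Fact p.Prime]
    (hF : Fintype.card F = p ^ n) (h : ¬ SF F) (s : SL(2, F)) :
    ∃ x ∈ Nm(cj s (uH F).range), (orderOf x).Coprime p ∧
      (∀ v ∈ fx (Fin 2 → F) (cj s (uH F).range), x • v = v → v = 0) ∧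
      ∀ y ∈ Nm(cj s (uH F).range), ⁅y, x⁆ ∈ cj s (uH F).range := by
  classical
  obtain ⟨c, hc⟩ := not_forall.1 h
  push Not at hc
  have d : dd (Units.mk0 c hc.1) ∈ Nm((uH F).range) := mem_Nm_uH.2 (by simp [dd_coe])
  rw [← cj_normalizer]
  refine ⟨_, conj_mem_cj s d, ?_, fun v hv e => ?_, ?_⟩
  · rw [orderOf_conj']
    refine Nat.Coprime.coprime_dvd_left (orderOf_dvd_of_pow_eq_one (n := Fintype.card Fˣ)
      (by rw [dd_pow, pow_card_eq_one, dd_one])) ?_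
    have h1 : n ≠ 0 := fun e => Fintype.one_lt_card.ne' (hF.trans (by rw [e, pow_zero]))
    have h2 : Fintype.card Fˣ + 1 = p ^ n := by
      rw [Fintype.card_units, ← hF, Nat.sub_add_cancel Fintype.card_pos]
    exact (Nat.coprime_pow_right_iff (Nat.pos_of_ne_zero h1) _ _).1 (h2 ▸ by simp)
  · rw [mem_fx_cj] at hv
    have h1 := congrFun (hv _ (mem_uH.2 ⟨1, rfl⟩)) 0
    rw [mul_smul, mul_smul, smul_eq_iff_eq_inv_smul] at e
    have h2 := congrFun e 0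
    rw [uu_smul] at h1
    rw [dd_smul] at h2
    rw [← smul_eq_zero_iff_eq s⁻¹]
    refine vec_ext ?_ (by simpa using h1)
    by_contra e'
    exact hc.2.1 ((mul_eq_right₀ e').1 h2)
  · rintro _ ⟨y, hy, rfl⟩
    exact (map_commutatorElement (MulAut.conj s).toMonoidHom y _).symm ▸
      mem_map_of_mem _ (bor_comm hy d)

variable {G : Type*} [Group G] [Finite G] {p : ℕ} [hp : Fact p.Prime] {T E V : Subgroup G}

/-- the commutators `[v, d]` -/
def cmS (hV : V ≤ Cz(V)) {d : G} (hd : d ∈ Nm(V)) : Subgroup G where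
  carrier := {x | ∃ v ∈ V, ⁅v, d⁆ = x}
  one_mem' := ⟨1, one_mem _, commutatorElement_one_left d⟩
  mul_mem' := by
    rintro _ _ ⟨v, hv, rfl⟩ ⟨w, hw, rfl⟩
    refine ⟨w * v, mul_mem hw hv, ?_⟩
    rw [← conj_eq_of_mem_centralizer (hV hw) (commutator_mem_left hv hd)]
    group
  inv_mem' := by
    rintro _ ⟨v, hv, rfl⟩
    refine ⟨v⁻¹, inv_mem hv, ?_⟩
    rw [← conj_eq_of_mem_centralizer (hV (inv_mem hv)) (inv_mem (commutator_mem_left hv hd))]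
    group

theorem LinB.line {F : Type} [Field F] [Fintype F] (l : LinB p E F) (h : BLK p T E)
    (n : ¬ PCl p E) :
    (∃ S, S ≤ bV p E ∧ S ⊓ Cz(E) = ⊥ ∧ bV p E ⊓ Cz(JJ p T) ≤ S ⊔ bV0 p E ∧ ¬ S ≤ Cz(E) ∧
      Nm(E) ⊓ Nm(JJ p T) ≤ Nm(S)) ∧
    ∀ d ∈ Nm(E), IsPGroup p (zpowers d) → (∀ v ∈ bV p E ⊓ Cz(JJ p T), ⁅v, d⁆ ∈ Cz(E)) →
      d ∉ Cz(bV p E) → ∀ v ∈ bV p E, ⁅v, d⁆ ∈ Cz(E) → ⁅v, d⁆ = 1 := by
  obtain ⟨m, hF⟩ := l.card
  obtain ⟨R, D, b⟩ := l.bd h.bk le_normalizer (Nm_le_Nm_bV E) (Or.inl le_rfl)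
  have o := b.off_J h.syl.pgrp h.V_le_T h.J_le_Nm
  have lm := lm_slN (F := F)
  have sf : ¬ SF F := fun e => n ((l.pcl_iff h.bk).2 e)
  obtain ⟨s, hs⟩ := (lm.off hF o.el o.eq.ge).resolve_left fun e =>
    h.bk.not_J_le h.syl ((im_eq_bot_iff b.ker h.J_le_Nm).1 e)
  have r : Rt (Fin 2 → F) (im D.ρ (JJ p T)) := hs ▸ lm.rt_U.cj _
  rw [← map_cj] at hs
  have e := (D.pre_fx (rl_map D.ρ h.J_le_Nm)).trans (b.tight h.V_le_T h.J_le_Nm)
  have c : JJ p T ⊔ (Nm(E) ⊓ Cz(bV p E)) ≤ Cz(bV p E ⊓ Cz(JJ p T)) :=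
    sup_le (le_Cz_comm inf_le_right) (inf_le_right.trans (Cz_anti inf_le_left))
  have z : ∀ (g : Nm(E)), ∀ v ∈ bV p E, ⁅v, (g : G)⁆ ∈ Cz(E) ↔ D.ρ g • D.c v = D.c v :=
    fun g v hv => by
      have k := commutator_mem_left hv (Nm_le_Nm_bV E g.2)
      rw [eq_comm, ← sub_eq_zero, ← D.c_comm' g hv, D.c_zero _ k]
      exact ⟨mi k, fun e => e.2⟩
  set L := bV p E ⊓ Cz(JJ p T)
  refine ⟨?_, fun d hd h1 h2 h3 v hv h4 => ?_⟩
  · obtain ⟨x, x1, x2, x3, x4⟩ := sl_line hF sf s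
    obtain ⟨t₀, t1, t2⟩ : slN F x ∈ im D.ρ E := by
      rw [b.im, comm_top_of_not_sf sf]; exact mem_map_of_mem _ trivial
    obtain ⟨t, t3, t4, t5⟩ := exists_p'el (p := p) D.ρ t₀
      (by rw [t2, orderOf_injective _ lm.inj]; exact x2)
    have tE : (t : G) ∈ E := (zpowers_le.2 t1 : _ ≤ E.subgroupOf _) t3
    rw [t2] at t5
    have nL : ∀ g : Nm(E), D.ρ g ∈ Nm(im D.ρ (JJ p T)) → (g : G) ∈ Nm(L) := fun g hg =>
      mem_normalizer_of_conj_mem fun u hu => e.le ⟨conj_mem_of_mem_normalizer (D.n g.2) hu.1, by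
        rw [D.act g u hu.1]; exact smul_mem_fx hg (e.ge hu).2⟩
    have xN : slN F x ∈ Nm(im D.ρ (JJ p T)) := hs ▸ le_normalizer_map _ (mem_map_of_mem _ x1)
    have tL := zpowers_le.2 (nL t (t5 ▸ xN))
    have el := elemAb_of_le (inf_le_left : L ≤ _) (elemAb_bV (p := p) E)
    have cop := card_coprime_zpowers (x := (t : G)) (by rwa [orderOf_coe]) (elemAb_isPGroup el)
    have sl : ⁅L, zpowers (t : G)⁆ ≤ L := comm_le_left tL
    have dis : ⁅L, zpowers (t : G)⁆ ⊓ Cz(E) = ⊥ := le_bot_iff.1 ((inf_le_inf_left _ (Cz_anti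
      (zpowers_le.2 tE))).trans (CfH8.commutator_inf_centralizer_eq_bot el.1 tL cop).le)
    have sp : L ≤ ⁅L, zpowers (t : G)⁆ ⊔ bV0 p E := (CfH8.commutator_sup_centralizer_eq tL cop
      (Or.inl inferInstance)).ge.trans (sup_le_sup_left (fun u hu => (D.c_zero u hu.1.1).1
        (x3 _ (by rw [← fx_map (slN F) lm.eq, ← hs]; exact (e.ge hu.1).2) (by
          rw [← lm.eq, ← t5, ← z t u hu.1.1, commutatorElement_eq_one_iff_mul_comm.2
            (hu.2 _ (mem_zpowers _)).symm]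
          exact one_mem _))) _)
    refine ⟨_, sl.trans inf_le_left, dis, sp, fun e' => ?_, fun g hg => ?_⟩
    · refine exists_secCz (CfH8.isPGroup_J h.syl.pgrp) (isPGroup_bV E) (h.J_le_Nm.trans
        (Nm_le_Nm_bV E)) (h.J_le_Nm.trans (Nm_le_Nm_bV0 E)) D.U_le_Nm
        (fun e => h.bk.V_not_le (e.trans inf_le_right)) ?_
      rw [b.tight h.V_le_T h.J_le_Nm]
      exact sp.trans (sup_le (le_inf (sl.trans inf_le_left) e') le_rfl)
    have gL : g ∈ Nm(L) := mem_Nm_inf (Nm_le_Nm_bV E hg.1) (mem_Nm_Cz hg.2)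
    set t' : Nm(E) := ⟨g, hg.1⟩ * t * ⟨g, hg.1⟩⁻¹
    have tE' : (t' : G) ∈ E := conj_mem_of_mem_normalizer hg.1 tE
    obtain ⟨y, -, hy⟩ : D.ρ t' ∈ (commutator SL(2, F)).map (slN F) := b.im ▸ mem_im tE'
    have gN : D.ρ ⟨g, hg.1⟩ ∈ Nm(im D.ρ (JJ p T)) := mem_normalizer_iff_cj.2 (by
      rw [← im_cj, cj_eq_of_mem_normalizer hg.2])
    have yN : slN F y ∈ Nm(im D.ρ (JJ p T)) := by
      rw [hy, map_mul, map_mul, map_inv, t5]
      exact mul_mem (mul_mem gN xN) (inv_mem gN)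
    have k : ⁅(t' : G), (t : G)⁆ ∈ Cz(L) := c (mem_sup_of_mem_im b.ker (x := ⁅t', t⁆) (by
      rw [map_commutatorElement, ← hy, t5, ← map_commutatorElement, hs]
      refine mem_map_of_mem _ (x4 y (zpowers_le.1 ((map_Nm_of_injective lm.inj).1 ?_)))
      rwa [MonoidHom.map_zpowers, zpowers_le, ← hs]))
    have k1 : (t' : G) ∈ Nm(⁅L, zpowers (t : G)⁆) := mem_normalizer_of_cj_le (by
      rw [cj_commutator, cj_eq_of_mem_normalizer (nL t' (hy ▸ yN)), cj_zpowers]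
      refine commutator_le_of_le_sup_Cz le_rfl tL (zpowers_le.2 ?_)
      rw [show (t' : G) * t * (t' : G)⁻¹ = ⁅(t' : G), (t : G)⁆ * t by group]
      exact mul_mem_sup k (mem_zpowers _))
    refine mem_normalizer_of_cj_le ?_
    rw [cj_commutator, cj_eq_of_mem_normalizer gL, cj_zpowers]
    exact (commutator_mono sp le_rfl).trans (commutator_sup_left_le le_normalizer
      (inf_le_left.trans ((elemAb_le_Cz (elemAb_bV E)).trans ((Cz_anti (sl.trans inf_le_left)).trans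
        (Cz_le_Nm _)))) (comm_le_left (zpowers_le.2 k1)) ((comm_eq_bot_left.2
          (inf_le_right.trans (Cz_anti (zpowers_le.2 tE')))).le.trans bot_le))
  · have k : D.ρ ⟨d, hd⟩ ∈ im D.ρ (JJ p T) := by
      refine b.mdl.fix _ o _ ?_ fun w hw => ?_
      · obtain ⟨k, hk⟩ := isPGroup_iff_mem.1 h1 d (mem_zpowers d)
        exact isPGroup_zpowers (k := k) (by
          rw [← map_pow, ← D.ρ.map_one]; congr 1; exact Subtype.ext hk)
      · obtain ⟨u, hu, rfl⟩ := D.c_surj w trivial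
        exact (z _ u hu).1 (h2 u (e.le ⟨hu, hw⟩))
    exact commutatorElement_eq_one_iff_mul_comm.2 (c (mem_sup_of_mem_im b.ker k) v
      (e.le ⟨hv, r.cent _ k (fun e => h3 ((b.ker _).1 e)) _ ((z _ v hv).1 h4)⟩))

theorem indep {ι : Type*} (S F : ι → Subgroup G) (h1 : ∀ i, S i ≤ F i)
    (h2 : ∀ i, S i ⊓ Cz(F i) = ⊥) (h3 : ∀ i j, S i = S j ∨ F j ≤ Cz(F i)) (s : Finset ι) {u : G}
    (hu : u ∈ ⨆ i ∈ s, S i) (hc : ∀ i, u ∈ Cz(F i)) : u = 1 := by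
  classical
  induction s using Finset.induction_on with
  | empty => simpa using hu
  | insert i s _ ih =>
  rw [Finset.iSup_insert] at hu
  by_cases e : ∃ j ∈ s, S i = S j
  · obtain ⟨j, hj, e⟩ := e
    exact ih (sup_eq_right.2 (e.le.trans (le_iSup₂ (f := fun i (_ : i ∈ s) => S i) j hj)) ▸ hu)
  have k : ⨆ j ∈ s, S j ≤ Cz(F i) := iSup₂_le fun j hj =>
    (h1 j).trans ((h3 i j).resolve_left fun e' => e ⟨j, hj, e'⟩)
  obtain ⟨a, ha, b, hb, rfl⟩ := (mem_sup_of_le_Nm' ((k.trans (Cz_anti (h1 i))).trans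
    (Cz_le_Nm _))).1 hu
  rw [mem_bot.1 ((h2 i).le (mi ha ((mul_mem_cancel_right (k hb)).1 (hc i)))), one_mul] at *
  exact ih hb

end CfH7
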