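import Cfsg.Agent.OD.Pre
import Cfsg.Agent.H7.GM7
import Cfsg.Agent.OD.Helper7x7d0fdb96f0

/-! The local `C*(G,T)`-theorem: a minimal counterexample has no over-offenders. -/

set_option autoImplicit false
set_option linter.unusedSectionVars false

open Cfsg Subgroup CfH9 CfLp Equiv
open scoped commutatorElement MatrixGroups

namespace CfH7

open CfH8 (BB JJ MaxEl)

universe u

variable {G : Type u} [Group G] {p q : ℕ}

/-- the subgroup generated by the over-offenders in `T` -/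
def OO (p : ℕ) (V T : Subgroup G) : Subgroup G := sSup {A | OV p V A ∧ A ≤ T}

/-- the final configuration -/
structure EG (p : ℕ) (T M X Y H F N : Subgroup G) : Prop extends MC p T M where
  min : MinOver T X Y
  res : Op(p, X) ≤ Cz(VG p G ⊓ Cz(pCoreOf p X))
  TH : T ≤ H
  gb : GB p T H F
  nM : ¬ F ≤ M
  nX : ¬ Op(p, X) ≤ Nm(F)
  top : X ⊔ F = ⊤
  le : N ≤ T
  nN : T ≤ Nm(N)
  nc : ¬ N ≤ Cz(VG p G)
  cm : ⁅VG p G, N⁆ ≤ Cz(F)

variable [Finite G] [hp : Fact p.Prime] {T M E F H V A U X Y N S : Subgroup G}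

theorem OO_le : OO p V T ≤ T := sSup_le fun _ h => h.2

theorem OV.le_OO (h : OV p V A) (hA : A ≤ T) : A ≤ OO p V T := le_sSup ⟨h, hA⟩

theorem mem_Nm_OO [V.Normal] {g : G} (h : cj g (OO p V T) ≤ T) : g ∈ Nm(OO p V T) :=
  mem_normalizer_of_cj_le (cj_le_iff.2 (sSup_le fun _ hA => cj_le_iff.1
    ((hA.1.cj g).le_OO ((cj_mono g (hA.1.le_OO hA.2)).trans h))))

theorem Nm_le_Nm_OO [V.Normal] : Nm(T) ≤ Nm(OO p V T) := fun g hg =>
  mem_Nm_OO ((cj_mono g OO_le).trans (cj_eq_of_mem_normalizer hg).le)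

theorem OO_le_Cz (hF : GB p T H F) (hT : SylIn p T ⊤) (hG : Cz(pCore p G) ≤ pCore p G)
    (hH : T ≤ H) : OO p (VG p G) T ≤ Cz(bV p F) := sSup_le fun _ h => h.1.le_Cz hF hT hG hH h.2

theorem GB.Q_le_Cz (h : GB p T H E) (hT : SylIn p T ⊤) (hG : Cz(pCore p G) ≤ pCore p G)
    (hV : pCoreOf p E ≠ bW p E → VG p G ≤ BB p T) : pCoreOf p E ≤ Cz(VG p G) := by
  have l := h.bk.V_le hT hG
  by_cases e : pCoreOf p E = bW p E
  · exact (BLK.Q_eq_V h.bk e).le.trans (l.trans V_le_C)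
  refine comm_eq_bot_left.1 (le_bot_iff.1 (le_trans (le_inf ?_ ((commutator_mono le_rfl
    (le_inf (hV e) (V_le_C.trans (Cz_anti l)))).trans (h.xb.resolve_left e).2))
    (BLK.exc_V0 ⟨hT, hG, h.blk⟩ e).le))
  rw [commutator_comm]
  exact (commutator_mono le_rfl (pCoreOf_le E)).trans (h.bk.comm_V hT hG).le

namespace EG

variable (h : EG p T M X Y H F N)
include h

theorem TX : T ≤ X := h.min.le'

theorem QT : pCoreOf p X ≤ T := (h.sylH h.TX).le_of_le_Nm (isPGroup_pCoreOf X) (pCoreOf_le X)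
  (h.TX.trans (le_normalizer_pCoreOf X))

theorem cj_or {g : G} (hg : g ∈ pCoreOf p X) : g ∈ Nm(F) ∨ CfH9.cj g F ≤ Cz(F) :=
  h.gb.cj_or (h.sylH h.TH) (h.chH h.TH) (h.TH (h.QT hg))

theorem lV : bV p F ≤ VG p G := h.gb.bk.V_le h.syl h.chp

theorem kl {x : G} (hx : x ∈ Op(p, X)) (h1 : S ≤ bV p F) (h2 : S ⊓ Cz(F) = ⊥)
    (h3 : pCoreOf p X ⊓ Nm(F) ≤ Nm(S)) (h4 : U ≤ nclo S (pCoreOf p X))
    (h5 : U ≤ ⁅VG p G, cj x N⁆) (h6 : pCoreOf p X ≤ Nm(U)) : U = ⊥ := by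
  by_contra e
  have l := h5.trans (commutator_le_left _ _)
  obtain ⟨u, hu, u1⟩ := exists_ne_one_of_ne_bot (inf_Cz_ne_bot (isPGroup_pCoreOf X)
    ((elemAb_isPGroup elemAb_VG).to_le l) h6 e)
  have k := h5 hu.1
  rw [← cj_normal x (VG p G), ← cj_commutator, mem_cj, mul_assoc, h.res hx u (mi (l hu.1) hu.2),
    inv_mul_cancel_left] at k
  have k' := le_Cz_nclo (le_normalizer_commutator (le_Nm_normal _ _) h.nN) h.cm k
  haveI := Fintype.ofFinite (pCoreOf p X)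
  refine u1 (indep (fun i : pCoreOf p X => cj (i : G) S) (fun i => cj (i : G) F)
    (fun i => cj_mono _ (h1.trans (bV_le' F)))
    (fun i => by rw [← cj_centralizer, ← cj_inf, h2, cj_bot]) (fun i j => ?_) Finset.univ
    (by simpa [nclo] using h4 hu.1) fun i => Cz_anti (cj_le_nclo (h.QT i.2)) k')
  have m := mul_mem (inv_mem i.2) j.2
  refine (h.cj_or m).imp (fun e => ?_) fun e => ?_
  · rw [← cj_eq_of_mem_normalizer (h3 (mi m e)), ← cj_mul, mul_inv_cancel_left,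
      cj_eq_of_mem_normalizer (h3 (mi m e))]
  · rwa [cj_mul, ← le_cj_iff, cj_centralizer] at e

theorem D_le {x : G} (hx : x ∈ Op(p, X)) : cj x (N ⊓ pCoreOf p X) ≤ Cz(bV p F) := by
  have eQ := cj_eq_of_mem_normalizer (le_normalizer_pCoreOf (p := p) X (pResidualOf_le X hx))
  have d0 : pCoreOf p X ≤ Nm(cj x N) := by
    rw [← cj_normalizer, ← eQ]; exact cj_mono x (h.QT.trans h.nN)
  rw [cj_inf, eQ]
  have d2 : pCoreOf p X ≤ Nm(cj x N ⊓ pCoreOf p X) := le_normalizer_inf d0 le_normalizer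
  set D := cj x N ⊓ pCoreOf p X
  have k : ∀ S, S ≤ bV p F → S ⊓ Cz(F) = ⊥ → pCoreOf p X ⊓ Nm(F) ≤ Nm(S) → D ≤ Cz(S) :=
    fun S h1 h2 h3 => (comm_eq_bot_right.1 (h.kl hx h1 h2 h3
      (comm_le_left (inf_le_right.trans (right_le_Nm_nclo _ _)))
      (commutator_mono (nclo_le (le_Nm_normal _ _) (h1.trans h.lV)) inf_le_left)
      (le_normalizer_commutator (right_le_Nm_nclo _ _) d2))).trans (Cz_anti (le_nclo _ _))
  by_cases e : bV0 p F = ⊥
  · exact k _ le_rfl e (inf_le_right.trans (Nm_le_Nm_bV F))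
  obtain ⟨K, _, _, l⟩ := h.gb.sp.resolve_left e
  obtain ⟨⟨S, s1, s2, s3, s4, s5⟩, tv⟩ := l.line (h.blk h.gb.blk) fun e' => e (h.gb.bk.V0_eq_bot e')
  have c := k S s1 s2 (le_trans (le_inf inf_le_right (inf_le_left.trans
    (h.QT.trans (CfH8.le_Nm_J T)))) s5)
  have nF : D ≤ Nm(F) := fun d hd => (h.cj_or hd.2).resolve_right fun e => s4 (le_trans
    ((cj_eq_of_mem_centralizer (c hd)).ge.trans (cj_mono d (s1.trans (bV_le' F)))) e)
  have nC := (Nm_le_Nm_bV (p := p) F).trans (Nm_le_Nm_Cz _)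
  by_contra n
  obtain ⟨d, ⟨d1, -, d3⟩, d4⟩ := SetLike.not_le_iff_exists.1 (exists_secCz
    (P := pCoreOf p X ⊓ Nm(F)) (isPGroup_pCoreOf X).to_inf_left (isPGroup_pCoreOf X).to_inf_right
    (inf_le_left.trans d2) (inf_le_right.trans nC) (nF.trans nC) n)
  have dV := Nm_le_Nm_bV (p := p) F (nF d1)
  have ab := elemAb_le_Cz (elemAb_bV (p := p) F)
  have tv' := tv d (nF d1) ((isPGroup_pCoreOf X).to_le (zpowers_le.2 d1.2)) (fun v hv =>
    commutator_sup_left_le (((s1.trans (bV_le' F)).trans le_normalizer).trans (Nm_le_Nm_Cz _))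
      (inf_le_right.trans le_normalizer) ((comm_eq_bot_right.2 (zpowers_le.2 (c d1))).le.trans bot_le)
      ((commutator_mono inf_le_right le_rfl).trans (comm_le_left (zpowers_le.2
        (Nm_le_Nm_Cz _ (nF d1))))) (commutator_mem_commutator (s3 hv) (mem_zpowers d))) d4
  have z := h.kl hx (S := cmS ab dV) (by rintro _ ⟨v, hv, rfl⟩; exact commutator_mem_left hv dV)
    (le_bot_iff.1 (by rintro _ ⟨⟨v, hv, rfl⟩, e⟩; exact tv' v hv e))
    (fun r hr => mem_normalizer_of_conj_mem (by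
      rintro _ ⟨v, hv, rfl⟩
      have m := conj_mem_of_mem_normalizer (Nm_le_Nm_bV F hr.2) hv
      refine ⟨_, m, ?_⟩
      rw [commutatorElement_def, mul_assoc, mul_assoc, ← mul_assoc d,
        ← conj_eq_of_mem_centralizer (d3 r hr) (conj_mem_of_mem_normalizer dV (inv_mem m))]
      group)) le_rfl
    (nclo_le (le_normalizer_commutator (le_Nm_normal _ _) d0) (by
      rintro _ ⟨v, hv, rfl⟩; exact commutator_mem_commutator (h.lV hv) d1.1)) (right_le_Nm_nclo _ _)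
  exact d4 fun v hv => commutatorElement_eq_one_iff_mul_comm.1
    (mem_bot.1 (((le_nclo _ _).trans z.le) ⟨v, hv, rfl⟩))

theorem false : False := by
  have l : nclo (bV p F) X ≤ VG p G := nclo_le (le_Nm_normal _ _) h.lV
  haveI : (nclo (bV p F) X).Normal := normal_of_top_le_normalizer (h.top.ge.trans (sup_le
    (right_le_Nm_nclo _ _) (le_Nm_of_comm_le_left ((commutator_mono l le_rfl).trans
      ((h.gb.bk.comm_V h.syl h.chp).le.trans (le_nclo _ _))))))
  have nQ := h.TX.trans (le_normalizer_pCoreOf (p := p) X)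
  have k : N ⊓ pCoreOf p X ≤ Cz(VG p G) := (le_inf (inf_le_left.trans h.le) (le_Cz_comm
    (nclo_le_iff'.2 fun g hg => le_Cz_comm (by
      obtain ⟨y, hy, t, ht, e⟩ := (mem_sup_of_le_Nm' (h.TX.trans (le_normalizer_pResidualOf X))).1
        ((h.min.pResidualOf_sup (p := p)).ge (inv_mem hg))
      rw [← cj_centralizer, le_cj_iff, ← e, cj_mul,
        cj_eq_of_mem_normalizer (le_normalizer_inf h.nN nQ ht)]
      exact h.D_le hy)))).trans ((h.inf_Cz_le l h.gb.blk h.nM (le_nclo _ _) ((h.gb.sub.pCoreOf_le).trans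
        ((h.sylH h.TH).le_of_le_Nm (isPGroup_pCoreOf H) (pCoreOf_le H)
          (h.TH.trans (le_normalizer_pCoreOf H))))).trans R_le_C)
  have k1 := (h.min.pIrr h.syl.pgrp).pResidualOf_le_nclo (h.syl.pgrp.to_le h.le) (h.le.trans h.TX)
    fun e => h.nc ((le_inf le_rfl e).trans k)
  have k2 := AxB_mod (elemAb_isPGroup elemAb_VG) (le_Nm_normal _ _) (le_Nm_normal _ _)
    ((pResidualOf_eq_bot_of_isPGroup (isPGroup_pCoreOf X)).le.trans bot_le)
    ((commutator_mono le_rfl k1).trans (commutator_nclo_le (le_normalizer_pCoreOf X)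
      (le_Nm_normal _ _) (le_Nm_normal _ _) ((le_inf (comm_le_right (h.QT.trans h.nN))
        (comm_le_left (h.le.trans nQ))).trans k))) h.res
  rw [pResidualOf_pResidualOf] at k2
  exact h.nX (k2.trans ((Cz_anti h.lV).trans (h.blk h.gb.blk).Cz_le))

end EG

theorem MC.res_le (h : MC p T M) (m : MinOver T X Y) (n : ¬ X ≤ Nm(OO p (VG p G) T)) :
    ¬ OO p (VG p G) T ≤ pCoreOf p X ∧ Op(p, X) ≤ Cz(VG p G ⊓ Cz(pCoreOf p X)) := by
  have s := h.sylH m.le'
  have k : ¬ OO p (VG p G) T ≤ pCoreOf p X := fun e => n fun g hg => mem_Nm_OO ((cj_mono g e).trans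
    ((cj_eq_of_mem_normalizer (le_normalizer_pCoreOf X hg)).le.trans (s.le_of_le_Nm
      (isPGroup_pCoreOf X) (pCoreOf_le X) (m.le'.trans (le_normalizer_pCoreOf X)))))
  refine ⟨k, by_contra fun e => k (sSup_le fun A hA => by_contra fun e' => e
    (hA.1.res_le elemAb_VG (VG_le.trans (h.RT.trans m.le')) s m (hA.2.trans m.le') e'))⟩

theorem MC.not_ov (h : MC p T M) (o : OV p (VG p G) A) : False := by
  obtain ⟨g, -, hg⟩ := h.syl.exists_cj_le o.pg le_top
  have nO : ¬ OO p (VG p G) T ≤ Cz(VG p G) := fun e => (o.cj g).nc (((o.cj g).le_OO hg).trans e)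
  set O := OO p (VG p G) T
  have TH : T ≤ Nm(O) := le_normalizer.trans Nm_le_Nm_OO
  have H1 : Nm(O) ≠ ⊤ := fun e => nO ((le_pCore (normal_of_top_le_normalizer e.ge)
    (h.syl.pgrp.to_le OO_le)).trans R_le_C)
  have H2 : ¬ Nm(O) ≤ M := fun e => by
    obtain ⟨X, x1, m⟩ := exists_minOver_not_le h.syl h.TM h.ne h.NT
    refine x1 ((m.pResidualOf_sup (p := p)).ge.trans (sup_le ((h.res_le m fun e' =>
      x1 (e'.trans e)).2.trans ((Cz_anti (le_inf h.ZV ((OZ_le_Cz T).trans (Cz_anti ?_)))).trans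
        h.CZ)) h.TM))
    exact (h.sylH m.le').le_of_le_Nm (isPGroup_pCoreOf X) (pCoreOf_le X)
      (m.le'.trans (le_normalizer_pCoreOf X))
  have s := h.sylH TH
  have c := h.chH TH
  have nK := (h.core _ H1).le_Nm s c h.cs
  obtain ⟨X, x1, m⟩ := exists_minOver_not_le h.syl (TH.trans nK) (fun e => by
    obtain ⟨F, hF⟩ := h.core' TH H1 H2
    exact hF.2 (h.no F ⟨hF.1.blk, subnIn_top_iff.2 ((subnIn_of_normal (le_sSup hF)
      (KK.le_Nm hF s c)).isSubnormal (Normal.isSubnormal (normal_of_top_le_normalizer e.ge))),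
      hF.1.sp, hF.1.xb⟩)) (Nm_le_Nm_OO.trans nK)
  obtain ⟨r1, r2⟩ := h.res_le m fun e => x1 (e.trans nK)
  obtain ⟨F, hF, nF⟩ : ∃ F ∈ KK p T Nm(O) M, ¬ Op(p, X) ≤ Nm(F) := by
    by_contra e
    push Not at e
    exact x1 ((m.pResidualOf_sup (p := p)).ge.trans (sup_le (fun g hg => mem_normalizer_of_cj_le
      (cj_le_iff.2 (sSup_le fun F hF => cj_le_iff.1 ((cj_eq_of_mem_normalizer (e F hF hg)).le.trans
        (le_sSup hF))))) (TH.trans nK)))
  have b := h.blk hF.1.blk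
  have top : X ⊔ F = ⊤ := by
    by_contra e
    have TX := m.le'.trans (le_sup_left (b := F))
    obtain ⟨E, e1, e2⟩ := h.full' TX e hF.1.blk le_sup_right hF.2
    refine nF ((((m.pIrr h.syl.pgrp).pResidualOf_le_nclo (h.syl.pgrp.to_le OO_le)
      (OO_le.trans m.le') r1).trans (nclo_le_iff'.2 fun x hx => ?_)).trans b.Cz_le)
    have := OO_le_Cz (e1.cj (h.sylH TX) (h.chH TX) (mem_sup_left (inv_mem hx))) h.syl h.chp TX
    rw [← cj_bV, ← cj_centralizer, ← cj_le_iff] at this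
    refine this.trans (Cz_anti ?_)
    rw [← b.bk.comm_V h.syl h.chp, ← e1.bk.comm_V h.syl h.chp]
    exact commutator_mono le_rfl e2
  have k : ∀ N, N ≤ T → T ≤ Nm(N) → ¬ N ≤ Cz(VG p G) → N ≤ Cz(bV p F) → ⁅N, F⁆ ≤ Cz(VG p G) →
      False := fun N h1 h2 h3 h4 h5 => EG.false ⟨h, m, r2, TH, hF.1, hF.2, nF, top, h1, h2, h3,
    comm_eq_bot_left.1 (le_bot_iff.1 (three_subgroups (le_Nm_normal _ _) (le_Nm_normal _ _)
      (le_Nm_normal _ _) (comm_eq_bot_left.2 h5).le (by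
        rw [commutator_comm F, b.bk.comm_V h.syl h.chp]; exact (comm_eq_bot_right.2 h4).le)))⟩
  by_cases e : pCoreOf p F ≤ Cz(VG p G)
  · have := OO_le_Cz hF.1 h.syl h.chp TH
    exact k O OO_le TH nO this ((b.bk.comm_le_Q (this.trans b.Cz_le) this).trans e)
  have e1 : pCoreOf p F ≠ bW p F := fun e' => e (hF.1.Q_le_Cz h.syl h.chp fun e'' => absurd e' e'')
  have y : OZ p (JJ p T) ≤ Cz(pCoreOf p F) :=
    le_Cz_comm ((hF.1.xb.resolve_left e1).1.trans (CfH8.B_le_Cz T))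
  have y1 := y.trans (Cz_anti ((bV_le F).trans (bW_le F)))
  have y2 := b.bk.comm_le_Q (y1.trans b.Cz_le) y1
  refine k _ ((OZ_le _).trans (CfH8.J_le T)) ((CfH8.le_Nm_J T).trans (Nm_le_Nm_OZ _))
    (fun e' => e (hF.1.Q_le_Cz h.syl h.chp fun _ => le_inf (VG_le.trans h.RT) (le_Cz_comm e'))) y1
    ((b.bk.le_W_of_comm y2 (right_le_Nm_comm _ _) (comm_eq_bot_left.2 (le_trans ((commutator_mono y
      le_rfl).trans (comm_le_left ((le_normalizer_pCoreOf F).trans (Nm_le_Nm_Cz _))))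
        (Cz_anti y2)))).trans (b.W_le_Cz (b.exc_V0 e1)))

theorem MC.rs (h : MC p T M) {W : Type*} [AddCommGroup W] [DistribMulAction (G ⧸ Cz(VG p G)) W]
    [Finite W] [FaithfulSMul (G ⧸ Cz(VG p G)) W] {ι : Multiplicative W →* G}
    (b : Br (VG p G) ⊤ (mkT Cz(VG p G)) ι) (hw : ∀ w : W, p • w = 0) :
    RS (G ⧸ Cz(VG p G)) W p :=
  by_contra fun e => (exists_ov b hw e).elim fun _ o => h.not_ov o

end CfH7
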