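import Cfsg.Agent.OD.Pre
import Cfsg.Agent.H7.GM8
import Cfsg.Agent.H7.GM5

/-! The local `C*(G,T)`-theorem: a root subgroup on `Ω₁Z(O_p(G))`. -/

set_option autoImplicit false
set_option linter.unusedSectionVars false

open Cfsg Subgroup CfH9 CfLp Equiv
open scoped commutatorElement MatrixGroups

namespace CfH7

open CfH8 (BB JJ MaxEl)

universe u

section

variable {G G' : Type*} [Group G] [Group G'] {p q : ℕ}

/-- the properties of `Z(O_p(L))` inside the Sylow subgroup `B` -/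
structure Tx (q : ℕ) (B Z : Subgroup G) : Prop where
  le : Z ≤ B
  c1 : Nat.card Z = q * Nat.card (Zc(B) : Subgroup G)
  c2 : Nat.card B = q * Nat.card (B ⊓ Cz(Z) : Subgroup G)
  ti : ∀ X : Subgroup G, X ≤ B → ¬ X ≤ Cz(Z) → Z ⊓ Cz(X) ≤ Zc(B)
  quad : ⁅Z, B⁆ ≤ Zc(B)

theorem tx_map_iff {f : G →* G'} (hf : Function.Injective f) {B Z : Subgroup G} :
    Tx q (B.map f) (Z.map f) ↔ Tx q B Z := by
  constructor
  · intro h
    have c1 := h.c1
    have c2 := h.c2
    have c3 := h.quad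
    rw [← map_inf_Cz hf, card_map_of_injective hf, card_map_of_injective hf] at c1 c2
    rw [← map_inf_Cz hf, ← map_commutator, map_le_map_iff_of_injective hf] at c3
    refine ⟨(map_le_map_iff_of_injective hf).1 h.le, c1, c2,
      fun X h1 h2 => (map_le_map_iff_of_injective hf).1 ?_, c3⟩
    rw [map_inf_Cz hf, map_inf_Cz hf]
    exact h.ti _ (map_mono h1) fun e => h2 ((le_Cz_map_iff hf).1 e)
  · intro h
    refine ⟨map_mono h.le, ?_, ?_, fun X h1 h2 => ?_, ?_⟩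
    · rw [← map_inf_Cz hf, card_map_of_injective hf, card_map_of_injective hf, h.c1]
    · rw [← map_inf_Cz hf, card_map_of_injective hf, card_map_of_injective hf, h.c2]
    · obtain ⟨Y, rfl⟩ : ∃ Y : Subgroup G, Y.map f = X := ⟨_, eq_map_comap h1⟩
      rw [← map_inf_Cz hf, ← map_inf_Cz hf]
      exact map_mono (h.ti _ ((map_le_map_iff_of_injective hf).1 h1)
        fun e => h2 ((le_Cz_map_iff hf).2 e))
    · rw [← map_inf_Cz hf, ← map_commutator]
      exact map_mono h.quad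

theorem card_le_comm [Finite G] {V R : Subgroup G} {b : G} (h : ∀ v ∈ V, ⁅b, v⁆ ∈ R) :
    Nat.card V ≤ Nat.card R * Nat.card (V ⊓ Cz(zpowers b) : Subgroup G) := by
  have := card_le_of_fibers (T := Cz(zpowers b)) (C := ⊥) _ h bot_le fun a _ c _ e => by
    rw [Cz_zpowers, mem_Cx']
    calc _ = a⁻¹ * (b⁻¹ * ⁅b, c⁆)⁻¹⁻¹⁻¹⁻¹⁻¹ * a * 1 := by group
      _ = _ := by rw [← inv_mul_eq_one.1 (mem_bot.1 e)]; group
  rwa [card_bot, mul_one, mul_comm] at this

end

variable {G : Type u} [Group G] {p q : ℕ}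

/-- a complement to `O_p(L)` in `B(T)` acting as a root group -/
structure RA (p : ℕ) (T L A : Subgroup G) : Prop where
  le : A ≤ BB p T
  sup : A ⊔ pCoreOf p L = BB p T
  cc : ⁅A, BB p T⁆ ≤ Cz(VG p G)
  dec : VG p G ≤ bV p Op(p, L) ⊔ (VG p G ⊓ Cz(A))

variable [Finite G] [hp : Fact p.Prime] {T M L A X : Subgroup G}

namespace SB

variable (h : SB p q T M L)
include h

theorem inf_Cz (h1 : X ≤ BB p T) (h2 : ¬ X ≤ pCoreOf p L) :
    bV p Op(p, L) ⊓ Cz(X) = bV p Op(p, L) ⊓ Zc(BB p T) := by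
  rw [← h.cs.Z_inf_Cz h1 h2, ← inf_assoc, inf_eq_left.2 h.lV]

theorem cardV (h1 : X ≤ BB p T) (h2 : ¬ X ≤ pCoreOf p L) :
    Nat.card (bV p Op(p, L)) = q * Nat.card (bV p Op(p, L) ⊓ Cz(X) : Subgroup G) := by
  have k := card_sup_mul_card_inf (A := bV p Op(p, L)) (B := Zc(BB p T))
    ((h.lV.trans h.cs.Z_le_S).trans (le_normalizer.trans (Nm_le_Nm_Zc _)))
  rw [le_antisymm (sup_le h.lV h.cs.ZS_le_Z) (h.V_sup.ge.trans (sup_le_sup_left h.cs.Zg_le_ZS _)),
    h.cs.card_Z, mul_right_comm, ← h.inf_Cz h1 h2] at k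
  exact (Nat.eq_of_mul_eq_mul_right Nat.card_pos k).symm

theorem card_sup (hT : SylIn p T ⊤) (hG : Cz(pCore p G) ≤ pCore p G) (h1 : X ≤ BB p T)
    (h2 : ¬ X ≤ pCoreOf p L) : Nat.card (bV p Op(p, L) ⊔ (VG p G ⊓ Cz(X)) : Subgroup G) =
      q * Nat.card (VG p G ⊓ Cz(X) : Subgroup G) := by
  have l := h.bk.V_le hT hG
  have k := card_sup_mul_card_inf (A := bV p Op(p, L)) (B := VG p G ⊓ Cz(X))
    (l.trans (V_le_C.trans ((Cz_anti inf_le_left).trans (Cz_le_Nm _))))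
  rw [← inf_assoc, inf_eq_left.2 l] at k
  rw [h.cardV h1 h2, mul_right_comm] at k
  exact Nat.eq_of_mul_eq_mul_right Nat.card_pos k

theorem dec_of_card (hT : SylIn p T ⊤) (hG : Cz(pCore p G) ≤ pCore p G) (h1 : X ≤ BB p T)
    (h2 : ¬ X ≤ pCoreOf p L)
    (h3 : Nat.card (VG p G) ≤ q * Nat.card (VG p G ⊓ Cz(X) : Subgroup G)) :
    VG p G ≤ bV p Op(p, L) ⊔ (VG p G ⊓ Cz(X)) :=
  (eq_of_le_of_card_ge (sup_le (h.bk.V_le hT hG) inf_le_left) (h.card_sup hT hG h1 h2 ▸ h3)).ge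

theorem card_Z (e : pCoreOf p Op(p, L) ≠ bW p Op(p, L)) : Nat.card (bZ p Op(p, L)) ≤ q := by
  obtain ⟨F, _, _, n, hF, hq⟩ := h.fld
  obtain ⟨A, h2⟩ := h.good.resolve_left fun hI => e (h.cs.W_eq hI)
  obtain ⟨d, e1, -, e3⟩ := h.cs.exists_pd h2.hA h2.hT
  rw [← e1, ← e3] at h2
  obtain ⟨D⟩ := II2.mdQ d h2 hF hq
  have c := II2.comm_eq d h2 hF hq
  rw [← (h.bk.exc.resolve_left e).QQ, h.cs.core_eq, ← hq, ← Nat.card_eq_fintype_card]
  exact D.card_comm_le (le_Cz_comm ((II2.U_le d h2 c).trans (inf_le_right.trans (Cz_anti h.cs.LT))))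
    (le_Cz_comm (c.le.trans inf_le_right))

theorem Lc_ne : Lc p L (pCoreOf p L) ≠ ⊥ := fun e => h.bk.V_not_le
  ((((bV_le _).trans (bW_le _)).trans (h.cs.core_eq.trans e).le).trans bot_le)

theorem exists_ra (hT : SylIn p T ⊤) (hG : Cz(pCore p G) ≤ pCore p G) (hV : VG p G ≤ BB p T) :
    ∃ A, RA p T L A := by
  obtain ⟨f, hf, e, k⟩ := h.cs.exists_twin h.hd h.Lc_ne
  by_cases ex : pCoreOf p Op(p, L) = bW p Op(p, L)
  · have t0 : Tx q (BB p T) Zc(pCoreOf p L) := ⟨h.cs.Z_le_S, h.cs.card_Z,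
      by rw [h.cs.S_inf_CzZ h.cs.nc, h.cs.card], fun _ h1 h2 => (h.cs.Z_inf_Cz h1 fun e =>
        h2 (e.trans (le_Cz_comm inf_le_right))).le, h.cs.quad⟩
    have t : Tx q (BB p T) ((Zc(pCoreOf p L).subgroupOf (BB p T)).map f) := by
      have := (tx_map_iff hf).2 ((tx_map_iff (B := ⊤) (q := q)
        (Z := Zc(pCoreOf p L).subgroupOf (BB p T)) (subtype_injective (BB p T))).1
        (by rwa [map_subtype_top, map_subgroupOf_eq_of_le t0.le]))
      rwa [e] at this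
    have n : ¬ (Zc(pCoreOf p L).subgroupOf (BB p T)).map f ≤ pCoreOf p L := fun e' =>
      k ((map_mono (comap_mono ((h.cs.core_eq.symm.trans ex).le.trans h.lW))).trans e')
    generalize (Zc(pCoreOf p L).subgroupOf (BB p T)).map f = A at t n
    refine ⟨A, t.le, h.cs.sup_eq_of_card t.le ?_, t.quad.trans (inf_le_right.trans (Cz_anti hV)),
      h.dec_of_card hT hG t.le n ?_⟩
    · rw [t.c1]
      exact Nat.mul_le_mul_left _ (card_le_of_le ((inf_le_inf_left _ (le_Cz_comm inf_le_right)).trans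
        (t.ti _ t0.le fun e => n fun a ha => h.cs.mem_T_of_Cz h.cs.nc (t.le ha) (le_Cz_comm e ha))))
    · have := card_mul_card_le hV (inf_le_left : BB p T ⊓ Cz(A) ≤ _)
      rw [t.c2, ← inf_assoc, inf_eq_left.2 hV, mul_right_comm] at this
      exact Nat.le_of_mul_le_mul_right this Nat.card_pos
  have b : BLK p T Op(p, L) := ⟨hT, hG, h.blk⟩
  have QB := h.xb.1
  obtain ⟨_, ⟨y, hy, rfl⟩, k⟩ := SetLike.not_le_iff_exists.1 k
  have yB : f y ∈ BB p T := e.le ⟨y, trivial, rfl⟩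
  have u1 : ((VG p G).comap f).map (BB p T).subtype ≤ BB p T := map_subtype_le _
  have u2 : BB p T ≤ Nm(((VG p G).comap f).map (BB p T).subtype) := le_normalizer_map_subtype _
  have u3 : ((VG p G).comap f).map (BB p T).subtype ≤ Cz(((VG p G).comap f).map (BB p T).subtype) :=
    (map_Cz_of_injective (subtype_injective _)).2 ((map_Cz_of_injective hf).1
      ((map_comap_le _ _).trans (V_le_C.trans (Cz_anti (map_comap_le _ _)))))
  have u4 := comm_le_right (QB.trans u2)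
  have u5 : ⁅pCoreOf p Op(p, L), ((VG p G).comap f).map (BB p T).subtype⁆ ≤ Cz(Op(p, L)) :=
    (commutator_mono le_rfl (le_inf u1 fun v hv => Cz_anti (bV_le _) (by_contra fun n =>
      (h.bk.exc.resolve_left ex).nq v (u1 hv) n ((commutator_mono ((commutator_mono le_rfl
        (zpowers_le.2 hv)).trans u4) (zpowers_le.2 hv)).trans
          ((comm_eq_bot_left.2 u3).le.trans bot_le))))).trans h.xb.2
  have u6 := le_inf (h.bk.le_W_of_comm (comm_le_left (u1.trans (h.bk.B_le_Nm.trans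
    (normalizer_le_normalizer_pCoreOf _)))) ((le_Cz_comm u5).trans (Cz_le_Nm _))
    (comm_eq_bot_left.2 (u4.trans (u3.trans (Cz_anti u4))))) u5
  have c := card_le_comm (V := VG p G) (b := f y) (R := ((bZ p Op(p, L)).subgroupOf (BB p T)).map f)
    fun v hv => by
      obtain ⟨v, -, rfl⟩ := e.ge (hV hv)
      exact ⟨⁅y, v⁆, u6 (commutator_mem_commutator (h.cs.core_eq.ge hy) ⟨v, hv, rfl⟩),
        map_commutatorElement f y v⟩
  rw [card_map_of_injective hf, card_subgroupOf (inf_le_left.trans ((bW_le _).trans QB))] at c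
  have d := h.dec_of_card hT hG (zpowers_le.2 yB) (fun e => k (zpowers_le.1 e))
    (c.trans (Nat.mul_le_mul_right _ (h.card_Z ex)))
  have nV := h.cs.SG.trans h.nV
  have l := h.bk.V_le hT hG
  have n2 : L ≤ Nm(VG p G ⊓ Cz(Op(p, L))) :=
    le_normalizer_inf (le_Nm_normal _ _) (h.cs.nO.trans (Nm_le_Nm_Cz _))
  have m : f y ∈ BB p T ⊓ Cz(VG p G ⊓ Cz(Op(p, L))) := mi yB (zpowers_le.1 (comm_eq_bot_right.1
    (le_bot_iff.1 (le_trans (le_inf ((commutator_mono (inf_le_left.trans d) le_rfl).trans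
      (commutator_sup_left_le le_normalizer (inf_le_left.trans (V_le_C.trans ((Cz_anti l).trans
        (Cz_le_Nm _)))) (comm_le_left ((zpowers_le.2 yB).trans nV))
        ((comm_eq_bot_left.2 inf_le_right).le.trans bot_le)))
      ((comm_le_left ((zpowers_le.2 (h.cs.SG yB)).trans n2)).trans inf_le_right))
      (b.exc_V0 ex).le))))
  have s := b.exc_sup ex ((h.gb (SubnIn.refl _)).Q_le_Cz hT hG fun _ => hV)
  refine ⟨BB p T ⊓ Cz(VG p G ⊓ Cz(Op(p, L))), inf_le_left, (h.cs.irr _ le_sup_right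
    (sup_le inf_le_left h.cs.TS) (le_normalizer_sup (le_normalizer_inf inf_le_right
      (inf_le_left.trans (n2.trans (Nm_le_Nm_Cz _)))) (inf_le_left.trans h.cs.nT))).resolve_left
    fun e => k (e.le (mem_sup_left m)), le_trans ?_ (Cz_anti s),
    s.trans (sup_le_sup_left (le_inf inf_le_left (le_Cz_comm inf_le_right)) _)⟩
  rw [Cz_sup]
  exact le_inf (((commutator_mono inf_le_left le_rfl).trans h.cs.comm).trans h.T_le)
    ((commutator_mono inf_le_right le_rfl).trans (comm_le_left (h.cs.SG.trans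
      (n2.trans (Nm_le_Nm_Cz _)))))

end SB

theorem SB.exists_ra2 (h : SB 2 2 T M L) (hT : SylIn 2 T ⊤) (hG : Cz(pCore 2 G) ≤ pCore 2 G)
    (hV : VG 2 G ≤ BB 2 T) :
    ∃ x, RA 2 T L (zpowers x) ∧ x * x = 1 ∧ ⁅zpowers x, BB 2 T⁆ ≤ bV 2 Op(2, L) := by
  have eV : Lc 2 L (pCoreOf 2 L) = bV 2 Op(2, L) :=
    h.cs.core_eq.symm.trans (BLK.Q_eq_V h.bk (h.cs.W_eq (CS.typeI h.cs h.good)))
  obtain ⟨x, xB, xT, xx, x1, x2⟩ := h.cs.twin2 h.good h.hd
    (eV ▸ ((blk_typ h.blk).resolve_left fun e => e.2 (h.pcl rfl)).2)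
  rw [eV] at x1
  refine ⟨x, ⟨zpowers_le.2 xB, h.cs.sup_eq_of_card (zpowers_le.2 xB) ?_,
    x1.trans ((h.bk.V_le hT hG).trans V_le_C), h.dec_of_card hT hG (zpowers_le.2 xB)
      (fun e => xT (zpowers_le.1 e)) ((card_le_comm fun v hv => commutator_mem_commutator
        (mem_zpowers x) (hV hv)).trans (Nat.mul_le_mul_right _ x2))⟩, xx, x1⟩
  have c : Nat.card (zpowers x) = 2 := by
    rw [Nat.card_zpowers]
    exact orderOf_eq_prime (by rw [sq, xx]) fun e => xT (e ▸ one_mem _)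
  rw [(eq_bot_or_eq_of_card_prime c inf_le_left).resolve_right fun e =>
    xT (e.ge (mem_zpowers x)).2, card_bot, c]

end CfH7
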