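import Cfsg.Agent.OD.Pre
import Cfsg.Agent.H7.GM6

/-! The local `C*(G,T)`-theorem: the class of root subgroups on `Ω₁Z(O_p(G))`. -/

set_option autoImplicit false
set_option linter.unusedSectionVars false

open Cfsg Subgroup CfH9 CfLp Equiv
open scoped commutatorElement MatrixGroups

namespace CfH7

open CfH8 (BB JJ MaxEl)

universe u

theorem RS.card_inf_le {P : Type*} [Group P] {W : Type*} [AddCommGroup W] [DistribMulAction P W]
    {p : ℕ} [Finite P] [Finite W] [FaithfulSMul P W] [Fact p.Prime] {A B C : Subgroup P}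
    (h : RS P W p) (hA : Rt W A) (hC : Rt W C) (o : Opp W A B) {F : Type} [Field F] [Fintype F]
    {ρ : (A ⊔ B : Subgroup P) →* SL(2, F)} {ψ : W →+ (Fin 2 → F)} (n : NatD W F (A ⊔ B) A ρ ψ)
    (hi : Function.Injective ρ) (nc : ¬ A ≤ Cz(C)) (hN : C ⊓ Nm(A) ≤ Nm(A ⊔ B)) :
    Nat.card (C ⊓ Nm(A) : Subgroup P) ≤ p := by
  choose r hr using n.surjψ
  have k : ∀ (g : Nm(A ⊔ B)) (w : W), ψ ((g : P) • r (ψ w)) = ψ ((g : P) • w) := fun g w => by
    rw [← n.sub_mem_iff, ← smul_sub]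
    exact smul_mem_fx g.2 (n.sub_mem_iff.2 (hr _))
  letI : DistribMulAction Nm(A ⊔ B) (Fin 2 → F) :=
    { smul := fun g v => ψ ((g : P) • r v)
      one_smul := fun v => (congrArg ψ (one_smul _ _)).trans (hr v)
      mul_smul := fun a b v => ((k a _).trans (by rw [smul_smul]; rfl)).symm
      smul_zero := fun g => show ψ ((g : P) • r 0) = 0 by simpa using k g 0
      smul_add := fun g v w => show ψ ((g : P) • r (v + w)) = ψ ((g : P) • r v) + ψ ((g : P) • r w) by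
        simpa [hr] using k g (r v + r w) }
  have k' : ∀ (g : Nm(A ⊔ B)) (w : W), g • ψ w = ψ ((g : P) • w) := k
  let e := MulEquiv.ofBijective ρ ⟨hi, n.surj⟩
  have l : LM ((inclusion (le_normalizer : A ⊔ B ≤ _)).comp e.symm.toMonoidHom) :=
    ⟨fun g v => by
      rw [← hr v, k']
      exact (n.eqv (e.symm g) _).trans (congrArg (· • ψ (r v)) (e.apply_symm_apply g)), by
      rw [MonoidHom.range_comp, MonoidHom.range_eq_top.2 e.symm.surjective, ← MonoidHom.range_eq_map,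
        inclusion_range]
      exact normal_in_normalizer⟩
  letI := l.act
  haveI := isCyclic_of_injective ((MulSemiringAction.toAlgAut _
    (FixedPoints.subfield Nm(A ⊔ B) F) F).comp (inclusion hN)) ((injective_iff_map_eq_one _).2
      fun y hy => by
    by_contra y1
    have pc := (h.pg hC).to_le (zpowers_le.2 y.2.1)
    have nA := (zpowers_le.2 y.2.2).trans (Nm_le_st_fx (W := W) A)
    obtain ⟨v, v1, v2, v3⟩ := exists_fixed_mod h.hp pc nA ((zpowers_le.2 (hN y.2)).trans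
      (Nm_le_st_fx (W := W) _)) fun e => o.not_cm_le hA (hA.cm_le.trans (e.trans (fx_anti le_sup_right)))
    obtain ⟨w, -, hw, e⟩ := exists_fixed_mod h.hp pc (U := ⊤) (fun g _ => mem_st_top g) nA
      fun e => hA.fx_ne_top (top_unique e)
    refine nc (h.comm_of_Nm hA hC fun a ha => h.mem_Nm hC y.2.1 (fun e => y1 (Subtype.ext e)) ?_)
    have a' := conj_mem_of_mem_normalizer y.2.2 ha
    have e3 : ((y : P) * a * (y : P)⁻¹) • w - w = (y : P) • (a • w - w) := by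
      have := e y (mem_zpowers _) _ a'
      rw [smul_sub, smul_smul, inv_mul_cancel_right, sub_eq_sub_iff_sub_eq_sub] at this
      rw [smul_sub, smul_smul, this]
    have e4 := o.eq_of_sub hA hw ha a' (fx_anti (le_sup_right : B ≤ A ⊔ B) (by
      have e5 : ψ (a • w - w) = (ψ (a • w - w) 0 / ψ v 0) • ψ v := vec_ext
        (by rw [Pi.smul_apply, smul_eq_mul, div_mul_cancel₀ _ fun e => v2 ((n.fx_iff v1).2 e)])
        (by rw [Pi.smul_apply, (n.fxA _).1 v1, (n.fxA _).1 (hA.quad a ha w), smul_zero])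
      rw [e3, n.sub_mem_iff]
      refine (k' (inclusion hN y) _).symm.trans ?_
      rw [e5, l.semi, (k' _ _).trans (n.sub_mem_iff.1 (v3 _ (mem_zpowers _)))]
      exact congrArg (· • ψ v) (AlgEquiv.congr_fun hy _)))
    rw [mul_inv_eq_iff_eq_mul.2 (eq_mul_inv_iff_mul_eq.1 e4)]
    exact y.2.1)
  rw [← IsCyclic.exponent_eq_card]
  exact Nat.le_of_dvd (Fact.out : p.Prime).pos (Monoid.exponent_dvd_of_forall_pow_eq_one fun y =>
    Subtype.ext ((h.el hC).2 _ y.2.1))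

variable {G : Type u} [Group G] {p q : ℕ} {W : Type u} [AddCommGroup W]
  [DistribMulAction (G ⧸ Cz(VG p G)) W]

/-- a minimal counterexample with its module -/
structure ML (p : ℕ) (T M : Subgroup G) (W : Type u) [AddCommGroup W]
    [DistribMulAction (G ⧸ Cz(VG p G)) W] (ι : Multiplicative W →* G) : Prop extends MC p T M where
  br : Br (VG p G) ⊤ (mkT Cz(VG p G)) ι
  rs : RS (G ⧸ Cz(VG p G)) W p

/-- a minimal counterexample with a small block and a root subgroup -/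
structure MR (q : ℕ) (T M L A : Subgroup G) (ι : Multiplicative W →* G) : Prop
    extends ML p T M W ι where
  sb : SB p q T M L
  ra : RA p T L A

/-- an opposite pair -/
structure MX (q : ℕ) (T M L A : Subgroup G) (ι : Multiplicative W →* G) (x : G) : Prop
    extends MR (p := p) q T M L A ι where
  xL : x ∈ L
  xM : x ∉ M
  xm : x ∈ A ⊔ cj x A

variable [Finite G] [hp : Fact p.Prime] [Finite W] [FaithfulSMul (G ⧸ Cz(VG p G)) W]
  {ι : Multiplicative W →* G} {T M L A X : Subgroup G} {x : G} {C D : Subgroup (G ⧸ Cz(VG p G))}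

namespace ML

variable (h : ML p T M W ι)
include h

theorem ms_eq (X : Subgroup G) : CfH8.ms (VG p G) X =
    lm W (X.map (πG p G)) * Nat.card (X ⊓ Cz(VG p G) : Subgroup G) := by
  rw [CfH8.ms, lm, ← h.br.card_mul (rl_mk _ X), h.br.card_fx (rl_mk _ X)]
  ring

theorem off (hX : MaxEl p X ⊤) : Off W p (X.map (πG p G)) :=
  h.br.off_maxEl h.rs elemAb_VG hX le_top (rl_mk _ X)

theorem maxEl_sub (hX : MaxEl p X ⊤) (hD : Off W p D) (h1 : D ≤ X.map (πG p G)) :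
    MaxEl p ((X ⊓ D.comap (πG p G)) ⊔ (VG p G ⊓ Cz(X ⊓ D.comap (πG p G)))) ⊤ := by
  refine hX.of_ms_le le_top elemAb_VG inf_le_left (Nat.le_of_eq ?_)
  rw [h.ms_eq, h.ms_eq, map_inf_comap', inf_eq_right.2 h1, (h.off hX).eq, hD.eq, inf_assoc,
    inf_eq_right.2 (πG_ker.ge.trans (ker_le_comap _ _))]

theorem lift (hX : MaxEl p X ⊤) (hD : Off W p D) (h1 : D ≤ X.map (πG p G)) :
    ∃ X, MaxEl p X ⊤ ∧ X.map (πG p G) = D := ⟨_, h.maxEl_sub hX hD h1, by
  rw [Subgroup.map_sup, map_inf_comap', inf_eq_right.2 h1,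
    (Subgroup.map_eq_bot_iff _).2 (inf_le_left.trans (V_le_C.trans πG_ker.ge)), sup_bot_eq]⟩

theorem maxEl_R (hX : MaxEl p X ⊤) : MaxEl p ((X ⊓ Cz(VG p G)) ⊔ VG p G) T := by
  have := h.maxEl_sub hX off_bot bot_le
  rw [MonoidHom.comap_bot, πG_ker, inf_eq_left.2 (le_Cz_comm inf_le_right)] at this
  exact this.mono ((h.le_R (elemAb_isPGroup this.el) (sup_le inf_le_right V_le_C)).trans h.RT) le_top

theorem exists_maxEl : ∃ X : Subgroup G, MaxEl p X ⊤ := by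
  have := h.not_J_le
  rw [CfH8.J_le_iff] at this
  push Not at this
  exact this.elim fun X e => ⟨X, maxEl_top_of_sylIn h.syl e.1⟩

theorem V_le_B : VG p G ≤ BB p T := h.exists_maxEl.elim fun _ hX =>
  (le_sup_right.trans (h.maxEl_R hX).le_J).trans (CfH8.J_le_B T)

theorem Y_le_R : OZ p (JJ p T) ≤ pCore p G := h.exists_maxEl.elim fun _ hX =>
  h.le_R (elemAb_isPGroup (elemAb_OZ _)) ((h.maxEl_R hX).OZ_J_le.trans (sup_le inf_le_right V_le_C))

theorem mem_M : πG p G x ∈ M.map (πG p G) ↔ x ∈ M := by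
  rw [← mem_comap, comap_map_eq, πG_ker, sup_eq_left.2 h.CV]

theorem lift_T (hX : MaxEl p X ⊤) (hT : X.map (πG p G) ≤ T.map (πG p G)) :
    ∃ Y, MaxEl p Y T ∧ Y.map (πG p G) = X.map (πG p G) := by
  rw [map_le_iff_le_comap, comap_map_eq, πG_ker] at hT
  obtain ⟨g, hg, e⟩ := (h.syl.mono le_sup_left le_top).exists_cj_le (elemAb_isPGroup hX.el) hT
  obtain ⟨t, ht, c, hc, rfl⟩ := (mem_sup_of_le_Nm (le_Nm_normal _ _)).1 hg
  rw [cj_mul, cj_le_iff, cj_eq_of_mem (inv_mem ht)] at e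
  refine ⟨cj c X, (cj_top c ▸ hX.cj c).mono e le_top, ?_⟩
  rw [map_cj, πG_eq_one.2 hc, cj_one]

end ML

namespace MR

variable (h : MR (p := p) q T M L A ι)
include h

theorem lV : bV p Op(p, L) ≤ VG p G := h.sb.bk.V_le h.syl h.chp

theorem AL : A ≤ L := h.ra.le.trans h.sb.cs.SG

theorem nT : ¬ A ≤ pCoreOf p L := fun e => h.sb.cs.ne (h.ra.sup.ge.trans (sup_le e le_rfl))

theorem inf_eq : A ⊓ Cz(VG p G) = A ⊓ pCoreOf p L := le_antisymm
  (fun _ ha => mi ha.1 (h.sb.mem_T (h.ra.le ha.1) (Cz_anti h.lV ha.2))) fun _ ha => mi ha.1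
    (Cz_anti h.ra.dec (by rw [Cz_sup]; exact mi (h.sb.T_le ha.2) (le_Cz_comm inf_le_right ha.1)))

theorem card : Nat.card (A.map (πG p G)) = q := by
  have := h.br.card_mul (rl_mk _ A)
  rw [h.inf_eq, h.sb.cs.card_of_sup_eq h.ra.sup] at this
  exact Nat.eq_of_mul_eq_mul_right Nat.card_pos this

theorem cm_le : ⁅VG p G, A⁆ ≤ bV p Op(p, L) ⊓ Zc(BB p T) := by
  have n : VG p G ≤ Nm(bV p Op(p, L) ⊓ Zc(BB p T)) :=
    V_le_C.trans ((Cz_anti (inf_le_left.trans h.lV)).trans (Cz_le_Nm _))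
  exact (commutator_mono h.ra.dec le_rfl).trans (commutator_sup_left_le (h.lV.trans n)
    (inf_le_left.trans n) (le_inf (comm_le_left (h.AL.trans h.sb.nV))
      ((commutator_mono h.sb.lV h.ra.le).trans h.sb.cs.quad))
    ((comm_eq_bot_left.2 inf_le_right).le.trans bot_le))

theorem fix_of {a v : G} (ha : a ∈ A) (haT : a ∉ pCoreOf p L) (hv : v ∈ VG p G)
    (e : ⁅a, v⁆ ∈ Zc(L)) : v ∈ Cz(A) := by
  obtain ⟨u, hu, c, hc, rfl⟩ := (mem_sup_of_le_Nm (h.lV.trans (V_le_C.trans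
    ((Cz_anti inf_le_left).trans (Cz_le_Nm _))))).1 (h.ra.dec hv)
  rw [comm_mul_right, comm_eq_one' hc.2 ha, mul_one, mul_inv_cancel, mul_one] at e
  exact mul_mem (Cz_anti h.ra.le (h.sb.cs.mem_ZS_of_comm (h.sb.lV hu) (h.ra.le ha) haT e).2) hc.2

theorem rt : Rt W (A.map (πG p G)) := by
  have r := rl_mk Cz(VG p G) A
  refine ⟨h.br.ne_bot r fun e => h.nT ((le_inf le_rfl e).trans (h.inf_eq.le.trans inf_le_right)),
    cm_le_iff.1 (h.br.am_le_iff.1 ?_), ?_, ?_⟩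
  · rw [h.br.am_cm r, h.br.am_fx r]
    exact le_inf (commutator_le_left _ _) (h.cm_le.trans (inf_le_right.trans
      (inf_le_right.trans (Cz_anti h.ra.le))))
  · have k := h.sb.card_sup h.syl h.chp h.ra.le h.nT
    rw [le_antisymm (sup_le h.lV inf_le_left) h.ra.dec, h.br.card_eq, h.br.card_fx r,
      ← (fx W (A.map (QuotientGroup.mk' Cz(VG p G)))).index_mul_card] at k
    rw [h.card]
    exact Nat.eq_of_mul_eq_mul_right Nat.card_pos k
  · rintro _ ⟨a, ha, rfl⟩ a1 w hw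
    refine (h.br.mem_fx_iff r).2 (h.fix_of ha (fun e => a1 (πG_eq_one.2 (h.inf_eq.ge (mi ha e)).2))
      (h.br.mem w) ?_)
    rw [commutatorElement_eq_one_iff_mul_comm.2 ((h.br.smul_eq_iff (x := ⟨a, trivial⟩)).1 hw)]
    exact one_mem _

theorem opp {g : G} (hg : g ∈ L) (hM : g ∉ M) :
    Opp W (A.map (πG p G)) (cj (πG p G g) (A.map (πG p G))) := by
  rintro _ ⟨a, ha, rfl⟩ w hw
  by_cases e : a ∈ pCoreOf p L
  · rw [πG_eq_one.2 (h.inf_eq.ge (mi ha e)).2, one_smul]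
  rw [← map_cj, h.br.mem_fx_iff (rl_mk _ _)] at hw
  replace hw : ⁅a, ι (.ofAdd w)⁆ ∈ Cz(cj g A) := h.br.comm ⟨a, trivial⟩ w ▸ hw
  have k := comm_mem_of_le' h.cm_le (h.br.mem w) ha
  have k' := mi k.1 hw
  rw [← cj_eq_of_mem_normalizer (h.sb.nV hg), ← cj_centralizer, ← cj_inf,
    h.sb.inf_Cz h.ra.le h.nT, cj_inf, cj_Zc] at k'
  exact (h.br.mem_fx_iff (rl_mk _ A)).2 (h.fix_of ha e (h.br.mem w) ((h.sb.cs.inf_ZS_cj hg
    fun e => hM e.2).le (mi k.2 k'.2))) _ ⟨a, ha, rfl⟩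

theorem exists_mx : ∃ x, MX (p := p) q T M L A ι x := by
  obtain ⟨g, hg, hM⟩ := h.sb.cs.ex
  obtain ⟨_, ⟨g, hg, hM, rfl⟩, k⟩ := exists_min_card (fun X => ∃ g ∈ L, g ∉ L ⊓ M ∧ A ⊔ cj g A = X)
    ⟨_, g, hg, hM, rfl⟩
  obtain ⟨a, ha, haT⟩ := SetLike.not_le_iff_exists.1 h.nT
  have m := mul_mem (mul_mem hg (h.AL ha)) (inv_mem hg)
  have m' := h.sb.cs.conj_notMem hg hM (h.ra.le ha) haT
  have l : g * a * g⁻¹ ∈ A ⊔ cj g A := mem_sup_right (conj_mem_cj g ha)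
  exact ⟨_, h, m, fun e => m' (mi m e), (eq_of_le_of_card_ge (sup_le le_sup_left
    (cj_le_of_mem le_sup_left l)) (k _ ⟨_, m, m', rfl⟩)).ge l⟩

end MR

namespace MX

local notation "A'" => Subgroup.map (πG p G) A
local notation "B'" => cj (πG p G x) (Subgroup.map (πG p G) A)

variable (h : MX (p := p) q T M L A ι x)
include h

theorem map_eq : (A ⊔ cj x A).map (πG p G) = A' ⊔ B' := by rw [Subgroup.map_sup, map_cj]

theorem le_L : A ⊔ cj x A ≤ L := sup_le h.AL (cj_le_of_mem h.AL h.xL)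

theorem xm' : πG p G x ∈ A' ⊔ B' := h.map_eq.le ⟨x, h.xm, rfl⟩

theorem o : Opp W A' B' := h.opp h.xL h.xM

theorem o' : Opp W B' A' := by
  have := (h.opp (inv_mem h.xL) fun e => h.xM (inv_mem_iff.1 e)).cj (πG p G x)
  rwa [map_inv, cj_cj_inv] at this

theorem opp' {g : G ⧸ Cz(VG p G)} (hg : g ∈ A' ⊔ B') (hM : g ∉ M.map (πG p G)) :
    Opp W A' (cj g A') := by
  obtain ⟨g, hg', rfl⟩ := h.map_eq.ge hg
  exact h.opp (h.le_L hg') fun e => hM ⟨g, e, rfl⟩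

theorem AT : A' ≤ T.map (πG p G) := map_mono (h.ra.le.trans (CfH8.B_le T))

theorem nat (F : Type) [Field F] [Fintype F] (hF : Fintype.card F = q) :
    ∃ ρ ψ, NatD W F (A' ⊔ B') A' ρ ψ ∧ Function.Injective ρ := by
  obtain ⟨ρ, ψ, n⟩ := nat_of_ti h.rs.hp h.rt h.xm' h.o h.o' (fun g hg => ti_of_opps h.rt h.xm'
    (h.AT.trans (map_mono h.TM)) (fun e => h.xM (h.mem_M.1 e)) (fun _ => h.opp') hg) F
    (hF.trans h.card.symm)
  exact ⟨ρ, ψ, n, h.rs.nat_inj h.rt (h.rt.cj _) h.o h.o' n⟩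

theorem bor : (A' ⊔ B') ⊓ Nm(A') ≤ M.map (πG p G) := fun _ hg => by_contra fun e =>
  (h.opp' hg.1 e).ne h.rt (cj_eq_of_mem_normalizer hg.2).symm

theorem nB : ¬ B' ≤ M.map (πG p G) := fun e =>
  h.xM (h.mem_M.1 (sup_le (h.AT.trans (map_mono h.TM)) e h.xm'))

theorem L_eq : (A ⊔ cj x A) ⊔ pCoreOf p L = L := h.sb.cs.sup_cj_sup h.ra.sup h.xL fun e => h.xM e.2

theorem B_le_Cz : (BB p T).map (πG p G) ≤ Cz(A') := comm_eq_bot_right.1 (by
  rw [← map_commutator, Subgroup.map_eq_bot_iff, πG_ker]; exact h.ra.cc)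

theorem T_le_Cz : (pCoreOf p L).map (πG p G) ≤ Cz(A' ⊔ B') := by
  have k := (map_mono h.sb.cs.TS).trans h.B_le_Cz
  rw [Cz_sup, ← cj_centralizer, ← h.sb.cs.cjT h.xL, map_cj]
  exact le_inf (by rwa [← map_cj, h.sb.cs.cjT h.xL]) (cj_mono _ k)

theorem B_le_Nm : (BB p T).map (πG p G) ≤ Nm(A' ⊔ B') := by
  rw [← h.ra.sup, Subgroup.map_sup]
  exact sup_le (le_sup_left.trans le_normalizer) (h.T_le_Cz.trans (Cz_le_Nm _))

theorem E_eq : Op(p, L).map (πG p G) = Op(p, A' ⊔ B') := by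
  rw [map_pResidualOf]
  conv_lhs => rw [← h.L_eq, Subgroup.map_sup, h.map_eq]
  exact pResidualOf_sup_of_isPGroup ((isPGroup_pCoreOf L).map _) (h.T_le_Cz.trans (Cz_le_Nm _))

theorem E_le : Op(p, L).map (πG p G) ≤ A' ⊔ B' := h.E_eq.le.trans (pResidualOf_le _)

theorem cm_fx (hY : Off W p D) (h1 : D ≤ (BB p T).map (πG p G)) (h2 : ¬ A' ≤ D) :
    cm W D ≤ fx W (A' ⊔ B') :=
  h.rs.cm_le_fx h.rt (h.rt.cj _) h.o (card_cj _ _).le hY (le_Cz_comm (h1.trans h.B_le_Cz)) h2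
    (h1.trans (h.B_le_Nm.trans (Nm_le_st_fx _)))

theorem liftA : ∃ X, MaxEl p X ⊤ ∧ X.map (πG p G) = A' := by
  have := h.sb.bk.not_J_le h.syl
  rw [CfH8.J_le_iff] at this
  push Not at this
  obtain ⟨X, h1, h2⟩ := this
  have h3 := maxEl_top_of_sylIn h.syl h1
  have h4 := h1.le_J.trans (CfH8.J_le_B T)
  refine h.lift h3 (h.rs.off h.rt) (by_contra fun e => h2 (h.sb.bk.le_Cz_of_sec0
    (h4.trans h.sb.bk.B_le_Nm) ?_))
  have k := am_mono (ι := ι) ((h.cm_fx (h.off h3) (map_mono h4) e).trans (fx_anti h.E_le))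
  rw [h.br.am_cm (rl_mk _ _), h.br.am_fx (rl_mk _ _)] at k
  exact (commutator_mono h.lV le_rfl).trans (k.trans inf_le_right)

theorem lift_dc (hC : Dc W A' C) : ∃ X, MaxEl p X ⊤ ∧ X.map (πG p G) = C := by
  obtain ⟨X, h1, h2⟩ := h.liftA
  obtain ⟨g, rfl⟩ := hC.ex
  obtain ⟨g, rfl⟩ := πG_surj g
  exact ⟨_, cj_top g ▸ h1.cj g, by rw [map_cj, h2]⟩

theorem lift_dc_T (hC : Dc W A' C) (hT : C ≤ T.map (πG p G)) :
    ∃ X, MaxEl p X T ∧ X.map (πG p G) = C := by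
  obtain ⟨X, h1, rfl⟩ := h.lift_dc hC
  exact h.lift_T h1 hT

theorem le_B (hC : Dc W A' C) (hT : C ≤ T.map (πG p G)) : C ≤ (BB p T).map (πG p G) := by
  obtain ⟨X, h1, rfl⟩ := h.lift_dc_T hC hT
  exact map_mono (h1.le_J.trans (CfH8.J_le_B T))

theorem ds : DS W p (T.map (πG p G)) A' B' :=
  ⟨h.rs, h.syl.map_surj πG_surj, h.rt, h.AT, (dc_self h.rt).cj _, h.o, fun _ h1 h2 h3 =>
    h.rs.comm_of_cm h1 (h.rt.cj _) ((h.cm_fx (h.rs.off h1) (h.le_B h1 h2) fun e =>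
      h3 (h.rs.eq_of_le h.rt h1 e).symm).trans (fx_anti le_sup_right))⟩

end MX

end CfH7
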