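import Cfsg.Agent.OD.Pre
import Cfsg.Agent.H7.GM9

/-! The local `C*(G,T)`-theorem: root subgroups of order greater than two. -/

set_option autoImplicit false
set_option linter.unusedSectionVars false

open Cfsg Subgroup CfH9 CfLp Equiv
open scoped commutatorElement MatrixGroups

namespace CfH7

open CfH8 (BB JJ MaxEl)

universe u

variable {G : Type u} [Group G] {p q : ℕ} {W : Type u} [AddCommGroup W]
  [DistribMulAction (G ⧸ Cz(VG p G)) W] [Finite G] [hp : Fact p.Prime] [Finite W]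
  [FaithfulSMul (G ⧸ Cz(VG p G)) W] {ι : Multiplicative W →* G} {T M L A X S H F : Subgroup G}
  {x : G} {C D : Subgroup (G ⧸ Cz(VG p G))}

namespace MX

local notation "A'" => Subgroup.map (πG p G) A
local notation "B'" => cj (πG p G x) (Subgroup.map (πG p G) A)

variable (h : MX (p := p) q T M L A ι x)
include h

theorem mem_C {y : G} (h1 : πG p G y ∈ A') (h2 : y ∈ Cz(bV p Op(p, L))) : y ∈ Cz(VG p G) := by
  obtain ⟨a, ha, e⟩ := h1
  rw [πG_eq] at e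
  have k := (Subgroup.mul_mem_cancel_right _ h2).1 (Cz_anti h.lV e)
  exact (Subgroup.mul_mem_cancel_left _ (inv_mem (h.inf_eq.ge (mi ha
    (h.sb.mem_T (h.ra.le ha) (inv_mem_iff.1 k)))).2)).1 e

theorem nM : ¬ Op(p, L) ≤ M := h.sb.nM h.TM

theorem eq_of_gb (hq : 2 < q) (g : GB p S H F) (b : IsBaumannBlock p T F) (l : Op(p, L) ≤ F) :
    Op(p, L) = F := by
  have bF := h.blk b
  by_cases n : Ln p F
  · exact (h.blk h.sb.blk).eq_of_le bF n l fun e => h.nM (e.trans h.cs)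
  obtain ⟨rfl, m, s⟩ := (blk_kind b).resolve_left n
  obtain ⟨X, h1, h2⟩ := h.lift_dc_T (dc_self h.rt) h.AT
  have lV : bV 2 Op(2, L) ≤ bV 2 F := by
    rw [← h.sb.bk.comm_V h.syl h.chp, ← bF.bk.comm_V h.syl h.chp]
    exact commutator_mono le_rfl l
  obtain ⟨R, D, bd⟩ := s.bd bF.bk le_normalizer (Nm_le_Nm_bV F) (Or.inl le_rfl)
  have h3 := h1.le_J.trans bF.J_le_Nm
  obtain ⟨a, b, hab, y, hy, e⟩ := (bd.off_maxEl h1 bF.V_le_T h3).1.exists_swap fun e =>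
    h.rt.ne (h2.symm.trans ((Subgroup.map_eq_bot_iff _).2 fun y hy => πG_ker.ge (h.mem_C
      (h2.le ⟨y, hy, rfl⟩) (Cz_anti lV ((im_eq_bot_iff bd.ker h3).1 e hy)))))
  have c := card_le_comm (V := bV 2 Op(2, L)) (b := y)
    (R := D.pre (AddSubgroup.zmultiples (pe a b))) fun v hv => D.mem_pre.2
      ⟨commutator_mem_right (lV hv) (D.n y.2), by
        rw [D.c_comm y (lV hv), e, swap_smul_sub]
        rcases zmod2_cases (D.c v a + D.c v b) with e | e <;> rw [e]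
        · rw [zero_smul]; exact zero_mem _
        · rw [one_smul]; exact AddSubgroup.mem_zmultiples _⟩
  rw [h.sb.cardV (zpowers_le.2 (CfH8.J_le_B T (h1.le_J hy))) fun e' => hab (swap_eq_one_iff.1
    (e.symm.trans ((bd.ker y).2 (Cz_anti (bF.bk.V_le h.syl h.chp) (h.mem_C (h2.le ⟨y, hy, rfl⟩)
      (h.sb.T_le (zpowers_le.1 e'))))))), D.card_pre, g.sp.resolve_right n, card_bot, mul_one] at c
  exact (hq.not_ge ((Nat.le_of_mul_le_mul_right c Nat.card_pos).trans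
    ((AddSubgroup.card_le_of_le inf_le_left).trans ((Nat.card_zmultiples _).le.trans
      (Nat.le_of_dvd two_pos (addOrderOf_dvd_of_nsmul_eq_zero (pv_two _))))))).elim

theorem B_le_N : BB p T ≤ T ⊓ (Nm(A')).comap (πG p G) :=
  le_inf (CfH8.B_le T) (map_le_iff_le_comap.1 (h.B_le_Cz.trans (Cz_le_Nm _)))

theorem S_le (hq : 2 < q) {P : Subgroup G} (hP : T ≤ P) (s : SubnIn Op(p, L) P) (hS : IsPGroup p S)
    (h1 : T ⊓ (Nm(A')).comap (πG p G) ≤ S) (h2 : S.map (πG p G) ≤ Nm(A')) : S ≤ Nm(Op(p, L)) := by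
  obtain ⟨H, S', g, s1, s2, s3⟩ :
      ∃ H S', GB p S' H Op(p, L) ∧ SylIn p S' H ∧ ChP p H ∧ S ≤ H := by
    by_cases e : ∀ C, Dc W A' C → C ≤ T.map (πG p G) → C = A'
    · refine ⟨P, T, h.sb.gb s, h.sylH hP, h.chH hP, (h.syl.max S hS le_top (le_trans (le_inf le_rfl
        fun t ht => mem_comap.2 (mem_normalizer_iff_cj.2 (e _ ((dc_self h.rt).cj _)
          (cj_le_of_mem h.AT ⟨t, ht, rfl⟩)))) h1)).trans hP⟩
    push Not at e
    obtain ⟨C, c1, c2, c3⟩ := e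
    set J := sSup {C | Dc W A' C ∧ C ≤ T.map (πG p G) ∧ C ≠ A'}
    have BS := map_mono (f := πG p G) (h.B_le_N.trans h1)
    have l : S ≤ (Nm(J)).comap (πG p G) := fun y hy => mem_normalizer_of_cj_le (cj_le_iff.2
      (sSup_le fun D hD => cj_le_iff.1 (le_sSup ⟨hD.1.cj _, (le_jc_of_le h.ds.syl (hS.map _)
        (jc_le_iff.2 fun D d1 d2 => (h.le_B d1 d2).trans BS) (hD.1.cj _) (cj_le_of_mem
          ((h.le_B hD.1 hD.2.1).trans BS) ⟨y, hy, rfl⟩)).trans jc_le, fun e => hD.2.2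
        (cj_inj.1 (e.trans (cj_eq_of_mem_normalizer (h2 ⟨y, hy, rfl⟩)).symm))⟩)))
    obtain ⟨S', s1, s2⟩ := exists_sylIn_ge hS l
    have r : pCore p G ≤ (Nm(J)).comap (πG p G) := R_le_C.trans (πG_ker.ge.trans (ker_le_comap _ _))
    obtain ⟨F, f1, f2, f3⟩ := h.ext (fun e => c1.ne (le_bot_iff.1 ((le_sSup ⟨c1, c2, c3⟩ : C ≤ J).trans
      (eq_bot_of_normal_of_pCore_eq_bot h.pCore_quot (normal_of_top_le_normalizer fun g _ =>
        (πG_surj g).elim fun y e' => e' ▸ e.ge (mem_top y)) (h.ds.syl.pgrp.to_le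
          (sSup_le fun _ hD => hD.2.1))).le))) s1 ((h.B_le_N.trans h1).trans s2) r h.sb.blk
      (map_le_iff_le_comap.1 (h.E_le.trans ((le_Cz_comm (sSup_le fun D hD => le_Cz_comm (sup_le
        (h.rs.comm_of_le h.rt hD.1 h.ds.syl.pgrp h.AT hD.2.1)
        (le_Cz_comm (h.ds.oth D hD.1 hD.2.1 hD.2.2))))).trans (Cz_le_Nm _)))) h.nM
    exact ⟨_, S', h.eq_of_gb hq f1 f2 f3 ▸ f1, s1, chp_rel h.chp r, l⟩
  have n := (h.br.le_Nm_iff (rl_mk _ S)).2 (h2.trans (Nm_le_st_cm (W := W) _))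
  rw [h.br.am_cm (rl_mk _ A)] at n
  refine fun y hy => (g.cj_or s1 s2 (s3 hy)).resolve_right fun e => h.nT fun a ha =>
    h.sb.mem_T (h.ra.le ha) (h.sb.bk.le_Cz_of_sec0 (h.ra.le.trans h.sb.bk.B_le_Nm)
      ((commutator_mono h.lV le_rfl).trans ((cj_eq_of_mem_normalizer (n hy)).ge.trans
        ((cj_mono y (h.cm_le.trans (inf_le_left.trans (bV_le' _)))).trans e))) ha)

theorem rc (hq : 2 < q) {P : Subgroup G} (hP : T ≤ P) (s : SubnIn Op(p, L) P) : RC W p A' q := by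
  obtain ⟨S, s1, s2⟩ := exists_sylIn_ge h.syl.pgrp.to_inf_left
    (inf_le_right : T ⊓ (Nm(A')).comap (πG p G) ≤ _)
  have s3 := s1.map (πG p G)
  rw [map_comap_eq_self_of_surjective πG_surj] at s3
  obtain ⟨F, _, _, n, -, hF⟩ := h.sb.fld
  obtain ⟨ρ, ψ, n, hi⟩ := h.nat F hF
  have s4 : S.map (πG p G) ≤ Nm(A' ⊔ B') := by
    rw [← (n.sylIn hi (h.rs.pg h.rt)).sup_pResidualOf, ← h.E_eq]
    exact le_normalizer_sup (map_le_Nm (h.S_le hq hP s s1.pgrp s2 s3.le)) s3.le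
  have b1 : ∀ C, Dc W A' C → ¬ A' ≤ Cz(C) → Nat.card (C ⊓ Nm(A') : Subgroup _) ≤ p :=
    fun C hC nc => by
    obtain ⟨g, hg, e⟩ := s3.exists_cj_le (h.rs.pg hC).to_inf_left (inf_le_right : C ⊓ Nm(A') ≤ _)
    rw [← card_cj g, cj_inf, cj_eq_of_mem hg] at *
    exact h.rs.card_inf_le h.rt (hC.cj g) h.o n hi (fun e => nc (by
      rwa [← cj_centralizer, le_cj_iff, cj_eq_of_mem_normalizer (inv_mem hg)] at e)) (e.trans s4)
  obtain ⟨T', t1, t2⟩ := exists_sylIn_ge s1.pgrp (le_top : S ≤ ⊤)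
  have BS := h.B_le_N.trans s2
  have d0 : ∀ C, Dc W A' C → ∀ c ∈ C, c ≠ 1 → c ∈ S.map (πG p G) → C ≤ Cz(A') :=
    fun C hC c hc c1 cS => by_contra fun nc => nc (h.rs.del_mod h.rt (h.rt.cj _) hC h.o (card_cj _ _)
      hC.card n hi h.bor h.nB (S := T'.map (πG p G)) (fun X e => ?_)
      (map_mono (h.ra.le.trans (BS.trans t2))) hc c1 (map_mono t2 cS) (s3.le cS)
      (Nm_le_st_fx _ (s4 cS)) ?_)
  · refine ⟨h.rs, h.card, fun C D hC hD nc c hc hn => by_contra fun c1 => nc ?_⟩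
    obtain ⟨g, rfl⟩ := hD.ex
    rw [← cj_normalizer, mem_cj] at hn
    have m : g⁻¹ * c * g ∈ cj g⁻¹ C := mem_cj.2 (by simpa [mul_assoc] using hc)
    obtain ⟨k, hk, e⟩ := s3.exists_cj_le ((h.rs.pg (hC.cj g⁻¹)).to_le (zpowers_le.2 m))
      (zpowers_le.2 hn)
    have := d0 _ ((hC.cj g⁻¹).cj k) _ (conj_mem_cj k m) (by simpa [mul_eq_one_iff_eq_inv] using c1)
      (e (conj_mem_cj k (mem_zpowers _)))
    rwa [cj_le_iff, cj_centralizer, cj_eq_of_mem_normalizer (inv_mem hk), cj_le_iff, inv_inv,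
      cj_centralizer] at this
  · have k := am_mono (ι := ι) e
    rw [h.br.am_fx (rl_mk _ _), h.br.am_fx (rl_comap_mk _ _)] at k
    rw [← map_comap_eq_self_of_surjective πG_surj X]
    exact map_mono ((le_Cz_comm ((le_inf (OZ_le_OZ_pCore t1 h.chp) (OZ_le_Cz _)).trans
      (k.trans inf_le_right))).trans ((Cz_le_cs' h.syl t1 (B_eq_of_B_le h.syl t1.pgrp (BS.trans t2))
        h.B_ne).trans h.cs))
  · obtain ⟨g, rfl⟩ := hC.ex
    rw [← card_cj g⁻¹, cj_inf, cj_normalizer, cj_inv_cj]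
    exact b1 _ ((dc_self h.rt).cj _) fun e => nc (by
      rwa [← cj_centralizer, le_cj_iff, inv_inv] at e)

theorem large (hq : 2 < q) {P : Subgroup G} (hP : T ≤ P) (s : SubnIn Op(p, L) P) : False := by
  have k := ((subnIn_of_normal (pResidualOf_le (p := p) _) (le_normalizer_pResidualOf _)).isSubnormal
    (h.ds.large (h.rc hq hP s) hq)).comap (πG p G)
  rw [← h.E_eq, comap_map_eq, πG_ker] at k
  exact h.nM (h.no _ (h.sb.gb (subnIn_top_iff.2 ((subnIn_of_normal le_sup_left (sup_le le_normalizer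
    ((Cz_anti h.lV).trans (h.blk h.sb.blk).Cz_le))).isSubnormal k))))

end MX

end CfH7
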