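import Cfsg.Agent.OD.Pre
import Cfsg.Agent.H7.GM10

/-! The local `C*(G,T)`-theorem: transvections, and the conclusion. -/

set_option autoImplicit false
set_option linter.unusedSectionVars false

open Cfsg Subgroup CfH9 CfLp Equiv
open scoped commutatorElement MatrixGroups

namespace CfH7

open CfH8 (BB JJ MaxEl)

universe u

variable {G : Type u} [Group G] [Finite G] {T M L : Subgroup G}

theorem MX.two {W : Type u} [AddCommGroup W] [DistribMulAction (G ⧸ Cz(VG 2 G)) W] [Finite W]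
    [FaithfulSMul (G ⧸ Cz(VG 2 G)) W] {ι : Multiplicative W →* G} {x y : G}
    (h : MX (p := 2) 2 T M L (zpowers x) ι y) (xx : x * x = 1)
    (x1 : ⁅zpowers x, BB 2 T⁆ ≤ bV 2 Op(2, L)) : False := by
  have b := h.blk h.sb.blk
  have n := h.nM
  have xA := (πG 2 G).map_zpowers x
  have tx : Td W ((zpowers x).map (πG 2 G)) (πG 2 G x) :=
    ⟨⟨xA ▸ h.rt, xA ▸ h.card⟩, 1, (cj_one _).trans xA⟩
  have yB : zpowers (πG 2 G y * πG 2 G x * (πG 2 G y)⁻¹) =
      cj (πG 2 G y) ((zpowers x).map (πG 2 G)) := by rw [xA, cj_zpowers]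
  obtain ⟨z, ts, k⟩ := h.ds.ts h.card
  obtain ⟨k1, k2⟩ := k _ _ tx (tx.conj _) xA.symm yB
  have xB := zpowers_le.1 h.ra.le
  obtain ⟨E, m, m0, l, sE, nE, dis, ρ, ψ, pd, inj⟩ :=
    ts.star tx ⟨x, CfH8.B_le T xB, rfl⟩ (tx.conj _) k1 k2
  rw [yB, ← xA] at l
  have r := rl_comap_mk Cz(VG 2 G) E
  obtain ⟨D, hD⟩ := h.br.exists_md r pd
  have xE : πG 2 G x ∈ E := l (mem_sup_left ⟨x, mem_zpowers x, rfl⟩)
  have ker : ∀ g, D.ρ g = 1 ↔ (g : G) ∈ Cz(VG 2 G) := fun g => by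
    rw [hD, map_eq_one_iff _ inj, Subtype.ext_iff]
    exact πG_eq_one
  have sw : ∀ t : E, Td W ((zpowers x).map (πG 2 G)) (t : G ⧸ Cz(VG 2 G)) → (ρ t).IsSwap :=
    fun t ht => by
    obtain ⟨X, h1, h2⟩ := h.lift_dc ht.dc
    have h3 : X ≤ E.comap (πG 2 G) := map_le_iff_le_comap.1 (h2.le.trans (zpowers_le.2 t.2))
    have bd : BD 2 D (((alternatingGroup _).comap D.ρ).map (Subgroup.subtype _)) (alternatingGroup _) ⊤ :=
      ⟨mdl_perm _, map_subtype_le _, by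
        rw [im, subgroupOf, comap_map_eq_self_of_injective (subtype_injective _),
          map_comap_eq_self_of_surjective (SY.surj D)], ker, elemAb_VG⟩
    obtain ⟨a, b, hab, y, hy, e⟩ := (bd.off_maxEl h1 le_top h3).1.exists_swap fun e =>
      ht.rt.ne (h2 ▸ (Subgroup.map_eq_bot_iff _).2 (πG_ker.ge.trans' ((im_eq_bot_iff ker h3).1 e)))
    refine ⟨a, b, hab, ?_⟩
    rw [← e, hD]
    refine congrArg ρ (Subtype.ext (ht.eq_of_mem (h2.le ⟨_, hy, rfl⟩) fun e' => ?_).symm)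
    rw [(ker y).2 (πG_eq_one.1 e')] at e
    exact hab (swap_eq_one_iff.1 e.symm)
  have sy : SY T (E.comap (πG 2 G)) Op(2, L) D ⟨x, xE⟩ := by
    refine ⟨h.syl, h.chp, fun X => h.le_R, h.Y_le_R, m0, fun g => (ker g).1, ?_,
      le_Nm_comap ?_, b.bk.B_le_Nm, map_le_iff_le_comap.1 (h.E_le.trans l), b.bk.res,
      (b.bk.RE_le h.syl).trans ((BLK.Q_eq_V b.bk (h.sb.cs.W_eq
        (CS.typeI h.sb.cs h.sb.good))).le.trans h.lV),
      fun e => n (e.trans h.CV), b.bk.ne, xB, Subtype.ext xx, hD _ ▸ sw ⟨_, xE⟩ tx,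
      fun g hg => ?_, fun hm => ?_⟩
    · rw [← inf_eq_left.2 (commutator_le_left (VG 2 G) _), inf_assoc, ← h.br.am_cm r,
        ← h.br.am_fx r, ← h.br.am_inf, dis, am_bot]
    · rw [← h.ra.sup, Subgroup.map_sup]
      exact sup_le (le_sup_left.trans (l.trans le_normalizer)) fun g hg =>
        nE g (map_mono (h.sb.cs.TS.trans (CfH8.B_le T)) hg)
          (h.T_le_Cz hg _ (mem_sup_right (yB.le (mem_zpowers _)))).symm
    · rw [b.bk.comm_V h.syl h.chp]
      exact comm_mem_of_le' x1 (mem_zpowers x) hg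
    · obtain ⟨a, b, hab, e⟩ := sw ⟨_, xE⟩ tx
      obtain ⟨i, j, n1, n2, n3, n4, n5⟩ : ∃ i j : Fin (2 * m + 1), i ≠ j ∧ i ≠ a ∧ i ≠ b ∧
          j ≠ a ∧ j ≠ b := by
        have := Finset.card_le_card_sdiff_add_card (s := Finset.univ) (t := {a, b})
        obtain ⟨i, hi, j, hj, e⟩ := Finset.one_lt_card.1 (show 1 < (Finset.univ \ {a, b}).card by
          have := Finset.card_le_two (a := a) (b := b)
          simp only [Finset.card_univ, Fintype.card_fin] at *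
          omega)
        simp only [Finset.mem_sdiff, Finset.mem_insert, Finset.mem_singleton, not_or] at hi hj
        exact ⟨i, j, e, hi.2.1, hi.2.2, hj.2.1, hj.2.2⟩
      obtain ⟨g, hg⟩ := pd.surj (swap a i * swap b j)
      have e1 : ρ (g * ⟨_, xE⟩ * g⁻¹) = swap i j := by
        rw [map_mul, map_mul, map_inv, e, ← swap_apply_apply, hg]
        simp [swap_apply_def, hab, hab.symm, n1, n1.symm, n2, n3, n4, n5, n2.symm, n3.symm, n4.symm,
          n5.symm]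
      have cm : zpowers (πG 2 G x) ≤ Cz(zpowers ((g : G ⧸ Cz(VG 2 G)) * πG 2 G x * (g : _)⁻¹)) := by
        rw [zpowers_le, Cz_zpowers, mem_centralizer_singleton_iff]
        refine congrArg Subtype.val (inj (a₁ := ⟨_, xE⟩ * (g * ⟨_, xE⟩ * g⁻¹))
          (a₂ := (g * ⟨_, xE⟩ * g⁻¹) * ⟨_, xE⟩) ?_)
        rw [map_mul, map_mul ρ _ ⟨_, xE⟩, e1, e, mul_swap_eq_swap_mul,
          swap_apply_of_ne_of_ne n2 n3, swap_apply_of_ne_of_ne n4 n5]
      obtain ⟨u, hu, e2⟩ := ((subnIn_top_iff.2 sE).sylIn_inf h.ds.syl).exists_cj_le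
        (elemAb_isPGroup (elemAb_sup (h.rs.el tx.rt) (h.rs.el (tx.conj g).rt) cm))
        (sup_le (zpowers_le.2 xE) (zpowers_le.2 (g * ⟨_, xE⟩ * g⁻¹).2))
      have key : ∀ t : E, Td W ((zpowers x).map (πG 2 G)) (t : G ⧸ Cz(VG 2 G)) →
          (t : G ⧸ Cz(VG 2 G)) ∈ T.map (πG 2 G) →
          t ≠ ⟨_, xE⟩ → ∃ y : E.comap (πG 2 G), (y : G) ∈ BB 2 T ∧ (D.ρ y).IsSwap ∧
            D.ρ y ≠ D.ρ ⟨x, xE⟩ := fun t h1 h2 h3 => by
        obtain ⟨y, hy, e⟩ := h.le_B h1.dc (zpowers_le.2 h2) (mem_zpowers _)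
        have : r.hom ⟨y, show πG 2 G y ∈ E from e ▸ t.2⟩ = t := Subtype.ext e
        exact ⟨⟨y, show πG 2 G y ∈ E from e ▸ t.2⟩, hy, by rw [hD, this]; exact sw t h1,
          by rw [hD, hD, this]; exact inj.ne h3⟩
      by_cases e3 : (⟨u, hu⟩ * ⟨_, xE⟩ * ⟨u, hu⟩⁻¹ : E) = ⟨_, xE⟩
      · refine key (⟨u, hu⟩ * (g * ⟨_, xE⟩ * g⁻¹) * ⟨u, hu⟩⁻¹) ((tx.conj g).conj u)
          (e2 (conj_mem_cj u (mem_sup_right (mem_zpowers _)))).1 fun e4 => ?_
        have := congrArg (· i) ((e1.symm.trans (congrArg ρ (mul_left_cancel (mul_right_cancel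
          (e4.trans e3.symm))))).trans e)
        simp only [swap_apply_left, swap_apply_of_ne_of_ne n2 n3] at this
        exact n1 this.symm
      · exact key _ (tx.conj u) (e2 (conj_mem_cj u (mem_sup_left (mem_zpowers _)))).1 e3
  exact n ((le_nclo _ _).trans (h.no _ ⟨sy.blk, subnIn_top_iff.2 ((subnIn_of_normal sy.le
    (right_le_Nm_nclo _ _)).isSubnormal (sE.comap _)), Or.inl (le_bot_iff.1 ((inf_le_inf_right _
      ((bV_le _).trans ((bW_le _).trans sy.core_eq.le))).trans sy.dis'.le)),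
    Or.inl ((bk_of sy.blk).exc.resolve_right fun e => absurd e.three (by decide))⟩))

variable {p : ℕ} [hp : Fact p.Prime]

theorem MC.false (h : MC p T M) : False := by
  obtain ⟨W, _, _, _, _, ι, b, hw⟩ := exists_br_quot (elemAb_VG (p := p) (G := G))
  have l : ML p T M W ι := ⟨h, b, h.rs b hw⟩
  obtain ⟨q, L, P, sb, hP, s⟩ := h.exists_sb
  by_cases hq : 2 < q
  · obtain ⟨A, ra⟩ := sb.exists_ra h.syl h.chp l.V_le_B
    obtain ⟨x, k⟩ := MR.exists_mx ⟨l, sb, ra⟩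
    exact k.large hq hP (s hq)
  obtain rfl : q = 2 := le_antisymm (not_lt.1 hq) sb.cs.one_lt_q
  obtain rfl : p = 2 := by
    obtain ⟨F, _, _, n, h1, h2⟩ := sb.fld
    exact ((Nat.Prime.pow_eq_iff Nat.prime_two).1 (h1.symm.trans h2)).1
  obtain ⟨x, ra, xx, x1⟩ := sb.exists_ra2 h.syl h.chp l.V_le_B
  obtain ⟨y, k⟩ := MR.exists_mx ⟨l, sb, ra⟩
  exact k.two xx x1

theorem core_full (G : Type u) [Group G] [Finite G] : CoreS p G ∧ FullS p G := by
  refine group_induction (P := fun G _ => CoreS p G ∧ FullS p G) (fun G _ _ ih => ?_) G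
  have k : ∀ H : Subgroup G, H ≠ ⊤ → CoreS p H ∧ FullS p H := fun H e => ih H (card_lt_of_ne_top e)
  have c : CoreS p G := fun T M h1 h2 h3 h4 => by_contra fun e => MC.false ⟨h1, h2, h3, h4,
    fun E hE => by_contra fun e' => e ⟨E, hE, e'⟩, fun H e => (k H e).1, fun H e => (k H e).2⟩
  exact ⟨c, full_of_core c fun H e => (k H e).2⟩

theorem local_cstar (hT : SylIn p T ⊤) (hG : Cz(pCore p G) ≤ pCore p G) :
    HasBaumannBlockStructure p T (SBk p T) := by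
  obtain ⟨c, f⟩ := core_full (p := p) G
  refine has_struct hT hG (top_unique ((c.sup_eq hT hG).ge.trans (sup_le_sup_left
    (sSup_le fun E hE => le_sSup (show E ∈ SBk p T from
      ⟨hE.1.blk, subnIn_top_iff.1 hE.1.sub, hE.2⟩)) _)))
    fun F h1 h2 => by_contra fun e => ?_
  obtain ⟨E, e1, e2⟩ := f T F hT hG h1 e
  exact (bk_of h1).not_le_Cz (h2.trans (Cz_anti (e2.trans (le_sSup (show E ∈ SBk p T from
    ⟨e1.blk, subnIn_top_iff.1 e1.sub, fun e' => e (e2.trans e')⟩)))))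

end CfH7
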