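import Cfsg.Agent.OD.Pre
import Cfsg.Agent.H7.GM11

/-! # Characteristic subgroups of `T` built from pairs of large elementary abelian subgroups -/

set_option autoImplicit false
set_option linter.unusedSectionVars false

open Cfsg Subgroup CfH9 CfLp Equiv
open scoped commutatorElement MatrixGroups

namespace CfH7

open CfH8 (BB JJ MaxEl)
open MulAction (orbit stabilizer)

universe u

section
variable {α : Type*} [Finite α] {P : Subgroup (Perm α)} {a b : α}

theorem card_orbit_mul (a : α) :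
    Nat.card (orbit P a) * Nat.card (P ⊓ stabilizer (Perm α) a : Subgroup _) = Nat.card P := by
  rw [Nat.card_coe_set_eq, ← MulAction.index_stabilizer, ← (stabilizer P a).index_mul_card,
    ← card_subgroupOf (inf_le_left : P ⊓ stabilizer (Perm α) a ≤ P), inf_subgroupOf_left]
  rfl

/-- a Sylow `2`-subgroup of a symmetric group has no two orbits of the same length -/
theorem mem_orbit_of_card (hP : SylIn 2 P ⊤) (h : Nat.card (P ⊓ stabilizer (Perm α) a : Subgroup _) =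
    Nat.card (P ⊓ stabilizer (Perm α) b : Subgroup _)) : b ∈ orbit P a := by
  classical
  by_contra hb
  have d : ∀ x ∈ orbit P a, x ∉ orbit P b := fun x h1 h2 =>
    hb ((MulAction.orbit_eq_iff.2 h1).le ((MulAction.orbit_eq_iff.2 h2).ge (MulAction.mem_orbit_self b)))
  obtain ⟨e⟩ : Nonempty (orbit P a ≃ orbit P b) := Finite.card_eq.1 (Nat.eq_of_mul_eq_mul_right
    Nat.card_pos ((card_orbit_mul a).trans (by rw [h, card_orbit_mul])))
  let f : α → α := fun x => if h : x ∈ orbit P a then e ⟨x, h⟩ else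
    if h : x ∈ orbit P b then e.symm ⟨x, h⟩ else x
  have f1 : ∀ x (h : x ∈ orbit P a), f x = e ⟨x, h⟩ := fun x h => dif_pos h
  have f2 : ∀ x (h : x ∈ orbit P b), f x = e.symm ⟨x, h⟩ := fun x h =>
    (dif_neg fun h' => d x h' h).trans (dif_pos h)
  have f3 : ∀ x, x ∉ orbit P a → x ∉ orbit P b → f x = x := fun x h h' =>
    (dif_neg h).trans (dif_neg h')
  have inv : Function.Involutive f := fun x => by
    by_cases h1 : x ∈ orbit P a
    · rw [f1 x h1, f2 _ (e _).2]; simp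
    by_cases h2 : x ∈ orbit P b
    · rw [f2 x h2, f1 _ (e.symm _).2]; simp
    rw [f3 x h1 h2, f3 x h1 h2]
  let K : Subgroup (Perm α) :=
    { carrier := {g | (∀ x, g x ∈ orbit P a ↔ x ∈ orbit P a) ∧ ∀ x, g x ∈ orbit P b ↔ x ∈ orbit P b}
      one_mem' := ⟨fun _ => Iff.rfl, fun _ => Iff.rfl⟩
      mul_mem' := fun h h' => ⟨fun x => (h.1 _).trans (h'.1 x), fun x => (h.2 _).trans (h'.2 x)⟩
      inv_mem' := fun {g} h => ⟨fun x => by rw [← h.1]; simp, fun x => by rw [← h.2]; simp⟩ }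
  have g1 : ∀ x, f x ∈ orbit P b ↔ x ∈ orbit P a := fun x => by
    refine ⟨fun h => ?_, fun h => f1 x h ▸ (e _).2⟩
    rw [← inv x, f2 _ h]; exact (e.symm _).2
  have g2 : ∀ x, f x ∈ orbit P a ↔ x ∈ orbit P b := fun x => by rw [← g1, inv]
  have o : ∀ (c : α) (s : P) x, s.1 x ∈ orbit P c ↔ x ∈ orbit P c := fun c s x =>
    ⟨fun h => inv_smul_smul s x ▸ MulAction.mem_orbit_of_mem_orbit s⁻¹ h,
      fun h => MulAction.mem_orbit_of_mem_orbit s h⟩
  have PK : P ≤ K := fun s hs => ⟨o a ⟨s, hs⟩, o b ⟨s, hs⟩⟩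
  have n : inv.toPerm f ∈ Nm(K) := mem_normalizer_of_conj_mem fun g hg =>
    ⟨fun x => (g2 _).trans ((hg.2 _).trans (g1 x)), fun x => (g1 _).trans ((hg.1 _).trans (g2 x))⟩
  obtain ⟨g, hg, k⟩ := (hP.mono (PK.trans le_normalizer) le_top).exists_conj_mem n (k := 1)
    (Equiv.ext inv)
  have := ((mem_normalizer_iff.1 hg _).2 (PK k)).1 a
  exact d a (MulAction.mem_orbit_self a) ((g2 a).1 (this.2 (MulAction.mem_orbit_self a)))

end

section
variable {G G' : Type*} [Group G] [Group G'] {T A A' : Subgroup G} {z : G} {f : G →* G'}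

/-- two large elementary abelian subgroups with a single commutator -/
structure OmD (T A A' : Subgroup G) (z : G) : Prop where
  m : MaxEl 2 A T
  m' : MaxEl 2 A' T
  n : ¬ A ≤ A'
  n' : ¬ A' ≤ A
  eq : ∀ a ∈ A, a ∉ A' → ∀ b ∈ A', b ∉ A → ⁅a, b⁆ = z
  sq : z * z = 1
  ne : z ≠ 1

def Om (T : Subgroup G) (z : G) : Prop := ∃ A A', OmD T A A' z

noncomputable def kz (T : Subgroup G) (z : G) : ℕ := Nat.card (T ⊓ Cz(zpowers z) : Subgroup G)

def XO (s : ℕ) (T : Subgroup G) : Subgroup G := closure {z | Om T z ∧ kz T z = s}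

theorem OmD.symm (h : OmD T A A' z) : OmD T A' A z :=
  ⟨h.m', h.m, h.n', h.n, fun a h1 h2 b h3 h4 => by
    rw [← commutatorElement_inv, h.eq b h3 h4 a h1 h2, inv_eq_of_mul_eq_one_right h.sq], h.sq, h.ne⟩

theorem Om.mem (h : Om T z) : z ∈ T := by
  obtain ⟨A, A', h⟩ := h
  obtain ⟨a, h1, h2⟩ := SetLike.not_le_iff_exists.1 h.n
  obtain ⟨b, h3, h4⟩ := SetLike.not_le_iff_exists.1 h.n'
  exact h.eq a h1 h2 b h3 h4 ▸ commutator_mem_left (h.m.le h1) (le_normalizer (h.m'.le h3))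

theorem Om.ne (h : Om T z) : z ≠ 1 := h.elim fun _ h => h.elim fun _ h => h.ne

theorem omD_map_iff (hf : Function.Injective f) :
    OmD (T.map f) (A.map f) (A'.map f) (f z) ↔ OmD T A A' z := by
  refine ⟨fun h => ⟨(CfH8.maxEl_map_iff hf).1 h.m, (CfH8.maxEl_map_iff hf).1 h.m',
    fun e => h.n (map_mono e), fun e => h.n' (map_mono e), fun a h1 h2 b h3 h4 => hf ?_,
    hf (by rw [map_mul, h.sq, map_one]), fun e => h.ne (by rw [e, map_one])⟩,
    fun h => ⟨h.m.map_of_injective hf, h.m'.map_of_injective hf,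
    fun e => h.n ((map_le_map_iff_of_injective hf).1 e),
    fun e => h.n' ((map_le_map_iff_of_injective hf).1 e), ?_, by rw [← map_mul, h.sq, map_one],
    fun e => h.ne (hf (e.trans (map_one f).symm))⟩⟩
  · rw [map_commutatorElement]
    exact h.eq _ ⟨a, h1, rfl⟩ (fun e => h2 ((mem_map_iff_mem hf).1 e)) _ ⟨b, h3, rfl⟩
      fun e => h4 ((mem_map_iff_mem hf).1 e)
  · rintro _ ⟨a, h1, rfl⟩ h2 _ ⟨b, h3, rfl⟩ h4
    rw [← map_commutatorElement, h.eq a h1 (fun e => h2 ⟨a, e, rfl⟩) b h3 fun e => h4 ⟨b, e, rfl⟩]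

theorem om_map_iff (hf : Function.Injective f) : Om (T.map f) (f z) ↔ Om T z := by
  refine ⟨fun ⟨A, A', h⟩ => ⟨A.comap f, A'.comap f, (omD_map_iff hf).1 ?_⟩,
    fun ⟨A, A', h⟩ => ⟨_, _, (omD_map_iff hf).2 h⟩⟩
  rwa [map_comap_eq_self (h.m.le.trans (map_le_range f T)),
    map_comap_eq_self (h.m'.le.trans (map_le_range f T))]

theorem kz_map (hf : Function.Injective f) : kz (T.map f) (f z) = kz T z := by
  rw [kz, kz, ← MonoidHom.map_zpowers, ← map_inf_Cz hf, card_map_of_injective hf]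

theorem map_XO (hf : Function.Injective f) (s : ℕ) (T : Subgroup G) :
    (XO s T).map f = XO s (T.map f) := by
  rw [XO, XO, MonoidHom.map_closure]
  congr 1
  ext y
  constructor
  · rintro ⟨z, ⟨h1, h2⟩, rfl⟩
    exact ⟨(om_map_iff hf).2 h1, (kz_map hf).trans h2⟩
  · rintro ⟨h1, h2⟩
    obtain ⟨z, -, rfl⟩ := h1.mem
    exact ⟨z, ⟨(om_map_iff hf).1 h1, (kz_map hf).symm.trans h2⟩, rfl⟩

end

section
variable {G : Type u} [Group G] {T C X : Subgroup G} {p : ℕ}

theorem char_of_nat (X : ∀ {H : Type u} [Group H], Subgroup H → Subgroup H)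
    (h : ∀ {H H' : Type u} [Group H] [Group H'] {f : H →* H'}, Function.Injective f →
      ∀ S, (X S).map f = X (S.map f)) (T : Subgroup G) : ((X T).subgroupOf T).Characteristic := by
  have : (X T).subgroupOf T = X ⊤ := by
    have := h T.subtype_injective ⊤
    rw [map_subtype_top] at this
    rw [← this]
    exact comap_map_eq_self_of_injective T.subtype_injective _
  rw [this]
  exact characteristic_iff_map_eq.2 fun e => by rw [h e.injective, map_top_equiv]

theorem Nm_le_C1 (h1 : C ≤ T) (h2 : C ≠ ⊥) (h3 : (C.subgroupOf T).Characteristic) :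
    Nm(C) ≤ charNormalizersJoin T :=
  le_iSup (fun C : {C : Subgroup G // C ≤ T ∧ C ≠ ⊥ ∧ (C.subgroupOf T).Characteristic} =>
    Nm(C.1)) ⟨C, h1, h2, h3⟩

theorem cs_le_C1 [Finite G] (h : OZ p T ≠ ⊥) : cStarOf p T ≤ charNormalizersJoin T := by
  refine cs_le ((centralizer_le_normalizer _).trans (Nm_le_C1 (OZ_le _) h
    (char_of_nat (fun S => OZ p S) (fun hf S => map_OZ_inj hf S) T))) fun C h1 h2 h3 =>
    Nm_le_C1 (h1.trans (CfH8.B_le T)) h2 ?_
  have c := char_of_nat (fun S => BB p S) (fun hf S => map_B_inj hf S) T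
  refine characteristic_iff_map_le.2 fun e => ?_
  rintro _ ⟨x, hx, rfl⟩
  obtain ⟨y, hy, e'⟩ := char_inv (T.subtype.comp (e.toMonoidHom.comp (inclusion (CfH8.B_le T))))
    (T.subtype_injective.comp (e.injective.comp (inclusion_injective _)))
    (fun y => characteristic_iff_map_le.1 c e ⟨inclusion (CfH8.B_le T) y, y.2, rfl⟩)
    (C.subgroupOf _) (x := ⟨x, h1 hx⟩) hx
  exact mem_subgroupOf.2 (Set.mem_of_eq_of_mem e'.symm hy)

theorem mem_C1 {z₁ z₂ z₀ g : G} (h1 : Om T z₁) (h2 : Om T z₂) (ne : kz T z₁ ≠ kz T z₂)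
    (h : ∀ z, Om T z → z ≠ z₀ → z * g = g * z) : g ∈ charNormalizersJoin T := by
  obtain ⟨z, o, n⟩ : ∃ z, Om T z ∧ kz T z ≠ kz T z₀ := by
    by_cases e : kz T z₁ = kz T z₀
    exacts [⟨z₂, h2, fun e' => ne (e.trans e'.symm)⟩, ⟨z₁, h1, e⟩]
  refine Nm_le_C1 (C := XO (kz T z) T) ((closure_le _).2 fun y hy => hy.1.mem)
    (fun e => o.ne (mem_bot.1 (e.le (subset_closure ⟨o, rfl⟩))))
    (char_of_nat (fun S => XO (kz T z) S) (fun hf S => map_XO hf _ S) T)
    (centralizer_le_normalizer _ ?_)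
  rw [XO, centralizer_closure]
  exact fun y hy => h y hy.1 fun e => n (hy.2.symm.trans (e ▸ rfl))

end

end CfH7
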