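import Cfsg.Agent.OD.Pre
import Cfsg.Agent.H7.GM12

/-! # The local `C(G,T)`-theorem -/

set_option autoImplicit false
set_option linter.unusedSectionVars false

open Cfsg Subgroup CfH9 CfLp Equiv
open scoped commutatorElement MatrixGroups

namespace CfH7

open CfH8 (BB JJ MaxEl)
open MulAction (orbit stabilizer)

universe u

section
variable {G : Type*} [Group G] [Finite G] {T E F A A' : Subgroup G} {z : G}

theorem zp_two {x y : G} (xx : x ^ 2 = 1) (h : y ∈ zpowers x) : y = 1 ∨ y = x := by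
  obtain ⟨k, rfl⟩ := h
  rcases Int.even_or_odd' k with ⟨j, e | e⟩ <;> simp only [e, _root_.zpow_add, _root_.zpow_mul,
    zpow_ofNat, xx, _root_.one_zpow, one_mul, pow_one, true_or, or_true]

theorem om_of {x : G} (hA : MaxEl 2 A T) (xT : x ∈ T) (xx : x ^ 2 = 1) (xn : x ∉ A) (zA : z ∈ A)
    (z1 : z ≠ 1) (h : ∀ u ∈ A, ⁅x, u⁆ = 1 ∨ ⁅x, u⁆ = z) : Om T z := by
  have n : A ⊓ Cz(zpowers x) ≤ Nm(zpowers x) := inf_le_right.trans (centralizer_le_normalizer _)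
  have el := elemAb_sup (elemAb_of_le (inf_le_left : A ⊓ Cz(zpowers x) ≤ A) hA.el)
    (CfH8.elemAb_zpowers xx) inf_le_right
  have o : ∀ {y : G}, y ^ 2 = 1 → y ≠ 1 → Nat.card (zpowers y) = 2 := fun h1 h2 => by
    rw [Nat.card_zpowers, orderOf_eq_prime h1 h2]
  have x2 := o xx fun e => xn (e ▸ one_mem _)
  have c1 := card_sup_mul_card_inf n
  have c2 := card_le_comm (V := A) (R := zpowers z) (b := x) fun u hu =>
    (h u hu).elim (fun e => e ▸ one_mem _) fun e => e ▸ mem_zpowers _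
  rw [show (A ⊓ Cz(zpowers x)) ⊓ zpowers x = ⊥ from le_bot_iff.1 fun y hy =>
    (zp_two xx hy.2).resolve_right fun e => xn (e ▸ hy.1.1), card_bot, mul_one, x2] at c1
  rw [o (hA.el.2 z zA) z1, mul_comm, ← c1] at c2
  have xm : x ∈ (A ⊓ Cz(zpowers x)) ⊔ zpowers x := mem_sup_right (mem_zpowers x)
  refine ⟨_, A, hA.of_card_le (sup_le (inf_le_left.trans hA.le) (zpowers_le.2 xT)) el c2, hA,
    fun e => xn (e xm), fun e => xn (hA.mem_of_mem_Cz xT xx (Cz_anti e (elemAb_le_Cz el xm))),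
    fun y h1 h2 u h3 h4 => ?_, by rw [← sq, hA.el.2 z zA], z1⟩
  obtain ⟨e, he, y, hy, rfl⟩ := (mem_sup_of_le_Nm n).1 h1
  obtain rfl : x = y := ((zp_two xx hy).resolve_left fun e' => h2 (by simpa [e'] using he.1)).symm
  have c := elemAb_le_Cz hA.el
  rw [commutatorElement_mul_left_eq_conj_mul, (h u h3).resolve_left fun e' => h4 (mem_sup_left (mi h3 (by
    rw [Cz_zpowers, mem_Cx]; exact (commutatorElement_eq_one_iff_mul_comm.1 e').symm))),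
    conj_eq_of_mem_centralizer (c he.1) zA, commutatorElement_eq_one_iff_mul_comm.2 (c h3 e he.1),
    mul_one]

theorem OmD.aux (h : OmD T A A' z) {V : Subgroup G} (hV : IsElementaryAbelian 2 V) (l : V ≤ T)
    (n : ¬ V ⊓ Cz(A') ≤ Cz(A)) :
    ∃ v ∈ V, v ∉ Cz(A) ∧ ∀ a ∈ A, ⁅a, v⁆ ≠ 1 → ⁅a, v⁆ = z := by
  obtain ⟨v, hv, h1⟩ := SetLike.not_le_iff_exists.1 n
  exact ⟨v, hv.1, h1, fun a ha h2 => h.eq a ha
    (fun e => h2 (commutatorElement_eq_one_iff_mul_comm.2 (hv.2 a e))) v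
    (h.m'.mem_of_mem_Cz (l hv.1) (hV.2 v hv.1) hv.2) fun e => h1 (elemAb_le_Cz h.m.el e)⟩

theorem OmD.pair (h : OmD T A A' z) {P : Type*} [Group P] {X : Subgroup G} {π : X →* P}
    (hA : A ≤ X) (e : im π A ≤ im π A') (n : ∀ x : X, (x : G) ∈ A → π x = 1 → (x : G) ∈ A') :
    ∃ b b' : X, (b : G) ∈ A ∧ (b : G) ∉ A' ∧ (b' : G) ∈ A' ∧ (b' : G) ∉ A ∧ π b = π b' := by
  obtain ⟨a, h1, h2⟩ := SetLike.not_le_iff_exists.1 h.n
  obtain ⟨b, hb, e⟩ := e (mem_im (x := ⟨a, hA h1⟩) h1)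
  refine ⟨⟨a, hA h1⟩, b, h1, h2, hb, fun h3 => h2 ?_, e.symm⟩
  exact (mul_mem_cancel_left (inv_mem hb)).1 (n (b⁻¹ * ⟨a, hA h1⟩) (mul_mem (inv_mem h3) h1)
    (by rw [map_mul, map_inv, e, inv_mul_cancel]))

theorem BLK.Q_two (h : BLK 2 T F) : pCoreOf 2 F = bV 2 F :=
  BLK.Q_eq_V h.bk (h.bk.exc.resolve_right fun e => absurd e.three (by decide))

theorem BLK.om_cases (h : BLK 2 T F) (o : Om T z) : z ∈ Cz(F) ∨
    ∃ A v, MaxEl 2 A T ∧ v ∈ bV 2 F ∧ v ∉ Cz(A) ∧ ∀ a ∈ A, ⁅a, v⁆ ≠ 1 → ⁅a, v⁆ = z := by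
  obtain ⟨A, A', o⟩ := o
  by_cases e1 : bV 2 F ⊓ Cz(A') ≤ Cz(A); swap
  · obtain ⟨v, h1, h2⟩ := o.aux (elemAb_bV F) h.V_le_T e1
    exact Or.inr ⟨A, v, o.m, h1, h2⟩
  by_cases e2 : bV 2 F ⊓ Cz(A) ≤ Cz(A'); swap
  · obtain ⟨v, h1, h2⟩ := o.symm.aux (elemAb_bV F) h.V_le_T e2
    exact Or.inr ⟨A', v, o.m', h1, h2⟩
  left
  obtain ⟨P, Z, _, _, _, _, _, _, R, S', S, Y, D, b, -⟩ :=
    exists_bd h.blk (X := Nm(F)) le_normalizer (Nm_le_Nm_bV F) (Or.inl le_rfl)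
  have k : ∀ {A A' : Subgroup G}, MaxEl 2 A T → MaxEl 2 A' T → bV 2 F ⊓ Cz(A') ≤ Cz(A) →
      im D.ρ A ≤ im D.ρ A' := fun {A A'} m m' e => by
    have l := m.le_J.trans h.J_le_Nm
    have l' := m'.le_J.trans h.J_le_Nm
    obtain ⟨o1, o2⟩ := b.off_maxEl m' h.V_le_T l'
    exact (im_le_im_iff b.ker l l').2 fun a ha => b.fix' l' o1 (l ha)
      ((elemAb_isPGroup m.el).to_le (zpowers_le.2 ha)) (o2 ▸ le_Cz_comm e ha)
  have l := o.m.le_J.trans h.J_le_Nm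
  have l' := o.m'.le_J.trans h.J_le_Nm
  obtain ⟨x, x', h1, h2, h3, h4, h5⟩ : ∃ b b' : Nm(F), (b : G) ∈ A ∧ (b : G) ∉ A' ∧
      (b' : G) ∈ A' ∧ (b' : G) ∉ A ∧ D.ρ b = D.ρ b' := by
    by_cases n : ∀ x : Nm(F), (x : G) ∈ A → D.ρ x = 1 → (x : G) ∈ A'
    · exact o.pair l (k o.m o.m' e1) n
    by_cases n' : ∀ x : Nm(F), (x : G) ∈ A' → D.ρ x = 1 → (x : G) ∈ A
    · obtain ⟨x, x', h1, h2, h3, h4, h5⟩ := o.symm.pair l' (k o.m' o.m e2) n'
      exact ⟨x', x, h3, h4, h1, h2, h5.symm⟩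
    push Not at n n'
    obtain ⟨x, h1, h2, h3⟩ := n
    obtain ⟨x', h4, h5, h6⟩ := n'
    exact ⟨x, x', h1, h3, h4, h6, h2.trans h5.symm⟩
  have s1 : (x : G)⁻¹ = x := inv_eq_of_mul_eq_one_right ((sq _).symm.trans (o.m.el.2 _ h1))
  have s2 : (x' : G)⁻¹ = x' := inv_eq_of_mul_eq_one_right ((sq _).symm.trans (o.m'.el.2 _ h3))
  have c : (x * x'⁻¹ : Nm(F)).1 ∈ Cz(bV 2 F) :=
    (b.ker _).1 (by rw [map_mul, map_inv, h5, mul_inv_cancel])
  have e : z = (x * x'⁻¹ : Nm(F)).1 * (x * x'⁻¹ : Nm(F)).1 := by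
    rw [← o.eq _ h1 h2 _ h3 h4, commutatorElement_def]
    simp only [Subgroup.coe_mul, Subgroup.coe_inv, s1, s2, mul_assoc]
  generalize x * x'⁻¹ = y at c e
  intro f hf
  have u : ⁅(y : G), f⁆ ∈ bV 2 F := h.Q_two.le (h.bk.comm_le_Q (zpowers_le.2 y.2) (zpowers_le.2 c)
    (commutator_mem_commutator (mem_zpowers _) hf))
  have k : (y : G) * f = ⁅(y : G), f⁆ * (f * y) := by group
  rw [e, mul_assoc, k, ← mul_assoc (y : G), ← c _ u, mul_assoc, ← mul_assoc (y : G), k,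
    ← mul_assoc ⁅_, _⁆, ← mul_assoc ⁅_, _⁆, ← sq ⁅_, _⁆, (elemAb_bV (p := 2) F).2 _ u, one_mul, mul_assoc]

theorem BLK.ln_le (h : BLK 2 T F) (l : Ln 2 F) {z₁ z₂ : G} (h1 : Om T z₁) (h2 : Om T z₂)
    (ne : kz T z₁ ≠ kz T z₂) : F ≤ charNormalizersJoin T := by
  have k : ∀ z, Om T z → z ∉ Cz(F) → PCl 2 F ∧ z ∈ bV 2 F ⊓ Cz(JJ 2 T) := fun z o n => by
    obtain ⟨A, v, m, hv, n1, e⟩ := (h.om_cases o).resolve_left n
    have lA := m.le_J.trans h.J_le_Nm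
    obtain ⟨a, ha, n2⟩ : ∃ a ∈ A, ⁅a, v⁆ ≠ 1 := by
      by_contra! c
      exact n1 fun a ha => commutatorElement_eq_one_iff_mul_comm.1 (c a ha)
    refine ⟨?_, e a ha n2 ▸ mi (commutator_mem_right hv (Nm_le_Nm_bV F (lA ha)))
      (blk_quad h.blk h.syl.pgrp h.V_le_T h.J_le_Nm ((commutator_comm _ _).le
        (commutator_mem_commutator (m.le_J ha) hv)))⟩
    obtain ⟨K, _, _, l⟩ := l
    obtain ⟨n, hK⟩ := l.card
    obtain ⟨R, D, b⟩ := l.bd h.bk (X := Nm(F)) le_normalizer (Nm_le_Nm_bV F) (Or.inl le_rfl)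
    obtain ⟨o1, o2⟩ := b.off_maxEl m h.V_le_T lA
    have lm := lm_slN (F := K)
    obtain ⟨s, hs⟩ := (lm.off hK o1.el o1.eq.ge).resolve_left fun e =>
      n1 (le_Cz_comm ((im_eq_bot_iff b.ker lA).1 e) hv)
    have r : Rt (Fin 2 → K) (im D.ρ A) := hs ▸ lm.rt_U.cj _
    have nf : D.c v ∉ fx (Fin 2 → K) (im D.ρ A) := fun e =>
      n1 (o2.le ((D.pre_fx (rl_map D.ρ lA)).le ⟨hv, e⟩)).2
    have k : ∀ g ∈ im D.ρ A, g ≠ 1 → g • D.c v - D.c v = D.c z := by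
      rintro _ ⟨x, hx, rfl⟩ h1
      rw [← D.c_comm x hv, e x hx fun e' => nf (r.cent _ (mem_im hx) h1 _ (by
        rw [← sub_eq_zero, ← D.c_comm x hv, e', D.c_one]))]
    rw [l.pcl_iff h.bk]
    refine sf_of_card (le_trans ?_ (by decide : 2 ≤ 3))
    rw [← Nat.card_eq_fintype_card, ← lm.card_U, ← card_cj (slN K s), ← hs]
    classical
    refine (Nat.card_le_card_of_injective (fun g : im D.ρ A => decide (g = 1))
      fun g g' e' => ?_).trans (by simp)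
    by_cases c : g = 1
    · rw [c, of_decide_eq_true (e'.symm.trans (decide_eq_true c))]
    have c' : g' ≠ 1 := fun c' => c (of_decide_eq_true (e'.trans (decide_eq_true c')))
    refine inv_mul_eq_one.1 (Subtype.ext (by_contra fun c'' => nf (r.cent _ (g⁻¹ * g').2 c'' _ ?_)))
    rw [Subgroup.coe_mul, mul_smul, sub_left_injective ((k _ g'.2 fun e => c' (Subtype.ext e)).trans
      (k _ g.2 fun e => c (Subtype.ext e)).symm), Subgroup.coe_inv, inv_smul_smul]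
  by_cases e : ∃ z₀, Om T z₀ ∧ z₀ ∉ Cz(F); swap
  · exact fun g hg => mem_C1 (z₀ := 1) h1 h2 ne fun z o _ =>
      (by_contra (fun c => e ⟨z, o, c⟩) g hg).symm
  obtain ⟨z₀, o₀, n₀⟩ := e
  obtain ⟨pc, m₀⟩ := k z₀ o₀ n₀
  refine fun g hg => mem_C1 (z₀ := z₀) h1 h2 ne fun z o n =>
    (by_contra (fun c => ?_ : z ∉ Cz(F) → False) g hg).symm
  have c4 := ((blk_typ h.blk).resolve_left fun e => e.2 pc).2
  have c1 : Nat.card (bV 2 F ⊓ Cz(JJ 2 T) : Subgroup G) ≠ 4 := fun e => h.bk.not_J_le h.syl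
    (le_Cz_comm ((eq_of_le_of_card_ge inf_le_left (by rw [e, c4])).ge.trans inf_le_right))
  have c2 := card_dvd_of_le (inf_le_left : bV 2 F ⊓ Cz(JJ 2 T) ≤ _)
  have c3 : Nat.card (Fin 3) ≤ Nat.card (bV 2 F ⊓ Cz(JJ 2 T) : Subgroup G) :=
    Nat.card_le_card_of_injective ![1, ⟨z, (k z o c).2⟩, ⟨z₀, m₀⟩] fun i j => by
      have := o.ne
      have := o₀.ne
      fin_cases i <;> fin_cases j <;> simp [*, Subtype.ext_iff, eq_comm, n.symm]
  rw [c4] at c2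
  have := Nat.le_of_dvd (by decide) c2
  rw [Nat.card_fin] at c3
  generalize Nat.card (bV 2 F ⊓ Cz(JJ 2 T) : Subgroup G) = t at *
  interval_cases t <;> omega

theorem im_incl {P : Type*} [Group P] {X K : Subgroup G} {π : X →* P} (h : K ≤ X) (hA : A ≤ K) :
    im (π.comp (inclusion h)) A = im π A := le_antisymm
  (by rintro _ ⟨x, hx, rfl⟩; exact ⟨_, hx, rfl⟩)
  (by rintro _ ⟨x, hx, rfl⟩; exact ⟨⟨x, hA hx⟩, hx, rfl⟩)

theorem BD.resE {p : ℕ} {P Z : Type*} [Group P] [AddCommGroup Z] [DistribMulAction P Z]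
    {R S' S : Subgroup P} {Y : AddSubgroup Z} {N V V₀ K : Subgroup G} {D : MD R Y N V V₀}
    (b : BD p D E S' S) (h : K ≤ N) (hE : E ≤ K) : BD p (D.resE h) E S' S :=
  ⟨b.mdl, hE, (im_incl h hE).trans b.im, fun x => b.ker ⟨x, h x.2⟩, b.el⟩

variable {m : ℕ} {R : Subgroup (Perm (Fin (2 * m + 1)))} {w : Fin (2 * m + 1)}

theorem BLK.pr {D : MD R (evn (2 * m + 1)) (E ⊔ BB 2 T) (bV 2 E) (bV0 2 E)} (h : BLK 2 T E)
    (b : BD 2 D E (alternatingGroup (Fin (2 * m + 1))) ⊤) (hw : ∀ s ∈ im D.ρ (BB 2 T), s w = w) :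
    ∀ c, c ≠ w → ∃ d, c ≠ d ∧ swap c d ∈ im D.ρ (BB 2 T) := by
  obtain ⟨eJ, o, e, ne⟩ := h.imB b
  set L := im D.ρ (BB 2 T)
  have pg : ∀ X : Subgroup (Perm (Fin (2 * m + 1))), IsPGroup 2 X → IsPGroup 2 (prim D.ρ X) :=
    fun X => isPGroup_prim b.ker (h.bk.kp h.syl.pgrp)
  have fx : ∀ {c}, (∀ s ∈ L, s c = c) → ∀ j, c ≠ j → swap c j ∉ L := fun hc j h1 h2 =>
    h1 ((swap_apply_left _ j).symm.trans (hc _ h2)).symm
  intro c hc
  by_cases k : ∀ s ∈ L, s c = c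
  · obtain ⟨a, a', aa, ha⟩ := o.exists_swap ne
    have n : ∀ {c}, (∀ s ∈ L, s c = c) → c ≠ a ∧ c ≠ a' := fun hc =>
      ⟨by rintro rfl; exact fx hc _ aa ha, by rintro rfl; exact fx hc _ aa.symm (swap_comm a _ ▸ ha)⟩
    obtain ⟨x, -, hx⟩ := b.im.ge (dbl_mem_alt (n k).1.symm (n hw).2.symm)
    have k1 := o.cj_dbl ha aa hc (n k).1 (n k).2 (n hw).1 (n hw).2
      (fun j h1 h2 => (fx k j h1 h2).elim) fun j h1 h2 => (fx hw j h1 h2).elim
    have k2 := pg _ (elemAb_isPGroup (elemAb_sup o.el (CfH8.elemAb_zpowers (p := 2)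
      (x := swap c w) (by simp [sq])) fun s hs => by
        rw [Cz_zpowers, mem_centralizer_singleton_iff, mul_swap_eq_swap_mul, k s hs, hw s hs]))
    have lJ := (CfH8.J_le_B T).trans (le_sup_right : _ ≤ E ⊔ BB 2 T)
    have k3 := J_eq_of_J_le' (h.syl.cj_top x) k2 (by
      rw [← CfH8.cj_J]
      exact le_prim (cj_le_of_mem lJ x.2) (by rw [im_cj, hx, ← eJ]; exact k1))
    rw [J_eq_of_J_le' h.syl k2 (le_prim lJ (eJ.ge.trans le_sup_left)), ← CfH8.cj_J] at k3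
    have k4 := conj_mem_cj (D.ρ x) ha
    obtain ⟨e1, e2, -, -⟩ := dbl_apply aa hc (n k).1 (n k).2 (n hw).1 (n hw).2
    rw [eJ, ← im_cj, ← k3, ← eJ, ← swap_apply_apply, hx, e1, e2] at k4
    exact (fx k _ hc k4).elim
  · push Not at k
    obtain ⟨s, hs, k⟩ := k
    exact ⟨s c, k.symm, o.swap_mem hs k⟩

/-- the data of a split symmetric block -/
structure SD (T E : Subgroup G) (D : MD R (evn (2 * m + 1)) Nm(E) (bV 2 E) (bV0 2 E))
    (w : Fin (2 * m + 1)) : Prop extends BLK 2 T E where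
  bd : BD 2 D E (alternatingGroup (Fin (2 * m + 1))) ⊤
  sp : bV0 2 E = ⊥
  eJ : im D.ρ (BB 2 T) = im D.ρ (JJ 2 T)
  off : Off (PV (2 * m + 1)) 2 (im D.ρ (BB 2 T))
  fix : ∀ s ∈ im D.ρ (BB 2 T), s w = w
  pr : ∀ c, c ≠ w → ∃ d, c ≠ d ∧ swap c d ∈ im D.ρ (BB 2 T)

theorem SymB.sd (l : SymB E m) (h : BLK 2 T E) (e : bV0 2 E = ⊥) :
    ∃ (R : Subgroup (Perm (Fin (2 * m + 1)))) (D : MD R (evn (2 * m + 1)) Nm(E) (bV 2 E) (bV0 2 E))
      (w : Fin (2 * m + 1)), SD T E D w := by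
  obtain ⟨R, D, b⟩ := l.bd h.bk (X := Nm(E)) le_normalizer (Nm_le_Nm_bV E) (Or.inl le_rfl)
  have b' := b.resE h.bk.nH le_sup_left
  obtain ⟨eJ, o, -, -⟩ := h.imB b'
  obtain ⟨w, hw⟩ := (elemAb_isPGroup o.el).nonempty_fixed_point_of_prime_not_dvd_card
    (Fin (2 * m + 1)) (by simp)
  replace hw : ∀ s ∈ im (D.resE h.bk.nH).ρ (BB 2 T), s w = w := fun s hs => hw ⟨s, hs⟩
  have pr := h.pr b' hw
  have e1 : im (D.resE h.bk.nH).ρ (BB 2 T) = im D.ρ (BB 2 T) := im_incl _ le_sup_right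
  have e2 : im (D.resE h.bk.nH).ρ (JJ 2 T) = im D.ρ (JJ 2 T) :=
    im_incl _ ((CfH8.J_le_B T).trans le_sup_right)
  rw [e1] at eJ o hw pr
  exact ⟨R, D, w, h, b, e, eJ.trans e2, o, hw, pr⟩

namespace SD

variable {D : MD R (evn (2 * m + 1)) Nm(E) (bV 2 E) (bV0 2 E)} (h : SD T E D w)
include h

theorem inj {u v : G} (hu : u ∈ bV 2 E) (hv : v ∈ bV 2 E) (e : D.c u = D.c v) : u = v :=
  inv_mul_eq_one.1 (mem_bot.1 (h.sp.le ((D.c_eq_iff hu hv).1 e)))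

theorem comm_iff (x : Nm(E)) {v : G} (hv : v ∈ bV 2 E) :
    (x : G) * v = v * x ↔ D.ρ x • D.c v = D.c v := by
  rw [← D.act x v hv, ← mul_inv_eq_iff_eq_mul]
  exact ⟨fun e => by rw [e], h.inj (conj_mem_of_mem_normalizer (D.n x.2) hv) hv⟩

theorem om_cases (o : Om T z) : z ∈ Cz(E) ∨
    z ∈ bV 2 E ∧ ∃ a b, a ≠ b ∧ swap a b ∈ im D.ρ (BB 2 T) ∧ D.c z = pe a b := by
  refine (h.toBLK.om_cases o).imp_right fun ⟨A, v, m, hv, n, e⟩ => ?_
  have lA := m.le_J.trans h.J_le_Nm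
  obtain ⟨a, b, ab, ⟨x, hx, e1⟩, e2⟩ :
      ∃ a b, a ≠ b ∧ swap a b ∈ im D.ρ A ∧ swap a b • D.c v ≠ D.c v := by
    by_contra! c
    exact n fun y hy => (h.comm_iff ⟨y, lA hy⟩ hv).2 (mem_of_swaps (K := stabilizer _ (D.c v))
      fun i hi => c _ _ hi.symm ((h.bd.off_maxEl m h.V_le_T lA).1.swap_mem (mem_im hy) hi))
  have e3 := e x hx fun e' =>
    e2 (e1 ▸ (h.comm_iff x hv).1 (commutatorElement_eq_one_iff_mul_comm.1 e'))
  refine ⟨e3 ▸ commutator_mem_right hv (D.n x.2), a, b, ab,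
    im_mono (m.le_J.trans (CfH8.J_le_B T)) ⟨x, hx, e1⟩, ?_⟩
  rw [← sub_ne_zero, swap_smul_sub] at e2
  rw [← e3, D.c_comm x hv, e1, swap_smul_sub,
    (zmod2_cases (D.c v a + D.c v b)).resolve_left fun e' => e2 (by rw [e', zero_smul]), one_smul]

theorem om {a b : Fin (2 * m + 1)} (ab : a ≠ b) (hs : swap a b ∈ im D.ρ (BB 2 T))
    (hz : z ∈ bV 2 E) (e : D.c z = pe a b) : Om T z := by
  obtain ⟨A, hA, s, hs', n⟩ : ∃ A, MaxEl 2 A T ∧ ∃ s ∈ im D.ρ A, s a ≠ a := by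
    by_contra! c
    have : JJ 2 T ≤ prim D.ρ (stabilizer _ a) := CfH8.J_le_iff.2 fun A hA =>
      le_prim (hA.le_J.trans h.J_le_Nm) (c A hA)
    obtain ⟨x, hx, e⟩ := h.eJ.le hs
    exact ab ((show D.ρ x a = a from mem_prim.1 (this hx)).symm.trans (e ▸ swap_apply_left a b))
  have lA := hA.le_J.trans h.J_le_Nm
  have k := (h.bd.off_maxEl hA h.V_le_T lA).1.swap_mem hs' n
  rw [h.off.pair hs (im_mono (hA.le_J.trans (CfH8.J_le_B T)) k) ab n.symm] at k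
  obtain ⟨x, hx, ex⟩ := k
  have c := elemAb_le_Cz (elemAb_bV (p := 2) E)
  refine om_of (x := x) (h.maxEl_repl hA) (hA.le hx) (hA.el.2 _ hx) (fun e' => ?_) (mem_sup_right hz)
    (fun e' => ?_) fun u hu => ?_
  · have := (h.bd.ker x).2 (sup_le inf_le_right c e')
    exact ab (swap_eq_one_iff.1 (ex.symm.trans this))
  · have := congrFun (e.symm.trans (e' ▸ D.c_one)) a
    simp [pe_apply, ab, pv_zero] at this
  · obtain ⟨d, hd, v, hv, rfl⟩ :=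
      (mem_sup_of_le_Nm (inf_le_right.trans (centralizer_le_normalizer _))).1 hu
    have u := commutator_mem_right hv (D.n x.2)
    rw [commutatorElement_mul_right_eq_mul_conj, commutatorElement_eq_one_iff_mul_comm.2
      (elemAb_le_Cz hA.el hd.1 (x : G) hx), one_mul, conj_eq_of_mem_centralizer hd.2 u]
    have := D.c_comm x hv
    rw [ex, swap_smul_sub] at this
    refine (zmod2_cases (D.c v a + D.c v b)).imp (fun e' => h.inj u (one_mem _) ?_)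
      fun e' => h.inj u hz ?_
    · rw [this, e', zero_smul, D.c_one]
    · rw [this, e', one_smul, e]

theorem ne_w {a b : Fin (2 * m + 1)} (ab : a ≠ b) (hs : swap a b ∈ im D.ρ (BB 2 T)) : a ≠ w := by
  rintro rfl
  exact ab ((h.fix _ hs).symm.trans (swap_apply_left a b))

theorem le_C1 {z₁ z₂ : G} (h1 : Om T z₁) (h2 : Om T z₂) (ne : kz T z₁ ≠ kz T z₂)
    (hc : cStarOf 2 T ≤ charNormalizersJoin T) : E ≤ charNormalizersJoin T := by
  set Y := im D.ρ (charNormalizersJoin T ⊓ (E ⊔ BB 2 T))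
  have k : ∀ c, swap c w ∈ Y := fun c => by
    by_cases cw : c = w
    · rw [cw, swap_self]; exact one_mem _
    obtain ⟨d, cd, hd⟩ := h.pr c cw
    have dw := h.ne_w cd.symm (swap_comm c d ▸ hd)
    obtain ⟨g, hg, eg⟩ :=
      h.bd.im.ge (Perm.isThreeCycle_swap_mul_swap_same cd cw dw).mem_alternatingGroup
    obtain ⟨z₀, hz₀, e₀⟩ := D.c_surj _ (pe_mem c d)
    refine (mul_mem_cancel_left (im_mono (le_inf (B_le_cs.trans hc) le_sup_right) hd)).1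
      (eg ▸ mem_im (mi (mem_C1 (z₀ := z₀) h1 h2 ne fun z o n => ?_) (mem_sup_left hg)))
    rcases h.om_cases o with e | ⟨hz, a, b, ab, hs, e⟩
    · exact (e _ hg).symm
    have k : ∀ {a b}, a ≠ b → swap a b ∈ im D.ρ (BB 2 T) → D.c z = pe a b → D.ρ g a = a := by
      intro a b ab hs e
      have ac : a ≠ c := by
        rintro rfl
        exact n (h.inj hz hz₀ (by rw [e, e₀, h.off.pair hd hs cd ab]))
      have ad : a ≠ d := by
        rintro rfl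
        exact n (h.inj hz hz₀ (by rw [e, e₀, h.off.pair (swap_comm c a ▸ hd) hs cd.symm ab, pe_comm]))
      rw [eg, Perm.mul_apply, swap_apply_of_ne_of_ne ac (h.ne_w ab hs), swap_apply_of_ne_of_ne ac ad]
    refine ((h.comm_iff g hz).2 ?_).symm
    rw [e, smul_pe, k ab hs e, k ab.symm (swap_comm a b ▸ hs) (e.trans (pe_comm a b))]
  intro f hf
  obtain ⟨y, hy, e⟩ : D.ρ ⟨f, le_normalizer hf⟩ ∈ Y := mem_of_swaps fun i hi => by
    generalize D.ρ ⟨f, le_normalizer hf⟩ i = j at hi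
    by_cases e : i = w
    · exact e ▸ swap_comm j w ▸ k j
    by_cases e' : j = w
    · exact e' ▸ k i
    rw [← swap_mul_swap_mul_swap (x := j) (y := w) (z := i) e' hi, swap_comm w i]
    exact mul_mem (mul_mem (k i) (k j)) (k i)
  rw [← mul_inv_cancel_left (y : G) f]
  refine mul_mem hy.1 (hc (h.toBLK.nb (τ := D.ρ.comp (inclusion h.bk.nH)) (fun x => h.bd.ker _)
    (x := ⟨_, mul_mem (inv_mem hy.2) (mem_sup_left hf)⟩) ?_))
  rw [show D.ρ.comp (inclusion h.bk.nH) ⟨_, mul_mem (inv_mem hy.2) (mem_sup_left hf)⟩ =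
    D.ρ (y⁻¹ * ⟨f, le_normalizer hf⟩) from rfl, map_mul, map_inv, e, inv_mul_cancel]
  exact one_mem _

theorem kz_eq (hE : E ∈ SBk 2 T) {a b : Fin (2 * m + 1)} (ab : a ≠ b)
    (hs : swap a b ∈ im D.ρ (BB 2 T)) (hz : z ∈ bV 2 E) (e : D.c z = pe a b) :
    kz T z = Nat.card (im D.ρ T ⊓ stabilizer (Perm _) a : Subgroup _) * 2 *
      Nat.card (T ⊓ Cz(bV 2 E) : Subgroup G) := by
  have l : T ⊓ Cz(zpowers z) ≤ Nm(E) := fun t ht => by_contra fun n => (h.om ab hs hz e).ne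
    (mem_bot.1 (h.sp.le (mi hz (comm_eq_bot_right.1 (SBk.comm h.syl h.chp hE
      (SBk.cj h.syl h.chp hE (T_le_cs ht.1)) fun e => n (mem_normalizer_iff_cj.2 e.symm))
      (conj_eq_of_mem_centralizer ht.2 (mem_zpowers z) ▸ conj_mem_cj t (bV_le' E hz))))))
  have lB : im D.ρ (BB 2 T) ≤ im D.ρ T := im_mono (CfH8.B_le T)
  have k : ∀ s ∈ im D.ρ T ⊓ stabilizer (Perm _) a, s b = b := by
    rintro _ ⟨⟨t, ht, rfl⟩, e⟩
    have := conj_mem_cj (D.ρ t) hs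
    rw [← im_cj, cj_eq_of_mem_normalizer (g := (t : G)) (CfH8.Nm_le_Nm_B T (le_normalizer ht)),
      ← swap_apply_apply, show D.ρ t a = a from e] at this
    exact h.off.pair hs this ab fun e' => ab ((D.ρ t).injective (Eq.trans e e'))
  have n : im D.ρ T ⊓ stabilizer (Perm _) a ≤ Nm(zpowers (swap a b)) := fun s hs =>
    centralizer_le_normalizer _ (by
      rw [Cz_zpowers, mem_Cx, mul_swap_eq_swap_mul, k s hs, show s a = a from hs.2])
  have c := card_sup_mul_card_inf n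
  rw [show (im D.ρ T ⊓ stabilizer (Perm _) a) ⊓ zpowers (swap a b) = ⊥ from le_bot_iff.1 fun y hy =>
    (mem_zpowers_swap hy.2).resolve_right fun e => ab ((show y a = a from hy.1.2).symm.trans
      (e ▸ swap_apply_left a b)), card_bot, mul_one, card_zpowers_swap ab] at c
  rw [kz, ← card_im h.bd.ker l, ← c, inf_assoc, inf_of_le_right (Cz_anti (zpowers_le.2 hz))]
  congr 3
  have k1 : ∀ x : Nm(E), (x : G) ∈ Cz(zpowers z) ↔ D.ρ x • pe a b = pe a b := fun x => by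
    rw [Cz_zpowers, mem_Cx, h.comm_iff x hz, e]
  refine le_antisymm ?_ (sup_le ?_ (zpowers_le.2 ?_))
  · rintro _ ⟨x, hx, rfl⟩
    have k2 := congrFun ((k1 x).1 hx.2) (D.ρ x a)
    have k3 := mem_im (π := D.ρ) hx.1
    by_cases e1 : D.ρ x a = a
    · exact mem_sup_left (mi k3 e1)
    by_cases e2 : D.ρ x a = b
    · rw [← mul_inv_cancel_left (swap a b) (D.ρ x)]
      refine mul_mem (mem_sup_right (mem_zpowers _)) (mem_sup_left (mi (mul_mem (inv_mem (lB hs)) k3) ?_))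
      change swap a b (D.ρ x a) = a
      rw [e2, swap_apply_right]
    simp [pv_smul, pe_apply, e1, e2, ab] at k2
  · rintro _ ⟨⟨x, hx, rfl⟩, e1⟩
    exact mem_im (mi hx ((k1 x).2 (by
      rw [smul_pe, k _ ⟨mem_im hx, e1⟩, show D.ρ x a = a from e1])))
  · obtain ⟨x, hx, e1⟩ := lB hs
    exact e1 ▸ mem_im (mi hx ((k1 x).2 (by
      rw [e1, smul_pe, swap_apply_left, swap_apply_right, pe_comm])))

theorem pow (hE : E ∈ SBk 2 T) (hm : m ≠ 0) (e : ∀ z z', Om T z → Om T z' → kz T z = kz T z') :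
    ∃ n, 2 * m = 2 ^ n := by
  have lB : im D.ρ (BB 2 T) ≤ im D.ρ T := im_mono (CfH8.B_le T)
  obtain ⟨a, aw⟩ := @exists_ne (Fin (2 * m + 1)) (Fin.nontrivial_iff_two_le.2 (by omega)) w
  obtain ⟨b, ab, hs⟩ := h.pr a aw
  have s1 : SylIn 2 (im D.ρ (T ⊓ E)) (alternatingGroup _) := h.bd.im ▸
    ((sylIn_subgroupOf_iff (inf_le_right.trans le_normalizer) le_normalizer).2
      ((subnIn_top_iff.2 hE.2.1).sylIn_inf h.syl)).map D.ρ
  have s2 : SylIn 2 (im D.ρ T) ⊤ := ⟨le_top, isPGroup_im h.syl.pgrp, fun Q hQ _ l q hq => by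
    have k := (s1.max (Q ⊓ alternatingGroup _) hQ.to_inf_left inf_le_right
      (le_inf ((im_mono inf_le_left).trans l) s1.le)).trans (im_mono inf_le_left)
    rcases Int.units_eq_one_or (Perm.sign q) with e | e
    · exact k (mi hq e)
    · exact (mul_mem_cancel_left (lB hs)).1 (k (mi (mul_mem (l (lB hs)) hq)
        (by simp [ab, e])))⟩
  have fw : ∀ s ∈ im D.ρ T, s w = w := by
    rintro _ ⟨t, ht, rfl⟩
    by_contra n
    obtain ⟨d, h1, h2⟩ := h.pr _ n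
    have := conj_mem_cj (D.ρ t⁻¹) h2
    rw [← im_cj, cj_eq_of_mem_normalizer (g := (t⁻¹ :).1)
      (CfH8.Nm_le_Nm_B T (le_normalizer (inv_mem ht))), ← swap_apply_apply] at this
    exact h.ne_w ((D.ρ t⁻¹).injective.ne h1) this (by simp)
  have o : orbit (im D.ρ T) a = {w}ᶜ := by
    refine subset_antisymm ?_ fun c hc => mem_orbit_of_card s2 ?_
    · rintro _ ⟨s, rfl⟩ e
      exact aw (s.1.injective (Eq.trans e (fw s s.2).symm))
    obtain ⟨d, cd, hd⟩ := h.pr c hc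
    obtain ⟨z, hz, ez⟩ := D.c_surj _ (pe_mem a b)
    obtain ⟨y, hy, ey⟩ := D.c_surj _ (pe_mem c d)
    have := e z y (h.om ab hs hz ez) (h.om cd hd hy ey)
    rw [h.kz_eq hE ab hs hz ez, h.kz_eq hE cd hd hy ey] at this
    exact Nat.eq_of_mul_eq_mul_right two_pos (Nat.eq_of_mul_eq_mul_right Nat.card_pos this)
  obtain ⟨n, hn⟩ := s2.pgrp.card_orbit a
  rw [o, Nat.card_coe_set_eq, Set.ncard_compl, Set.ncard_singleton, Nat.card_fin] at hn
  exact ⟨n, hn⟩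

end SD

end

variable {G : Type u} [Group G] [Finite G] {p : ℕ} [hp : Fact p.Prime] {T E : Subgroup G}

theorem SBk.sp (hT : SylIn p T ⊤) (hG : Cz(pCore p G) ≤ pCore p G) (h : E ∈ SBk p T) :
    bV0 p E = ⊥ ∨ Ln p E := by
  obtain ⟨F, h1, h2⟩ := (core_full (p := p) G).2 T E hT hG h.1 h.2.2
  obtain rfl := (BLK.eq_or_comm ⟨hT, hG, h.1⟩ ⟨hT, hG, h1.blk⟩ h.2.1
    (subnIn_top_iff.1 h1.sub)).resolve_right fun e =>
    (bk_of h.1).not_le_Cz (h2.trans (comm_eq_bot_right.1 e))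
  exact h1.sp

theorem local_c (hT : SylIn p T ⊤) (hG : Cz(pCore p G) ≤ pCore p G)
    (hne : charNormalizersJoin T ≠ ⊤) (h : E ∈ SBk p T) : Deg p E := by
  by_cases l : Ln p E
  · obtain ⟨F, _, _, l⟩ := l
    obtain ⟨D⟩ := l.md
    exact deg_of_lin h.1 (quot_of_hom D.ρ ((bk_of h.1).ρ_eq_one D (sl_faith _)) D.range)
  obtain ⟨rfl, m, s⟩ := (blk_kind h.1).resolve_left l
  obtain ⟨R, D, w, d⟩ := s.sd ⟨hT, hG, h.1⟩ ((SBk.sp hT hG h).resolve_right l)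
  intro k hk
  obtain ⟨D'⟩ := s.md
  obtain rfl : k = m := deg_alt (fun e => blk_quot_ne h.1 (e ▸ hk)) s.ne (hk.some.symm.trans
    (quot_of_hom D'.ρ ((bk_of h.1).ρ_eq_one D' fun r _ => perm_faith r) D'.range).some)
  refine (d.pow h s.ne fun z z' h1 h2 => by_contra fun ne => hne (top_unique ?_)).imp
    fun n e => by rw [e]
  have c : cStarOf 2 T ≤ charNormalizersJoin T := cs_le_C1 fun e => (bk_of h.1).ne (by
    rw [e, commutator_bot_right])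
  refine (local_cstar (p := 2) hT hG).2.2.2.1.ge.trans (sup_le c (sSup_le fun F hF => ?_))
  by_cases l : Ln 2 F
  · exact BLK.ln_le ⟨hT, hG, hF.1⟩ l h1 h2 ne
  obtain ⟨-, m, s⟩ := (blk_kind hF.1).resolve_left l
  obtain ⟨R, D, w, d⟩ := s.sd ⟨hT, hG, hF.1⟩ ((SBk.sp hT hG hF).resolve_right l)
  exact d.le_C1 h1 h2 ne c

end CfH7
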