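import Cfsg.Agent.OD.Pre
import Cfsg.Agent.H7.PMS4
import Cfsg.Agent.H7.Components

/-! Offenders and components, first part: the diagonal subgroups. -/

set_option autoImplicit false
set_option linter.unusedSectionVars false

open Cfsg Subgroup CfH9
open scoped commutatorElement

namespace CfH7

section grp

variable {G : Type*} [Group G] {K N : Subgroup G} {p : ℕ}

theorem mem_Cz_of_perfect (hK : ⁅K, K⁆ = K) {b : G} (hb : b ∈ Nm(K))
    (e : ∀ k ∈ K, ⁅k, b⁆ ∈ Cz(K)) : b ∈ Cz(K) := by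
  have h1 : ⁅K, zpowers b⁆ ≤ Cz(K) :=
    commutator_le_of_le_secCz (zpowers_le.2 (mem_secCz.2 ⟨Nm_le_Nm_Cz K hb, e⟩))
  rw [commutator_comm] at h1
  exact comm_eq_bot_left.1 (commutator_eq_bot_of_perfect hK (comm_eq_bot_left.2 h1)) (mem_zpowers b)

theorem qs_le_of (h : IsQuasisimple K) (hn : K ≤ Nm(N)) {x z : G} (hx : x ∈ K) (hx' : x ∉ Cz(K))
    (hz : z ∈ Cz(K)) (e : x * z ∈ N) : K ≤ N :=
  (qs_normal h hn).resolve_left fun hc => hx' (mem_Cz_of_perfect (qs_perfect h) (le_normalizer hx)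
    fun k hk => hc (mi (commutator_mem_left hk (le_normalizer hx)) (by
      have := commutator_mem_right e (hn hk)
      rwa [show ⁅k, x * z⁆ = ⁅k, x⁆ by
        simp only [commutatorElement_def, mul_inv_rev]
        rw [show k * (x * z) * k⁻¹ = k * x * (z * k⁻¹) by group, ← hz _ (inv_mem hk)]; group] at this)))

theorem qs_exists_notMem (h : IsQuasisimple K) : ∃ x ∈ K, x ∉ Cz(K) :=
  SetLike.not_le_iff_exists.1 (qs_not_le_centralizer h)

/-- partial products along the orbit of `a` -/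
def yy (a : G) (n : ℕ) (k : G) : G := (k * a) ^ n * (a ^ n)⁻¹

theorem yy_succ (a : G) (n : ℕ) (k : G) : yy a (n + 1) k = yy a n k * (a ^ n * k * (a ^ n)⁻¹) := by
  unfold yy; rw [pow_succ, pow_succ]; group

theorem yy_succ' (a : G) (n : ℕ) (k : G) : yy a (n + 1) k = k * (a * yy a n k * a⁻¹) := by
  unfold yy; rw [pow_succ', pow_succ]; group

theorem yy_mem {a k : G} (hk : k ∈ K) (n : ℕ) (h : ∀ i < n, cj (a ^ i) K ≤ N) : yy a n k ∈ N := by
  induction n with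
  | zero => simp [yy]
  | succ n ih =>
    rw [yy_succ]
    exact mul_mem (ih fun i hi => h i (by omega)) (h n (by omega) (conj_mem_cj _ hk))

variable [Finite G] [hp : Fact p.Prime]

theorem comp_cj (hK : IsComponent K) (g : G) : IsComponent (cj g K) := component_conj hK g

theorem comp_le_Cz (hK : IsComponent K) {L : Subgroup G} (hL : IsComponent L) (h : K ≠ L) :
    K ≤ Cz(L) := comm_eq_bot_left.1 ((component_eq_or_commutator_eq_bot hK hL).resolve_left h)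

theorem pow_notMem {a : G} (ha : a ^ p = 1) (h : a ∉ N) {i : ℕ} (h0 : 0 < i) (h1 : i < p) :
    a ^ i ∉ N := fun e => h (by
  obtain ⟨m, hm⟩ := exists_pow_eq_self_of_coprime (x := a) (n := i) (by
    refine Nat.Coprime.coprime_dvd_right (orderOf_dvd_of_pow_eq_one ha) ?_
    exact (Nat.coprime_of_lt_prime h0.ne' h1 hp.out).symm)
  exact hm ▸ pow_mem e m)

theorem cj_pow_le_Cz (hK : IsComponent K) {a : G} (ha : a ^ p = 1) (h : a ∉ Nm(K)) {i j : ℕ}
    (h0 : i < j) (h1 : j < p) : cj (a ^ i) K ≤ Cz(cj (a ^ j) K) :=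
  comp_le_Cz (comp_cj hK _) (comp_cj hK _) fun e => by
    obtain ⟨m, rfl⟩ := Nat.exists_eq_add_of_lt h0
    rw [add_assoc, pow_add, cj_mul, cj_inj] at e
    exact pow_notMem ha h (by omega) (by omega) (mem_normalizer_iff_cj.2 e.symm)

theorem yy_mul (hK : IsComponent K) {a : G} (ha : a ^ p = 1) (h : a ∉ Nm(K)) {k k' : G}
    (hk : k ∈ K) (hk' : k' ∈ K) (n : ℕ) (hn : n ≤ p) : yy a n (k * k') = yy a n k * yy a n k' := by
  induction n with
  | zero => simp [yy]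
  | succ n ih =>
    have := yy_mem hk' n (fun i hi => cj_pow_le_Cz hK ha h hi hn) _ (conj_mem_cj (a ^ n) hk)
    rw [yy_succ, yy_succ, yy_succ, ih (by omega), mul_assoc (yy a n k) (a ^ n * k * _),
      ← mul_assoc _ (yy a n k'), this]
    group

theorem yy_p {a : G} (ha : a ^ p = 1) (k : G) : yy a p k = (k * a) ^ p := by
  rw [yy, ha, inv_one, mul_one]

/-- the diagonal homomorphism -/
noncomputable def yH (hK : IsComponent K) {a : G} (ha : a ^ p = 1) (h : a ∉ Nm(K)) : K →* G :=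
  MonoidHom.mk' (fun k => ((k : G) * a) ^ p) fun k k' => by
    rw [← yy_p ha, ← yy_p ha, ← yy_p ha]; exact yy_mul hK ha h k.2 k'.2 p le_rfl

theorem y_mem {a k : G} (ha : a ^ p = 1) (hk : k ∈ K) (h : ∀ i, cj (a ^ i) K ≤ N) :
    (k * a) ^ p ∈ N := yy_p ha k ▸ yy_mem hk p fun i _ => h i

theorem y_dec {a k : G} (ha : a ^ p = 1) (hk : k ∈ K)
    (h : ∀ i, 0 < i → i < p → cj (a ^ i) K ≤ N) : k⁻¹ * (k * a) ^ p ∈ N := by
  obtain ⟨n, hn⟩ := Nat.exists_eq_succ_of_ne_zero hp.out.ne_zero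
  rw [← yy_p ha, hn, yy_succ', inv_mul_cancel_left]
  refine mem_cj_inv.1 (yy_mem hk n fun i hi => ?_)
  rw [le_cj_iff, inv_inv, ← cj_mul, ← pow_succ']
  exact h _ (by omega) (by omega)

theorem y_dec_Cz (hK : IsComponent K) {a k : G} (ha : a ^ p = 1) (h : a ∉ Nm(K)) (hk : k ∈ K) :
    k⁻¹ * (k * a) ^ p ∈ Cz(K) := y_dec ha hk fun i h0 h1 => by
  have := le_Cz_comm (cj_pow_le_Cz hK ha h h0 h1)
  rwa [pow_zero, cj_one] at this

theorem y_comm (hK : IsComponent K) {a k : G} (ha : a ^ p = 1) (h : a ∉ Nm(K)) (hk : k ∈ K) :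
    k * (k * a) ^ p = (k * a) ^ p * k := by
  have := y_dec_Cz hK ha h hk k hk
  rw [mul_inv_cancel_left] at this
  rw [this, ← mul_assoc, ← mul_assoc, mul_inv_cancel, one_mul, ← this]

theorem y_comm' (hK : IsComponent K) {a k : G} (ha : a ^ p = 1) (h : a ∉ Nm(K)) (hk : k ∈ K) :
    a * (k * a) ^ p = (k * a) ^ p * a := by
  have h1 : k * a * (k * a) ^ p = (k * a) ^ p * (k * a) := by rw [← pow_succ, ← pow_succ']
  rw [← mul_assoc, ← y_comm hK ha h hk, mul_assoc, mul_assoc] at h1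
  exact mul_left_cancel h1

theorem y_conj {a b : G} (h : b * a = a * b) (k : G) :
    b * (k * a) ^ p * b⁻¹ = (b * k * b⁻¹ * a) ^ p := by
  rw [← conj_pow, show b * (k * a) * b⁻¹ = b * k * b⁻¹ * (b * a * b⁻¹) by group, h,
    mul_inv_cancel_right]

end grp

section

variable {P : Type*} [Group P] {W : Type*} [AddCommGroup W] [DistribMulAction P W] {p : ℕ}
  [Finite P] {A K : Subgroup P}

theorem mem_tr_bot {U : AddSubgroup W} {g : P} : g ∈ tr P U ⊥ bot_le ↔ ∀ u ∈ U, g • u = u :=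
  ⟨fun h _ hu => sub_eq_zero.1 (tr_apply h hu), fun h => mem_tr fun u hu => sub_eq_zero.2 (h u hu)⟩

theorem le_tr_bot {U : AddSubgroup W} : A ≤ tr P U ⊥ bot_le ↔ U ≤ fx W A :=
  ⟨fun h _ hu _ ha => mem_tr_bot.1 (h ha) _ hu, fun h a ha => mem_tr_bot.2 fun _ hu => h hu a ha⟩

theorem le_tr_top {U : AddSubgroup W} : A ≤ tr P ⊤ U le_top ↔ cm W A ≤ U :=
  le_tr.trans (Iff.symm (cm_le_iff.trans ⟨fun h a ha w _ => h a ha w, fun h a ha w => h a ha w trivial⟩))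

theorem le_fx_of_perfect (hK : ⁅K, K⁆ = K) {X Y : AddSubgroup W} (h : Y ≤ X)
    (h1 : ∀ k ∈ K, ∀ x ∈ X, k • x - x ∈ Y) (h2 : Y ≤ fx W K) : X ≤ fx W K := by
  rw [← le_tr_bot, ← hK, commutator_le]
  intro g hg k hk
  refine mem_tr_bot.2 fun x hx => ?_
  have e : ∀ k ∈ K, ∀ x ∈ X, k • x ∈ X := fun k hk x hx => by
    simpa using X.add_mem (h (h1 k hk x hx)) hx
  obtain ⟨y, hy, rfl⟩ : ∃ y ∈ X, k • g • y = x :=
    ⟨g⁻¹ • k⁻¹ • x, e _ (inv_mem hg) _ (e _ (inv_mem hk) _ hx), by simp⟩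
  have a1 := h2 (h1 k hk y hy) g hg
  have a2 := h2 (h1 g hg y hy) k hk
  rw [smul_sub] at a1 a2
  simp only [commutatorElement_def, mul_smul, inv_smul_smul]
  rw [eq_add_of_sub_eq a1, eq_add_of_sub_eq a2]; abel

theorem fx_eq_top_of_perfect (hK : ⁅K, K⁆ = K) (h : cm W K ≤ fx W K) : fx W K = ⊤ :=
  top_unique (le_fx_of_perfect hK le_top (fun _ hk x _ => sub_mem_cm hk x) h)

variable (W p) in
/-- an elementary abelian subgroup moving a component -/
structure PG (A K : Subgroup P) : Prop where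
  hp : ∀ w : W, p • w = 0
  el : IsElementaryAbelian p A
  co : IsComponent K
  nt : fx W K ≠ ⊤
  nn : ¬ A ≤ Nm(K)

variable (W p) in
/-- the diagonal subgroups fix the commutator spaces -/
def St (A K : Subgroup P) : Prop :=
  ∀ a ∈ A, a ∉ Nm(K) → ∀ k ∈ K, ∀ w : W, (k * a) ^ p • (a • w - w) = a • w - w

variable [hp : Fact p.Prime] [Finite W]

namespace PG

theorem comm (h : PG W p A K) {a b : P} (ha : a ∈ A) (hb : b ∈ A) : a * b = b * a :=
  comm_iff.1 h.el.1 a ha b hb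

theorem Nm_cj (h : PG W p A K) {a b : P} (ha : a ∈ A) (hb : b ∈ A) :
    a ∈ Nm(cj b K) ↔ a ∈ Nm(K) := by
  rw [← cj_normalizer, mem_cj, mul_assoc, h.comm ha hb, inv_mul_cancel_left]

theorem inf_le (h : PG W p A K) : K ⊓ tr P ⊤ (⊥ : AddSubgroup W) le_top ≤ Cz(K) :=
  (qs_normal h.co.2 fun g _ => mem_Nm_tr (mem_st_top g) (mem_st_bot g)).resolve_right fun e =>
    h.nt (top_unique (le_tr_bot.1 e))

theorem star_cj (h : PG W p A K) (s : St W p A K) {b : P} (hb : b ∈ A) : St W p A (cj b K) := by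
  intro a ha hn k hk w
  obtain ⟨k', hk', rfl⟩ := mem_cj'.1 hk
  obtain ⟨w, rfl⟩ : ∃ v, b • v = w := ⟨b⁻¹ • w, smul_inv_smul b w⟩
  rw [← y_conj (h.comm hb ha), smul_smul a b, h.comm ha hb, mul_smul b a, ← smul_sub, mul_smul,
    mul_smul, inv_smul_smul, s a ha (mt (h.Nm_cj ha hb).2 hn) k' hk']

theorem r2 (h : PG W p A K) (s : St W p A K) {a b : P} (ha : a ∈ A) (hn : a ∉ Nm(K)) (hb : b ∈ A)
    (h1 : cj b K ≠ K) (h2 : cj b K ≠ cj a K) : cm W K ≤ fx W (cj b K) := by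
  obtain ⟨x, hx, hx'⟩ := qs_exists_notMem h.co.2
  have cJ := comp_cj h.co b
  have ap := h.el.2 a ha
  have hn' := mt (h.Nm_cj ha hb).1 hn
  obtain ⟨k, hk, hk', e⟩ : ∃ k ∈ cj b K, k ∉ Cz(cj b K) ∧ x * (k * a) ^ p = (k * a) ^ p * x := by
    by_cases e : ∃ c ∈ zpowers a, cj b K = cj c K
    · obtain ⟨c, hc, e⟩ := e
      have c1 : c * a = a * c := (zpowers_le.2 (mem_Cx.2 rfl) : zpowers a ≤ Cx(a)) hc |> mem_Cx.1
      have c2 : c ∈ Cx((x * a) ^ p) := zpowers_le.2 (mem_Cx.2 (y_comm' h.co ap hn hx)) hc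
      refine ⟨c * x * c⁻¹, e ▸ conj_mem_cj c hx, ?_, ?_⟩
      · rwa [e, ← cj_centralizer, conj_mem_cj_iff]
      · rw [← y_conj c1, mem_Cx'.1 c2]; exact y_comm h.co ap hn hx
    · obtain ⟨k, hk, hk'⟩ := qs_exists_notMem cJ.2
      refine ⟨k, hk, hk', y_mem (N := Cz(K)) ap hk (fun i => comp_le_Cz (comp_cj cJ _) h.co fun e' =>
        e ⟨(a ^ i)⁻¹, inv_mem (pow_mem (mem_zpowers a) i), cj_eq_iff.1 e'⟩) x hx⟩
  have j1 : cj b K ≤ Cz(K) := comp_le_Cz cJ h.co h1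
  have j2 : a * x⁻¹ * a⁻¹ ∈ Cz(cj b K) :=
    le_Cz_comm (comp_le_Cz cJ (comp_cj h.co a) h2) (conj_mem_cj a (inv_mem hx))
  have j3 : x * (a * x⁻¹ * a⁻¹) ∈ Cz(cj b K) := mul_mem (le_Cz_comm j1 hx) j2
  have j4 : cj b K ≤ tr P (dl W (x * (a * x⁻¹ * a⁻¹))).range ⊥ bot_le := by
    refine qs_le_of cJ.2 (fun j hj => mem_Nm_tr (mem_st_range_dl (j3 j hj)) (mem_st_bot j)) hk hk'
      (y_dec_Cz cJ ap hn' hk) (mem_tr_bot.2 ?_)
    rintro _ ⟨w, rfl⟩
    have s1 := h.star_cj s hb a ha hn' k hk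
    have : dl W (x * (a * x⁻¹ * a⁻¹)) w = x • (a • (x⁻¹ • a⁻¹ • w) - x⁻¹ • a⁻¹ • w) -
        (a • (a⁻¹ • w) - a⁻¹ • w) := by
      change (x * (a * x⁻¹ * a⁻¹)) • w - w = _
      simp only [mul_smul, smul_sub, smul_inv_smul]; abel
    rw [this, mul_inv_cancel_left, smul_sub, s1, smul_smul, ← e, mul_smul, s1]
  refine le_tr_top.1 (qs_le_of h.co.2 (fun g hg => mem_Nm_tr (mem_st_top g)
    (Nm_le_st_fx _ (Cz_le_Nm _ (le_Cz_comm j1 hg)))) hx hx' ?_
    (mem_tr fun w _ => le_tr_bot.1 j4 (mem_range_dl.2 ⟨w, rfl⟩)))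
  exact comp_le_Cz (comp_cj h.co a) h.co (fun e => hn (mem_normalizer_iff_cj.2 e))
    (conj_mem_cj a (inv_mem hx))

theorem r3 (h : PG W p A K) (s : St W p A K) {a b : P} (ha : a ∈ A) (hn : a ∉ Nm(K)) (hb : b ∈ A)
    (hn' : b ∉ Nm(K)) : cj a K = cj b K := by
  by_contra hne
  have c1 : ∀ c ∈ A, c ∉ Nm(K) → cm W K ≤ fx W (cj c K) := fun c hc h1 => by
    by_cases e : cj c K = cj a K
    · exact h.r2 s hb hn' hc (mt mem_normalizer_iff_cj.2 h1) (e ▸ hne)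
    · exact h.r2 s ha hn hc (mt mem_normalizer_iff_cj.2 h1) e
  have ap := h.el.2 a ha
  have c2 : cm W (cj a K) ≤ fx W K := by
    have := cm_le_fx_cj (c1 _ (inv_mem ha) (mt inv_mem_iff.1 hn)) a
    rwa [cj_cj_inv] at this
  refine h.nt (fx_eq_top_of_perfect (qs_perfect h.co.2) (le_fx_of_perfect (qs_perfect h.co.2)
    (inf_le_left (b := fx W K)) (fun k hk v hv => ?_) inf_le_right))
  refine ⟨sub_mem_cm hk v, ?_⟩
  have c3 := mem_tr_bot.1 (y_dec ap hk fun i h0 h1 =>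
    le_tr_bot.2 (c1 _ (pow_mem ha i) (pow_notMem ap hn h0 h1))) v hv
  rw [mul_smul, inv_smul_eq_iff] at c3
  have c4 := s a ha hn k hk v
  rw [smul_sub, smul_smul, ← y_comm' h.co ap hn hk, mul_smul, c3] at c4
  have : k • v - v = a • (k • v - v) := by rw [smul_sub, eq_add_of_sub_eq c4]; abel
  exact this ▸ c2 (smul_mem_cm_cj a (sub_mem_cm hk v))

theorem mul_mem_Nm (h : PG W p A K) (s : St W p A K) {a b : P} (ha : a ∈ A) (hn : a ∉ Nm(K))
    (hb : b ∈ A) (hn' : b ∉ Nm(K)) : a * b ∈ Nm(K) := by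
  rw [mem_normalizer_iff_cj, cj_mul, h.r3 s hb hn' (inv_mem ha) (mt inv_mem_iff.1 hn), cj_cj_inv]

theorem two (h : PG W p A K) (s : St W p A K) : p = 2 := by
  obtain ⟨a, ha, hn⟩ := SetLike.not_le_iff_exists.1 h.nn
  by_contra e
  exact pow_notMem (h.el.2 a ha) hn two_pos (lt_of_le_of_ne hp.out.two_le (Ne.symm e))
    (by rw [pow_two]; exact h.mul_mem_Nm s ha hn ha hn)

end PG

end

end CfH7
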